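import Cfsg.Agent.Lib.Invol.Basic

/-!
# The Baer–Suzuki theorem

The proof of Alperin and Lyons.
-/

namespace Cfsg.Agent.Invol

variable {G : Type*} [Group G] [Finite G] {p : ℕ} [Fact p.Prime]

/-- A normal set of elements, any two of which generate a `p`-group, lies in a single normal
`p`-subgroup. -/
theorem baerSuzuki_normal_set (D : Set G) (hD : ∀ g : G, ∀ x ∈ D, g * x * g⁻¹ ∈ D)
    (h : ∀ a ∈ D, ∀ b ∈ D, IsPGroup p ↥(Subgroup.closure ({a, b} : Set G))) :
    ∃ N : Subgroup G, N.Normal ∧ IsPGroup p N ∧ D ⊆ N := by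
  classical
  haveI := Fintype.ofFinite G
  let DD : Sylow p G → Finset G := fun P => Finset.univ.filter fun x => x ∈ D ∧ x ∈ (P : Subgroup G)
  have hDD : ∀ P x, x ∈ DD P ↔ x ∈ D ∧ x ∈ (P : Subgroup G) := fun P x => by simp [DD]
  suffices hall : ∀ P Q : Sylow p G, DD P = DD Q by
    let P : Sylow p G := default
    have hsub : D ⊆ (P : Subgroup G) := by
      intro x hx
      obtain ⟨R, hR⟩ := (h x hx x hx).exists_le_sylow
      have : x ∈ DD R := (hDD R x).2 ⟨hx, hR (Subgroup.subset_closure (by simp))⟩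
      rw [hall R P] at this
      exact ((hDD P x).1 this).2
    refine ⟨Subgroup.normalClosure D, Subgroup.normalClosure_normal, P.2.to_le ?_,
      Subgroup.subset_normalClosure⟩
    rw [Subgroup.normalClosure, Subgroup.closure_le]
    intro x hx
    obtain ⟨a, ha, hax⟩ := Group.mem_conjugatesOfSet_iff.1 hx
    obtain ⟨c, rfl⟩ := isConj_iff.1 hax
    exact hsub (hD c a ha)
  by_contra hne
  push_neg at hne
  obtain ⟨P₀, Q₀, hne₀⟩ := hne
  let pairs : Finset (Sylow p G × Sylow p G) :=
    haveI := Fintype.ofFinite (Sylow p G)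
    Finset.univ.filter fun v => DD v.1 ≠ DD v.2
  have hpairs : ∀ v, v ∈ pairs ↔ DD v.1 ≠ DD v.2 := fun v => by simp [pairs]
  obtain ⟨⟨P, Q⟩, hPQ, hmax⟩ :=
    pairs.exists_max_image (fun v => (DD v.1 ∩ DD v.2).card) ⟨(P₀, Q₀), (hpairs _).2 hne₀⟩
  rw [hpairs] at hPQ
  set I := DD P ∩ DD Q with hI
  -- all `DD R` have the same cardinality
  have hcard : ∀ R R' : Sylow p G, (DD R).card = (DD R').card := by
    have hle : ∀ R R' : Sylow p G, (DD R).card ≤ (DD R').card := by
      intro R R'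
      obtain ⟨c, hc⟩ := MulAction.exists_smul_eq G R R'
      refine Finset.card_le_card_of_injOn (fun x => c * x * c⁻¹) ?_ ?_
      · intro x hx
        obtain ⟨h1, h2⟩ := (hDD R x).1 hx
        refine (hDD R' _).2 ⟨hD c x h1, ?_⟩
        rw [← hc]; exact ⟨x, h2, rfl⟩
      · intro a _ b _ hab
        exact mul_left_cancel (mul_right_cancel hab)
    exact fun R R' => le_antisymm (hle R R') (hle R' R)
  set W := Subgroup.closure (I : Set G) with hW
  have hWle : ∀ R : Sylow p G, I ⊆ DD R → W ≤ (R : Subgroup G) := fun R hR =>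
    (Subgroup.closure_le _).2 fun x hx => ((hDD R x).1 (hR hx)).2
  -- an element of `DD R` outside `I` normalises `W`
  have hout : ∀ R R' : Sylow p G, DD R ∩ DD R' = I → DD R ≠ DD R' →
      ∃ a ∈ DD R, a ∉ I ∧ a ∈ Subgroup.normalizer (W : Set G) := by
    intro R R' hRR hne
    by_contra hno
    push_neg at hno
    have hIR : I ⊆ DD R := hRR ▸ Finset.inter_subset_left
    have hWR := hWle R hIR
    set M := (R : Subgroup G) ⊓ Subgroup.normalizer (W : Set G) with hM
    have hnil : Group.IsNilpotent (R : Subgroup G) := IsPGroup.isNilpotent R.2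
    -- `M` is its own normaliser in `R`
    have htop : M.subgroupOf (R : Subgroup G) = ⊤ := by
      by_contra htop
      obtain ⟨n, hn, hnM⟩ := SetLike.exists_of_lt
        (Group.normalizerCondition_of_isNilpotent _ (lt_top_iff_ne_top.2 htop))
      refine hnM ⟨n.2, ?_⟩
      show (n : G) ∈ Subgroup.normalizer (W : Set G)
      have himg : ∀ x ∈ I, (n : G) * x * (n : G)⁻¹ ∈ I := by
        intro x hx
        obtain ⟨hxD, hxR⟩ := (hDD R x).1 (hIR hx)
        have hxM : (⟨x, hxR⟩ : (R : Subgroup G)) ∈ M.subgroupOf (R : Subgroup G) :=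
          ⟨hxR, Subgroup.le_normalizer (Subgroup.subset_closure hx)⟩
        have h' := (Subgroup.mem_normalizer_iff.1 hn ⟨x, hxR⟩).1 hxM
        have hmem : (n : G) * x * (n : G)⁻¹ ∈ DD R :=
          (hDD R _).2 ⟨hD _ x hxD, (R : Subgroup G).mul_mem ((R : Subgroup G).mul_mem n.2 hxR)
            ((R : Subgroup G).inv_mem n.2)⟩
        by_contra hxI
        exact hno _ hmem hxI h'.2
      rw [Subgroup.mem_normalizer_iff_map_conj_eq]
      refine Subgroup.eq_of_le_of_card_ge ?_
        (Nat.card_congr (W.equivMapOfInjective _ (MulAut.conj (n : G)).injective).toEquiv).le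
      rw [hW, MonoidHom.map_closure]
      exact Subgroup.closure_mono (by rintro _ ⟨x, hx, rfl⟩; exact himg x hx)
    have hsub : DD R ⊆ I := by
      intro x hx
      by_contra hxI
      have h' : (⟨x, ((hDD R x).1 hx).2⟩ : (R : Subgroup G)) ∈ M.subgroupOf (R : Subgroup G) :=
        htop ▸ Subgroup.mem_top _
      exact hno x hx hxI h'.2
    refine hne (Finset.eq_of_subset_of_card_le ?_ (hcard R' R).le)
    exact fun x hx => (Finset.mem_inter.1 (hRR ▸ hsub hx : x ∈ DD R ∩ DD R')).2
  obtain ⟨a, ha, haI, haN⟩ := hout P Q rfl hPQ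
  obtain ⟨b, hb, hbI, hbN⟩ := hout Q P (Finset.inter_comm _ _) (Ne.symm hPQ)
  have hp1 : IsPGroup p ↥(W ⊔ Subgroup.closure ({a, b} : Set G)) :=
    (P.2.to_le (hWle P Finset.inter_subset_left)).to_sup_of_normal_left'
      (h a ((hDD P a).1 ha).1 b ((hDD Q b).1 hb).1)
      ((Subgroup.closure_le _).2 (by rintro x (rfl | rfl) <;> assumption))
  obtain ⟨U, hU⟩ := hp1.exists_le_sylow
  have hIU : I ⊆ DD U := fun x hx => (hDD U x).2
    ⟨((hDD P x).1 (Finset.inter_subset_left hx)).1,
      hU (Subgroup.mem_sup_left (Subgroup.subset_closure hx))⟩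
  have haU : a ∈ DD U := (hDD U a).2
    ⟨((hDD P a).1 ha).1, hU (Subgroup.mem_sup_right (Subgroup.subset_closure (by simp)))⟩
  have hbU : b ∈ DD U := (hDD U b).2
    ⟨((hDD Q b).1 hb).1, hU (Subgroup.mem_sup_right (Subgroup.subset_closure (by simp)))⟩
  have key : ∀ (R : Sylow p G) (v : G), I ⊆ DD R → v ∈ DD R → v ∈ DD U → v ∉ I → DD R = DD U := by
    intro R v hIR hvR hvU hvI
    by_contra hne
    have hmx : (DD R ∩ DD U).card ≤ I.card := hmax (R, U) ((hpairs _).2 hne)
    have hlt : I.card < (DD R ∩ DD U).card :=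
      Finset.card_lt_card ((Finset.ssubset_iff_of_subset (Finset.subset_inter hIR hIU)).2
        ⟨v, Finset.mem_inter.2 ⟨hvR, hvU⟩, hvI⟩)
    omega
  exact hPQ ((key P a Finset.inter_subset_left ha haU haI).trans
    (key Q b Finset.inter_subset_right hb hbU hbI).symm)

/-- An element whose conjugates generate with it `p`-groups lies in a normal `p`-subgroup. -/
theorem baerSuzuki_element {x : G}
    (h : ∀ g : G, IsPGroup p ↥(Subgroup.closure ({x, g * x * g⁻¹} : Set G))) :
    ∃ N : Subgroup G, N.Normal ∧ IsPGroup p N ∧ x ∈ N := by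
  obtain ⟨N, h1, h2, h3⟩ := baerSuzuki_normal_set (p := p) {y : G | IsConj x y}
    (fun g y hy => (show IsConj x y from hy).trans (isConj_iff.2 ⟨g, rfl⟩)) (by
      intro a ha b hb
      obtain ⟨c, rfl⟩ := isConj_iff.1 (show IsConj x a from ha)
      obtain ⟨d, rfl⟩ := isConj_iff.1 (show IsConj x b from hb)
      have hp := (h (c⁻¹ * d)).map (MulAut.conj c).toMonoidHom
      rw [MonoidHom.map_closure, Set.image_pair] at hp
      convert hp using 6 <;> simp [mul_assoc])
  exact ⟨N, h1, h2, h3 (IsConj.refl x)⟩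

end Cfsg.Agent.Invol
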