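import Cfsg.Agent.Lib.Invol.Basic

/-!
# Dihedral subgroups from an involution inverting an element
-/

namespace Cfsg.Agent.Invol

variable {G : Type*} [Group G]

theorem exists_dihedralHom {t d : G} (ht : t * t = 1) (h : t * d * t⁻¹ = d⁻¹) (n : ℕ)
    (hd : d ^ n = 1) :
    ∃ f : DihedralGroup n →* G, (∀ k : ℤ, f (DihedralGroup.r (k : ZMod n)) = d ^ k) ∧
      ∀ k : ℤ, f (DihedralGroup.sr (k : ZMod n)) = t * d ^ k := by
  let e : ZMod n → G := fun i => d ^ (i.cast : ℤ)
  have he : ∀ k : ℤ, e (k : ZMod n) = d ^ k := by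
    intro k
    rw [← orderOf_dvd_sub_iff_zpow_eq_zpow]
    refine dvd_trans (Int.natCast_dvd_natCast.2 (orderOf_dvd_of_pow_eq_one hd)) ?_
    rw [← ZMod.intCast_eq_intCast_iff_dvd_sub k ((k : ZMod n).cast : ℤ) n]
    simp
  let f : DihedralGroup n → G
    | .r i => e i
    | .sr i => t * e i
  refine ⟨MonoidHom.mk' f ?_, fun k => he k, fun k => congrArg (t * ·) (he k)⟩
  intro a b
  rcases a with i | i <;> rcases b with j | j <;>
    obtain ⟨i, rfl⟩ := ZMod.intCast_surjective i <;> obtain ⟨j, rfl⟩ := ZMod.intCast_surjective j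
  · show e (i + j) = e i * e j
    rw [← Int.cast_add, he, he, he, zpow_add]
  · show t * e (j - i) = e i * (t * e j)
    rw [← Int.cast_sub, he, he, he, ← mul_assoc, zpow_mul_of_inverts h, mul_assoc, ← zpow_add]
    congr 2; ring
  · show t * e (i + j) = (t * e i) * e j
    rw [← Int.cast_add, he, he, he, mul_assoc, zpow_add]
  · show e (j - i) = (t * e i) * (t * e j)
    rw [← Int.cast_sub, he, he, he, mul_assoc, ← mul_assoc (d ^ i), zpow_mul_of_inverts h,
      mul_assoc t, ← mul_assoc t t, ht, one_mul, ← zpow_add]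
    congr 1; ring

/-- An involution `t ∉ ⟨d⟩` inverting `d` generates with it a dihedral group. -/
theorem nonempty_dihedralEquiv {t d : G} (ht : t * t = 1) (h : t * d * t⁻¹ = d⁻¹)
    (hnm : t ∉ Subgroup.zpowers d) :
    Nonempty (DihedralGroup (orderOf d) ≃* ↥(Subgroup.closure ({t, d} : Set G))) := by
  obtain ⟨f, hr, hsr⟩ := exists_dihedralHom ht h (orderOf d) (pow_orderOf_eq_one d)
  have hinj : Function.Injective f := by
    rw [injective_iff_map_eq_one]
    rintro (i | i) hi <;> obtain ⟨i, rfl⟩ := ZMod.intCast_surjective i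
    · rw [hr, ← orderOf_dvd_iff_zpow_eq_one] at hi
      rw [(ZMod.intCast_zmod_eq_zero_iff_dvd i _).2 hi, DihedralGroup.r_zero]
    · rw [hsr] at hi
      refine absurd (Subgroup.mem_zpowers_iff.2 ⟨-i, ?_⟩) hnm
      rw [zpow_neg, ← eq_inv_of_mul_eq_one_left hi]
  have hrange : f.range = Subgroup.closure ({t, d} : Set G) := by
    apply le_antisymm
    · rintro w ⟨(i | i), rfl⟩ <;> obtain ⟨i, rfl⟩ := ZMod.intCast_surjective i
      · rw [hr]; exact Subgroup.zpow_mem _ (Subgroup.subset_closure (by simp)) i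
      · rw [hsr]
        exact mul_mem (Subgroup.subset_closure (by simp))
          (Subgroup.zpow_mem _ (Subgroup.subset_closure (by simp)) i)
    · rw [Subgroup.closure_le]
      rintro w (rfl | rfl)
      · exact ⟨DihedralGroup.sr ((0 : ℤ) : ZMod _), by rw [hsr]; simp⟩
      · exact ⟨DihedralGroup.r ((1 : ℤ) : ZMod _), by rw [hr]; simp⟩
  exact ⟨(MonoidHom.ofInjective hinj).trans (MulEquiv.subgroupCongr hrange)⟩

/-- Two involutions generate a dihedral group. -/
theorem nonempty_dihedralEquiv_pair {x y : G} (hx : orderOf x = 2) (hy : orderOf y = 2) :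
    Nonempty (DihedralGroup (orderOf (x * y)) ≃* ↥(Subgroup.closure ({x, y} : Set G))) := by
  obtain ⟨e⟩ := nonempty_dihedralEquiv (mul_self_of_orderOf_two hx)
    (conj_mul_eq_inv (mul_self_of_orderOf_two hx) (mul_self_of_orderOf_two hy))
    (not_mem_zpowers_mul hx hy)
  have hcl : Subgroup.closure ({x, x * y} : Set G) = Subgroup.closure ({x, y} : Set G) := by
    have hx1 : x ∈ Subgroup.closure ({x, y} : Set G) := Subgroup.subset_closure (by simp)
    have hx2 : x ∈ Subgroup.closure ({x, x * y} : Set G) := Subgroup.subset_closure (by simp)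
    apply le_antisymm <;> refine mem_zpowers_pair_le (by assumption) ?_
    · exact mul_mem hx1 (Subgroup.subset_closure (by simp))
    · have h2 : x * y ∈ Subgroup.closure ({x, x * y} : Set G) := Subgroup.subset_closure (by simp)
      simpa using mul_mem (inv_mem hx2) h2
  exact ⟨e.trans (MulEquiv.subgroupCongr hcl)⟩

end Cfsg.Agent.Invol
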