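import Cfsg.Agent.Lib.Invol.Dihedral

/-!
# Generalised quaternion subgroups
-/

namespace Cfsg.Agent.Invol

variable {G : Type*} [Group G]

theorem exists_quaternionHom {t d : G} (h : t * d * t⁻¹ = d⁻¹) (n : ℕ)
    (ht : t * t = d ^ n) (hd : d ^ (2 * n) = 1) :
    ∃ f : QuaternionGroup n →* G, (∀ k : ℤ, f (QuaternionGroup.a (k : ZMod (2 * n))) = d ^ k) ∧
      ∀ k : ℤ, f (QuaternionGroup.xa (k : ZMod (2 * n))) = t * d ^ k := by
  let e : ZMod (2 * n) → G := fun i => d ^ (i.cast : ℤ)
  have he : ∀ k : ℤ, e (k : ZMod (2 * n)) = d ^ k := by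
    intro k
    rw [← orderOf_dvd_sub_iff_zpow_eq_zpow]
    refine dvd_trans (Int.natCast_dvd_natCast.2 (orderOf_dvd_of_pow_eq_one hd)) ?_
    rw [← ZMod.intCast_eq_intCast_iff_dvd_sub k ((k : ZMod (2 * n)).cast : ℤ) (2 * n)]
    simp
  let f : QuaternionGroup n → G
    | .a i => e i
    | .xa i => t * e i
  refine ⟨MonoidHom.mk' f ?_, fun k => he k, fun k => congrArg (t * ·) (he k)⟩
  intro a b
  rcases a with i | i <;> rcases b with j | j <;>
    obtain ⟨i, rfl⟩ := ZMod.intCast_surjective i <;> obtain ⟨j, rfl⟩ := ZMod.intCast_surjective j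
  · show e (i + j) = e i * e j
    rw [← Int.cast_add, he, he, he, zpow_add]
  · show t * e (j - i) = e i * (t * e j)
    rw [← Int.cast_sub, he, he, he, ← mul_assoc, zpow_mul_of_inverts h, mul_assoc, ← zpow_add]
    congr 2; ring
  · show t * e (i + j) = (t * e i) * e j
    rw [← Int.cast_add, he, he, he, mul_assoc, zpow_add]
  · show e ((n : ZMod (2 * n)) + j - i) = (t * e i) * (t * e j)
    rw [show (n : ZMod (2 * n)) = ((n : ℤ) : ZMod (2 * n)) by simp, ← Int.cast_add, ← Int.cast_sub,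
      he, he, he, mul_assoc, ← mul_assoc (d ^ i), zpow_mul_of_inverts h, mul_assoc t,
      ← mul_assoc t t, ht, ← zpow_natCast, ← zpow_add, ← zpow_add]
    congr 1; ring

/-- An element `t ∉ ⟨d⟩` inverting `d`, with `t ^ 2` the involution of `⟨d⟩`, generates with it a
generalised quaternion group. -/
theorem nonempty_quaternionEquiv {t d : G} (h : t * d * t⁻¹ = d⁻¹) (n : ℕ)
    (hord : orderOf d = 2 * n) (ht : t * t = d ^ n) (hnm : t ∉ Subgroup.zpowers d) :
    Nonempty (QuaternionGroup n ≃* ↥(Subgroup.closure ({t, d} : Set G))) := by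
  obtain ⟨f, ha, hxa⟩ := exists_quaternionHom h n ht (by rw [← hord, pow_orderOf_eq_one])
  have hinj : Function.Injective f := by
    rw [injective_iff_map_eq_one]
    rintro (i | i) hi <;> obtain ⟨i, rfl⟩ := ZMod.intCast_surjective i
    · rw [ha, ← orderOf_dvd_iff_zpow_eq_one, hord] at hi
      rw [(ZMod.intCast_zmod_eq_zero_iff_dvd i _).2 hi, QuaternionGroup.a_zero]
    · rw [hxa] at hi
      refine absurd (Subgroup.mem_zpowers_iff.2 ⟨-i, ?_⟩) hnm
      rw [zpow_neg, ← eq_inv_of_mul_eq_one_left hi]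
  have hrange : f.range = Subgroup.closure ({t, d} : Set G) := by
    apply le_antisymm
    · rintro w ⟨(i | i), rfl⟩ <;> obtain ⟨i, rfl⟩ := ZMod.intCast_surjective i
      · rw [ha]; exact Subgroup.zpow_mem _ (Subgroup.subset_closure (by simp)) i
      · rw [hxa]
        exact mul_mem (Subgroup.subset_closure (by simp))
          (Subgroup.zpow_mem _ (Subgroup.subset_closure (by simp)) i)
    · rw [Subgroup.closure_le]
      rintro w (rfl | rfl)
      · exact ⟨QuaternionGroup.xa ((0 : ℤ) : ZMod _), by rw [hxa]; simp⟩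
      · exact ⟨QuaternionGroup.a ((1 : ℤ) : ZMod _), by rw [ha]; simp⟩
  exact ⟨(MonoidHom.ofInjective hinj).trans (MulEquiv.subgroupCongr hrange)⟩

/-- Facts about the quaternion group of order 8 transported along an isomorphism. -/
theorem q8_facts {Q : Type*} [Group Q] (e : Q ≃* QuaternionGroup 2) :
    Nat.card Q = 8 ∧ (∀ a b : Q, a * a = 1 → b * b = 1 → a ≠ 1 → b ≠ 1 → a = b) ∧
      (∀ a : Q, a ^ 4 = 1) ∧ (∀ a : Q, a * a = 1 → ∀ b : Q, a * b = b * a) ∧
      (∀ a : Q, orderOf a = 4 → ∃ b : Q, a * b ≠ b * a) ∧ ¬ IsCyclic Q := by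
  refine ⟨?_, ?_, ?_, ?_, ?_, ?_⟩
  · rw [Nat.card_congr e.toEquiv, Nat.card_eq_fintype_card, QuaternionGroup.card]
  · have : ∀ a b : QuaternionGroup 2, a * a = 1 → b * b = 1 → a ≠ 1 → b ≠ 1 → a = b := by decide
    intro a b ha hb ha1 hb1
    refine e.injective (this _ _ ?_ ?_ (fun h => ha1 (e.map_eq_one_iff.1 h))
      (fun h => hb1 (e.map_eq_one_iff.1 h))) <;> rw [← map_mul]
    · rw [ha, map_one]
    · rw [hb, map_one]
  · have : ∀ a : QuaternionGroup 2, a ^ 4 = 1 := by decide
    exact fun a => e.injective (by rw [map_pow, this, map_one])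
  · have : ∀ a : QuaternionGroup 2, a * a = 1 → ∀ b : QuaternionGroup 2, a * b = b * a := by decide
    intro a ha b
    refine e.injective ?_
    rw [map_mul, map_mul]
    exact this _ (by rw [← map_mul, ha, map_one]) _
  · have : ∀ a : QuaternionGroup 2, a * a ≠ 1 → ∃ b : QuaternionGroup 2, a * b ≠ b * a := by decide
    intro a ha
    obtain ⟨b, hb⟩ := this (e a) (fun h => by
      rw [← map_mul, e.map_eq_one_iff, ← sq] at h
      have := orderOf_dvd_of_pow_eq_one h
      rw [ha] at this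
      omega)
    exact ⟨e.symm b, fun h => hb (by simpa using congrArg e h)⟩
  · intro hc
    haveI := hc
    letI := IsCyclic.commGroup (α := Q)
    have hne : (QuaternionGroup.a 1 : QuaternionGroup 2) * QuaternionGroup.xa 0 ≠
        QuaternionGroup.xa 0 * QuaternionGroup.a 1 := by decide
    exact hne (e.symm.injective (by rw [map_mul, map_mul]; exact mul_comm _ _))

end Cfsg.Agent.Invol
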