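import Cfsg.Agent.Lib.Invol.Basic
import Cfsg.Prelude.Def_TwoFusion

/-!
# Isolated involutions: elementary consequences
-/

set_option linter.unusedSectionVars false

namespace Cfsg.Agent.Invol

variable {G : Type*} [Group G] [Finite G]

theorem isolated_mul_self {z : G} (hz : IsIsolatedInvolution z) : z * z = 1 :=
  mul_self_of_orderOf_two hz.1

theorem isolated_conj {z : G} (hz : IsIsolatedInvolution z) (g : G) :
    IsIsolatedInvolution (g * z * g⁻¹) := by
  refine ⟨by rw [orderOf_conj, hz.1], fun h hc => ?_⟩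
  have hc' : Commute z ((g⁻¹ * h * g) * z * (g⁻¹ * h * g)⁻¹) := by
    have := hc.map (MulAut.conj g⁻¹).toMonoidHom
    simpa [mul_assoc] using this
  have h2 := hz.2 _ hc'
  calc h * (g * z * g⁻¹) * h⁻¹ = g * ((g⁻¹ * h * g) * z * (g⁻¹ * h * g)⁻¹) * g⁻¹ := by group
    _ = g * z * g⁻¹ := by rw [h2]

theorem isolated_eq_of_commute {z u : G} (hz : IsIsolatedInvolution z) (hu : IsConj z u)
    (hc : Commute z u) : u = z := by
  obtain ⟨g, rfl⟩ := isConj_iff.1 hu
  exact hz.2 g hc

/-- The product of an isolated involution with a conjugate has odd order. -/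
theorem isolated_odd_mul {z u : G} (hz : IsIsolatedInvolution z) (hu : IsConj z u) :
    Odd (orderOf (z * u)) := by
  rw [← Nat.not_even_iff_odd]
  intro heven
  have hz2 := isolated_mul_self hz
  have hu2 := mul_self_of_orderOf_two (orderOf_two_of_isConj hu hz.1)
  have hw := orderOf_pow_half heven (orderOf_pos _).ne'
  have hcw := commute_pow_half (conj_mul_eq_inv hz2 hu2) heven
  have hne : z * (z * u) ^ (orderOf (z * u) / 2) ≠ z :=
    fun h => ne_one_of_orderOf_two hw (mul_eq_left.1 h)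
  apply hne
  refine isolated_eq_of_commute hz ?_ (Commute.mul_right (Commute.refl z) hcw.symm)
  by_cases h4 : 4 ∣ orderOf (z * u)
  · obtain ⟨d, _, hd⟩ := (conj_pair_half_iff hz2 hu2 heven).2 h4
    exact isConj_iff.2 ⟨d, hd⟩
  · obtain ⟨d, _, hd⟩ := isConj_mul_half_of_not_four_dvd hz2 hu2 heven h4
    exact hu.trans (isConj_iff.2 ⟨d, hd⟩).symm

theorem isolated_odd_mul_conj {z u v : G} (hz : IsIsolatedInvolution z) (hu : IsConj z u)
    (hv : IsConj z v) : Odd (orderOf (u * v)) := by
  obtain ⟨g, hg⟩ := isConj_iff.1 hu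
  subst hg
  exact isolated_odd_mul (isolated_conj hz g) (hu.symm.trans hv)

theorem isolated_isConj_in {z u : G} (hz : IsIsolatedInvolution z) {H : Subgroup G} (hzH : z ∈ H)
    (hu : IsConj z u) (huH : u ∈ H) : ∃ h ∈ H, h * z * h⁻¹ = u :=
  isConj_in_of_odd hzH huH (isolated_mul_self hz)
    (mul_self_of_orderOf_two (orderOf_two_of_isConj hu hz.1)) (isolated_odd_mul hz hu)

theorem isolated_eq_of_mem_pGroup {z u : G} (hz : IsIsolatedInvolution z) {P : Subgroup G}
    (hP : IsPGroup 2 P) (hzP : z ∈ P) (hu : IsConj z u) (huP : u ∈ P) : u = z := by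
  obtain ⟨k, hk⟩ := hP ⟨z * u, mul_mem hzP huP⟩
  have hk' : (z * u) ^ (2 ^ k) = 1 := by simpa using congrArg Subtype.val hk
  obtain ⟨i, -, hi⟩ := (Nat.dvd_prime_pow Nat.prime_two).1 (orderOf_dvd_of_pow_eq_one hk')
  have hodd := isolated_odd_mul hz hu
  rw [hi] at hodd
  have hi0 : i = 0 := by
    by_contra h0
    exact absurd hodd (by simp [Nat.even_pow, h0])
  rw [hi0, pow_zero, orderOf_eq_one_iff] at hi
  rw [← inv_eq_of_mul_eq_one_right hi, inv_of_orderOf_two hz.1]

/-- An involution that is its only conjugate inside some Sylow 2-subgroup containing it is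
isolated. -/
theorem isolated_of_sylow (P : Sylow 2 G) {u : G} (hu : orderOf u = 2) (_huP : u ∈ P)
    (hiso : ∀ g : G, g * u * g⁻¹ ∈ P → g * u * g⁻¹ = u) : IsIsolatedInvolution u := by
  have key : ∀ g h : G, g * u * g⁻¹ ∈ P → h * u * h⁻¹ ∈ P → g * u * g⁻¹ = h * u * h⁻¹ :=
    fun g h hg hh => (hiso g hg).trans (hiso h hh).symm
  refine ⟨hu, fun g hc => ?_⟩
  set v := g * u * g⁻¹ with hv
  have hu2 := mul_self_of_orderOf_two hu
  have hv2 : v * v = 1 := mul_self_of_orderOf_two (by rw [hv, orderOf_conj, hu])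
  -- the subgroup generated by two commuting involutions is a 2-group
  let W := Subgroup.closure ({u, v} : Set G)
  have hW : IsPGroup 2 W := by
    rintro ⟨d, hd⟩
    refine ⟨1, Subtype.ext ?_⟩
    obtain ⟨k, hk⟩ := (mem_closure_pair_iff hu2 hv2).1 hd
    have hsq : (u * v) * (u * v) = 1 := by
      rw [mul_assoc, ← mul_assoc v, ← hc.eq, mul_assoc u v v, hv2, mul_one, hu2]
    simp only [pow_one, sq, Subgroup.coe_mul, Subgroup.coe_one]
    rcases hk with rfl | rfl
    · rw [← zpow_add, ← two_mul, zpow_mul, zpow_two, hsq, one_zpow]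
    · exact mul_zpow_self hu2 (conj_mul_eq_inv hu2 hv2) k
  obtain ⟨Q, hQ⟩ := hW.exists_le_sylow
  obtain ⟨c, hc'⟩ := MulAction.exists_smul_eq G Q P
  have hmem : ∀ x ∈ W, c * x * c⁻¹ ∈ P := fun x hx => by
    rw [← hc', ← MulAut.conj_apply, ← MulAut.smul_def]
    exact Subgroup.smul_mem_pointwise_smul x (MulAut.conj c) _ (hQ hx)
  have h1 := hmem u (Subgroup.subset_closure (by simp))
  have h2 := hmem v (Subgroup.subset_closure (by simp))
  have e : c * v * c⁻¹ = (c * g) * u * (c * g)⁻¹ := by rw [hv]; group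
  rw [e] at h2
  have := key _ _ h2 h1
  rw [← e] at this
  exact mul_left_cancel (mul_right_cancel this)

theorem isolated_iff_sylow (P : Sylow 2 G) {u : G} (hu : orderOf u = 2) (huP : u ∈ P) :
    IsIsolatedInvolution u ↔ ∀ g : G, g * u * g⁻¹ ∈ P → g * u * g⁻¹ = u :=
  ⟨fun h g hg => isolated_eq_of_mem_pGroup h P.2 huP (isConj_iff.2 ⟨g, rfl⟩) hg,
    isolated_of_sylow P hu huP⟩

theorem isolated_sylow_le_centralizer {z : G} (hz : IsIsolatedInvolution z) (P : Sylow 2 G)
    (hzP : z ∈ P) : (P : Subgroup G) ≤ Subgroup.centralizer ({z} : Set G) := by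
  intro s hs
  rw [Subgroup.mem_centralizer_singleton_iff]
  have h := isolated_eq_of_mem_pGroup hz P.2 hzP (isConj_iff.2 ⟨s, rfl⟩)
    (mul_mem (mul_mem hs hzP) (inv_mem hs))
  exact mul_inv_eq_iff_eq_mul.1 h

/-- `g` differs from the centralizer of `z` by a unique odd-order element inverted by `z`. -/
theorem isolated_exists_unique_split {z : G} (hz : IsIsolatedInvolution z) (g : G) :
    ∃! k : G, (Odd (orderOf k) ∧ z * k * z⁻¹ = k⁻¹) ∧
      g⁻¹ * k ∈ Subgroup.centralizer ({z} : Set G) := by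
  have hz2 := isolated_mul_self hz
  have hu2 := mul_self_of_orderOf_two (x := g * z * g⁻¹) (by rw [orderOf_conj, hz.1])
  have hodd : Odd (orderOf ((g * z * g⁻¹) * z)) :=
    isolated_odd_mul_conj hz (isConj_iff.2 ⟨g, rfl⟩) (IsConj.refl z)
  obtain ⟨k, hk, hkk, hkodd⟩ := exists_sqrt hodd
  have hinv : z * k * z⁻¹ = k⁻¹ :=
    inverts_of_mem_zpowers (conj_mul_eq_inv' hu2 hz2) hk
  -- conjugating `z` by an inverted element multiplies by its square
  have key : ∀ j : G, z * j * z⁻¹ = j⁻¹ → j * z * j⁻¹ = j * j * z := by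
    intro j hj
    calc j * z * j⁻¹ = j * z * (z * j * z⁻¹) := by rw [hj]
      _ = j * ((z * z) * j) * z⁻¹ := by group
      _ = j * j * z := by rw [hz2, one_mul, inv_eq_self_of_mul_self hz2]
  have mem_iff : ∀ j : G, g⁻¹ * j ∈ Subgroup.centralizer ({z} : Set G) ↔
      j * z * j⁻¹ = g * z * g⁻¹ := by
    intro j
    rw [Subgroup.mem_centralizer_singleton_iff]
    constructor
    · intro h
      calc j * z * j⁻¹ = g * ((g⁻¹ * j) * z) * j⁻¹ := by group
        _ = g * z * g⁻¹ := by rw [h]; group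
    · intro h
      calc g⁻¹ * j * z = g⁻¹ * (j * z * j⁻¹) * j := by group
        _ = z * (g⁻¹ * j) := by rw [h]; group
  refine ⟨k, ⟨⟨hkodd, hinv⟩, (mem_iff k).2 ?_⟩, ?_⟩
  · rw [key k hinv, hkk, mul_assoc, hz2, mul_one]
  · rintro j ⟨⟨hjodd, hjinv⟩, hj⟩
    refine eq_of_mul_self_eq hjodd hkodd ?_
    have h1 := (mem_iff j).1 hj
    rw [key j hjinv] at h1
    rw [hkk, ← h1, mul_assoc (j * j), hz2, mul_one]

theorem isolated_commute_mul_eq_one {z u v : G} (hz : IsIsolatedInvolution z) (hu : IsConj z u)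
    (hv : IsConj z v) (hc : Commute (u * v) z) : u = v := by
  have hu2 := mul_self_of_orderOf_two (orderOf_two_of_isConj hu hz.1)
  have hv2 := mul_self_of_orderOf_two (orderOf_two_of_isConj hv hz.1)
  set d := u * v with hd
  have hdodd := isolated_odd_mul_conj hz hu hv
  rw [← hd] at hdodd
  -- `u` inverts `d`; the centralizer of `d` is normalised by `u`
  obtain ⟨c, hc', hcu⟩ := exists_conj_of_odd (isolated_mul_self hz) hu2 (isolated_odd_mul hz hu)
  have hn : ∀ w ∈ Subgroup.closure ({z, u} : Set G),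
      w * d * w⁻¹ = d ∨ w * d * w⁻¹ = d⁻¹ := by
    intro w hw
    induction hw using Subgroup.closure_induction with
    | mem x hx =>
      rcases hx with rfl | hx
      · exact Or.inl (by rw [← hc.eq, mul_inv_cancel_right])
      · rw [Set.mem_singleton_iff] at hx
        subst hx
        exact Or.inr (conj_mul_eq_inv hu2 hv2)
    | one => exact Or.inl (by simp)
    | mul a b _ _ ha hb =>
      have e : a * b * d * (a * b)⁻¹ = a * (b * d * b⁻¹) * a⁻¹ := by group
      have e' : a * d⁻¹ * a⁻¹ = (a * d * a⁻¹)⁻¹ := by group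
      rw [e]
      rcases hb with h | h <;> rw [h]
      · exact ha
      · rw [e']
        rcases ha with h' | h' <;> rw [h']
        · exact Or.inr rfl
        · exact Or.inl (inv_inv d)
    | inv a _ ha =>
      rw [inv_inv]
      rcases ha with h | h
      · left; conv_lhs => rw [← h]
        group
      · exact Or.inr (inverts_symm h)
  have hud : Commute u d := by
    have hzd : z * d * z⁻¹ = d := by rw [← hc.eq, mul_inv_cancel_right]
    show u * d = d * u
    rw [← hcu]
    rcases hn c hc' with h | h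
    · have h' : c⁻¹ * d * c = d := by conv_lhs => rw [← h]
                                      group
      calc c * z * c⁻¹ * d = c * (z * (c⁻¹ * d * c)) * c⁻¹ := by group
        _ = c * ((z * d * z⁻¹) * z) * c⁻¹ := by rw [h']; group
        _ = (c * d * c⁻¹) * (c * z * c⁻¹) := by rw [hzd]; group
        _ = _ := by rw [h]
    · have h' : c⁻¹ * d * c = d⁻¹ := inverts_symm h
      calc c * z * c⁻¹ * d = c * (z * (c⁻¹ * d * c)) * c⁻¹ := by group
        _ = c * ((z * d * z⁻¹)⁻¹ * z) * c⁻¹ := by rw [h']; group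
        _ = (c * d * c⁻¹)⁻¹ * (c * z * c⁻¹) := by rw [hzd]; group
        _ = _ := by rw [h, inv_inv]
  have hd1 : d = 1 := eq_one_of_commute_of_inverts hdodd hud (conj_mul_eq_inv hu2 hv2)
  rw [hd] at hd1
  rw [← inv_eq_of_mul_eq_one_right hd1, inv_eq_self_of_mul_self hu2]

end Cfsg.Agent.Invol
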