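import Cfsg.Agent.Lib.Invol.Isolated
import Cfsg.Agent.Lib.Basics.Cores
import Cfsg.Prelude.Def_CaseTheorems

/-!
# Consequences of Glauberman's Z* theorem

Every result takes the Z* theorem as an explicit hypothesis `ZStarHyp`.
-/

set_option linter.unusedSectionVars false
set_option linter.style.haveILetI false

namespace Cfsg.Agent.Invol

open Cfsg

universe u

/-- The conclusion of Glauberman's Z* theorem, for all groups of one universe. -/
def ZStarHyp : Prop :=
  ∀ (G : Type u) [Group G] [Finite G] (z : G), IsIsolatedInvolution z →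
    ∀ g : G, z * g * z⁻¹ * g⁻¹ ∈ oddCore G

variable {G : Type u} [Group G] [Finite G]

theorem normal_of_le_center' {H : Type*} [Group H] {K : Subgroup H} (h : K ≤ Subgroup.center H) :
    K.Normal :=
  ⟨fun x hx g => by rwa [Subgroup.mem_center_iff.1 (h hx) g, mul_inv_cancel_right]⟩

theorem odd_card_oddCore : Odd (Nat.card (oddCore G)) :=
  Nat.coprime_two_right.mp (Basics.pPrimeCore_coprime 2)

theorem le_oddCore {N : Subgroup G} (hN : N.Normal) (hodd : Odd (Nat.card N)) : N ≤ oddCore G :=
  haveI := hN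
  Basics.le_pPrimeCore (Nat.coprime_two_right.mpr hodd)

theorem oddCore_eq_bot_of_forall (h : ∀ N : Subgroup G, N.Normal → Odd (Nat.card N) → N = ⊥) :
    oddCore G = ⊥ :=
  h _ inferInstance odd_card_oddCore

theorem isolated_central_of_core_free (hZ : ZStarHyp.{u}) (hO : oddCore G = ⊥) {z : G}
    (hz : IsIsolatedInvolution z) : z ∈ Subgroup.center G := by
  rw [Subgroup.mem_center_iff]
  intro g
  have h := hZ G z hz g
  rw [hO, Subgroup.mem_bot, mul_inv_eq_one] at h
  exact (mul_inv_eq_iff_eq_mul.1 h).symm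

/-- The odd core of the quotient of a core-free group by a central 2-subgroup is trivial. -/
theorem oddCore_quotient_central_eq_bot (hO : oddCore G = ⊥) (C : Subgroup G) [C.Normal]
    (hC : C ≤ Subgroup.center G) (hC2 : IsPGroup 2 C) : oddCore (G ⧸ C) = ⊥ := by
  haveI : Fact (Nat.Prime 2) := ⟨Nat.prime_two⟩
  set M := (oddCore (G ⧸ C)).comap (QuotientGroup.mk' C) with hM
  obtain ⟨k, hk⟩ := hC2.exists_card_eq
  have hodd := odd_card_oddCore (G := G ⧸ C)
  -- the elements of odd order of `M` form a normal subgroup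
  let L : Subgroup G :=
    { carrier := {x | x ∈ M ∧ x ^ Nat.card (oddCore (G ⧸ C)) = 1}
      one_mem' := ⟨M.one_mem, one_pow _⟩
      mul_mem' := by
        rintro a b ⟨ha, ha'⟩ ⟨hb, hb'⟩
        refine ⟨mul_mem ha hb, ?_⟩
        -- the power map to the central 2-group is multiplicative
        set m := Nat.card (oddCore (G ⧸ C))
        have hcop : Nat.Coprime m (2 ^ k) :=
          Nat.Coprime.pow_right _ (Nat.coprime_two_right.mpr hodd)
        have hmem : (a * b) ^ m ∈ C := by
          have h1 : (QuotientGroup.mk' C) ((a * b) ^ m) = 1 := by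
            rw [map_pow]
            have hab : QuotientGroup.mk' C (a * b) ∈ oddCore (G ⧸ C) := mul_mem ha hb
            exact congrArg Subtype.val
              (pow_card_eq_one' (x := (⟨_, hab⟩ : oddCore (G ⧸ C))))
          rwa [QuotientGroup.mk'_apply, QuotientGroup.eq_one_iff] at h1
        -- evaluate the transfer into the centre on the preimage `M`
        have hsub : C.subgroupOf M ≤ Subgroup.center M := fun x hx => by
          rw [Subgroup.mem_center_iff]
          intro y
          exact Subtype.ext (Subgroup.mem_center_iff.1 (hC hx) y)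
        haveI : (C.subgroupOf M).Normal := normal_of_le_center' hsub
        have hCM : C ≤ M := fun x hx => by
          show QuotientGroup.mk' C x ∈ oddCore (G ⧸ C)
          rw [QuotientGroup.mk'_apply, (QuotientGroup.eq_one_iff x).2 hx]
          exact one_mem _
        have hcard : Nat.card (C.subgroupOf M) = 2 ^ k := by
          rw [Nat.card_congr (Subgroup.subgroupOfEquivOfLe hCM).toEquiv, hk]
        have hindex : (C.subgroupOf M).index = m := by
          have h1 : Nat.card M = Nat.card C * m := by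
            rw [hM, Basics.card_comap_mk']
          have h2 := (C.subgroupOf M).card_mul_index
          rw [hcard] at h2
          rw [h1, hk] at h2
          exact Nat.eq_of_mul_eq_mul_left (by positivity) h2
        obtain ⟨K, hK⟩ := Subgroup.exists_right_complement'_of_coprime (N := C.subgroupOf M)
          (by rw [hcard, hindex]; exact hcop.symm)
        have hKcard : Nat.card K = m := by
          rw [← hindex, hK.symm.index_eq_card]
        -- `K` contains every element of order dividing `m`
        have hall : ∀ x : M, x ^ m = 1 → x ∈ K := by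
          intro x hx
          obtain ⟨⟨⟨c, hc⟩, ⟨j, hj⟩⟩, hxj, -⟩ := hK.existsUnique x
          simp only at hxj
          have hcj : Commute c j := (Subgroup.mem_center_iff.1 (hsub hc) j).symm
          rw [← hxj, hcj.mul_pow] at hx
          have hjm : j ^ m = 1 := by
            have h0 := congrArg Subtype.val (pow_card_eq_one' (x := (⟨j, hj⟩ : K)))
            rw [hKcard] at h0
            exact h0
          have hc2 : c ^ (2 ^ k) = 1 := by
            have h0 := congrArg Subtype.val (pow_card_eq_one' (x := (⟨c, hc⟩ : C.subgroupOf M)))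
            rw [hcard] at h0
            exact h0
          rw [hjm, mul_one] at hx
          have hc1 : c = 1 := by
            rw [← orderOf_eq_one_iff]
            exact Nat.eq_one_of_dvd_coprimes hcop (orderOf_dvd_of_pow_eq_one hx)
              (orderOf_dvd_of_pow_eq_one hc2)
          rw [← hxj, hc1, one_mul]
          exact hj
        have hab := congrArg Subtype.val (pow_card_eq_one'
          (x := (⟨(⟨a, ha⟩ : M) * ⟨b, hb⟩, mul_mem (hall ⟨a, ha⟩ (Subtype.ext ha'))
            (hall ⟨b, hb⟩ (Subtype.ext hb'))⟩ : K)))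
        rw [hKcard] at hab
        exact congrArg Subtype.val hab
      inv_mem' := by
        rintro a ⟨ha, ha'⟩
        exact ⟨inv_mem ha, by rw [inv_pow, ha', inv_one]⟩ }
  have hLn : L.Normal := ⟨fun x hx g => by
    haveI : M.Normal := Subgroup.Normal.comap inferInstance _
    exact ⟨Subgroup.Normal.conj_mem inferInstance x hx.1 g, by rw [conj_pow, hx.2]; group⟩⟩
  have hLodd : Odd (Nat.card L) := by
    rw [← Nat.not_even_iff_odd, even_iff_two_dvd]
    intro h2
    obtain ⟨x, hx⟩ := exists_prime_orderOf_dvd_card' (G := L) 2 h2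
    have h3 : orderOf (x : G) ∣ Nat.card (oddCore (G ⧸ C)) := orderOf_dvd_of_pow_eq_one x.2.2
    rw [Subgroup.orderOf_coe, hx] at h3
    exact Nat.not_even_iff_odd.2 hodd (even_iff_two_dvd.2 h3)
  have hL1 : L = ⊥ := le_bot_iff.1 (hO ▸ le_oddCore hLn hLodd)
  rw [eq_bot_iff]
  intro q hq
  obtain ⟨g, rfl⟩ := QuotientGroup.mk'_surjective C q
  rw [Subgroup.mem_bot]
  -- kill the 2-part
  have hm : (g ^ 2 ^ k) ^ Nat.card (oddCore (G ⧸ C)) = 1 := by
    rw [← pow_mul, mul_comm, pow_mul]
    have h1 : g ^ Nat.card (oddCore (G ⧸ C)) ∈ C := by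
      rw [← QuotientGroup.eq_one_iff, ← QuotientGroup.mk'_apply, map_pow]
      exact congrArg Subtype.val (pow_card_eq_one' (x := (⟨_, hq⟩ : oddCore (G ⧸ C))))
    have h2 := congrArg Subtype.val (pow_card_eq_one' (x := (⟨_, h1⟩ : C)))
    rw [hk] at h2
    exact h2
  have hgL : g ^ 2 ^ k ∈ L := ⟨M.pow_mem hq _, hm⟩
  rw [hL1, Subgroup.mem_bot] at hgL
  have d1 : orderOf (QuotientGroup.mk' C g) ∣ 2 ^ k :=
    orderOf_dvd_of_pow_eq_one (by rw [← map_pow, hgL, map_one])
  have d2 : orderOf (QuotientGroup.mk' C g) ∣ Nat.card (oddCore (G ⧸ C)) := by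
    rw [show orderOf (QuotientGroup.mk' C g) = orderOf (⟨_, hq⟩ : oddCore (G ⧸ C)) from
      (Subgroup.orderOf_coe (⟨_, hq⟩ : oddCore (G ⧸ C)))]
    exact orderOf_dvd_natCard _
  exact orderOf_eq_one_iff.1 (Nat.eq_one_of_dvd_coprimes
    (Nat.Coprime.pow_left _ (Nat.coprime_two_left.mpr hodd)) d1 d2)

/-- In a core-free group, a 2-element with central square and no other conjugate in a Sylow
2-subgroup is central. -/
theorem central_of_square_central (hZ : ZStarHyp.{u}) (hO : oddCore G = ⊥) (P : Sylow 2 G)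
    {a : G} (haP : a ∈ P) (ha2 : a * a ∈ Subgroup.center G)
    (hiso : ∀ g : G, g * a * g⁻¹ ∈ P → g * a * g⁻¹ = a) : a ∈ Subgroup.center G := by
  haveI : Fact (Nat.Prime 2) := ⟨Nat.prime_two⟩
  set C := Subgroup.zpowers (a * a) with hC
  have hCc : C ≤ Subgroup.center G := Subgroup.zpowers_le.2 ha2
  haveI : C.Normal := normal_of_le_center' hCc
  have hCP : C ≤ (P : Subgroup G) := Subgroup.zpowers_le.2 (mul_mem haP haP)
  have hC2 : IsPGroup 2 C := P.2.to_le hCP
  by_cases haC : a ∈ C
  · exact hCc haC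
  let π := QuotientGroup.mk' C
  have hπ : Function.Surjective π := QuotientGroup.mk'_surjective C
  have hne : π a ≠ 1 := fun h => haC ((QuotientGroup.eq_one_iff a).1 h)
  have hsq : π a * π a = 1 := by
    rw [← map_mul]; exact (QuotientGroup.eq_one_iff _).2 (Subgroup.mem_zpowers _)
  let P' : Sylow 2 (G ⧸ C) := P.mapSurjective hπ
  have hmem : ∀ y : G, π y ∈ P' → y ∈ P := by
    intro y hy
    obtain ⟨p, hp, hpy⟩ := hy
    have h1 : p⁻¹ * y ∈ C := by rw [← QuotientGroup.eq]; exact hpy
    exact (mul_inv_cancel_left p y) ▸ mul_mem hp (hCP h1)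
  have hisoQ : IsIsolatedInvolution (π a) :=
    isolated_of_sylow P' (orderOf_two_of_mul_self hsq hne) ⟨a, haP, rfl⟩ (fun q hq => by
      obtain ⟨g, rfl⟩ := hπ q
      rw [← map_inv, ← map_mul, ← map_mul] at hq ⊢
      rw [hiso g (hmem _ hq)])
  have hcen := isolated_central_of_core_free hZ (oddCore_quotient_central_eq_bot hO C hCc hC2) hisoQ
  rw [Subgroup.mem_center_iff]
  intro g
  refine (mul_inv_eq_iff_eq_mul.1 (hiso g ?_))
  have h1 : π (g * a * g⁻¹) = π a := by
    rw [map_mul, map_mul, map_inv, Subgroup.mem_center_iff.1 hcen (π g), mul_inv_cancel_right]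
  exact hmem _ ⟨a, haP, h1.symm⟩

theorem central_of_powers_core_free (hZ : ZStarHyp.{u}) (hO : oddCore G = ⊥) (P : Sylow 2 G) :
    ∀ a : G, a ∈ P → (∀ b ∈ Subgroup.zpowers a, ∀ g : G, g * b * g⁻¹ ∈ P → g * b * g⁻¹ = b) →
      a ∈ Subgroup.center G := by
  intro a
  induction h : orderOf a using Nat.strong_induction_on generalizing a with
  | _ n ih =>
    subst h
    intro haP hiso
    by_cases ha1 : a = 1
    · rw [ha1]; exact one_mem _
    refine central_of_square_central hZ hO P haP ?_ (hiso a (Subgroup.mem_zpowers a))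
    obtain ⟨k, hk⟩ := (IsPGroup.iff_orderOf.1 P.2) (⟨a, haP⟩ : (P : Subgroup G))
    rw [Subgroup.orderOf_mk] at hk
    have hsq : a * a ∈ Subgroup.zpowers a := mul_mem (Subgroup.mem_zpowers a) (Subgroup.mem_zpowers a)
    refine ih (orderOf (a * a)) ?_ _ rfl (mul_mem haP haP)
      (fun b hb => hiso b (Subgroup.zpowers_le.2 hsq hb))
    rcases k with _ | k
    · exact absurd (orderOf_eq_one_iff.1 hk) ha1
    rw [hk, ← sq]
    calc orderOf (a ^ 2) ≤ 2 ^ k := Nat.le_of_dvd (by positivity) (orderOf_dvd_of_pow_eq_one (by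
            rw [← pow_mul, ← pow_succ', ← hk, pow_orderOf_eq_one]))
      _ < 2 ^ (k + 1) := Nat.pow_lt_pow_right (by norm_num) (by omega)

/-- A 2-element all of whose powers have no other conjugates in a Sylow 2-subgroup containing it is
central modulo the odd core. -/
theorem central_mod_oddCore (hZ : ZStarHyp.{u}) (P : Sylow 2 G) {a : G} (haP : a ∈ P)
    (hiso : ∀ b ∈ Subgroup.zpowers a, ∀ g : G, g * b * g⁻¹ ∈ P → g * b * g⁻¹ = b) (g : G) :
    a * g * a⁻¹ * g⁻¹ ∈ oddCore G := by
  haveI : Fact (Nat.Prime 2) := ⟨Nat.prime_two⟩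
  let N := oddCore G
  let π := QuotientGroup.mk' N
  have hπ : Function.Surjective π := QuotientGroup.mk'_surjective N
  let P' : Sylow 2 (G ⧸ N) := P.mapSurjective hπ
  have key : ∀ b ∈ Subgroup.zpowers (π a), ∀ q : G ⧸ N, q * b * q⁻¹ ∈ P' → q * b * q⁻¹ = b := by
    intro b hb q hq
    obtain ⟨i, rfl⟩ := Subgroup.mem_zpowers_iff.1 hb
    obtain ⟨g, rfl⟩ := hπ q
    rw [← map_zpow, ← map_inv, ← map_mul, ← map_mul] at hq ⊢
    set c := a ^ i with hc
    have hcP : c ∈ P := Subgroup.zpow_mem _ haP i
    set y := g * c * g⁻¹ with hy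
    -- `y` lies in `P N`, whose Sylow 2-subgroup is `P`
    let H : Subgroup G := ((P : Subgroup G).map π).comap π
    have hyH : y ∈ H := hq
    have hPH : (P : Subgroup G) ≤ H := Subgroup.le_comap_map _ _
    let PH : Sylow 2 H := P.subtype hPH
    have hyp : IsPGroup 2 (Subgroup.zpowers (⟨y, hyH⟩ : H)) := by
      obtain ⟨k, hk⟩ := (IsPGroup.iff_orderOf.1 P.2) (⟨c, hcP⟩ : (P : Subgroup G))
      refine IsPGroup.of_card (n := k) ?_
      rw [Nat.card_zpowers, Subgroup.orderOf_mk, hy, orderOf_conj, ← hk, Subgroup.orderOf_mk]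
    obtain ⟨R, hR⟩ := hyp.exists_le_sylow
    obtain ⟨d, hd⟩ := MulAction.exists_smul_eq H R PH
    have hmem : (d : G) * y * (d : G)⁻¹ ∈ P := by
      have h1 : MulAut.conj d ⟨y, hyH⟩ ∈ (PH : Subgroup H) := by
        rw [← hd]
        exact Subgroup.smul_mem_pointwise_smul _ (MulAut.conj d) _ (hR (Subgroup.mem_zpowers _))
      exact h1
    have e : (d : G) * y * (d : G)⁻¹ = ((d : G) * g) * c * ((d : G) * g)⁻¹ := by rw [hy]; group
    have e2 : (d : G) * y * (d : G)⁻¹ = c := by
      rw [e] at hmem ⊢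
      exact hiso c (Subgroup.mem_zpowers_iff.2 ⟨i, rfl⟩) _ hmem
    obtain ⟨p, hp, hpd⟩ := (show π (d : G) ∈ (P : Subgroup G).map π from d.2)
    have hpc : p * c * p⁻¹ = c :=
      hiso c (Subgroup.mem_zpowers_iff.2 ⟨i, rfl⟩) p (mul_mem (mul_mem hp hcP) (inv_mem hp))
    have h2 := congrArg π e2
    simp only [map_mul, map_inv] at h2
    rw [← hpd] at h2
    have h3 : π p * π c * (π p)⁻¹ = π c := by rw [← map_inv, ← map_mul, ← map_mul, hpc]
    exact mul_left_cancel (mul_right_cancel (h2.trans h3.symm))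
  have hcen := central_of_powers_core_free hZ (Basics.pPrimeCore_quotient_eq_bot 2) P' (π a)
    ⟨a, haP, rfl⟩ key
  rw [← QuotientGroup.eq_one_iff, ← QuotientGroup.mk'_apply]
  simp only [map_mul, map_inv]
  show π a * π g * (π a)⁻¹ * (π g)⁻¹ = 1
  rw [← Subgroup.mem_center_iff.1 hcen (π g)]
  group

/-- Without a Klein four-subgroup, an involution of a Sylow 2-subgroup is the only one there. -/
theorem isolated_of_rank_one (hrank : ∀ E : Subgroup G, ¬ IsKleinFour E) {z : G}
    (hz : orderOf z = 2) : IsIsolatedInvolution z := by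
  refine ⟨hz, fun g hc => ?_⟩
  set v := g * z * g⁻¹ with hv
  have hvo : orderOf v = 2 := by rw [hv, orderOf_conj, hz]
  by_contra hne
  have hz2 := mul_self_of_orderOf_two hz
  have hv2 := mul_self_of_orderOf_two hvo
  let E : Subgroup G :=
    { carrier := {x | x = 1 ∨ x = z ∨ x = v ∨ x = z * v}
      one_mem' := Or.inl rfl
      mul_mem' := by
        have hvz : v * z = z * v := hc.symm.eq
        have e1 : z * (z * v) = v := by rw [← mul_assoc, hz2, one_mul]
        have e2 : v * (z * v) = z := by rw [← mul_assoc, hvz, mul_assoc, hv2, mul_one]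
        have e3 : z * v * z = v := by rw [mul_assoc, hvz, e1]
        have e4 : z * v * v = z := by rw [mul_assoc, hv2, mul_one]
        have e5 : z * v * (z * v) = 1 := by rw [mul_assoc, e2, hz2]
        rintro x y (rfl | rfl | rfl | rfl) (rfl | rfl | rfl | rfl) <;>
          simp [hz2, hv2, hvz, e1, e2, e3, e4, e5]
      inv_mem' := by
        rintro x (rfl | rfl | rfl | rfl)
        · exact Or.inl inv_one
        · exact Or.inr (Or.inl (inv_eq_self_of_mul_self hz2))
        · exact Or.inr (Or.inr (Or.inl (inv_eq_self_of_mul_self hv2)))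
        · exact Or.inr (Or.inr (Or.inr (by
            rw [mul_inv_rev, inv_eq_self_of_mul_self hz2, inv_eq_self_of_mul_self hv2]
            exact hc.symm.eq))) }
  apply hrank E
  have hz1 := ne_one_of_orderOf_two hz
  have hv1 := ne_one_of_orderOf_two hvo
  have hzv : z * v ≠ 1 := fun h => hne (by
    rw [← inv_eq_of_mul_eq_one_right h, inv_eq_self_of_mul_self hz2])
  have hmul : ∀ x : E, x * x = 1 := by
    rintro ⟨x, rfl | rfl | rfl | rfl⟩ <;> apply Subtype.ext <;>
      simp only [Subgroup.coe_mul, Subgroup.coe_one]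
    · exact one_mul 1
    · exact hz2
    · exact hv2
    · rw [hc.symm.mul_mul_mul_comm, hz2, hv2, one_mul]
  have hcard : Nat.card E = 4 := by
    have hset : (E : Set G) = {1, z, v, z * v} := by ext x; simp [E]
    show Nat.card (E : Set G) = 4
    rw [hset, Nat.card_coe_set_eq]
    rw [Set.ncard_insert_of_notMem, Set.ncard_insert_of_notMem, Set.ncard_pair]
    · simpa using hz1
    · simp only [Set.mem_insert_iff, Set.mem_singleton_iff, not_or]
      refine ⟨Ne.symm hne, ?_⟩
      simpa using hv1
    · simp [Ne.symm hz1, Ne.symm hv1, Ne.symm hzv]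
  haveI : Nontrivial E := Finite.one_lt_card_iff_nontrivial.1 (by omega)
  refine ⟨hcard, (Monoid.exponent_eq_prime_iff Nat.prime_two).2 fun x hx => ?_⟩
  exact orderOf_two_of_mul_self (hmul x) hx

end Cfsg.Agent.Invol
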