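import Mathlib

/-!
# Pairs of involutions

`x * x = 1` and `y * y = 1` throughout; `x * y` is inverted by both.
-/

namespace Cfsg.Agent.Invol

variable {G : Type*} [Group G] {x y : G}

theorem mul_self_of_orderOf_two (hx : orderOf x = 2) : x * x = 1 := by
  rw [← sq, ← hx, pow_orderOf_eq_one]

theorem ne_one_of_orderOf_two (hx : orderOf x = 2) : x ≠ 1 := by
  rintro rfl; simp at hx

theorem orderOf_two_of_mul_self (h : x * x = 1) (h1 : x ≠ 1) : orderOf x = 2 :=
  orderOf_eq_prime (by rw [sq]; exact h) h1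

theorem orderOf_conj (g x : G) : orderOf (g * x * g⁻¹) = orderOf x := by
  simpa using (MulAut.conj g).orderOf_eq x

theorem orderOf_two_of_isConj (h : IsConj x y) (hx : orderOf x = 2) : orderOf y = 2 := by
  obtain ⟨c, rfl⟩ := isConj_iff.1 h
  rw [orderOf_conj, hx]

theorem inv_eq_self_of_mul_self (h : x * x = 1) : x⁻¹ = x := inv_eq_of_mul_eq_one_right h

theorem inv_of_orderOf_two (hx : orderOf x = 2) : x⁻¹ = x :=
  inv_eq_self_of_mul_self (mul_self_of_orderOf_two hx)

theorem conj_mul_eq_inv (hx : x * x = 1) (hy : y * y = 1) : x * (x * y) * x⁻¹ = (x * y)⁻¹ := by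
  rw [mul_inv_rev, inv_eq_self_of_mul_self hx, inv_eq_self_of_mul_self hy, ← mul_assoc x x y, hx,
    one_mul]

theorem conj_mul_eq_inv' (hx : x * x = 1) (hy : y * y = 1) : y * (x * y) * y⁻¹ = (x * y)⁻¹ := by
  rw [mul_inv_rev, inv_eq_self_of_mul_self hx, inv_eq_self_of_mul_self hy, mul_assoc, mul_assoc, hy,
    mul_one]

/-- `t d t⁻¹ = d⁻¹` extends to all integer powers. -/
theorem conj_zpow_of_inverts {t d : G} (h : t * d * t⁻¹ = d⁻¹) (k : ℤ) :
    t * d ^ k * t⁻¹ = (d ^ k)⁻¹ := by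
  rw [← conj_zpow, h, inv_zpow]

theorem inverts_symm {t d : G} (h : t * d * t⁻¹ = d⁻¹) : t⁻¹ * d * t = d⁻¹ := by
  have h2 : t⁻¹ * d⁻¹ * t = d := by rw [← h]; group
  conv_rhs => rw [← h2]
  group

theorem mul_zpow_of_inverts {t d : G} (h : t * d * t⁻¹ = d⁻¹) (k : ℤ) :
    t * d ^ k = d ^ (-k) * t := by
  rw [zpow_neg, ← conj_zpow_of_inverts h k]; group

theorem zpow_mul_of_inverts {t d : G} (h : t * d * t⁻¹ = d⁻¹) (k : ℤ) :
    d ^ k * t = t * d ^ (-k) := by
  rw [mul_zpow_of_inverts h, neg_neg]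

/-- If `t` is an involution inverting `d`, the elements `t * d ^ k` square to one. -/
theorem mul_zpow_self {t d : G} (ht : t * t = 1) (h : t * d * t⁻¹ = d⁻¹) (k : ℤ) :
    (t * d ^ k) * (t * d ^ k) = 1 := by
  calc (t * d ^ k) * (t * d ^ k) = t * (d ^ k * t) * d ^ k := by group
    _ = t * (t * d ^ (-k)) * d ^ k := by rw [zpow_mul_of_inverts h]
    _ = (t * t) * (d ^ (-k) * d ^ k) := by group
    _ = 1 := by rw [ht, ← zpow_add, neg_add_cancel, zpow_zero, one_mul]

/-- Normal form in the subgroup generated by two involutions. -/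
theorem mem_closure_pair_iff (hx : x * x = 1) (hy : y * y = 1) {d : G} :
    d ∈ Subgroup.closure ({x, y} : Set G) ↔
      ∃ k : ℤ, d = (x * y) ^ k ∨ d = x * (x * y) ^ k := by
  have hinv := conj_mul_eq_inv hx hy
  constructor
  · intro hd
    induction hd using Subgroup.closure_induction with
    | mem z hz =>
      rcases hz with rfl | hz
      · exact ⟨0, Or.inr (by simp)⟩
      · rw [Set.mem_singleton_iff] at hz
        subst hz
        exact ⟨1, Or.inr (by rw [zpow_one, ← mul_assoc, hx, one_mul])⟩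
    | one => exact ⟨0, Or.inl (by simp)⟩
    | mul a b _ _ ha hb =>
      obtain ⟨i, ha⟩ := ha
      obtain ⟨j, hb⟩ := hb
      rcases ha with rfl | rfl <;> rcases hb with rfl | rfl
      · exact ⟨i + j, Or.inl (zpow_add _ _ _).symm⟩
      · exact ⟨-i + j, Or.inr (by
          rw [← mul_assoc, zpow_mul_of_inverts hinv, mul_assoc, ← zpow_add])⟩
      · exact ⟨i + j, Or.inr (by rw [mul_assoc, ← zpow_add])⟩
      · exact ⟨-i + j, Or.inl (by
          rw [mul_assoc, ← mul_assoc _ x, zpow_mul_of_inverts hinv, mul_assoc x, ← mul_assoc x x,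
            hx, one_mul, ← zpow_add])⟩
    | inv a _ ha =>
      obtain ⟨i, ha⟩ := ha
      rcases ha with rfl | rfl
      · exact ⟨-i, Or.inl (zpow_neg _ _).symm⟩
      · exact ⟨i, Or.inr (inv_eq_self_of_mul_self (mul_zpow_self hx hinv i))⟩
  · have hxm : x ∈ Subgroup.closure ({x, y} : Set G) := Subgroup.subset_closure (by simp)
    have hym : y ∈ Subgroup.closure ({x, y} : Set G) := Subgroup.subset_closure (by simp)
    rintro ⟨k, rfl | rfl⟩
    · exact Subgroup.zpow_mem _ (mul_mem hxm hym) k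
    · exact mul_mem hxm (Subgroup.zpow_mem _ (mul_mem hxm hym) k)

theorem not_mem_zpowers_mul (hx : orderOf x = 2) (hy : orderOf y = 2) :
    x ∉ Subgroup.zpowers (x * y) := by
  intro hmem
  have hx' := mul_self_of_orderOf_two hx
  have hy' := mul_self_of_orderOf_two hy
  obtain ⟨k, hk⟩ := Subgroup.mem_zpowers_iff.1 hmem
  -- `x` commutes with `x * y`, hence with `y`
  have hc : Commute x (x * y) := by
    have := ((Commute.refl (x * y)).zpow_left k).eq
    rw [hk] at this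
    exact this
  have hd2 : (x * y) * (x * y) = 1 := by
    have h1 := conj_mul_eq_inv hx' hy'
    rw [hc.eq, mul_inv_cancel_right] at h1
    exact eq_inv_iff_mul_eq_one.1 h1
  rcases Int.even_or_odd k with ⟨j, rfl⟩ | ⟨j, rfl⟩
  · rw [← two_mul, zpow_mul, zpow_two, hd2, one_zpow] at hk
    exact ne_one_of_orderOf_two hx hk.symm
  · rw [zpow_add, zpow_mul, zpow_two, hd2, one_zpow, one_mul, zpow_one, mul_eq_left] at hk
    exact ne_one_of_orderOf_two hy hk

theorem conj_zpow_eq (hx : x * x = 1) (hy : y * y = 1) (k : ℤ) :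
    (x * y) ^ k * x * ((x * y) ^ k)⁻¹ = x * (x * y) ^ (-(2 * k)) := by
  rw [zpow_mul_of_inverts (conj_mul_eq_inv hx hy), mul_assoc, ← zpow_neg, ← zpow_add]
  congr 2; ring

theorem conj_mul_zpow_eq (hx : x * x = 1) (hy : y * y = 1) (k : ℤ) :
    (x * (x * y) ^ k) * x * (x * (x * y) ^ k)⁻¹ = x * (x * y) ^ (2 * k) := by
  have hinv := conj_mul_eq_inv hx hy
  have h := conj_zpow_eq hx hy k
  calc (x * (x * y) ^ k) * x * (x * (x * y) ^ k)⁻¹
      = x * ((x * y) ^ k * x * ((x * y) ^ k)⁻¹) * x⁻¹ := by group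
    _ = x * (x * (x * y) ^ (-(2 * k))) * x⁻¹ := by rw [h]
    _ = x * (x * (x * y) ^ (-(2 * k)) * x⁻¹) := by group
    _ = x * (x * y) ^ (2 * k) := by rw [conj_zpow_of_inverts hinv, ← zpow_neg, neg_neg]

/-- The conjugates of `x` by elements of `⟨x, y⟩` are exactly the `x * (x * y) ^ (2 k)`. -/
theorem conj_mem_pair_iff (hx : x * x = 1) (hy : y * y = 1) {w : G} :
    (∃ d ∈ Subgroup.closure ({x, y} : Set G), d * x * d⁻¹ = w) ↔
      ∃ k : ℤ, w = x * (x * y) ^ (2 * k) := by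
  constructor
  · rintro ⟨d, hd, rfl⟩
    obtain ⟨k, rfl | rfl⟩ := (mem_closure_pair_iff hx hy).1 hd
    · exact ⟨-k, by rw [conj_zpow_eq hx hy]; congr 2; ring⟩
    · exact ⟨k, conj_mul_zpow_eq hx hy k⟩
  · rintro ⟨k, rfl⟩
    exact ⟨_, (mem_closure_pair_iff hx hy).2 ⟨k, Or.inr rfl⟩, conj_mul_zpow_eq hx hy k⟩

/-- Two involutions with product of odd order are conjugate in the group they generate. -/
theorem exists_conj_of_odd (hx : x * x = 1) (hy : y * y = 1) (hodd : Odd (orderOf (x * y))) :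
    ∃ d ∈ Subgroup.closure ({x, y} : Set G), d * x * d⁻¹ = y := by
  rw [conj_mem_pair_iff hx hy]
  obtain ⟨m, hm⟩ := hodd
  refine ⟨(m : ℤ) + 1, ?_⟩
  have h : (x * y) ^ (2 * ((m : ℤ) + 1)) = x * y := by
    have : (2 * ((m : ℤ) + 1)) = (orderOf (x * y) : ℤ) + 1 := by rw [hm]; push_cast; ring
    rw [this, zpow_add_one, zpow_natCast, pow_orderOf_eq_one, one_mul]
  rw [h, ← mul_assoc, hx, one_mul]

theorem isConj_of_odd (hx : x * x = 1) (hy : y * y = 1) (hodd : Odd (orderOf (x * y))) :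
    IsConj x y := by
  obtain ⟨d, _, h⟩ := exists_conj_of_odd hx hy hodd
  exact isConj_iff.2 ⟨d, h⟩

theorem mem_zpowers_pair_le {H : Subgroup G} (hx : x ∈ H) (hy : y ∈ H) :
    Subgroup.closure ({x, y} : Set G) ≤ H := by
  rw [Subgroup.closure_le]; rintro z (rfl | rfl) <;> assumption

theorem isConj_in_of_odd {H : Subgroup G} (hxH : x ∈ H) (hyH : y ∈ H) (hx : x * x = 1)
    (hy : y * y = 1) (hodd : Odd (orderOf (x * y))) : ∃ d ∈ H, d * x * d⁻¹ = y := by
  obtain ⟨d, hd, h⟩ := exists_conj_of_odd hx hy hodd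
  exact ⟨d, mem_zpowers_pair_le hxH hyH hd, h⟩

/-- An even-order element `d` has `d ^ (n / 2)` as an involution. -/
theorem orderOf_pow_half {d : G} (heven : Even (orderOf d)) (h0 : orderOf d ≠ 0) :
    orderOf (d ^ (orderOf d / 2)) = 2 := by
  obtain ⟨k, hk⟩ := heven
  have hk0 : k ≠ 0 := by rintro rfl; simp at hk; exact h0 (by simp [hk])
  rw [show orderOf d / 2 = k by omega]
  apply orderOf_two_of_mul_self
  · rw [← pow_add, ← hk, pow_orderOf_eq_one]
  · exact pow_ne_one_of_lt_orderOf hk0 (by omega)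

theorem commute_pow_half {t d : G} (h : t * d * t⁻¹ = d⁻¹) (heven : Even (orderOf d)) :
    Commute (d ^ (orderOf d / 2)) t := by
  obtain ⟨k, hk⟩ := heven
  rw [show orderOf d / 2 = k by omega]
  have h1 : t * d ^ (k : ℤ) * t⁻¹ = d ^ (k : ℤ) := by
    rw [conj_zpow_of_inverts h, inv_eq_iff_mul_eq_one, ← zpow_add]
    rw [← Nat.cast_add, ← hk, zpow_natCast, pow_orderOf_eq_one]
  rw [zpow_natCast] at h1
  exact (mul_inv_eq_iff_eq_mul.1 h1).symm

/-- Any two involutions with product of even order commute with the involution of `⟨x y⟩`. -/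
theorem exists_commuting_involution [Finite G] (hx : x * x = 1) (hy : y * y = 1)
    (heven : Even (orderOf (x * y))) :
    ∃ w ∈ Subgroup.zpowers (x * y), orderOf w = 2 ∧ Commute w x ∧ Commute w y :=
  ⟨_, Subgroup.pow_mem _ (Subgroup.mem_zpowers _) _,
    orderOf_pow_half heven (orderOf_pos _).ne',
    commute_pow_half (conj_mul_eq_inv hx hy) heven,
    commute_pow_half (conj_mul_eq_inv' hx hy) heven⟩

theorem even_of_not_isConj (hx : x * x = 1) (hy : y * y = 1) (hnc : ¬ IsConj x y) :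
    Even (orderOf (x * y)) := by
  by_contra h
  exact hnc (isConj_of_odd hx hy (Nat.not_even_iff_odd.1 h))

/-- Non-conjugate involutions commute with a common involution. -/
theorem exists_commuting_involution_of_not_isConj [Finite G] (hx : x * x = 1) (hy : y * y = 1)
    (hnc : ¬ IsConj x y) :
    ∃ w ∈ Subgroup.zpowers (x * y), orderOf w = 2 ∧ Commute w x ∧ Commute w y :=
  exists_commuting_involution hx hy (even_of_not_isConj hx hy hnc)

theorem zpow_eq_half_iff [Finite G] {d : G} (_heven : Even (orderOf d)) (k : ℤ) :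
    d ^ k = d ^ (orderOf d / 2) ↔ (orderOf d : ℤ) ∣ k - (orderOf d / 2 : ℕ) := by
  rw [← zpow_natCast, ← orderOf_dvd_sub_iff_zpow_eq_zpow]

theorem conj_pair_half_iff [Finite G] (hx : x * x = 1) (hy : y * y = 1)
    (heven : Even (orderOf (x * y))) :
    (∃ d ∈ Subgroup.closure ({x, y} : Set G),
      d * x * d⁻¹ = x * (x * y) ^ (orderOf (x * y) / 2)) ↔ 4 ∣ orderOf (x * y) := by
  rw [conj_mem_pair_iff hx hy]
  obtain ⟨k, hk⟩ := heven
  constructor
  · rintro ⟨j, hj⟩
    have hj' := ((zpow_eq_half_iff ⟨k, hk⟩ (2 * j)).1 (mul_left_cancel hj).symm)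
    obtain ⟨c, hc⟩ := hj'
    rw [show orderOf (x * y) / 2 = k by omega, hk] at hc
    push_cast at hc
    have : (2 : ℤ) ∣ (k : ℤ) := ⟨j - k * c, by linarith⟩
    omega
  · intro h4
    obtain ⟨c, hc⟩ := h4
    refine ⟨(c : ℤ), ?_⟩
    rw [show orderOf (x * y) / 2 = 2 * c by omega, ← zpow_natCast]
    push_cast; rfl

/-- If `x y` has order twice an odd number, `y` is conjugate to `x w`, `w` the involution of
`⟨x y⟩`. -/
theorem isConj_mul_half_of_not_four_dvd (hx : x * x = 1) (hy : y * y = 1)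
    (heven : Even (orderOf (x * y))) (h4 : ¬ 4 ∣ orderOf (x * y)) :
    ∃ d ∈ Subgroup.closure ({x, y} : Set G),
      d * (x * (x * y) ^ (orderOf (x * y) / 2)) * d⁻¹ = y := by
  have hinv := conj_mul_eq_inv hx hy
  obtain ⟨k, hk⟩ := heven
  have hkodd : Odd k := by
    rcases Nat.even_or_odd k with ⟨j, hj⟩ | h
    · exact absurd ⟨j, by omega⟩ h4
    · exact h
  obtain ⟨j, hj⟩ := hkodd
  rw [show orderOf (x * y) / 2 = k by omega, ← zpow_natCast]
  refine ⟨(x * y) ^ (j : ℤ), (mem_closure_pair_iff hx hy).2 ⟨j, Or.inl rfl⟩, ?_⟩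
  calc (x * y) ^ (j : ℤ) * (x * (x * y) ^ (k : ℤ)) * ((x * y) ^ (j : ℤ))⁻¹
      = ((x * y) ^ (j : ℤ) * x) * ((x * y) ^ (k : ℤ) * ((x * y) ^ (j : ℤ))⁻¹) := by group
    _ = x * ((x * y) ^ (-(j : ℤ)) * ((x * y) ^ (k : ℤ) * ((x * y) ^ (j : ℤ))⁻¹)) := by
      rw [zpow_mul_of_inverts hinv, mul_assoc]
    _ = x * (x * y) ^ (1 : ℤ) := by
      rw [← zpow_neg, ← zpow_add, ← zpow_add]
      congr 2; rw [hj]; push_cast; ring
    _ = y := by rw [zpow_one, ← mul_assoc, hx, one_mul]

/-- An element of odd order is the square of exactly one element of odd order. -/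
theorem eq_of_mul_self_eq {e f : G} (he : Odd (orderOf e)) (hf : Odd (orderOf f))
    (h : e * e = f * f) : e = f := by
  obtain ⟨m, hm⟩ := he.mul hf
  have key : ∀ g : G, g ^ (orderOf e * orderOf f) = 1 → (g * g) ^ (m + 1) = g := by
    intro g hg
    rw [← sq, ← pow_mul, show 2 * (m + 1) = orderOf e * orderOf f + 1 by omega, pow_succ, hg,
      one_mul]
  have h1 := key e (by rw [pow_mul, pow_orderOf_eq_one, one_pow])
  have h2 := key f (by rw [mul_comm, pow_mul, pow_orderOf_eq_one, one_pow])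
  rw [← h1, ← h2, h]

theorem exists_sqrt {d : G} (hd : Odd (orderOf d)) :
    ∃ e ∈ Subgroup.zpowers d, e * e = d ∧ Odd (orderOf e) := by
  obtain ⟨m, hm⟩ := hd
  refine ⟨d ^ (m + 1), Subgroup.pow_mem _ (Subgroup.mem_zpowers _) _, ?_, ?_⟩
  · rw [← pow_add, show m + 1 + (m + 1) = orderOf d + 1 by omega, pow_succ, pow_orderOf_eq_one,
      one_mul]
  · exact Odd.of_dvd_nat ⟨m, hm⟩ (orderOf_pow_dvd _)

theorem commute_of_mem_zpowers {t d e : G} (h : Commute t d) (he : e ∈ Subgroup.zpowers d) :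
    Commute t e := by
  obtain ⟨k, rfl⟩ := Subgroup.mem_zpowers_iff.1 he
  exact h.zpow_right k

theorem inverts_of_mem_zpowers {t d e : G} (h : t * d * t⁻¹ = d⁻¹)
    (he : e ∈ Subgroup.zpowers d) : t * e * t⁻¹ = e⁻¹ := by
  obtain ⟨k, rfl⟩ := Subgroup.mem_zpowers_iff.1 he
  exact conj_zpow_of_inverts h k

theorem eq_one_of_commute_of_inverts {t d : G} (hd : Odd (orderOf d)) (hc : Commute t d)
    (h : t * d * t⁻¹ = d⁻¹) : d = 1 := by
  rw [hc.eq, mul_inv_cancel_right] at h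
  have h2 : d * d = 1 := eq_inv_iff_mul_eq_one.1 h
  exact eq_of_mul_self_eq hd (by simp) (by rw [h2, one_mul])

end Cfsg.Agent.Invol
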