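import Mathlib
import Cfsg.Prelude.Def_Transfer
import Cfsg.Agent.Lib.Basics.Frattini
import Cfsg.Agent.Lib.LocalEvenA.FrattiniP

/-!
Groups with commutators and `p`-th powers in a centre of order `p`: splitting off a pair `x, y` with
`⁅x, y⁆ = z`, and extending isomorphisms over such a pair.
-/

set_option autoImplicit false
set_option linter.unusedSectionVars false

namespace Cfsg.Agent.Invol.ExtraPairs

open Subgroup
open scoped commutatorElement

/-- The centre is `⟨z⟩` of order `p` and contains all commutators and `p`-th powers. -/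
structure Pre (p : ℕ) (E : Type*) [Group E] (z : E) : Prop where
  ordz : orderOf z = p
  center_eq : center E = zpowers z
  comm_mem : ∀ a b : E, ⁅a, b⁆ ∈ zpowers z
  pow_mem : ∀ a : E, a ^ p ∈ zpowers z

variable {p : ℕ} [hp : Fact p.Prime] {E : Type*} [Group E] [Finite E] {z : E}

theorem pre_of_extraspecial (h : IsExtraspecial p E) : ∃ z : E, Pre p E z := by
  haveI := isCyclic_of_prime_card (p := p) (α := center E) h.2
  obtain ⟨z, hz⟩ := Subgroup.isCyclic_iff_exists_zpowers_eq_top (center E) |>.1 inferInstance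
  refine ⟨z, by rw [← Nat.card_zpowers, hz, h.2], hz.symm, fun a b => ?_, fun a => ?_⟩
  · rw [hz, ← h.1.2.2]
    exact commutator_mem_commutator (mem_top a) (mem_top b)
  · rw [hz, ← h.1.2.1]
    exact Basics.pow_mem_frattini h.1.1 a

namespace Pre

theorem zcomm (h : Pre p E z) (a : E) : Commute a z :=
  mem_center_iff.1 (h.center_eq.symm ▸ mem_zpowers z) a

theorem powz_eq_one (h : Pre p E z) (i : ℕ) : z ^ i = 1 ↔ p ∣ i := by
  rw [← orderOf_dvd_iff_pow_eq_one, h.ordz]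

theorem exists_pow (h : Pre p E z) {w : E} (hw : w ∈ zpowers z) : ∃ i : ℕ, i < p ∧ z ^ i = w := by
  rw [← (isOfFinOrder_of_finite z).mem_powers_iff_mem_zpowers] at hw
  obtain ⟨i, rfl⟩ := hw
  exact ⟨i % p, Nat.mod_lt _ hp.out.pos, h.ordz ▸ (pow_mod_orderOf z i)⟩

theorem central_comm (h : Pre p E z) (a b g : E) : g * ⁅a, b⁆ = ⁅a, b⁆ * g :=
  mem_center_iff.1 (h.center_eq.symm ▸ h.comm_mem a b) g

theorem comm_mul_left (h : Pre p E z) (a b y : E) : ⁅a * b, y⁆ = ⁅a, y⁆ * ⁅b, y⁆ := by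
  calc ⁅a * b, y⁆ = (a * ⁅b, y⁆) * a⁻¹ * ⁅a, y⁆ := by simp only [commutatorElement_def]; group
    _ = ⁅b, y⁆ * ⁅a, y⁆ := by rw [h.central_comm b y a, mul_inv_cancel_right]
    _ = ⁅a, y⁆ * ⁅b, y⁆ := h.central_comm a y _

theorem comm_mul_right (h : Pre p E z) (x a b : E) : ⁅x, a * b⁆ = ⁅x, a⁆ * ⁅x, b⁆ := by
  calc ⁅x, a * b⁆ = ⁅x, a⁆ * (a * ⁅x, b⁆) * a⁻¹ := by simp only [commutatorElement_def]; group
    _ = ⁅x, a⁆ * ⁅x, b⁆ := by rw [h.central_comm x b a]; group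

theorem comm_pow_left (h : Pre p E z) (a y : E) : ∀ n : ℕ, ⁅a ^ n, y⁆ = ⁅a, y⁆ ^ n := by
  intro n
  induction n with
  | zero => simp
  | succ n ih => rw [pow_succ, h.comm_mul_left, ih, pow_succ]

theorem comm_pow_right (h : Pre p E z) (x b : E) : ∀ n : ℕ, ⁅x, b ^ n⁆ = ⁅x, b⁆ ^ n := by
  intro n
  induction n with
  | zero => simp
  | succ n ih => rw [pow_succ, h.comm_mul_right, ih, pow_succ]

theorem exists_pair (h : Pre p E z) {x : E} (hx : x ∉ center E) : ∃ y, ⁅x, y⁆ = z := by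
  rw [mem_center_iff] at hx
  push Not at hx
  obtain ⟨g, hg⟩ := hx
  obtain ⟨k, hk, hk'⟩ := h.exists_pow (h.comm_mem x g)
  have hk0 : k ≠ 0 := fun h0 => hg (by
    rw [h0, pow_zero] at hk'
    exact (commutatorElement_eq_one_iff_mul_comm.1 hk'.symm).symm)
  have hcop : Nat.Coprime k p :=
    (hp.out.coprime_iff_not_dvd.2 (Nat.not_dvd_of_pos_of_lt (Nat.pos_of_ne_zero hk0) hk)).symm
  obtain ⟨γ, hγ⟩ := exists_pow_eq_self_of_coprime (x := z) (h.ordz.symm ▸ hcop)
  exact ⟨g ^ γ, by rw [h.comm_pow_right, ← hk', hγ]⟩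

/-- The centralizer of the pair. -/
def rest (x y : E) : Subgroup E := centralizer ({x, y} : Set E)

theorem mem_rest {x y c : E} : c ∈ rest x y ↔ Commute c x ∧ Commute c y := by
  rw [rest, mem_centralizer_iff]
  constructor
  · intro hc; exact ⟨(hc x (by simp)).symm, (hc y (by simp)).symm⟩
  · rintro ⟨h1, h2⟩ u (rfl | rfl)
    exacts [h1.eq.symm, h2.eq.symm]

theorem z_mem_rest (h : Pre p E z) (x y : E) : z ∈ rest x y :=
  mem_rest.2 ⟨(h.zcomm x).symm, (h.zcomm y).symm⟩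

theorem comm_eval (h : Pre p E z) {x y : E} (hxy : ⁅x, y⁆ = z) (i j : ℕ) {c : E}
    (hc : c ∈ rest x y) : ⁅x ^ i * y ^ j * c, y⁆ = z ^ i ∧ ⁅x, x ^ i * y ^ j * c⁆ = z ^ j := by
  obtain ⟨h1, h2⟩ := mem_rest.1 hc
  constructor
  · rw [h.comm_mul_left, h.comm_mul_left, h.comm_pow_left, h.comm_pow_left, hxy,
      commutatorElement_self, one_pow, mul_one, commutatorElement_eq_one_iff_mul_comm.2 h2.eq, mul_one]
  · rw [h.comm_mul_right, h.comm_mul_right, h.comm_pow_right, h.comm_pow_right, hxy,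
      commutatorElement_self, one_pow, one_mul, commutatorElement_eq_one_iff_mul_comm.2 h1.eq.symm,
      mul_one]

theorem decomp (h : Pre p E z) {x y : E} (hxy : ⁅x, y⁆ = z) (e : E) :
    ∃ i j : Fin p, ∃ c : rest x y, e = x ^ (i : ℕ) * y ^ (j : ℕ) * c := by
  obtain ⟨i, hi, hi'⟩ := h.exists_pow (h.comm_mem e y)
  obtain ⟨j, hj, hj'⟩ := h.exists_pow (h.comm_mem x e)
  have hp1 := h.comm_eval hxy i j (one_mem (rest x y))
  rw [mul_one] at hp1
  set c := (x ^ i * y ^ j)⁻¹ * e with hcdef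
  have he : e = x ^ i * y ^ j * c := by rw [hcdef, mul_inv_cancel_left]
  have hcy : ⁅c, y⁆ = 1 := by
    have := congrArg (fun u => ⁅u, y⁆) he
    rw [h.comm_mul_left, hp1.1, ← hi'] at this
    exact (left_eq_mul.1 this)
  have hcx : ⁅x, c⁆ = 1 := by
    have := congrArg (fun u => ⁅x, u⁆) he
    rw [h.comm_mul_right, hp1.2, ← hj'] at this
    exact (left_eq_mul.1 this)
  exact ⟨⟨i, hi⟩, ⟨j, hj⟩, ⟨c, mem_rest.2 ⟨(commutatorElement_eq_one_iff_mul_comm.1 hcx).symm,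
    commutatorElement_eq_one_iff_mul_comm.1 hcy⟩⟩, he⟩

theorem decomp_unique (h : Pre p E z) {x y : E} (hxy : ⁅x, y⁆ = z) {i j k l : Fin p} {c d : rest x y}
    (he : x ^ (i : ℕ) * y ^ (j : ℕ) * c = x ^ (k : ℕ) * y ^ (l : ℕ) * d) :
    i = k ∧ j = l ∧ c = d := by
  have h1 := h.comm_eval hxy i j c.2
  have h2 := h.comm_eval hxy k l d.2
  rw [he] at h1
  have e1 : (i : ℕ) = k := by
    have := pow_eq_pow_iff_modEq.1 (h1.1.symm.trans h2.1)
    rwa [h.ordz, Nat.ModEq, Nat.mod_eq_of_lt i.2, Nat.mod_eq_of_lt k.2] at this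
  have e2 : (j : ℕ) = l := by
    have := pow_eq_pow_iff_modEq.1 (h1.2.symm.trans h2.2)
    rwa [h.ordz, Nat.ModEq, Nat.mod_eq_of_lt j.2, Nat.mod_eq_of_lt l.2] at this
  rw [e1, e2] at he
  exact ⟨Fin.ext e1, Fin.ext e2, Subtype.ext (mul_left_cancel he)⟩

/-- The coordinate bijection. -/
noncomputable def coord (h : Pre p E z) {x y : E} (hxy : ⁅x, y⁆ = z) :
    Fin p × Fin p × rest x y ≃ E :=
  Equiv.ofBijective (fun t => x ^ (t.1 : ℕ) * y ^ (t.2.1 : ℕ) * t.2.2)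
    ⟨fun t t' ht => by
      obtain ⟨h1, h2, h3⟩ := h.decomp_unique hxy ht
      exact Prod.ext h1 (Prod.ext h2 h3),
    fun e => by
      obtain ⟨i, j, c, hc⟩ := h.decomp hxy e
      exact ⟨(i, j, c), hc.symm⟩⟩

theorem card_eq (h : Pre p E z) {x y : E} (hxy : ⁅x, y⁆ = z) :
    Nat.card E = p ^ 2 * Nat.card (rest x y) := by
  rw [← Nat.card_congr (h.coord hxy), Nat.card_prod, Nat.card_prod, Nat.card_fin, pow_two, mul_assoc]

theorem pre_rest (h : Pre p E z) {x y : E} (hxy : ⁅x, y⁆ = z) :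
    Pre p (rest x y) ⟨z, h.z_mem_rest x y⟩ := by
  have hmem : ∀ w : rest x y, w ∈ zpowers (⟨z, h.z_mem_rest x y⟩ : rest x y) ↔ (w : E) ∈ zpowers z := by
    intro w
    constructor
    · rintro ⟨k, rfl⟩; exact ⟨k, by simp⟩
    · rintro ⟨k, hk⟩; exact ⟨k, Subtype.ext (by simpa using hk)⟩
  refine ⟨by rw [orderOf_mk, h.ordz], ?_, fun a b => (hmem _).2 (by simpa [commutatorElement_def] using h.comm_mem (a : E) b),
    fun a => (hmem _).2 (by simpa using h.pow_mem (a : E))⟩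
  ext c
  rw [hmem, ← h.center_eq, mem_center_iff, mem_center_iff]
  constructor
  · intro hc e
    obtain ⟨i, j, d, rfl⟩ := h.decomp hxy e
    obtain ⟨h1, h2⟩ := mem_rest.1 c.2
    exact ((((h1.symm.pow_left i).mul_left (h2.symm.pow_left j))).mul_left
      (congrArg Subtype.val (hc d))).eq
  · intro hc g
    exact Subtype.ext (hc g)

theorem swap (h : Pre p E z) {x y : E} (hxy : ⁅x, y⁆ = z) (j k : ℕ) :
    y ^ j * x ^ k = x ^ k * y ^ j * z ^ ((p - 1) * (j * k)) := by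
  have h1 : ⁅y ^ j, x ^ k⁆ = z ^ ((p - 1) * (j * k)) := by
    rw [h.comm_pow_left, h.comm_pow_right, ← commutatorElement_inv x y, hxy, ← pow_mul, mul_comm k j]
    rw [pow_mul z (p - 1)]
    congr 1
    rw [inv_eq_iff_mul_eq_one, ← pow_succ', Nat.sub_add_cancel hp.out.one_le, ← h.ordz, pow_orderOf_eq_one]
  calc y ^ j * x ^ k = ⁅y ^ j, x ^ k⁆ * (x ^ k * y ^ j) := by rw [commutatorElement_def]; group
    _ = x ^ k * y ^ j * ⁅y ^ j, x ^ k⁆ := (h.central_comm _ _ _).symm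
    _ = _ := by rw [h1]

theorem prod_formula (h : Pre p E z) {x y : E} (hxy : ⁅x, y⁆ = z) (i j k l : ℕ) {c : E}
    (hc : c ∈ rest x y) (d : E) :
    x ^ i * y ^ j * c * (x ^ k * y ^ l * d) =
      x ^ (i + k) * y ^ (j + l) * (z ^ ((p - 1) * (j * k)) * c * d) := by
  obtain ⟨h1, h2⟩ := mem_rest.1 hc
  set w := z ^ ((p - 1) * (j * k)) with hw
  have hwc : ∀ g, g * w = w * g := fun g => ((h.zcomm g).pow_right _).eq
  calc x ^ i * y ^ j * c * (x ^ k * y ^ l * d)
      = x ^ i * y ^ j * (c * (x ^ k * y ^ l)) * d := by group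
    _ = x ^ i * y ^ j * (x ^ k * y ^ l * c) * d := by rw [((h1.pow_right k).mul_right (h2.pow_right l)).eq]
    _ = x ^ i * (y ^ j * x ^ k) * y ^ l * c * d := by group
    _ = x ^ i * (x ^ k * y ^ j) * (w * y ^ l) * c * d := by rw [h.swap hxy, ← hw]; group
    _ = x ^ i * (x ^ k * y ^ j) * (y ^ l * w) * c * d := by rw [hwc]
    _ = _ := by rw [pow_add, pow_add]; group

theorem reduce (h : Pre p E z) {x y : E} (hxy : ⁅x, y⁆ = z) {a b : ℕ} (hxa : x ^ p = z ^ a)
    (hyb : y ^ p = z ^ b) (i j : ℕ) (c : E) :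
    x ^ i * y ^ j * c = x ^ (i % p) * y ^ (j % p) * (z ^ (a * (i / p) + b * (j / p)) * c) := by
  have ei : x ^ i = x ^ (i % p) * z ^ (a * (i / p)) := by
    conv_lhs => rw [← Nat.mod_add_div i p, pow_add, pow_mul, hxa, ← pow_mul]
  have ej : y ^ j = y ^ (j % p) * z ^ (b * (j / p)) := by
    conv_lhs => rw [← Nat.mod_add_div j p, pow_add, pow_mul, hyb, ← pow_mul]
  calc x ^ i * y ^ j * c = x ^ (i % p) * (z ^ (a * (i / p)) * y ^ (j % p)) * z ^ (b * (j / p)) * c := by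
        rw [ei, ej]; group
    _ = x ^ (i % p) * (y ^ (j % p) * z ^ (a * (i / p))) * z ^ (b * (j / p)) * c := by
        rw [((h.zcomm (y ^ (j % p))).pow_right _).eq]
    _ = _ := by rw [pow_add]; group

end Pre

/-- Extending an isomorphism over a pair. -/
theorem exists_iso {E' : Type*} [Group E'] [Finite E'] {z' : E'} (h : Pre p E z) (h' : Pre p E' z')
    {x y : E} {x' y' : E'} (hxy : ⁅x, y⁆ = z) (hxy' : ⁅x', y'⁆ = z')
    {a b : ℕ} (hxa : x ^ p = z ^ a) (hyb : y ^ p = z ^ b) (hxa' : x' ^ p = z' ^ a) (hyb' : y' ^ p = z' ^ b)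
    (g : Pre.rest x y ≃* Pre.rest x' y')
    (hg : g ⟨z, h.z_mem_rest x y⟩ = ⟨z', h'.z_mem_rest x' y'⟩) :
    ∃ φ : E ≃* E', φ z = z' := by
  let zr : Pre.rest x y := ⟨z, h.z_mem_rest x y⟩
  let F : E ≃ E' := (h.coord hxy).symm.trans
    (((Equiv.refl (Fin p)).prodCongr ((Equiv.refl (Fin p)).prodCongr g.toEquiv)).trans (h'.coord hxy'))
  have hgz : ∀ n : ℕ, (g (zr ^ n) : E') = z' ^ n := by
    intro n
    rw [map_pow, SubgroupClass.coe_pow, show g zr = _ from hg]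
  have hF0 : ∀ (i j : Fin p) (c : Pre.rest x y),
      F (x ^ (i : ℕ) * y ^ (j : ℕ) * c) = x' ^ (i : ℕ) * y' ^ (j : ℕ) * g c := by
    intro i j c
    show F (h.coord hxy (i, j, c)) = h'.coord hxy' (i, j, g c)
    simp only [F, Equiv.trans_apply, Equiv.symm_apply_apply]
    rfl
  have hF : ∀ (i j : ℕ) (c : Pre.rest x y), F (x ^ i * y ^ j * c) = x' ^ i * y' ^ j * g c := by
    intro i j c
    have e : x ^ i * y ^ j * (c : E) = x ^ (i % p) * y ^ (j % p) *
        ((zr ^ (a * (i / p) + b * (j / p)) * c : Pre.rest x y) : E) := by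
      rw [h.reduce hxy hxa hyb i j c]; rfl
    rw [e]
    have h0 := hF0 ⟨i % p, Nat.mod_lt _ hp.out.pos⟩ ⟨j % p, Nat.mod_lt _ hp.out.pos⟩
      (zr ^ (a * (i / p) + b * (j / p)) * c)
    rw [h0, h'.reduce hxy' hxa' hyb' i j, map_mul, Subgroup.coe_mul, hgz]
  have hmul : ∀ e₁ e₂, F (e₁ * e₂) = F e₁ * F e₂ := by
    intro e₁ e₂
    obtain ⟨i, j, c, rfl⟩ := h.decomp hxy e₁
    obtain ⟨k, l, d, rfl⟩ := h.decomp hxy e₂
    rw [h.prod_formula hxy _ _ _ _ c.2]
    have e : z ^ ((p - 1) * ((j : ℕ) * k)) * (c : E) * d =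
        ((zr ^ ((p - 1) * ((j : ℕ) * k)) * c * d : Pre.rest x y) : E) := rfl
    rw [e, hF, hF0, hF0, h'.prod_formula hxy' _ _ _ _ (g c).2, map_mul, map_mul, Subgroup.coe_mul,
      Subgroup.coe_mul, hgz]
  refine ⟨⟨F, hmul⟩, ?_⟩
  show F z = z'
  have := hF 0 0 zr
  simp only [pow_zero, one_mul] at this
  rw [show z = (zr : E) from rfl, this, show g zr = _ from hg]

namespace Pre

theorem center_eq_top_iff (h : Pre p E z) : center E = ⊤ ↔ Nat.card E = p := by
  have hc : Nat.card (center E) = p := by rw [h.center_eq, Nat.card_zpowers, h.ordz]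
  constructor
  · intro ht; rw [← hc, ht, card_top]
  · intro he; exact eq_top_of_card_eq _ (hc.trans he.symm)

theorem exists_noncentral (h : Pre p E z) (hE : Nat.card E ≠ p) : ∃ x, x ∉ center E := by
  by_contra hcon
  push Not at hcon
  exact hE (h.center_eq_top_iff.1 (eq_top_iff.2 fun x _ => hcon x))

theorem extraspecial (h : Pre p E z) (hE : Nat.card E ≠ p) : IsExtraspecial p E := by
  have hzp : z ^ p = 1 := h.ordz ▸ pow_orderOf_eq_one z
  have hP : IsPGroup p E := by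
    intro g
    refine ⟨2, ?_⟩
    obtain ⟨i, -, hi⟩ := h.exists_pow (h.pow_mem g)
    rw [pow_two, pow_mul, ← hi, ← pow_mul, mul_comm, pow_mul, hzp, one_pow]
  haveI := hP.isNilpotent
  have hcomm : commutator E = center E := by
    refine le_antisymm ?_ ?_
    · rw [h.center_eq, _root_.commutator_def, Subgroup.commutator_le]
      exact fun a _ b _ => h.comm_mem a b
    · obtain ⟨x, hx⟩ := h.exists_noncentral hE
      obtain ⟨y, hy⟩ := h.exists_pair hx
      rw [h.center_eq, zpowers_le, ← hy]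
      exact commutator_mem_commutator (mem_top x) (mem_top y)
  refine ⟨⟨hP, le_antisymm ?_ (hcomm ▸ Basics.commutator_le_frattini), hcomm⟩,
    by rw [h.center_eq, Nat.card_zpowers, h.ordz]⟩
  refine (LocalEvenA.frattini_le_commutator_sup_pow (p := p) (Q := E)).trans (sup_le hcomm.le ?_)
  rw [closure_le]
  rintro _ ⟨g, rfl⟩
  rw [h.center_eq]
  exact h.pow_mem g

/-- The order is an odd power of `p`. -/
theorem card_odd_power (h : Pre p E z) : ∃ m : ℕ, Nat.card E = p ^ (2 * m + 1) := by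
  suffices H : ∀ (n : ℕ) (E : Type _) [Group E] [Finite E] (z : E), Pre p E z → Nat.card E ≤ n →
      ∃ m : ℕ, Nat.card E = p ^ (2 * m + 1) from H _ E z h le_rfl
  intro n
  induction n with
  | zero => intro E _ _ z _ hn; have := Nat.card_pos (α := E); omega
  | succ n ih =>
    intro E _ _ z h hn
    by_cases hE : Nat.card E = p
    · exact ⟨0, by simpa using hE⟩
    obtain ⟨x, hx⟩ := h.exists_noncentral hE
    obtain ⟨y, hxy⟩ := h.exists_pair hx
    have hc := h.card_eq hxy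
    have h2 : 2 ≤ p ^ 2 := le_trans hp.out.two_le (Nat.le_self_pow two_ne_zero p)
    have : 0 < Nat.card (rest x y) := Nat.card_pos
    obtain ⟨m, hm⟩ := ih _ _ (h.pre_rest hxy) (by nlinarith)
    exact ⟨m + 1, by rw [hc, hm]; ring⟩

end Pre

end Cfsg.Agent.Invol.ExtraPairs
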