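import Cfsg.Agent.Lib.PGroup23.NormalSq
import Cfsg.Agent.Lib.OddLocal.Rank
import Cfsg.Agent.Lib.Transfer.ClassTwo
import Mathlib

/-! Small facts about `p`-groups: normal subgroups of given order, cyclic subgroups of index `p`. -/

set_option autoImplicit false
set_option linter.all false

namespace Cfsg.Agent.Invol.OddPSmall

open Subgroup
open scoped commutatorElement

universe u
variable {G : Type u} [Group G] [Finite G] {p : ℕ} [hp : Fact p.Prime]

theorem exists_normal_card_pow (hG : IsPGroup p G) : ∀ (n k : ℕ) (N : Subgroup G), N.Normal →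
    Nat.card N = p ^ n → k ≤ n → ∃ M : Subgroup G, M.Normal ∧ M ≤ N ∧ Nat.card M = p ^ k
  | 0, k, N, hN, hc, hk => ⟨N, hN, le_rfl, by rw [hc, Nat.le_zero.1 hk]⟩
  | n + 1, k, N, hN, hc, hk => by
    rcases Nat.lt_or_ge k (n + 1) with hlt | hge
    · have hne : N ≠ ⊥ := fun e => by
        rw [e, Subgroup.card_bot] at hc
        exact absurd hc.symm (Nat.one_lt_pow (by omega) hp.out.one_lt).ne'
      obtain ⟨M, hM, hMN, hMc⟩ := PGroup23.exists_normal_index_prime hG N hne
      obtain ⟨L, hL, hLM, hLc⟩ := exists_normal_card_pow hG n k M hM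
        (Nat.eq_of_mul_eq_mul_left hp.out.pos (by rw [← hMc, hc, pow_succ'])) (by omega)
      exact ⟨L, hL, hLM.trans hMN, hLc⟩
    · exact ⟨N, hN, le_rfl, by rw [hc, le_antisymm hk hge]⟩

/-- The index of the centralizer of a normal subgroup of order `p ^ a`. -/
theorem index_centralizer_le_pow (hG : IsPGroup p G) : ∀ (a : ℕ) (N : Subgroup G), N.Normal →
    Nat.card N = p ^ a → (centralizer (N : Set G)).index ≤ p ^ (a * (a - 1) / 2)
  | 0, N, hN, hc => by
    rw [Subgroup.eq_bot_of_card_eq N (by simpa using hc),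
      show centralizer ((⊥ : Subgroup G) : Set G) = ⊤ from
        centralizer_eq_top_iff_subset.2 (fun x hx => by rw [show x = 1 from hx]; exact one_mem _)]
    simp
  | a + 1, N, hN, hc => by
    have hne : N ≠ ⊥ := fun e => by
      rw [e, Subgroup.card_bot] at hc
      exact absurd hc.symm (Nat.one_lt_pow (by omega) hp.out.one_lt).ne'
    obtain ⟨M, hM, hMN, hMc⟩ := PGroup23.exists_normal_index_prime hG N hne
    have hMa : Nat.card M = p ^ a :=
      Nat.eq_of_mul_eq_mul_left hp.out.pos (by rw [← hMc, hc, pow_succ'])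
    have ih := index_centralizer_le_pow hG a M hM hMa
    haveI := hM
    haveI := hN
    have hlt : M < N := lt_of_le_of_ne hMN fun e => by
      rw [e, hc] at hMa
      have := Nat.pow_right_injective hp.out.two_le hMa
      omega
    obtain ⟨a0, ha0, ha0M⟩ := SetLike.exists_of_lt hlt
    set C := centralizer (N : Set G) with hCdef
    set D := centralizer (M : Set G) with hDdef
    have hCD : C ≤ D := centralizer_le hMN
    -- commutators with `a0` land in `M`
    have hmem : ∀ x : G, ⁅x, a0⁆ ∈ M := by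
      intro x
      have h1 : Nat.card (N.map (QuotientGroup.mk' M)) ≤ p := by
        have e := card_mul_index ((N.map (QuotientGroup.mk' M)))
        have hmap : (N.map (QuotientGroup.mk' M)).index = N.index :=
          index_map_eq _ (QuotientGroup.mk'_surjective M) (by rw [QuotientGroup.ker_mk']; exact hMN)
        rw [hmap] at e
        have e2 := card_mul_index N
        have e3 := M.card_eq_card_quotient_mul_card_subgroup
        have hpos : 0 < N.index * Nat.card M := Nat.mul_pos (Nat.pos_of_ne_zero index_ne_zero_of_finite) Nat.card_pos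
        refine le_of_eq (Nat.eq_of_mul_eq_mul_right hpos ?_)
        calc Nat.card (N.map (QuotientGroup.mk' M)) * (N.index * Nat.card M)
            = Nat.card (G ⧸ M) * Nat.card M := by rw [← e]; ring
          _ = p * (N.index * Nat.card M) := by rw [← e3, ← e2, hMc]; ring
      haveI : (N.map (QuotientGroup.mk' M)).Normal := Normal.map hN _ (QuotientGroup.mk'_surjective M)
      have h2 := OddLocal.le_center_of_card_le (hG.to_quotient M) _ h1 (mem_map_of_mem _ ha0)
      rw [← QuotientGroup.eq_one_iff, ← QuotientGroup.mk'_apply, map_commutatorElement,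
        commutatorElement_eq_one_iff_mul_comm]
      exact mem_center_iff.1 h2 _
    have hrel : C.relIndex D ≤ Nat.card M := by
      rw [relIndex, index_eq_card]
      refine Nat.card_le_card_of_injective
        (fun q => (⟨⁅((Quotient.out q : D) : G), a0⁆, hmem _⟩ : M)) ?_
      intro q q' h
      have h' : ⁅((Quotient.out q : D) : G), a0⁆ = ⁅((Quotient.out q' : D) : G), a0⁆ :=
        congrArg Subtype.val h
      rw [← Quotient.out_eq q, ← Quotient.out_eq q']
      refine Quotient.sound (QuotientGroup.leftRel_apply.2 ?_)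
      rw [mem_subgroupOf]
      simp only [Subgroup.coe_mul, InvMemClass.coe_inv]
      set x := ((Quotient.out q : D) : G)
      set y := ((Quotient.out q' : D) : G)
      have hx : x ∈ D := (Quotient.out q : D).2
      have hy : y ∈ D := (Quotient.out q' : D).2
      have hxa : x * a0 * x⁻¹ = y * a0 * y⁻¹ := by
        have := congrArg (· * a0) h'
        simpa [commutatorElement_def, mul_assoc] using this
      have hcomm : Commute (x⁻¹ * y) a0 := by
        show x⁻¹ * y * a0 = a0 * (x⁻¹ * y)
        calc x⁻¹ * y * a0 = x⁻¹ * (y * a0 * y⁻¹) * y := by group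
          _ = x⁻¹ * (x * a0 * x⁻¹) * y := by rw [hxa]
          _ = a0 * (x⁻¹ * y) := by group
      -- the centralizer of `x⁻¹ y` in `N` contains `M` and `a0`, so is `N`
      set K := centralizer ({x⁻¹ * y} : Set G) ⊓ N with hK
      have hMK : M ≤ K := le_inf (fun m hm => mem_centralizer_singleton_iff.2
        (mem_centralizer_iff.1 (mul_mem (inv_mem hx) hy) m hm)) hMN
      have ha0K : a0 ∈ K := ⟨mem_centralizer_singleton_iff.2 hcomm.eq.symm, ha0⟩
      have hMK' : Nat.card M < Nat.card K := Basics.card_lt_of_lt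
        (lt_of_le_of_ne hMK fun e => ha0M (e ▸ ha0K))
      obtain ⟨i, hi⟩ := IsPGroup.iff_card.1 (hG.to_subgroup K)
      rw [hMa, hi, Nat.pow_lt_pow_iff_right hp.out.one_lt] at hMK'
      have hKN : K = N := eq_of_le_of_card_ge inf_le_right
        (by rw [hc, hi]; exact Nat.pow_le_pow_right hp.out.pos hMK')
      refine mem_centralizer_iff.2 fun n hn => ?_
      have : n ∈ K := hKN.symm ▸ hn
      exact mem_centralizer_singleton_iff.1 this.1
    calc C.index = C.relIndex D * D.index := (relIndex_mul_index hCD).symm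
      _ ≤ p ^ a * p ^ (a * (a - 1) / 2) := Nat.mul_le_mul (hrel.trans hMa.le) ih
      _ = p ^ ((a + 1) * (a + 1 - 1) / 2) := by
        rw [← pow_add]; congr 1
        have : (a + 1) * (a + 1 - 1) = a * (a - 1) + 2 * a := by
          rcases a with _ | a <;> simp <;> ring
        omega

/-- Odd `p`: a non-cyclic group with a cyclic subgroup of index `p`. -/
theorem cyclic_index_prime (hp2 : p ≠ 2) (hG : IsPGroup p G) (hnc : ¬ IsCyclic G)
    (C : Subgroup G) [IsCyclic C] [C.Normal] (hCi : C.index = p) :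
    ∃ E : Subgroup G, IsMulCommutative E ∧ Nat.card E = p ^ 2 ∧ ∀ x, x ^ p = 1 ↔ x ∈ E := by
  obtain ⟨E, hE, hEc, hEab, hEp⟩ := PGroup23.exists_normal_elementary_sq hp2 hG hnc
  haveI := hE
  refine ⟨E, hEab, hEc, fun x => ⟨fun hx => ?_, hEp x⟩⟩
  have hEC : ¬ E ≤ C := fun h => by
    haveI : IsCyclic E := isCyclic_of_injective (inclusion h) (inclusion_injective h)
    obtain ⟨g, hg⟩ := IsCyclic.exists_ofOrder_eq_natCard (α := E)
    have := orderOf_dvd_of_pow_eq_one (show g ^ p = 1 from Subtype.ext (hEp g g.2))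
    rw [hg, hEc] at this
    have := Nat.le_of_dvd hp.out.pos this
    nlinarith [hp.out.two_le]
  have hZ : Nat.card (C ⊓ E : Subgroup G) ≤ p := by
    obtain ⟨i, hi⟩ := IsPGroup.iff_card.1 (hG.to_subgroup (C ⊓ E))
    have h1 : Nat.card (C ⊓ E : Subgroup G) < Nat.card E :=
      Basics.card_lt_of_lt (lt_of_le_of_ne inf_le_right fun e => hEC (e ▸ inf_le_left))
    rw [hi, hEc, Nat.pow_lt_pow_iff_right hp.out.one_lt] at h1
    calc _ = p ^ i := hi
      _ ≤ p ^ 1 := Nat.pow_le_pow_right hp.out.pos (by omega)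
      _ = p := pow_one p
  have hZc := OddLocal.le_center_of_card_le hG (C ⊓ E) hZ
  have htop : x ∈ C ⊔ E := by
    have : C ⊔ E = ⊤ := by
      have h1 := relIndex_mul_index (le_sup_left : C ≤ C ⊔ E)
      rw [hCi] at h1
      rcases (Nat.dvd_prime hp.out).1 ⟨_, h1.symm.trans (mul_comm _ _)⟩ with h | h
      · exact index_eq_one.1 h
      · exfalso
        rw [h] at h1
        have h2 : C.relIndex (C ⊔ E) = 1 := (mul_eq_right₀ hp.out.pos.ne').1 h1
        exact hEC (le_sup_right.trans (relIndex_eq_one.1 h2))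
    rw [this]; exact mem_top x
  rw [mem_sup_of_normal_right] at htop
  obtain ⟨c, hc, e, he, rfl⟩ := htop
  have hw : ⁅e, c⁆ ∈ C ⊓ E := by
    refine mem_inf.2 ⟨?_, ?_⟩
    · rw [commutatorElement_def]; exact mul_mem (‹C.Normal›.conj_mem c hc e) (inv_mem hc)
    · rw [commutatorElement_def, mul_assoc, mul_assoc]
      exact mul_mem he (by rw [← mul_assoc]; exact hE.conj_mem _ (inv_mem he) c)
  have hw' := mem_center_iff.1 (hZc hw)
  have hcp : (c * e) ^ p = c ^ p := by
    rw [Transfer.mul_pow_of_commute (hw' c).symm (hw' e).symm, hEp e he, mul_one]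
    obtain ⟨k, hk⟩ := hp.out.dvd_choose_self two_ne_zero (hp.out.two_le.lt_of_ne' hp2)
    rw [hk, pow_mul, hEp _ hw.2, one_pow, mul_one]
  rw [hcp] at hx
  refine mul_mem ?_ he
  -- in the cyclic group `C` the solutions of `x ^ p = 1` lie in `C ⊓ E`
  obtain ⟨i, hi⟩ := IsPGroup.iff_card.1 (hG.to_subgroup (C ⊓ E))
  have hpz : p ≤ Nat.card (C ⊓ E : Subgroup G) := by
    rcases Nat.eq_zero_or_pos i with rfl | hi0
    · exfalso
      have hbot : C ⊓ E = ⊥ := Subgroup.eq_bot_of_card_eq _ (by simpa using hi)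
      have h1 := card_mul_index C
      have h2 : Nat.card E ≤ C.index := by
        rw [index_eq_card]
        refine Nat.card_le_card_of_injective (fun v : E => (QuotientGroup.mk (v : G) : G ⧸ C)) ?_
        intro u v huv
        have : (u : G)⁻¹ * v ∈ C ⊓ E := mem_inf.2 ⟨QuotientGroup.eq.1 huv, mul_mem (inv_mem u.2) v.2⟩
        rw [hbot, mem_bot, inv_mul_eq_one] at this
        exact Subtype.ext this
      rw [hEc, hCi] at h2
      nlinarith [hp.out.two_le]
    · rw [hi]; exact Nat.le_self_pow hi0.ne' p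
  classical
  haveI : Fintype C := Fintype.ofFinite C
  have hcard : (Finset.univ.filter fun u : C => u ^ p = 1).card ≤ p := IsCyclic.card_pow_eq_one_le hp.out.pos
  by_contra hcE
  have : Nat.card (C ⊓ E : Subgroup G) + 1 ≤ (Finset.univ.filter fun u : C => u ^ p = 1).card := by
    let f : Option (C ⊓ E : Subgroup G) → {u : C // u ^ p = 1} := fun o => match o with
      | none => ⟨⟨c, hc⟩, Subtype.ext hx⟩
      | some v => ⟨⟨v, v.2.1⟩, Subtype.ext (hEp v v.2.2)⟩
    have hf : Function.Injective f := by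
      rintro (_ | u) (_ | v) h
      · rfl
      · have e : c = (v : G) := congrArg (fun z => ((z.1 : C) : G)) h
        exact (hcE (e ▸ v.2.2)).elim
      · have e : (u : G) = c := congrArg (fun z => ((z.1 : C) : G)) h
        exact (hcE (e ▸ u.2.2)).elim
      · exact congrArg some (Subtype.ext (congrArg (fun z => ((z.1 : C) : G)) h))
    have := Nat.card_le_card_of_injective f hf
    rwa [Finite.card_option, Nat.card_eq_fintype_card (α := {u : C // u ^ p = 1}), Fintype.card_subtype] at this
  omega

/-- Odd `p`: a non-cyclic normal subgroup contains a normal elementary abelian subgroup of order `p ^ 2`. -/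
theorem exists_normal_sq_le (hp2 : p ≠ 2) (hG : IsPGroup p G) (S : Subgroup G) [hSn : S.Normal]
    (hS : ¬ IsCyclic S) : ∃ A : Subgroup G, A ≤ S ∧ A.Normal ∧ IsMulCommutative A ∧
      (∀ a ∈ A, a ^ p = 1) ∧ Nat.card A = p ^ 2 := by
  have hSp := hG.to_subgroup S
  obtain ⟨E, hE, hEc, hEab, hEp⟩ := PGroup23.exists_normal_elementary_sq hp2 hSp hS
  haveI := hE
  let T : Subgroup S :=
    { carrier := {x | x ^ p = 1 ∧ ∀ y, ⁅x, y⁆ ∈ center S}
      one_mem' := ⟨one_pow _, fun y => by rw [commutatorElement_one_left]; exact one_mem _⟩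
      mul_mem' := fun {x y} hx hy => by
        refine ⟨?_, fun z => ?_⟩
        · have hw := mem_center_iff.1 (hy.2 x)
          rw [Transfer.mul_pow_of_commute (hw x).symm (hw y).symm, hx.1, hy.1, one_mul, one_mul]
          obtain ⟨k, hk⟩ := hp.out.dvd_choose_self two_ne_zero (hp.out.two_le.lt_of_ne' hp2)
          rw [hk, pow_mul, ← Transfer.commutator_pow_left (show Commute y ⁅y, x⁆ from hw y) p, hy.1,
            commutatorElement_one_left, one_pow]
        · have e : ⁅x * y, z⁆ = x * ⁅y, z⁆ * x⁻¹ * ⁅x, z⁆ := by simp only [commutatorElement_def]; group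
          rw [e, mem_center_iff.1 (hy.2 z) x, mul_inv_cancel_right]
          exact mul_mem (hy.2 z) (hx.2 z)
      inv_mem' := fun {x} hx => by
        refine ⟨by rw [inv_pow, hx.1, inv_one], fun z => ?_⟩
        have e : ⁅x⁻¹, z⁆ = x⁻¹ * ⁅x, z⁆⁻¹ * x := by simp only [commutatorElement_def]; group
        rw [e, mem_center_iff.1 (inv_mem (hx.2 z)) x⁻¹, inv_mul_cancel_right]
        exact inv_mem (hx.2 z) }
  haveI : (T.map S.subtype).Normal := ⟨fun n hn g => by
    obtain ⟨t, ht, rfl⟩ := hn
    let φ : MulAut S := MulAut.conjNormal g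
    refine ⟨φ t, ⟨by rw [← map_pow, ht.1, map_one], fun y => ?_⟩, by simp [φ]⟩
    rw [← φ.apply_symm_apply y, ← map_commutatorElement]
    refine mem_center_iff.2 fun z => ?_
    rw [← φ.apply_symm_apply z, ← map_mul, ← map_mul, mem_center_iff.1 (ht.2 _)]⟩
  have hET : E ≤ T := fun e he =>
    ⟨hEp e he, fun y => (OddLocal.commutator_top_le_center hSp E hEc.le
      (commutator_mem_commutator he (mem_top y))).2⟩
  have hcard : p ^ 2 ≤ Nat.card (T.map S.subtype) := by
    rw [card_map_of_injective (subtype_injective S), ← hEc]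
    exact card_le_of_le hET
  obtain ⟨n, hn⟩ := IsPGroup.iff_card.1 (hG.to_subgroup (T.map S.subtype))
  rw [hn] at hcard
  obtain ⟨A, hA, hAT, hAc⟩ := exists_normal_card_pow hG n 2 _ inferInstance hn
    ((Nat.pow_le_pow_iff_right hp.out.one_lt).1 hcard)
  refine ⟨A, hAT.trans (map_subtype_le T), hA,
    IsPGroup.isMulCommutative_of_card_eq_prime_sq hAc, fun a ha => ?_, hAc⟩
  obtain ⟨t, ht, rfl⟩ := hAT ha
  rw [← map_pow, ht.1, map_one]

end Cfsg.Agent.Invol.OddPSmall
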