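import Cfsg.Agent.Lib.Invol.ElemCentralizer

/-!
# Groups with elementary abelian involution centralizers: sharp triple transitivity
-/

set_option linter.unusedSectionVars false

namespace Cfsg.Agent.Invol.ElemCent

variable {G : Type*} [Group G] [Finite G] {T : Sylow 2 G}
variable (h : Hyp T)
include h
variable {u : G} (hu : orderOf u = 2) (huH : u ∉ NT T)
include hu huH

theorem Hyp.mk_u_ne : (QuotientGroup.mk u : G ⧸ NT T) ≠ QuotientGroup.mk 1 := by
  rw [Ne, QuotientGroup.eq, mul_one, inv_mem_iff]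
  exact huH

/-- `T` acts semiregularly off the base point. -/
theorem Hyp.translate_free {s : G} (hs : s ∈ (T : Subgroup G)) {y : G ⧸ NT T}
    (hy : y ≠ QuotientGroup.mk 1) (hfix : s • y = y) : s = 1 := by
  by_contra h1
  exact hy ((SE_existsUnique_fixed h.se (orderOf_two_of_mul_self (h.mul_self hs) h1)).unique hfix
    ((smul_mk_one h).2 (Subgroup.le_normalizer hs)))

/-- Only the identity fixes the two base points and a third one. -/
theorem Hyp.fix_three {x : G} (hx : x ∈ D T u) {y : G ⧸ NT T} (hy1 : y ≠ QuotientGroup.mk 1)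
    (hy2 : y ≠ QuotientGroup.mk u) (hfix : x • y = y) : x = 1 := by
  by_contra hx1
  obtain ⟨s, hs, rfl⟩ := h.exists_translate hu huH hy1
  rw [MulAction.Quotient.smul_mk, smul_eq_mul] at hy2 hfix
  exact hy2 (by rw [h.fix_translate hu huH hx hx1 hs hfix, one_mul])

theorem Hyp.existsUnique_translate {x y : G ⧸ NT T} (hx : x ≠ QuotientGroup.mk 1)
    (hy : y ≠ QuotientGroup.mk 1) : ∃! t : G, t ∈ (T : Subgroup G) ∧ t • x = y := by
  obtain ⟨a, ha, hax⟩ := h.exists_translate hu huH hx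
  obtain ⟨b, hb, hby⟩ := h.exists_translate hu huH hy
  refine ⟨b * a⁻¹, ⟨mul_mem hb (inv_mem ha), by rw [mul_smul, ← hax, inv_smul_smul, hby]⟩, ?_⟩
  rintro t ⟨ht, htx⟩
  refine (inv_mul_eq_one.1 (h.translate_free hu huH
    (mul_mem (inv_mem (mul_mem hb (inv_mem ha))) ht) hx ?_)).symm
  rw [mul_smul, htx, inv_smul_eq_iff, mul_smul, ← hax, inv_smul_smul, hby]

theorem Hyp.card_quotient : Nat.card {y : G ⧸ NT T // y ≠ QuotientGroup.mk 1} = Nat.card T := by
  refine (Nat.card_eq_of_bijective (fun t : T => (⟨(t : G) • (QuotientGroup.mk u : G ⧸ NT T),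
    fun e => h.mk_u_ne hu huH (by
      have := (smul_eq_iff_eq_inv_smul _).1 e
      rwa [(smul_mk_one h).2 (inv_mem (Subgroup.le_normalizer t.2))] at this)⟩ :
      {y : G ⧸ NT T // y ≠ QuotientGroup.mk 1})) ⟨fun a b hab => ?_, fun y => ?_⟩).symm
  · have e : (a : G) • (QuotientGroup.mk u : G ⧸ NT T) = (b : G) • QuotientGroup.mk u :=
      congrArg Subtype.val hab
    refine Subtype.ext (inv_mul_eq_one.1 (h.translate_free hu huH (mul_mem (inv_mem b.2) a.2)
      (h.mk_u_ne hu huH) ?_)).symm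
    rw [mul_smul, e, inv_smul_smul]
  · obtain ⟨t, ht, hty⟩ := h.exists_translate hu huH y.2
    exact ⟨⟨t, ht⟩, Subtype.ext hty⟩

/-- The two-point stabilizer is transitive on the remaining points. -/
theorem Hyp.exists_dilate {x y : G ⧸ NT T} (hx1 : x ≠ QuotientGroup.mk 1)
    (hx2 : x ≠ QuotientGroup.mk u) (hy1 : y ≠ QuotientGroup.mk 1)
    (hy2 : y ≠ QuotientGroup.mk u) : ∃ d ∈ D T u, d • x = y := by
  classical
  haveI := Fintype.ofFinite (G ⧸ NT T)
  let Y := {y : G ⧸ NT T // y ≠ QuotientGroup.mk 1 ∧ y ≠ QuotientGroup.mk u}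
  have hmem : ∀ d : D T u, (d : G) • x ≠ QuotientGroup.mk 1 ∧ (d : G) • x ≠ QuotientGroup.mk u :=
    fun d => ⟨fun e => hx1 (MulAction.injective (d : G) (e.trans ((mem_D_iff h).1 d.2).1.symm)),
      fun e => hx2 (MulAction.injective (d : G) (e.trans ((mem_D_iff h).1 d.2).2.symm))⟩
  let f : D T u → Y := fun d => ⟨(d : G) • x, hmem d⟩
  have hf : Function.Injective f := fun a b hab => by
    have e : (a : G) • x = (b : G) • x := congrArg Subtype.val hab
    refine Subtype.ext (inv_mul_eq_one.1 (h.fix_three hu huH (mul_mem (inv_mem b.2) a.2) hx1 hx2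
      ?_)).symm
    rw [mul_smul, e, inv_smul_smul]
  have hcard : Nat.card Y + 1 = Nat.card T := by
    rw [← h.card_quotient hu huH, ← Finite.card_option]
    exact Nat.card_congr
      { toFun := fun o => o.elim ⟨QuotientGroup.mk u, h.mk_u_ne hu huH⟩ fun y => ⟨y.1, y.2.1⟩
        invFun := fun y => if hy : (y : G ⧸ NT T) = QuotientGroup.mk u then none else
          some ⟨y.1, y.2, hy⟩
        left_inv := fun o => by
          rcases o with _ | y
          · simp
          · simp [y.2.2]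
        right_inv := fun y => by
          by_cases hy : (y : G ⧸ NT T) = QuotientGroup.mk u
          · simp only [dif_pos hy, Option.elim_none]
            exact Subtype.ext hy.symm
          · simp only [dif_neg hy, Option.elim_some] }
  have hb := (Nat.bijective_iff_injective_and_card f).2
    ⟨hf, by have := h.card_D hu huH; omega⟩
  obtain ⟨d, hd⟩ := hb.2 ⟨y, hy1, hy2⟩
  exact ⟨d, d.2, congrArg Subtype.val hd⟩

/-- Standard position for any triple of points. -/
theorem Hyp.exists_std {x₁ x₂ x₃ : G ⧸ NT T} (h12 : x₁ ≠ x₂) (h13 : x₁ ≠ x₃) (h23 : x₂ ≠ x₃) :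
    ∀ e : G ⧸ NT T, e ≠ QuotientGroup.mk 1 → e ≠ QuotientGroup.mk u → ∃ g : G,
      g • x₁ = QuotientGroup.mk 1 ∧ g • x₂ = QuotientGroup.mk u ∧ g • x₃ = e := by
  intro e he1 he2
  obtain ⟨a, ha⟩ := MulAction.exists_smul_eq G x₁ (QuotientGroup.mk 1 : G ⧸ NT T)
  have hx2 : a • x₂ ≠ QuotientGroup.mk 1 := fun e => h12 (MulAction.injective a (ha.trans e.symm))
  obtain ⟨t, ⟨ht, htx⟩, -⟩ := h.existsUnique_translate hu huH hx2 (h.mk_u_ne hu huH)
  have ht1 : t • (QuotientGroup.mk 1 : G ⧸ NT T) = QuotientGroup.mk 1 :=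
    (smul_mk_one h).2 (Subgroup.le_normalizer ht)
  have hy1 : t • a • x₃ ≠ QuotientGroup.mk 1 := fun e => h13
    (MulAction.injective a (MulAction.injective t (show t • a • x₁ = t • a • x₃ by rw [ha, ht1, e])))
  have hy2 : t • a • x₃ ≠ QuotientGroup.mk u := fun e => h23
    (MulAction.injective a (MulAction.injective t (htx.trans e.symm)))
  obtain ⟨d, hd, hdy⟩ := h.exists_dilate hu huH hy1 hy2 he1 he2
  exact ⟨d * t * a, by rw [mul_smul, mul_smul, ha, ht1, ((mem_D_iff h).1 hd).1],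
    by rw [mul_smul, mul_smul, htx, ((mem_D_iff h).1 hd).2], by rw [mul_smul, mul_smul, hdy]⟩

omit hu huH in
theorem Hyp.exists_outside : ∃ u : G, orderOf u = 2 ∧ u ∉ NT T := by
  obtain ⟨z, hz, hz2⟩ := SE_exists_involution h.se
  obtain ⟨g, hg⟩ := SE_exists_not_mem h.se
  refine ⟨g * z * g⁻¹, by rw [orderOf_conj, hz2], fun hh => hg ?_⟩
  have := SE_mem_of_conj h.se (t := z) (g := g⁻¹) hz2 hz (by simpa using hh)
  simpa using inv_mem this

theorem Hyp.exists_third : ∃ e : G ⧸ NT T,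
    e ≠ QuotientGroup.mk 1 ∧ e ≠ QuotientGroup.mk u := by
  obtain ⟨z, hz, hz2, -⟩ := h.exists_central
  refine ⟨z • QuotientGroup.mk u, fun e => h.mk_u_ne hu huH (MulAction.injective z
    (e.trans ((smul_mk_one h).2 (Subgroup.le_normalizer hz)).symm)), fun e => ?_⟩
  exact ne_one_of_orderOf_two hz2 (h.translate_free hu huH hz (h.mk_u_ne hu huH) e)

omit hu huH in
theorem Hyp.triply_transitive (x₁ x₂ x₃ y₁ y₂ y₃ : G ⧸ NT T) (a : x₁ ≠ x₂) (b : x₁ ≠ x₃)
    (c : x₂ ≠ x₃) (a' : y₁ ≠ y₂) (b' : y₁ ≠ y₃) (c' : y₂ ≠ y₃) :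
    ∃ g : G, g • x₁ = y₁ ∧ g • x₂ = y₂ ∧ g • x₃ = y₃ := by
  obtain ⟨u, hu, huH⟩ := h.exists_outside
  obtain ⟨e, he1, he2⟩ := h.exists_third hu huH
  obtain ⟨g, g1, g2, g3⟩ := h.exists_std hu huH a b c e he1 he2
  obtain ⟨k, k1, k2, k3⟩ := h.exists_std hu huH a' b' c' e he1 he2
  exact ⟨k⁻¹ * g, by rw [mul_smul, g1, ← k1, inv_smul_smul],
    by rw [mul_smul, g2, ← k2, inv_smul_smul], by rw [mul_smul, g3, ← k3, inv_smul_smul]⟩

omit hu huH in
theorem Hyp.eq_one_of_fix_three (g : G) (x₁ x₂ x₃ : G ⧸ NT T) (a : x₁ ≠ x₂) (b : x₁ ≠ x₃)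
    (c : x₂ ≠ x₃) (f₁ : g • x₁ = x₁) (f₂ : g • x₂ = x₂) (f₃ : g • x₃ = x₃) : g = 1 := by
  obtain ⟨u, hu, huH⟩ := h.exists_outside
  obtain ⟨e, he1, he2⟩ := h.exists_third hu huH
  obtain ⟨k, k1, k2, k3⟩ := h.exists_std hu huH a b c e he1 he2
  have key : ∀ (z w : G ⧸ NT T), g • z = z → k • z = w → (k * g * k⁻¹) • w = w := by
    intro z w hz hw
    rw [← hw, mul_smul, mul_smul, inv_smul_smul, hz]
  have := h.fix_three hu huH ((mem_D_iff h).2 ⟨key _ _ f₁ k1, key _ _ f₂ k2⟩) he1 he2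
    (key _ _ f₃ k3)
  calc g = k⁻¹ * (k * g * k⁻¹) * k := by group
    _ = 1 := by rw [this, mul_one, inv_mul_cancel]

theorem Hyp.fixed_iff (g : G) :
    (∀ d ∈ D T u, d • (QuotientGroup.mk g : G ⧸ NT T) = QuotientGroup.mk g) ↔
      (QuotientGroup.mk g : G ⧸ NT T) = QuotientGroup.mk 1 ∨
        (QuotientGroup.mk g : G ⧸ NT T) = QuotientGroup.mk u := by
  refine ⟨fun hfix => ?_, fun hg d hd => ?_⟩
  · by_contra hne
    push Not at hne
    have h4 := h.four_le
    have hc := h.card_D hu huH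
    obtain ⟨d, hd1⟩ := (Subgroup.ne_bot_iff_exists_ne_one (H := D T u)).1
      (fun e => by rw [e, Subgroup.card_bot] at hc; omega)
    exact hd1 (Subtype.ext (h.fix_three hu huH d.2 hne.1 hne.2 (hfix d d.2)))
  · rcases hg with e | e <;> rw [e]
    · exact ((mem_D_iff h).1 hd).1
    · exact ((mem_D_iff h).1 hd).2

theorem Hyp.normalizer_D :
    Subgroup.normalizer ((D T u : Subgroup G) : Set G) = D T u ⊔ Subgroup.zpowers u := by
  refine le_antisymm (fun n hn => ?_) (sup_le Subgroup.le_normalizer ?_)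
  · have hmv : ∀ g : G, (∀ d ∈ D T u, d • (QuotientGroup.mk g : G ⧸ NT T) = QuotientGroup.mk g) →
        (QuotientGroup.mk (n * g) : G ⧸ NT T) = QuotientGroup.mk 1 ∨
          (QuotientGroup.mk (n * g) : G ⧸ NT T) = QuotientGroup.mk u := by
      intro g hg
      refine (h.fixed_iff hu huH _).1 fun d hd => ?_
      have h1 := hg (n⁻¹ * d * n) (by
        have := (Subgroup.mem_normalizer_iff.1 (inv_mem hn) d).1 hd
        simpa using this)
      rw [← smul_eq_mul n g, ← MulAction.Quotient.smul_mk, smul_smul]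
      conv_rhs => rw [← h1, smul_smul]
      congr 1
      group
    have h1 := hmv 1 fun d hd => ((mem_D_iff h).1 hd).1
    have h2 := hmv u fun d hd => ((mem_D_iff h).1 hd).2
    have hni : n • (QuotientGroup.mk 1 : G ⧸ NT T) = QuotientGroup.mk (n * 1) := rfl
    have hno : n • (QuotientGroup.mk u : G ⧸ NT T) = QuotientGroup.mk (n * u) := rfl
    have hne := fun e => h.mk_u_ne hu huH (MulAction.injective n
      (show n • (QuotientGroup.mk u : G ⧸ NT T) = n • QuotientGroup.mk 1 from e))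
    rcases h1 with e1 | e1 <;> rcases h2 with e2 | e2
    · exact absurd (hno.trans (e2.trans (e1.symm.trans hni.symm))) hne
    · exact le_sup_left (a := D T u) ((mem_D_iff h).2 ⟨hni.trans e1, hno.trans e2⟩)
    · have hmem : u * n ∈ D T u := (mem_D_iff h).2
        ⟨by rw [mul_smul, hni, e1, MulAction.Quotient.smul_mk, smul_eq_mul,
              mul_self_of_orderOf_two hu],
          by rw [mul_smul, hno, e2, smul_mk_one' h]⟩
      have := Subgroup.mul_mem_sup hmem (Subgroup.mem_zpowers u)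
      have e : n = u⁻¹ * (u * n) := by group
      rw [e]
      exact mul_mem (inv_mem (le_sup_right (a := D T u) (Subgroup.mem_zpowers u)))
        (le_sup_left (b := Subgroup.zpowers u) hmem)
    · exact absurd (hno.trans (e2.trans (e1.symm.trans hni.symm))) hne
  · rw [Subgroup.zpowers_le, Subgroup.mem_normalizer_iff]
    intro x
    refine ⟨fun hx => ?_, fun hx => ?_⟩
    · rw [h.inverts hu huH hx]
      exact inv_mem hx
    · have h1 := h.inverts hu huH hx
      have e : x = (u * x * u⁻¹)⁻¹ := by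
        rw [← h1]
        simp [mul_assoc, mul_self_of_orderOf_two hu, inv_of_orderOf_two hu,
          ← mul_assoc u u]
      rw [e]
      exact inv_mem hx

end Cfsg.Agent.Invol.ElemCent
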