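import Cfsg.Agent.Lib.Invol.Basic

/-!
# Groups permuting three points, class counting, conjugation into a Sylow subgroup
-/

set_option linter.unusedSectionVars false
set_option linter.style.haveILetI false

namespace Cfsg.Agent.Invol

open scoped Pointwise

/-- The possibilities for the action of `N` on three invariant points, given an element fixing the
first and moving the second to the third. -/
theorem three_point_action {N β : Type*} [Group N] [Finite N] [MulAction N β] (a b c : β)
    (hab : a ≠ b) (hac : a ≠ c) (hbc : b ≠ c)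
    (hinv : ∀ n : N, ∀ p, (p = a ∨ p = b ∨ p = c) → (n • p = a ∨ n • p = b ∨ n • p = c))
    (K : Subgroup N) (hK : ∀ n : N, n ∈ K ↔ n • a = a ∧ n • b = b ∧ n • c = c)
    (s : N) (hsa : s • a = a) (hsb : s • b = c) :
    (K.index = 2 ∨ K.index = 6) ∧ (K.index = 6 ↔ ∃ n : N, n • a ≠ a) ∧
      (K.index = 6 → ∀ p q, (p = a ∨ p = b ∨ p = c) → (q = a ∨ q = b ∨ q = c) →
        ∃ n : N, n ^ 2 • p = q) := by
  classical
  let P := {x : β // x = a ∨ x = b ∨ x = c}
  haveI : Finite P :=
    (Set.Finite.subset (Set.toFinite ({a, b, c} : Set β)) (fun x (hx : x = a ∨ x = b ∨ x = c) => by simpa using hx)).to_subtype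
  letI := Fintype.ofFinite P
  have hP : Fintype.card P = 3 := by
    rw [← Nat.card_eq_fintype_card]
    show Nat.card ({x : β | x = a ∨ x = b ∨ x = c} : Set β) = 3
    rw [show ({x : β | x = a ∨ x = b ∨ x = c} : Set β) = {a, b, c} by ext; simp, Nat.card_coe_set_eq,
      Set.ncard_insert_of_notMem (by simp [hab, hac]), Set.ncard_pair hbc]
  letI : MulAction N P :=
    { smul := fun n p => ⟨n • p.1, hinv n p.1 p.2⟩
      one_smul := fun p => Subtype.ext (one_smul N p.1)
      mul_smul := fun m n p => Subtype.ext (mul_smul m n p.1) }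
  let φ := MulAction.toPermHom N P
  have happ : ∀ (n : N) (p : P), ((φ n p : P) : β) = n • p.1 := fun _ _ => rfl
  have hker : φ.ker = K := by
    ext n
    rw [MonoidHom.mem_ker, hK]
    constructor
    · intro h
      refine ⟨?_, ?_, ?_⟩
      · have := happ n ⟨a, Or.inl rfl⟩; rw [h] at this; exact this.symm
      · have := happ n ⟨b, Or.inr (Or.inl rfl)⟩; rw [h] at this; exact this.symm
      · have := happ n ⟨c, Or.inr (Or.inr rfl)⟩; rw [h] at this; exact this.symm
    · rintro ⟨ha, hb, hc⟩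
      refine Equiv.ext fun p => Subtype.ext ?_
      rw [happ]
      obtain ⟨p, rfl | rfl | rfl⟩ := p <;> assumption
  have hindex : K.index = Nat.card φ.range := by rw [← hker, Subgroup.index_ker]
  have hperm : Nat.card (Equiv.Perm P) = 6 := by rw [Nat.card_perm, Nat.card_eq_fintype_card, hP]; rfl
  have hdvd : K.index ∣ 6 := hindex ▸ hperm ▸ φ.range.card_subgroup_dvd_card
  let pa : P := ⟨a, Or.inl rfl⟩
  let pb : P := ⟨b, Or.inr (Or.inl rfl)⟩
  let pc : P := ⟨c, Or.inr (Or.inr rfl)⟩
  have hsne : φ s ≠ 1 := fun h => hbc (by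
    have := happ s pb; rw [h] at this; exact this.trans hsb)
  -- the image contains the involution `φ s`
  have hsc : s • c = b := by
    rcases hinv s c (Or.inr (Or.inr rfl)) with h | h | h
    · exact absurd (smul_left_cancel s (h.trans hsa.symm)) (Ne.symm hac)
    · exact h
    · exact absurd (smul_left_cancel s (h.trans hsb.symm)) (Ne.symm hbc)
  have hs2 : φ s * φ s = 1 := by
    refine Equiv.ext fun p => Subtype.ext ?_
    rw [Equiv.Perm.mul_apply, happ, happ, Equiv.Perm.one_apply]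
    obtain ⟨p, rfl | rfl | rfl⟩ := p
    · simp only [hsa]
    · simp only [hsb, hsc]
    · simp only [hsc, hsb]
  have heven : 2 ∣ K.index := by
    rw [hindex, ← orderOf_two_of_mul_self hs2 hsne]
    exact Subgroup.orderOf_dvd_natCard _ ⟨s, rfl⟩
  have hle : K.index ≤ 6 := Nat.le_of_dvd (by norm_num) hdvd
  have hcases : K.index = 2 ∨ K.index = 6 := by
    have : K.index ≠ 0 := hindex ▸ Nat.card_pos.ne'
    interval_cases h : K.index <;> omega
  have hmove : K.index = 6 → ∀ σ : Equiv.Perm P, ∃ n, φ n = σ := by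
    intro h6 σ
    have htop : φ.range = ⊤ := Subgroup.eq_top_of_card_eq _ (by rw [← hindex, h6, hperm])
    exact MonoidHom.mem_range.1 (htop ▸ Subgroup.mem_top σ)
  have hsq : K.index = 6 → ∀ p q : P, ∃ n : N, n ^ 2 • p.1 = q.1 := by
    intro h6 p q
    by_cases hpq : p = q
    · exact ⟨1, by rw [one_pow, one_smul, hpq]⟩
    obtain ⟨r, hr⟩ : ∃ r : P, r ≠ p ∧ r ≠ q := by
      by_contra hno
      push_neg at hno
      have h1 : (Finset.univ : Finset P) ⊆ {p, q} := fun r _ => by
        by_cases hr : r = p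
        · simp [hr]
        · simp [hno r hr]
      have h2 := (Finset.card_le_card h1).trans Finset.card_le_two
      rw [Finset.card_univ, hP] at h2
      omega
    obtain ⟨n, hn⟩ := hmove h6 (Equiv.swap p r * Equiv.swap r q)
    refine ⟨n, ?_⟩
    have e : (φ (n ^ 2) p : P) = q := by
      rw [sq, map_mul, hn, Equiv.Perm.mul_apply, Equiv.Perm.mul_apply, Equiv.Perm.mul_apply,
        Equiv.swap_apply_of_ne_of_ne hr.1.symm hpq, Equiv.swap_apply_left,
        Equiv.swap_apply_left, Equiv.swap_apply_of_ne_of_ne (Ne.symm hpq) hr.2.symm]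
    rw [← happ, e]
  refine ⟨hcases, ⟨fun h6 => ?_, ?_⟩, fun h6 p q hp hq => hsq h6 ⟨p, hp⟩ ⟨q, hq⟩⟩
  · obtain ⟨n, hn⟩ := hsq h6 pa pb
    exact ⟨n ^ 2, fun h => hab (h.symm.trans hn)⟩
  · rintro ⟨n, hn⟩
    rcases hcases with h2 | h6
    · exfalso
      -- the image has only the two elements `1`, `φ s`
      have hmem : ∀ σ ∈ φ.range, σ = 1 ∨ σ = φ s := by
        intro σ hσ
        by_contra hno
        push_neg at hno
        have h3 : ({1, φ s, σ} : Set (Equiv.Perm P)).ncard ≤ (φ.range : Set (Equiv.Perm P)).ncard :=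
          Set.ncard_le_ncard (by
            rintro x (rfl | rfl | rfl)
            · exact one_mem _
            · exact ⟨s, rfl⟩
            · exact hσ) (Set.toFinite _)
        rw [Set.ncard_insert_of_notMem (by simp [Ne.symm hsne, Ne.symm hno.1]),
          Set.ncard_pair hno.2.symm, ← Nat.card_coe_set_eq] at h3
        have h4 : Nat.card φ.range = 2 := hindex ▸ h2
        have h5 : 3 ≤ Nat.card φ.range := h3
        omega
      rcases hmem (φ n) ⟨n, rfl⟩ with h | h <;> have := happ n pa <;> rw [h] at this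
      · exact hn this.symm
      · exact hn (this.symm.trans hsa)
    · exact h6

section Classes

variable {G : Type*} [Group G] [Finite G]

theorem card_classes_eq_one {P : G → Prop} {a : G} (ha : P a) (hall : ∀ t, P t → IsConj t a) :
    Nat.card {C : ConjClasses G // ∃ t : G, P t ∧ ConjClasses.mk t = C} = 1 := by
  rw [Nat.card_eq_one_iff_unique]
  refine ⟨⟨?_⟩, ⟨⟨_, a, ha, rfl⟩⟩⟩
  rintro ⟨_, t, ht, rfl⟩ ⟨_, u, hu, rfl⟩
  exact Subtype.ext (ConjClasses.mk_eq_mk_iff_isConj.2 ((hall t ht).trans (hall u hu).symm))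

theorem card_classes_eq_two {P : G → Prop} {a b : G} (ha : P a) (hb : P b) (hne : ¬ IsConj a b)
    (hall : ∀ t, P t → IsConj t a ∨ IsConj t b) :
    Nat.card {C : ConjClasses G // ∃ t : G, P t ∧ ConjClasses.mk t = C} = 2 := by
  rw [Nat.card_eq_two_iff]
  refine ⟨⟨_, a, ha, rfl⟩, ⟨_, b, hb, rfl⟩, ?_, ?_⟩
  · intro h
    exact hne (ConjClasses.mk_eq_mk_iff_isConj.1 (congrArg Subtype.val h))
  · refine Set.eq_univ_of_forall ?_
    rintro ⟨_, t, ht, rfl⟩
    rcases hall t ht with h | h
    · exact Or.inl (Subtype.ext (ConjClasses.mk_eq_mk_iff_isConj.2 h))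
    · exact Or.inr (Subtype.ext (ConjClasses.mk_eq_mk_iff_isConj.2 h))

theorem card_classes_eq_three {P : G → Prop} {a b c : G} (ha : P a) (hb : P b) (hc : P c)
    (hab : ¬ IsConj a b) (hac : ¬ IsConj a c) (hbc : ¬ IsConj b c)
    (hall : ∀ t, P t → IsConj t a ∨ IsConj t b ∨ IsConj t c) :
    Nat.card {C : ConjClasses G // ∃ t : G, P t ∧ ConjClasses.mk t = C} = 3 := by
  have hset : ({⟨_, a, ha, rfl⟩, ⟨_, b, hb, rfl⟩, ⟨_, c, hc, rfl⟩} :
      Set {C : ConjClasses G // ∃ t : G, P t ∧ ConjClasses.mk t = C}) = Set.univ := by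
    refine Set.eq_univ_of_forall ?_
    rintro ⟨_, t, ht, rfl⟩
    rcases hall t ht with h | h | h
    · exact Or.inl (Subtype.ext (ConjClasses.mk_eq_mk_iff_isConj.2 h))
    · exact Or.inr (Or.inl (Subtype.ext (ConjClasses.mk_eq_mk_iff_isConj.2 h)))
    · exact Or.inr (Or.inr (Subtype.ext (ConjClasses.mk_eq_mk_iff_isConj.2 h)))
  rw [← Set.ncard_univ, ← hset, Set.ncard_insert_of_notMem, Set.ncard_pair]
  · exact fun h => hbc (ConjClasses.mk_eq_mk_iff_isConj.1 (congrArg Subtype.val h))
  · simp only [Set.mem_insert_iff, Set.mem_singleton_iff, not_or]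
    exact ⟨fun h => hab (ConjClasses.mk_eq_mk_iff_isConj.1 (congrArg Subtype.val h)),
      fun h => hac (ConjClasses.mk_eq_mk_iff_isConj.1 (congrArg Subtype.val h))⟩

/-- A 2-subgroup of a group containing the Sylow subgroup `S` is conjugate into `S` inside it. -/
theorem exists_conj_le_sylow {p : ℕ} [Fact p.Prime] (S : Sylow p G) (H : Subgroup G)
    (hSH : (S : Subgroup G) ≤ H) {R : Subgroup G} (hR : IsPGroup p R) (hRH : R ≤ H) :
    ∃ h ∈ H, ∀ r ∈ R, h * r * h⁻¹ ∈ S := by
  obtain ⟨T, hT⟩ := (hR.of_equiv (Subgroup.subgroupOfEquivOfLe hRH).symm).exists_le_sylow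
  obtain ⟨c, hc⟩ := MulAction.exists_smul_eq H T (S.subtype hSH)
  refine ⟨c, c.2, fun r hr => ?_⟩
  have h1 : MulAut.conj c (⟨r, hRH hr⟩ : H) ∈ ((S.subtype hSH : Sylow p H) : Subgroup H) := by
    rw [← hc]
    exact Subgroup.smul_mem_pointwise_smul _ (MulAut.conj c) _ (hT hr)
  exact h1

/-- An element of 2-power order is conjugate into any Sylow 2-subgroup. -/
theorem exists_conj_mem_sylow {p : ℕ} [Fact p.Prime] (S : Sylow p G) {t : G} {k : ℕ}
    (ht : orderOf t = p ^ k) : ∃ g : G, g * t * g⁻¹ ∈ S := by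
  obtain ⟨g, -, hg⟩ := exists_conj_le_sylow S ⊤ le_top
    (IsPGroup.of_card (n := k) (G := Subgroup.zpowers t) (by rw [Nat.card_zpowers, ht])) le_top
  exact ⟨g, hg t (Subgroup.mem_zpowers t)⟩

end Classes

end Cfsg.Agent.Invol
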