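import Cfsg.Agent.Lib.Invol.ZStarApps
import Cfsg.Prelude.Def_FusionSystem

/-!
# The centre of the 2-fusion system of a group, and involutions with `p`-power products
-/

set_option linter.unusedSectionVars false
set_option linter.style.haveILetI false

namespace Cfsg.Agent.Invol

open Cfsg
open scoped Pointwise

universe u

variable {G : Type u} [Group G] [Finite G]

theorem mem_comap_center_iff {z : G} :
    z ∈ (Subgroup.center (G ⧸ oddCore G)).comap (QuotientGroup.mk' (oddCore G)) ↔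
      ∀ g : G, z * g * z⁻¹ * g⁻¹ ∈ oddCore G := by
  rw [Subgroup.mem_comap, Subgroup.mem_center_iff]
  constructor
  · intro h g
    rw [← QuotientGroup.eq_one_iff]
    have := h (QuotientGroup.mk' _ g)
    simp only [QuotientGroup.mk'_apply, QuotientGroup.mk_mul, QuotientGroup.mk_inv] at this ⊢
    rw [← this]; group
  · intro h q
    obtain ⟨g, rfl⟩ := QuotientGroup.mk'_surjective (oddCore G) q
    have := (QuotientGroup.eq_one_iff _).2 (h g)
    simp only [QuotientGroup.mk'_apply, QuotientGroup.mk_mul, QuotientGroup.mk_inv] at this ⊢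
    rw [mul_inv_eq_one, mul_inv_eq_iff_eq_mul] at this
    exact this.symm

/-- An element of a 2-subgroup lying in the odd core is trivial. -/
theorem eq_one_of_mem_oddCore (S : Sylow 2 G) {x : G} (hxS : x ∈ S) (hx : x ∈ oddCore G) :
    x = 1 := by
  haveI : Fact (Nat.Prime 2) := ⟨Nat.prime_two⟩
  obtain ⟨k, hk⟩ := (IsPGroup.iff_orderOf.1 S.2) (⟨x, hxS⟩ : (S : Subgroup G))
  rw [Subgroup.orderOf_mk] at hk
  exact orderOf_eq_one_iff.1 (Nat.eq_one_of_dvd_coprimes
    (Nat.Coprime.pow_left k (Nat.coprime_two_left.2 odd_card_oddCore)) (hk ▸ dvd_rfl)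
    (Subgroup.orderOf_dvd_natCard _ hx))

/-- `Z(F_S(G)) = S ∩ Z*(G)`. -/
theorem center_groupFusionSystem (hZ : ZStarHyp.{u}) (S : Sylow 2 G) :
    (groupFusionSystem (S : Subgroup G)).center =
      (S : Subgroup G) ⊓
        (Subgroup.center (G ⧸ oddCore G)).comap (QuotientGroup.mk' (oddCore G)) := by
  haveI : Fact (Nat.Prime 2) := ⟨Nat.prime_two⟩
  set W := (S : Subgroup G) ⊓
    (Subgroup.center (G ⧸ oddCore G)).comap (QuotientGroup.mk' (oddCore G)) with hW
  refine le_antisymm (sSup_le ?_) (le_sSup ?_)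
  · rintro Q ⟨hQS, hQ⟩ z hz
    refine ⟨hQS hz, mem_comap_center_iff.2 (central_mod_oddCore hZ S (hQS hz) ?_)⟩
    intro b hb g hg
    have hbQ : b ∈ Q := Subgroup.zpowers_le.2 hz hb
    have hbS : b ∈ S := hQS hbQ
    obtain ⟨ψ, -, hψ, hfix⟩ := hQ (Subgroup.zpowers b) (conjHom (Subgroup.zpowers b) g)
      ⟨Subgroup.zpowers_le.2 hbS, fun x => by
        obtain ⟨k, hk⟩ := Subgroup.mem_zpowers_iff.1 x.2
        show g * (x : G) * g⁻¹ ∈ (S : Subgroup G)
        rw [← hk, ← conj_zpow]
        exact Subgroup.zpow_mem _ hg k, g, fun x => rfl⟩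
    have h1 := hψ ⟨b, Subgroup.mem_zpowers b⟩
    have h2 := hfix ⟨b, hbQ⟩
    exact h1.symm.trans h2
  · have hWS : W ≤ (S : Subgroup G) := inf_le_left
    have hcomm : ∀ q ∈ W, ∀ g : G, q * g * q⁻¹ * g⁻¹ ∈ oddCore G := fun q hq =>
      mem_comap_center_iff.1 hq.2
    have hWc : ∀ q ∈ W, ∀ s ∈ S, Commute q s := fun q hq s hs => by
      have h1 := eq_one_of_mem_oddCore S
        (Subgroup.mul_mem _ (Subgroup.mul_mem _ (Subgroup.mul_mem _ (hWS hq) hs)
          (Subgroup.inv_mem _ (hWS hq))) (Subgroup.inv_mem _ hs)) (hcomm q hq s)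
      exact mul_inv_eq_iff_eq_mul.1 (mul_inv_eq_one.1 h1)
    let X : Subgroup G := oddCore G ⊔ W
    haveI : X.Normal := ⟨fun x hx g => by
      obtain ⟨o, ho, a, ha, rfl⟩ := Subgroup.mem_sup_of_normal_left.1 hx
      have e : g * (o * a) * g⁻¹ = (g * o * g⁻¹) * (a * g * a⁻¹ * g⁻¹)⁻¹ * a := by group
      rw [e]
      exact Subgroup.mul_mem_sup
        (mul_mem (Subgroup.Normal.conj_mem inferInstance o ho g) (inv_mem (hcomm a ha g))) ha⟩
    refine ⟨hWS, ?_⟩
    rintro P φ ⟨hPS, hφS, g, hg⟩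
    -- `W` and its conjugate by `g` inside `X ∩ C(φ P)`
    let C : Subgroup G := X ⊓ Subgroup.centralizer ((φ.range : Subgroup G) : Set G)
    have hWC : W ≤ C := fun q hq => ⟨Subgroup.mem_sup_right hq, fun y hy => by
      obtain ⟨x, rfl⟩ := hy
      exact (hWc q hq _ (hφS x)).symm.eq⟩
    have hgC : ∀ q ∈ W, g * q * g⁻¹ ∈ C := fun q hq =>
      ⟨Subgroup.Normal.conj_mem inferInstance q (Subgroup.mem_sup_right hq) g, fun y hy => by
        obtain ⟨x, rfl⟩ := hy
        rw [hg]
        calc g * (x : G) * g⁻¹ * (g * q * g⁻¹) = g * ((x : G) * q) * g⁻¹ := by group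
          _ = g * q * g⁻¹ * (g * (x : G) * g⁻¹) := by rw [← (hWc q hq x (hPS x.2)).eq]; group⟩
    let WC : Sylow 2 C :=
      { toSubgroup := W.subgroupOf C
        isPGroup' := (S.2.to_le hWS).of_equiv (Subgroup.subgroupOfEquivOfLe hWC).symm
        is_maximal' := by
          intro R hR hle
          refine le_antisymm (fun x hx => ?_) hle
          obtain ⟨o, ho, a, ha, hoa⟩ := Subgroup.mem_sup_of_normal_left.1 x.2.1
          have haC : a ∈ C := hWC ha
          have hoC : o ∈ C := by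
            have e : o = (x : G) * a⁻¹ := by rw [← hoa, mul_inv_cancel_right]
            exact e ▸ mul_mem x.2 (inv_mem haC)
          have hR' : (⟨o, hoC⟩ : C) ∈ R := by
            have e : (⟨o, hoC⟩ : C) = x * (⟨a, haC⟩ : C)⁻¹ := Subtype.ext (by simp [← hoa])
            rw [e]
            exact mul_mem hx (inv_mem (hle ha))
          obtain ⟨k, hk⟩ := hR ⟨_, hR'⟩
          have hk' : o ^ (2 ^ k) = 1 := by
            simpa using congrArg (fun t : R => ((t : C) : G)) hk
          have ho1 : o = 1 := orderOf_eq_one_iff.1 (Nat.eq_one_of_dvd_coprimes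
            (Nat.Coprime.pow_left k (Nat.coprime_two_left.2 odd_card_oddCore))
            (orderOf_dvd_of_pow_eq_one hk') (Subgroup.orderOf_dvd_natCard _ ho))
          show (x : G) ∈ W
          rw [← hoa, ho1, one_mul]
          exact ha }
    let V : Subgroup C := (W.map (MulAut.conj g).toMonoidHom).subgroupOf C
    have hVle : W.map (MulAut.conj g).toMonoidHom ≤ C := by
      rintro _ ⟨q, hq, rfl⟩
      exact hgC q hq
    have hV : IsPGroup 2 V :=
      ((S.2.to_le hWS).map _).of_equiv (Subgroup.subgroupOfEquivOfLe hVle).symm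
    obtain ⟨R, hR⟩ := hV.exists_le_sylow
    obtain ⟨y, hy⟩ := MulAction.exists_smul_eq C R WC
    have hcW : ∀ q ∈ W, (y : G) * g * q * ((y : G) * g)⁻¹ ∈ W := by
      intro q hq
      have h1 : MulAut.conj y ⟨g * q * g⁻¹, hgC q hq⟩ ∈ (WC : Subgroup C) := by
        rw [← hy]
        exact Subgroup.smul_mem_pointwise_smul _ (MulAut.conj y) _ (hR ⟨q, hq, rfl⟩)
      rw [show (y : G) * g * q * ((y : G) * g)⁻¹ = (y : G) * (g * q * g⁻¹) * (y : G)⁻¹ by group]
      exact h1
    have hcfix : ∀ q ∈ W, (y : G) * g * q * ((y : G) * g)⁻¹ = q := by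
      intro q hq
      set c := (y : G) * g
      have h1 := eq_one_of_mem_oddCore S
        (Subgroup.mul_mem _ (hWS (hcW q hq)) (Subgroup.inv_mem _ (hWS hq)))
        (by
          have := inv_mem (hcomm q hq c)
          simpa [mul_assoc] using this)
      exact mul_inv_eq_one.1 h1
    have hcP : ∀ x : P, (y : G) * g * (x : G) * ((y : G) * g)⁻¹ = φ x := by
      intro x
      rw [hg, show (y : G) * g * (x : G) * ((y : G) * g)⁻¹ =
        (y : G) * (g * (x : G) * g⁻¹) * (y : G)⁻¹ by group, mul_inv_eq_iff_eq_mul, ← hg]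
      exact (y.2.2 (φ x) ⟨x, rfl⟩).symm
    refine ⟨conjHom (P ⊔ W) ((y : G) * g), ⟨sup_le hPS hWS, ?_, _, fun _ => rfl⟩, fun x => hcP x,
      fun x => hcfix x x.2⟩
    rintro ⟨x, hx⟩
    have hle : P ⊔ W ≤ (S : Subgroup G).comap (MulAut.conj ((y : G) * g)).toMonoidHom :=
      sup_le (fun x hx => by
        show (y : G) * g * x * ((y : G) * g)⁻¹ ∈ (S : Subgroup G)
        rw [hcP ⟨x, hx⟩]; exact hφS _)
        (fun q hq => by
          show (y : G) * g * q * ((y : G) * g)⁻¹ ∈ (S : Subgroup G)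
          rw [hcfix q hq]; exact hWS hq)
    exact hle hx

/-- If the products of conjugates of an involution `d` have order a power of the odd prime `p`, they
lie in `O_p(G)`. -/
theorem products_mem_pCore (hZ : ZStarHyp.{u}) {p : ℕ} [Fact p.Prime] (hp2 : p ≠ 2) {d : G}
    (hd : orderOf d = 2)
    (hprod : ∀ a ∈ conjugatesOf d, ∀ b ∈ conjugatesOf d, ∃ k : ℕ, orderOf (a * b) = p ^ k)
    {a b : G} (ha : a ∈ conjugatesOf d) (hb : b ∈ conjugatesOf d) : a * b ∈ pCore p G := by
  have hd2 := mul_self_of_orderOf_two hd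
  have hpodd : Odd p := (Fact.out : p.Prime).odd_of_ne_two hp2
  have hmemself : d ∈ conjugatesOf d := mem_conjugatesOf_self
  have hiso : IsIsolatedInvolution d := by
    refine ⟨hd, fun g hc => ?_⟩
    set v := g * d * g⁻¹ with hv
    have hv2 : v * v = 1 := mul_self_of_orderOf_two (by rw [hv, orderOf_conj, hd])
    obtain ⟨k, hk⟩ := hprod d hmemself v (isConj_iff.2 ⟨g, rfl⟩)
    have h2 : orderOf (d * v) ∣ 2 := orderOf_dvd_of_pow_eq_one (by
      rw [sq, hc.symm.mul_mul_mul_comm, hd2, hv2, one_mul])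
    have h1 : d * v = 1 := orderOf_eq_one_iff.1 (Nat.eq_one_of_dvd_coprimes
      (Nat.coprime_two_right.2 hpodd |>.pow_left k) (hk ▸ dvd_rfl) h2)
    rw [← inv_eq_of_mul_eq_one_right h1, inv_of_orderOf_two hd]
  have hcent : ∀ g, d * g * d⁻¹ * g⁻¹ ∈ oddCore G := fun g => hZ G d hiso g
  set C := Subgroup.centralizer ({d} : Set G) with hC
  -- `C` contains a Sylow subgroup for every prime other than `p`
  have hindex : ∀ q : ℕ, q.Prime → q ≠ p → ¬ q ∣ C.index := by
    intro q hq hqp
    haveI := Fact.mk hq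
    by_cases hq2 : q = 2
    · subst hq2
      obtain ⟨S, hS⟩ := (IsPGroup.of_card (p := 2) (n := 1) (G := Subgroup.zpowers d)
        (by rw [Nat.card_zpowers, hd, pow_one])).exists_le_sylow
      exact fun h => S.not_dvd_index (h.trans (Subgroup.index_dvd_of_le
        (isolated_sylow_le_centralizer hiso S (hS (Subgroup.mem_zpowers d)))))
    obtain ⟨Q, hQ⟩ := exists_sylow_invariant (p := q) hd2 (oddCore G) odd_card_oddCore hcent
    have hfix := (invariant_sylow_facts hZ hiso hq2 Q hQ).2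
    have h1 : Nat.card {x : G // x ∈ Q ∧ d * x * d⁻¹ = x⁻¹} = 1 := by
      rw [Nat.card_eq_one_iff_unique]
      refine ⟨⟨?_⟩, ⟨⟨1, one_mem _, by simp⟩⟩⟩
      have key : ∀ x : G, x ∈ Q → d * x * d⁻¹ = x⁻¹ → x = 1 := by
        intro x hxQ hx
        -- `x * x` is a product of two conjugates
        have e : x * d * x⁻¹ * d = x * x := by
          calc x * d * x⁻¹ * d = x * d * (d * x * d⁻¹) * d := by rw [hx]
            _ = x * (d * d) * x := by group
            _ = x * x := by rw [hd2, mul_one]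
        obtain ⟨k, hk⟩ := hprod (x * d * x⁻¹) (isConj_iff.2 ⟨x, rfl⟩) d hmemself
        rw [e] at hk
        obtain ⟨j, hj⟩ := (IsPGroup.iff_orderOf.1 Q.2) (⟨x, hxQ⟩ : (Q : Subgroup G))
        rw [Subgroup.orderOf_mk] at hj
        have hcop : (orderOf x).Coprime 2 := by
          rw [hj]; exact Nat.coprime_two_right.2 (hq.odd_of_ne_two hq2).pow
        rw [← sq, Nat.Coprime.orderOf_pow hcop, hj] at hk
        rw [← orderOf_eq_one_iff, hj]
        exact Nat.eq_one_of_dvd_coprimes
          (Nat.Coprime.pow_left j (Nat.Coprime.pow_right k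
            ((Nat.coprime_primes hq Fact.out).2 hqp))) dvd_rfl (hk ▸ dvd_rfl)
      rintro ⟨x, hxQ, hx⟩ ⟨y, hyQ, hy⟩
      exact Subtype.ext ((key x hxQ hx).trans (key y hyQ hy).symm)
    rw [h1, Subgroup.relIndex_eq_one] at hfix
    exact fun h => Q.not_dvd_index (h.trans (Subgroup.index_dvd_of_le (hfix.trans inf_le_right)))
  obtain ⟨P, hP⟩ := exists_sylow_invariant (p := p) hd2 (oddCore G) odd_card_oddCore hcent
  have hD := (invariant_sylow_facts hZ hiso hp2 P hP).1
  set D := (P : Subgroup G) ⊓ C with hDdef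
  obtain ⟨e, -, he⟩ : ∃ e, e ≤ C.index ∧ C.index = p ^ e := by
    refine ⟨C.index.factorization p, ?_, Nat.eq_pow_of_factorization_eq_single
      Subgroup.index_ne_zero_of_finite ?_⟩
    · exact ((Nat.factorization_lt p Subgroup.index_ne_zero_of_finite).le)
    · ext q
      by_cases hq : q.Prime
      · by_cases hqp : q = p
        · subst hqp; simp
        · rw [Nat.factorization_eq_zero_of_not_dvd (hindex q hq hqp), Finsupp.single_apply,
            if_neg (Ne.symm hqp)]
      · rw [Nat.factorization_eq_zero_of_not_prime _ hq, Finsupp.single_apply, if_neg]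
        exact fun h => hq (h ▸ Fact.out)
  -- so `P` is transitive on the conjugates
  have hidx : C.index ∣ D.relIndex (P : Subgroup G) := by
    have h0 : C.index * D.relIndex C = (P : Subgroup G).index * D.relIndex (P : Subgroup G) := by
      rw [mul_comm C.index, Subgroup.relIndex_mul_index inf_le_right,
        mul_comm (P : Subgroup G).index, Subgroup.relIndex_mul_index inf_le_left]
    have hdvd : C.index ∣ (P : Subgroup G).index * D.relIndex (P : Subgroup G) :=
      h0 ▸ dvd_mul_right _ _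
    rw [he] at hdvd ⊢
    exact (Nat.Coprime.dvd_of_dvd_mul_left
      (Nat.Coprime.pow_left e ((Fact.out : p.Prime).coprime_iff_not_dvd.2 P.not_dvd_index)) hdvd)
  have htrans : ∀ g : G, ∃ x ∈ P, ∃ c ∈ C, g = x * c := by
    let f : (P : Subgroup G) ⧸ D.subgroupOf P → G ⧸ C :=
      Quotient.lift (fun x : (P : Subgroup G) => ((x : G) : G ⧸ C)) (fun x y hxy => by
        rw [QuotientGroup.eq]
        exact ((QuotientGroup.leftRel_apply).1 hxy).2)
    have hf : Function.Injective f := by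
      intro q r h
      obtain ⟨x, rfl⟩ := Quotient.exists_rep q
      obtain ⟨y, rfl⟩ := Quotient.exists_rep r
      have h' : (x : G)⁻¹ * y ∈ C := QuotientGroup.eq.1 h
      exact Quotient.sound ((QuotientGroup.leftRel_apply).2 ⟨Subgroup.mul_mem _ (Subgroup.inv_mem _ x.2) y.2, h'⟩)
    have hcard : Nat.card (G ⧸ C) ≤ Nat.card ((P : Subgroup G) ⧸ D.subgroupOf P) :=
      Nat.le_of_dvd Nat.card_pos hidx
    have hsurj := (hf.bijective_of_nat_card_le hcard).2
    intro g
    obtain ⟨q, hq⟩ := hsurj (g : G ⧸ C)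
    obtain ⟨x, rfl⟩ := Quotient.exists_rep q
    exact ⟨x, x.2, (x : G)⁻¹ * g, QuotientGroup.eq.1 hq, by group⟩
  let K : Subgroup G := Subgroup.closure
    {y : G | ∃ a ∈ conjugatesOf d, ∃ b ∈ conjugatesOf d, y = a * b}
  haveI hKn : K.Normal := ⟨fun y hy g => by
    have hle : K ≤ K.comap (MulAut.conj g).toMonoidHom := by
      rw [Subgroup.closure_le]
      rintro _ ⟨a, ha, b, hb, rfl⟩
      refine Subgroup.subset_closure ⟨g * a * g⁻¹, ?_, g * b * g⁻¹, ?_, ?_⟩
      · exact (show IsConj d a from ha).trans (isConj_iff.2 ⟨g, rfl⟩)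
      · exact (show IsConj d b from hb).trans (isConj_iff.2 ⟨g, rfl⟩)
      · show g * (a * b) * g⁻¹ = _; group
    exact hle hy⟩
  have hKP : K ≤ (P : Subgroup G) := by
    rw [Subgroup.closure_le]
    rintro _ ⟨a, ha, b, hb, rfl⟩
    obtain ⟨g, rfl⟩ := isConj_iff.1 (show IsConj d _ from ha)
    obtain ⟨g', rfl⟩ := isConj_iff.1 (show IsConj d _ from hb)
    obtain ⟨x, hx, c, hc, rfl⟩ := htrans g
    obtain ⟨x', hx', c', hc', rfl⟩ := htrans g'
    have hconj : ∀ w ∈ C, ∀ r : G, r * w * d * (r * w)⁻¹ = r * d * r⁻¹ := fun w hw r => by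
      calc r * w * d * (r * w)⁻¹ = r * (w * d * w⁻¹) * r⁻¹ := by group
        _ = _ := by rw [Subgroup.mem_centralizer_singleton_iff.1 hw, mul_inv_cancel_right]
    show x * c * d * (x * c)⁻¹ * (x' * c' * d * (x' * c')⁻¹) ∈ (P : Subgroup G)
    rw [hconj c hc, hconj c' hc']
    have h1 : d * (x⁻¹ * x') * d⁻¹ ∈ (P : Subgroup G) :=
      (Subgroup.mem_normalizer_iff.1 hP _).1 (mul_mem (inv_mem hx) hx')
    rw [inv_of_orderOf_two hd] at h1
    have h2 := Subgroup.mul_mem _ (Subgroup.mul_mem _ (show x ∈ (P : Subgroup G) from hx) h1)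
      (Subgroup.inv_mem _ (show x' ∈ (P : Subgroup G) from hx'))
    simpa [mul_assoc, inv_of_orderOf_two hd] using h2
  haveI : K.Normal := hKn
  exact Basics.le_pCore (P.2.to_le hKP) (Subgroup.subset_closure ⟨a, ha, b, hb, rfl⟩)

end Cfsg.Agent.Invol
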