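import Cfsg.Agent.Lib.Invol.Basic

/-!
# Counting conjugates
-/

namespace Cfsg.Agent.Invol

variable {G : Type*} [Group G]

theorem card_class_mul_card_centralizer (x : G) :
    Nat.card {y : G // IsConj x y} * Nat.card (Subgroup.centralizer ({x} : Set G)) = Nat.card G := by
  have hkey : ∀ a b : G, (QuotientGroup.mk a : G ⧸ Subgroup.centralizer ({x} : Set G)) =
      QuotientGroup.mk b ↔ a * x * a⁻¹ = b * x * b⁻¹ := by
    intro a b
    rw [QuotientGroup.eq, Subgroup.mem_centralizer_singleton_iff]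
    constructor
    · intro h
      calc a * x * a⁻¹ = a * (x * (a⁻¹ * b)) * b⁻¹ := by group
        _ = b * x * b⁻¹ := by rw [← h]; group
    · intro h
      calc a⁻¹ * b * x = a⁻¹ * (b * x * b⁻¹) * b := by group
        _ = x * (a⁻¹ * b) := by rw [← h]; group
  let f : G ⧸ Subgroup.centralizer ({x} : Set G) → {y : G // IsConj x y} :=
    fun q => ⟨q.out * x * q.out⁻¹, isConj_iff.2 ⟨q.out, rfl⟩⟩
  have hf : Function.Bijective f := by
    constructor
    · intro q r h
      have := (hkey q.out r.out).2 (congrArg Subtype.val h)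
      simpa using this
    · rintro ⟨y, hy⟩
      obtain ⟨c, rfl⟩ := isConj_iff.1 hy
      refine ⟨QuotientGroup.mk c, Subtype.ext ?_⟩
      exact (hkey _ c).1 (by simp)
  rw [← Nat.card_eq_of_bijective f hf]
  exact (Subgroup.card_eq_card_quotient_mul_card_subgroup _).symm

theorem card_centralizer_conj (g x : G) :
    Nat.card (Subgroup.centralizer ({g * x * g⁻¹} : Set G)) =
      Nat.card (Subgroup.centralizer ({x} : Set G)) := by
  refine Nat.card_congr ((MulAut.conj g⁻¹).toEquiv.subtypeEquiv fun c => ?_)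
  simp only [Subgroup.mem_centralizer_singleton_iff]
  show c * (g * x * g⁻¹) = g * x * g⁻¹ * c ↔
    g⁻¹ * c * g⁻¹⁻¹ * x = x * (g⁻¹ * c * g⁻¹⁻¹)
  rw [inv_inv]
  constructor
  · intro h
    calc g⁻¹ * c * g * x = g⁻¹ * (c * (g * x * g⁻¹)) * g := by group
      _ = x * (g⁻¹ * c * g) := by rw [h]; group
  · intro h
    calc c * (g * x * g⁻¹) = g * (g⁻¹ * c * g * x) * g⁻¹ := by group
      _ = g * x * g⁻¹ * c := by rw [h]; group

end Cfsg.Agent.Invol
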