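import Mathlib
import Cfsg.Agent.Lib.OddLocal.Puig
import Cfsg.Agent.Lib.LocalEvenA.FrattiniP

/-!
Thompson's critical subgroups exist.
-/

set_option autoImplicit false

namespace Cfsg.Agent.Invol.CriticalExists

open Subgroup
open scoped commutatorElement

variable {P : Type*} [Group P]

theorem map_centralizer_le {C : Subgroup P} {φ : MulAut P} (hC : C.map φ.toMonoidHom = C) {x : P}
    (hx : x ∈ centralizer (C : Set P)) : φ x ∈ centralizer (C : Set P) := by
  rw [mem_centralizer_iff]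
  intro c hc
  rw [← hC] at hc
  obtain ⟨d, hd, rfl⟩ := hc
  show φ d * φ x = φ x * φ d
  rw [← map_mul, ← map_mul, mem_centralizer_iff.1 hx d hd]

theorem exists_critical [Finite P] {p : ℕ} [hp : Fact p.Prime] (hP : IsPGroup p P) :
    ∃ H : Subgroup P, H.Characteristic ∧ (frattini H).map H.subtype ≤ centralizer (H : Set P) ∧
      ⁅H, (⊤ : Subgroup P)⁆ ≤ H ⊓ centralizer (H : Set P) ∧ centralizer (H : Set P) ≤ H := by
  obtain ⟨C, hC, hmax⟩ := (Set.toFinite {H : Subgroup P | H.Characteristic ∧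
    ⁅H, (⊤ : Subgroup P)⁆ ≤ H ⊓ centralizer (H : Set P) ∧
    ∀ x ∈ H, x ^ p ∈ centralizer (H : Set P)}).exists_maximal
    ⟨⊥, inferInstance, by rw [commutator_bot_left]; exact bot_le, fun x hx => by
      rw [mem_bot.1 hx, one_pow]; exact one_mem _⟩
  obtain ⟨hchar, hcomm, hpow⟩ := hC
  have hfrat : (frattini C).map C.subtype ≤ centralizer (C : Set P) :=
    LocalEvenA.map_frattini_le_of ((commutator_mono le_rfl le_top).trans (hcomm.trans inf_le_right)) hpow
  refine ⟨C, hchar, hfrat, hcomm, ?_⟩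
  by_contra hnot
  obtain ⟨K, hKdef⟩ : ∃ K, K = centralizer (C : Set P) := ⟨_, rfl⟩
  obtain ⟨Z, hZdef⟩ : ∃ Z, Z = C ⊓ K := ⟨_, rfl⟩
  rw [← hKdef] at hnot hcomm
  have hpow' : ∀ x ∈ C, x ^ p ∈ Z := fun x hx => hZdef ▸ ⟨pow_mem hx p, hKdef ▸ hpow x hx⟩
  have hCmap : ∀ φ : MulAut P, C.map φ.toMonoidHom = C := characteristic_iff_map_eq.1 hchar
  have hKmem : ∀ (φ : MulAut P) (x : P), x ∈ K → φ x ∈ K := fun φ x hx => by
    rw [hKdef] at hx ⊢; exact map_centralizer_le (hCmap φ) hx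
  have hCmem : ∀ (φ : MulAut P) (x : P), x ∈ C → φ x ∈ C := fun φ x hx => by
    rw [← hCmap φ]; exact ⟨x, hx, rfl⟩
  haveI hKn : K.Normal := ⟨fun x hx g => hKmem (MulAut.conj g) x hx⟩
  haveI hZn : Z.Normal := ⟨fun x hx g => by
    rw [hZdef] at hx ⊢; exact ⟨hCmem (MulAut.conj g) x hx.1, hKmem (MulAut.conj g) x hx.2⟩⟩
  let q : P →* P ⧸ Z := QuotientGroup.mk' Z
  have hq : ∀ x, q x = 1 ↔ x ∈ Z := QuotientGroup.eq_one_iff
  let W : Subgroup P :=
    { carrier := {x | x ∈ K ∧ q x ∈ center (P ⧸ Z) ∧ q x ^ p = 1}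
      one_mem' := ⟨one_mem _, by simp, by simp⟩
      mul_mem' := fun {x y} hx hy => ⟨mul_mem hx.1 hy.1, by rw [map_mul]; exact mul_mem hx.2.1 hy.2.1, by
        rw [map_mul, (show Commute (q x) (q y) from (mem_center_iff.1 hx.2.1 (q y)).symm).mul_pow, hx.2.2,
          hy.2.2, one_mul]⟩
      inv_mem' := fun {x} hx => ⟨inv_mem hx.1, by rw [map_inv]; exact inv_mem hx.2.1, by
        rw [map_inv, inv_pow, hx.2.2, inv_one]⟩ }
  have hWmem : ∀ x, x ∈ W ↔ x ∈ K ∧ (∀ g, ⁅x, g⁆ ∈ Z) ∧ x ^ p ∈ Z := by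
    intro x
    show (x ∈ K ∧ q x ∈ center (P ⧸ Z) ∧ q x ^ p = 1) ↔ _
    refine and_congr_right fun _ => and_congr ?_ (by rw [← map_pow, hq])
    rw [mem_center_iff]
    constructor
    · intro h g
      rw [← hq, map_commutatorElement, commutatorElement_eq_one_iff_mul_comm]
      exact (h (q g)).symm
    · intro h u
      obtain ⟨g, rfl⟩ := QuotientGroup.mk'_surjective Z u
      have := h g
      rw [← hq, map_commutatorElement, commutatorElement_eq_one_iff_mul_comm] at this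
      exact this.symm
  have hWmap : ∀ (φ : MulAut P) (x : P), x ∈ W → φ x ∈ W := by
    intro φ x hx
    rw [hWmem] at hx ⊢
    have hZmap : ∀ z, z ∈ Z → φ z ∈ Z := fun z hz => by
      rw [hZdef] at hz ⊢; exact ⟨hCmem φ z hz.1, hKmem φ z hz.2⟩
    refine ⟨hKmem φ x hx.1, fun g => ?_, by rw [← map_pow]; exact hZmap _ hx.2.2⟩
    have := hZmap _ (hx.2.1 (φ.symm g))
    rwa [map_commutatorElement, MulEquiv.apply_symm_apply] at this
  haveI hWn : W.Normal := ⟨fun x hx g => hWmap (MulAut.conj g) x hx⟩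
  obtain ⟨w, hwW, hwC⟩ : ∃ w ∈ W, w ∉ C := by
    haveI : (K.map q).Normal := Normal.map hKn q (QuotientGroup.mk'_surjective Z)
    have hne : K.map q ≠ ⊥ := by
      intro h
      refine hnot fun x hx => ?_
      have h1 : q x = 1 := mem_bot.1 (h ▸ mem_map_of_mem q hx)
      rw [hq, hZdef] at h1
      exact h1.1
    obtain ⟨u, hu, huc, hu1⟩ := OddLocal.exists_mem_center_ne_one_of_normal (hP.to_quotient Z) _ hne
    obtain ⟨j, hj⟩ := IsPGroup.iff_orderOf.1 (hP.to_quotient Z) u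
    have hj0 : j ≠ 0 := fun h => hu1 (orderOf_eq_one_iff.1 (by rw [hj, h, pow_zero]))
    obtain ⟨x, hx, hxu⟩ := hu
    refine ⟨x ^ p ^ (j - 1), ⟨pow_mem hx _, by rw [map_pow, hxu]; exact pow_mem huc _, ?_⟩, fun hc => ?_⟩
    · rw [map_pow, hxu, ← pow_mul, ← pow_succ, show j - 1 + 1 = j by omega, ← hj, pow_orderOf_eq_one]
    · have h1 : q (x ^ p ^ (j - 1)) = 1 := (hq _).2 (hZdef ▸ ⟨hc, pow_mem hx _⟩)
      rw [map_pow, hxu] at h1
      have h2 := Nat.le_of_dvd (pow_pos hp.out.pos _) (hj ▸ orderOf_dvd_of_pow_eq_one h1)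
      have h3 : p ^ (j - 1) < p ^ j := Nat.pow_lt_pow_right hp.out.one_lt (by omega)
      omega
  haveI hCn : C.Normal := inferInstance
  have hWK : W ≤ K := fun x hx => hx.1
  have hKC : ∀ k ∈ K, ∀ c ∈ C, c * k = k * c := fun k hk c hc => mem_centralizer_iff.1 (hKdef ▸ hk) c hc
  have hmul : ∀ x, x ∈ C ⊔ W ↔ ∃ c ∈ C, ∃ v ∈ W, c * v = x := fun x => by
    rw [← SetLike.mem_coe, normal_mul C W]; exact Set.mem_mul
  have hZle : Z ≤ centralizer ((C ⊔ W : Subgroup P) : Set P) := by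
    refine le_centralizer_iff.1 (sup_le ?_ ?_)
    · exact le_centralizer_iff.1 (by rw [← hKdef, hZdef]; exact inf_le_right)
    · intro v hv
      rw [mem_centralizer_iff]
      intro z hz
      rw [hZdef] at hz
      exact hKC v (hWK hv) z hz.1
  have hbound : ⁅C ⊔ W, (⊤ : Subgroup P)⁆ ≤ Z := by
    rw [Subgroup.commutator_le]
    intro x hx g _
    obtain ⟨c, hc, v, hv, rfl⟩ := (hmul x).1 hx
    rw [← hq, map_commutatorElement, map_mul, commutatorElement_eq_one_iff_mul_comm]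
    have h1 : Commute (q c) (q g) := by
      have : ⁅c, g⁆ ∈ Z := hZdef ▸ hcomm (commutator_mem_commutator hc (mem_top g))
      rw [← hq, map_commutatorElement, commutatorElement_eq_one_iff_mul_comm] at this
      exact this
    have h2 : Commute (q v) (q g) := by
      have := ((hWmem v).1 hv).2.1 g
      rw [← hq, map_commutatorElement, commutatorElement_eq_one_iff_mul_comm] at this
      exact this
    exact (h1.mul_left h2).eq
  have hZD : Z ≤ C ⊔ W := by rw [hZdef]; exact inf_le_left.trans le_sup_left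
  have hDle : C ⊔ W ≤ C := hmax ⟨characteristic_iff_map_le.2 fun φ => by
      rw [Subgroup.map_sup]
      exact sup_le ((hCmap φ).le.trans le_sup_left)
        (le_trans (by rintro _ ⟨x, hx, rfl⟩; exact hWmap φ x hx) le_sup_right),
    hbound.trans (le_inf hZD hZle), fun x hx => by
      obtain ⟨c, hc, v, hv, rfl⟩ := (hmul x).1 hx
      rw [(show Commute c v from hKC v (hWK hv) c hc).mul_pow]
      exact hZle (mul_mem (hpow' c hc) ((hWmem v).1 hv).2.2)⟩ le_sup_left
  exact hwC (hDle (mem_sup_right hwW))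

end Cfsg.Agent.Invol.CriticalExists
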