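import Mathlib
import Cfsg.Prelude.Def_CaseTheorems
import Cfsg.Agent.Lib.Invol.Dihedral
import Cfsg.Agent.Lib.Invol.Quaternion
import Cfsg.Agent.Lib.LocalEvenB.Basic

/-!
2-groups of maximal class: Taussky's theorem (a non-abelian 2-group with `|P : P'| = 4` has a cyclic
subgroup of index 2) and the resulting classification into dihedral, quaternion and quasi-dihedral groups.
-/

set_option autoImplicit false

namespace Cfsg.Agent.Invol.MaxClassTwo

open Subgroup

universe u

/-- Generator data of a 2-group of maximal class. -/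
structure MCData (P : Type u) [Group P] where
  m : ℕ
  two_le : 2 ≤ m
  a : P
  y : P
  card : Nat.card P = 2 ^ (m + 1)
  orda : orderOf a = 2 ^ m
  hy : y ∉ zpowers a
  shape : (y * y = 1 ∧ y * a * y⁻¹ = a⁻¹) ∨ (y * y = a ^ 2 ^ (m - 1) ∧ y * a * y⁻¹ = a⁻¹) ∨
    (3 ≤ m ∧ y * y = 1 ∧ y * a * y⁻¹ = a ^ (2 ^ (m - 1) - 1))

theorem index_zpowers {P : Type u} [Group P] [Finite P] {a : P} (ha : 2 * orderOf a = Nat.card P) :
    (zpowers a).index = 2 := by
  have h1 := card_mul_index (zpowers a)
  rw [Nat.card_zpowers, ← ha, mul_comm 2] at h1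
  exact Nat.eq_of_mul_eq_mul_left (orderOf_pos _) h1

/-- If `g = [y, a]` generates a normal subgroup and `P = A ∪ A y` with `A` generated by `a` and central
elements then `P' = ⟨g⟩`. -/
theorem commutator_le_zpowers {P : Type u} [Group P] {a y g : P} (A : Subgroup P) (hA : A.index = 2)
    (hy : y ∉ A) (hAgen : A ≤ zpowers a ⊔ center P) (hg : y * a * y⁻¹ * a⁻¹ = g)
    (hgy : y * g * y⁻¹ ∈ zpowers g) (hga : Commute g a) [Finite P] : commutator P ≤ zpowers g := by
  have htop : zpowers a ⊔ center P ⊔ zpowers y = ⊤ := by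
    rw [eq_top_iff]
    intro x _
    by_cases hx : x ∈ A
    · exact mem_sup_left (hAgen hx)
    · have h2 : x * y⁻¹ ∈ A :=
        (mul_mem_iff_of_index_two hA).2 (iff_of_false hx fun h => hy (by simpa using inv_mem h))
      have := mul_mem (mem_sup_left (hAgen h2) : x * y⁻¹ ∈ zpowers a ⊔ center P ⊔ zpowers y)
        (mem_sup_right (mem_zpowers y))
      simpa using this
  have hgN : (zpowers g).Normal := by
    rw [← normalizer_eq_top_iff, eq_top_iff, ← htop]
    refine sup_le (sup_le ?_ ?_) ?_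
    · rw [zpowers_le, mem_normalizer_iff]
      intro h
      constructor
      · rintro ⟨i, rfl⟩
        exact ⟨i, by rw [← (hga.zpow_left i).eq, mul_inv_cancel_right]⟩
      · rintro ⟨i, hi⟩
        refine ⟨i, ?_⟩
        have hi' : g ^ i = a * h * a⁻¹ := hi
        show g ^ i = h
        calc g ^ i = a⁻¹ * (a * g ^ i) := by group
          _ = a⁻¹ * (g ^ i * a) := by rw [(hga.zpow_left i).eq]
          _ = h := by rw [hi']; group
    · intro c hc
      rw [mem_normalizer_iff]
      intro h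
      rw [show c * h * c⁻¹ = h by rw [← mem_center_iff.mp hc h, mul_inv_cancel_right]]
    · rw [zpowers_le]
      refine mem_normalizer_fintype ?_
      rintro _ ⟨i, rfl⟩
      show y * g ^ i * y⁻¹ ∈ zpowers g
      rw [← conj_zpow]
      exact zpow_mem hgy i
  rw [_root_.commutator_def, Subgroup.commutator_le]
  intro p _ q _
  rw [← QuotientGroup.eq_one_iff, commutatorElement_def]
  have hpre : ∀ z : P, (∀ w ∈ ({a, y} : Set P), Commute (QuotientGroup.mk' (zpowers g) z)
      (QuotientGroup.mk' (zpowers g) w)) → ∀ w : P, Commute (QuotientGroup.mk' (zpowers g) z)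
      (QuotientGroup.mk' (zpowers g) w) := by
    intro z hz w
    have hle : zpowers a ⊔ center P ⊔ zpowers y ≤
        (centralizer {QuotientGroup.mk' (zpowers g) z}).comap (QuotientGroup.mk' (zpowers g)) := by
      refine sup_le (sup_le ?_ ?_) ?_
      · rw [zpowers_le, mem_comap, mem_centralizer_singleton_iff]
        exact (hz a (by simp)).symm.eq
      · intro c hc
        rw [mem_comap, mem_centralizer_singleton_iff, ← map_mul, ← map_mul, mem_center_iff.mp hc z]
      · rw [zpowers_le, mem_comap, mem_centralizer_singleton_iff]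
        exact (hz y (by simp)).symm.eq
    have := hle (htop ▸ mem_top w)
    rw [mem_comap, mem_centralizer_singleton_iff] at this
    exact this.symm
  have hya : Commute (QuotientGroup.mk' (zpowers g) y) (QuotientGroup.mk' (zpowers g) a) := by
    have h1 : QuotientGroup.mk' (zpowers g) (y * a * y⁻¹ * a⁻¹) = 1 := by
      rw [hg]; exact (QuotientGroup.eq_one_iff g).2 (mem_zpowers g)
    simp only [map_mul, map_inv] at h1
    rw [mul_inv_eq_one, mul_inv_eq_iff_eq_mul] at h1
    exact h1
  have hall : ∀ z w : P, Commute (QuotientGroup.mk' (zpowers g) z) (QuotientGroup.mk' (zpowers g) w) := by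
    intro z
    refine hpre z fun w hw => ?_
    rcases hw with rfl | rfl
    · exact (hpre _ (fun v hv => by rcases hv with rfl | rfl; exacts [Commute.refl _, hya.symm]) z).symm
    · exact (hpre _ (fun v hv => by rcases hv with rfl | rfl; exacts [hya, Commute.refl _]) z).symm
  have := hall p q
  simp only [QuotientGroup.mk'_apply] at this
  rw [QuotientGroup.mk_mul, QuotientGroup.mk_mul, QuotientGroup.mk_mul, QuotientGroup.mk_inv,
    QuotientGroup.mk_inv, this.eq, mul_inv_cancel_right, mul_inv_cancel]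

theorem exists_cyclic_index_two_aux : ∀ (N : ℕ) (P : Type u) [Group P] [Finite P], Nat.card P ≤ N →
    IsPGroup 2 P → ¬ IsMulCommutative P → (commutator P).index = 4 →
    ∃ a : P, 2 * orderOf a = Nat.card P := by
  intro N
  induction N with
  | zero =>
    intro P _ _ h
    exact absurd h (not_le.mpr Nat.card_pos)
  | succ N ih =>
    intro P _ _ hle hP hna h4
    haveI : Fact (Nat.Prime 2) := ⟨Nat.prime_two⟩
    have hDne : commutator P ≠ ⊥ := fun h => hna ⟨⟨fun x y => commutatorElement_eq_one_iff_mul_comm.1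
      ((mem_bot).1 (h ▸ commutator_mem_commutator (mem_top x) (mem_top y)))⟩⟩
    haveI := hP.isNilpotent
    obtain ⟨z0, hz0D, hz0c, hz01⟩ := LocalEvenB.exists_mem_center_ne_one (commutator P) hDne
    -- an involution in `P' ∩ Z(P)`
    obtain ⟨z, hzD, hzc, hz⟩ : ∃ z, z ∈ commutator P ∧ z ∈ center P ∧ orderOf z = 2 := by
      obtain ⟨i, hi⟩ := IsPGroup.iff_orderOf.mp hP z0
      have hi0 : i ≠ 0 := fun h => hz01 (orderOf_eq_one_iff.mp (by rw [hi, h, pow_zero]))
      exact ⟨z0 ^ (orderOf z0 / 2), pow_mem hz0D _, pow_mem hz0c _,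
        orderOf_pow_orderOf_div (orderOf_pos z0).ne' (hi ▸ dvd_pow_self 2 hi0)⟩
    haveI hZn : (zpowers z).Normal := ⟨fun x hx g => by
      have : zpowers z ≤ center P := zpowers_le.2 hzc
      rw [mem_center_iff.mp (this hx) g, mul_inv_cancel_right]; exact hx⟩
    have hcardZ : Nat.card (zpowers z) = 2 := by rw [Nat.card_zpowers, hz]
    have hcardQ : Nat.card P = Nat.card (P ⧸ zpowers z) * 2 := by
      rw [card_eq_card_quotient_mul_card_subgroup (zpowers z), hcardZ]
    have hpk : ∃ k, Nat.card P = 2 ^ k := IsPGroup.iff_card.mp hP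
    obtain ⟨k, hk⟩ := hpk
    have hk3 : 3 ≤ k := by
      by_contra hk3
      refine hna ?_
      obtain rfl | rfl | rfl : k = 0 ∨ k = 1 ∨ k = 2 := by omega
      · have : Subsingleton P := (Nat.card_eq_one_iff_unique.mp (by simpa using hk)).1
        exact ⟨⟨fun _ _ => Subsingleton.elim _ _⟩⟩
      · haveI : IsCyclic P := isCyclic_of_prime_card (p := 2) (by simpa using hk)
        exact IsCyclic.isMulCommutative
      · exact IsPGroup.isMulCommutative_of_card_eq_prime_sq (p := 2) hk
    by_cases h8 : k = 3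
    · subst h8
      by_contra hcon
      push Not at hcon
      refine hna ⟨⟨fun x y => ?_⟩⟩
      have hsq : ∀ w : P, w * w = 1 := by
        intro w
        have hdvd : orderOf w ∣ 8 := by
          have := orderOf_dvd_natCard w; rw [hk] at this; exact this
        have hne : orderOf w ≠ 4 := fun h => hcon w (by rw [h, hk]; norm_num)
        have hne8 : orderOf w ≠ 8 := fun h => hna (by
          haveI : IsCyclic P := isCyclic_of_orderOf_eq_card w (by rw [h, hk]; norm_num)
          exact IsCyclic.isMulCommutative)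
        have : orderOf w ∈ Nat.divisors 8 := Nat.mem_divisors.2 ⟨hdvd, by norm_num⟩
        rw [show Nat.divisors 8 = {1, 2, 4, 8} by decide] at this
        simp only [Finset.mem_insert, Finset.mem_singleton] at this
        rcases this with h | h | h | h
        · rw [orderOf_eq_one_iff.mp h, mul_one]
        · rw [← pow_two, ← h, pow_orderOf_eq_one]
        · exact absurd h hne
        · exact absurd h hne8
      have := hsq (x * y)
      calc x * y = (x * y)⁻¹ := (inv_eq_of_mul_eq_one_right this).symm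
        _ = y⁻¹ * x⁻¹ := mul_inv_rev x y
        _ = y * x := by rw [inv_eq_of_mul_eq_one_right (hsq x), inv_eq_of_mul_eq_one_right (hsq y)]
    set Q := P ⧸ zpowers z with hQdef
    have hQ4 : (commutator Q).index = 4 := by
      rw [show commutator Q = (commutator P).map (QuotientGroup.mk' (zpowers z)) by
        rw [_root_.commutator_def, _root_.commutator_def, map_commutator, ← MonoidHom.range_eq_map,
          MonoidHom.range_eq_top.2 (QuotientGroup.mk'_surjective _)],
        index_map_eq _ (QuotientGroup.mk'_surjective _) (by rw [QuotientGroup.ker_mk']; exact zpowers_le.2 hzD), h4]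
    have hQna : ¬ IsMulCommutative Q := by
      intro h
      have hbot : commutator Q = ⊥ := by
        rw [_root_.commutator_def, eq_bot_iff, Subgroup.commutator_le]
        intro p _ q _
        rw [mem_bot, commutatorElement_eq_one_iff_mul_comm]
        exact h.is_comm.comm p q
      rw [hbot, index_bot] at hQ4
      rw [hk, hQ4] at hcardQ
      exact h8 (Nat.pow_right_injective (le_refl 2) (show 2 ^ k = 2 ^ 3 by rw [hcardQ]))
    obtain ⟨abar, habar⟩ := ih Q (by omega) (hP.to_quotient _) hQna hQ4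
    obtain ⟨a, rfl⟩ := QuotientGroup.mk_surjective abar
    by_contra hcon
    push Not at hcon
    have hdvd : orderOf (a : Q) ∣ orderOf a := orderOf_map_dvd (QuotientGroup.mk' (zpowers z)) a
    have hpow : (a ^ orderOf (a : Q)) ^ 2 = 1 := by
      have hmem : a ^ orderOf (a : Q) ∈ zpowers z :=
        (QuotientGroup.eq_one_iff _).1 (by rw [QuotientGroup.mk_pow, pow_orderOf_eq_one])
      obtain ⟨j, hj⟩ := hmem
      rw [← hj]
      show (z ^ j) ^ 2 = 1
      rw [← zpow_natCast, ← zpow_mul, mul_comm, zpow_mul, zpow_natCast, ← hz, pow_orderOf_eq_one, one_zpow]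
    have hord : orderOf a = orderOf (a : Q) := by
      obtain ⟨c, hc⟩ := hdvd
      have h2 : orderOf a ∣ orderOf (a : Q) * 2 := orderOf_dvd_of_pow_eq_one (by rw [pow_mul, hpow])
      rw [hc] at h2
      have hc2 : c ∣ 2 := Nat.dvd_of_mul_dvd_mul_left (orderOf_pos _) h2
      have := Nat.le_of_dvd (by norm_num) hc2
      interval_cases c
      · simp at hc2
      · rw [hc, mul_one]
      · exact absurd (by rw [hc]; omega) (hcon a)
    have hza : z ∉ zpowers a := by
      rintro ⟨j, hj⟩
      have hj' : a ^ j = z := hj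
      have h1 : (a : Q) ^ j = 1 := by
        rw [← QuotientGroup.mk_zpow, hj', QuotientGroup.eq_one_iff]
        exact mem_zpowers z
      rw [← orderOf_dvd_iff_zpow_eq_one, ← hord, orderOf_dvd_iff_zpow_eq_one, hj'] at h1
      rw [h1, orderOf_one] at hz
      omega
    set A := (zpowers (a : Q)).comap (QuotientGroup.mk' (zpowers z)) with hAdef
    have hAi : A.index = 2 := by
      rw [index_comap_of_surjective _ (QuotientGroup.mk'_surjective _)]
      exact index_zpowers habar
    have hAgen : A ≤ zpowers a ⊔ center P := by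
      rintro x hx
      obtain ⟨j, hj⟩ := mem_comap.1 hx
      have hj' : ((a ^ j : P) : Q) = (x : Q) := hj
      rw [QuotientGroup.eq] at hj'
      have := mul_mem (mem_sup_left (zpow_mem (mem_zpowers a) j) : a ^ j ∈ zpowers a ⊔ center P)
        (mem_sup_right ((zpowers_le.2 hzc) hj'))
      simpa using this
    obtain ⟨y, hy⟩ : ∃ y, y ∉ A := by
      by_contra h
      push Not at h
      rw [(eq_top_iff' A).2 h, index_top] at hAi
      exact absurd hAi (by norm_num)
    have hAn : A.Normal := normal_of_index_eq_two hAi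
    have haA : a ∈ A := mem_zpowers _
    obtain ⟨g, hgdef⟩ : ∃ g, y * a * y⁻¹ * a⁻¹ = g := ⟨_, rfl⟩
    have hgA : g ∈ A := hgdef ▸ mul_mem (hAn.conj_mem a haA y) (inv_mem haA)
    obtain ⟨j, hj⟩ := mem_comap.1 hgA
    obtain ⟨e, he⟩ : ∃ e : ℤ, z ^ e = (a ^ j)⁻¹ * g := by
      have hj' : ((a ^ j : P) : Q) = (g : Q) := hj
      exact QuotientGroup.eq.1 hj'
    have hge : g = a ^ j * z ^ e := by rw [he]; group
    have hzcomm : ∀ w : P, Commute z w := fun w => (mem_center_iff.mp hzc w).symm
    have hga : Commute g a := by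
      rw [hge]
      exact ((Commute.refl a).zpow_left j).mul_left ((hzcomm a).zpow_left e)
    have hyg : y * g * y⁻¹ = g ^ (1 + j) := by
      have h1 : y * a * y⁻¹ = g * a := by rw [← hgdef]; group
      have hzz : y * z ^ e * y⁻¹ = z ^ e := by
        rw [← ((hzcomm y).zpow_left e).eq, mul_inv_cancel_right]
      conv_lhs => rw [hge]
      rw [show y * (a ^ j * z ^ e) * y⁻¹ = (y * a ^ j * y⁻¹) * (y * z ^ e * y⁻¹) by group, hzz,
        ← conj_zpow, h1, hga.mul_zpow, _root_.zpow_add, zpow_one, mul_assoc, ← hge,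
        ← ((Commute.refl g).zpow_left j).eq]
    have hD := commutator_le_zpowers A hAi hy hAgen hgdef (hyg ▸ zpow_mem (mem_zpowers g) _) hga
    have hgD : g ∈ commutator P := hgdef ▸ commutator_mem_commutator (mem_top y) (mem_top a)
    have hDeq : commutator P = zpowers g := le_antisymm hD (zpowers_le.2 hgD)
    have hgord : orderOf g = orderOf a := by
      have h1 := card_mul_index (commutator P)
      rw [h4, hDeq, Nat.card_zpowers, hcardQ, ← habar, ← hord] at h1
      omega
    have hm : 2 ∣ orderOf a := by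
      obtain ⟨i, hi⟩ := IsPGroup.iff_orderOf.mp hP a
      rcases Nat.eq_zero_or_pos i with rfl | hi0
      · rw [pow_zero] at hi
        rw [hi] at hgord
        rw [hDeq, orderOf_eq_one_iff.mp hgord, zpowers_one_eq_bot] at hDne
        exact absurd rfl hDne
      · exact hi ▸ dvd_pow_self 2 hi0.ne'
    -- the involution of `⟨g⟩` lies in `⟨a⟩`
    obtain ⟨i, hi⟩ : z ∈ zpowers g := hDeq ▸ hzD
    have hi' : g ^ i = z := hi
    have hi2 : (orderOf g : ℤ) ∣ i * 2 := by
      rw [orderOf_dvd_iff_zpow_eq_one, zpow_mul, hi', zpow_two, ← pow_two, ← hz, pow_orderOf_eq_one]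
    obtain ⟨c, hc⟩ := hm
    rw [hgord, hc] at hi2
    have hci : (c : ℤ) ∣ i := by
      rw [mul_comm i 2] at hi2; push_cast at hi2
      exact Int.dvd_of_mul_dvd_mul_left two_ne_zero hi2
    obtain ⟨d, hd⟩ := hci
    refine hza ⟨j * i, ?_⟩
    show a ^ (j * i) = z
    rw [← hi', hge, ((hzcomm (a ^ j)).symm.zpow_right e).mul_zpow, ← zpow_mul, ← zpow_mul]
    have hodd : (2 : ℤ) ∣ i := by
      by_cases h : (2 : ℤ) ∣ i
      · exact h
      · exfalso
        -- `c = 1`, so `orderOf a = 2`
        have hac : orderOf a = 4 * (c / 2) ∨ c % 2 = 1 := by omega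
        rcases hac with hac | hac
        · exact h (hd ▸ dvd_mul_of_dvd_left (by omega) d)
        · have : c = 1 := by
            obtain ⟨r, hr⟩ := IsPGroup.iff_orderOf.mp hP a
            rw [hc] at hr
            rcases r with _ | _ | r
            · simp at hr
            · simp at hr; omega
            · exfalso
              have : 2 * c = 4 * 2 ^ r := by rw [hr]; ring
              omega
          have hQ : Nat.card (P ⧸ zpowers z) = 4 := by rw [← habar, ← hord, hc, this]
          refine h8 (Nat.pow_right_injective (le_refl 2) (show 2 ^ k = 2 ^ 3 from ?_))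
          rw [← hk, hcardQ, hQ]
    obtain ⟨i2, hi2'⟩ := hodd
    rw [show e * i = 2 * (e * i2) by rw [hi2']; ring, zpow_mul z, zpow_two, ← pow_two, ← hz,
      pow_orderOf_eq_one, one_zpow, mul_one]

theorem exists_cyclic_index_two {P : Type u} [Group P] [Finite P] (hP : IsPGroup 2 P)
    (hna : ¬ IsMulCommutative P) (h4 : (commutator P).index = 4) :
    ∃ a : P, 2 * orderOf a = Nat.card P :=
  exists_cyclic_index_two_aux (Nat.card P) P le_rfl hP hna h4

theorem exists_mcData {P : Type u} [Group P] [Finite P] (hP : IsPGroup 2 P)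
    (hna : ¬ IsMulCommutative P) (h4 : (commutator P).index = 4) : Nonempty (MCData P) := by
  obtain ⟨a, ha⟩ := exists_cyclic_index_two hP hna h4
  obtain ⟨m, hm⟩ := IsPGroup.iff_orderOf.mp hP a
  have hm2 : 2 ≤ m := by
    by_contra h
    refine hna ?_
    obtain rfl | rfl : m = 0 ∨ m = 1 := by omega
    · haveI : IsCyclic P := isCyclic_of_prime_card (p := 2) (hp := ⟨Nat.prime_two⟩)
        (by rw [← ha, hm]; norm_num)
      exact IsCyclic.isMulCommutative
    · haveI : Fact (Nat.Prime 2) := ⟨Nat.prime_two⟩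
      exact IsPGroup.isMulCommutative_of_card_eq_prime_sq (p := 2) (by rw [← ha, hm]; norm_num)
  obtain ⟨q, rfl⟩ : ∃ q, m = q + 2 := ⟨m - 2, by omega⟩
  haveI hAn : (zpowers a).Normal := normal_of_index_eq_two (index_zpowers ha)
  obtain ⟨y, hy⟩ : ∃ y, y ∉ zpowers a := by
    by_contra h
    push Not at h
    have hi := index_zpowers ha
    rw [(eq_top_iff' (zpowers a)).2 h, index_top] at hi
    exact absurd hi (by norm_num)
  obtain ⟨r, hr⟩ := hAn.conj_mem a (mem_zpowers a) y
  have hr' : y * a * y⁻¹ = a ^ r := hr.symm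
  have hN : (orderOf a : ℤ) = 2 ^ q * 4 := by rw [hm, pow_add]; push_cast; ring
  have hg : y * a * y⁻¹ * a⁻¹ = a ^ (r - 1) := by rw [hr', zpow_sub_one]
  have hgg : y * a ^ (r - 1) * y⁻¹ ∈ zpowers (a ^ (r - 1)) := by
    refine ⟨r, ?_⟩
    show (a ^ (r - 1)) ^ r = y * a ^ (r - 1) * y⁻¹
    rw [← conj_zpow, hr', ← zpow_mul, ← zpow_mul, mul_comm]
  have hD := commutator_le_zpowers (zpowers a) (index_zpowers ha) hy le_sup_left hg hgg
    ((Commute.refl a).zpow_left _)
  have hgD : a ^ (r - 1) ∈ commutator P := hg ▸ commutator_mem_commutator (mem_top y) (mem_top a)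
  have hord : orderOf (a ^ (r - 1)) = 2 ^ q * 2 := by
    have h1 := card_mul_index (commutator P)
    rw [h4, le_antisymm hD (zpowers_le.2 hgD), Nat.card_zpowers, ← ha, hm, pow_add] at h1
    omega
  have h2r : (2 : ℤ) ∣ r - 1 := by
    have : ((2 : ℤ) ^ q * 4) ∣ (r - 1) * ((2 ^ q * 2 : ℕ) : ℤ) := by
      rw [← hN, orderOf_dvd_iff_zpow_eq_one, zpow_mul, zpow_natCast, ← hord, pow_orderOf_eq_one]
    push_cast at this
    rw [show (2 : ℤ) ^ q * 4 = 2 * (2 ^ q * 2) by ring] at this
    exact Int.dvd_of_mul_dvd_mul_right (mul_ne_zero (pow_ne_zero _ two_ne_zero) two_ne_zero) this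
  have h4r : ¬ (4 : ℤ) ∣ r - 1 := by
    rintro ⟨c, hc⟩
    have : orderOf (a ^ (r - 1)) ∣ 2 ^ q := by
      refine orderOf_dvd_of_pow_eq_one ?_
      rw [← zpow_natCast, ← zpow_mul, ← orderOf_dvd_iff_zpow_eq_one, hN, hc]
      push_cast
      exact ⟨c, by ring⟩
    rw [hord] at this
    have := Nat.le_of_dvd (by positivity) this
    have : 0 < 2 ^ q := by positivity
    omega
  have hyy : y * y ∈ zpowers a := mul_self_mem_of_index_two (index_zpowers ha) y
  have hr2 : ((2 : ℤ) ^ q * 4) ∣ r * r - 1 := by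
    obtain ⟨i, hi⟩ := hyy
    rw [← hN, orderOf_dvd_sub_iff_zpow_eq_zpow, zpow_one, zpow_mul, ← hr', conj_zpow, ← hr',
      show y * (y * a * y⁻¹) * y⁻¹ = (y * y) * a * (y * y)⁻¹ by group, ← hi]
    show a ^ i * a * (a ^ i)⁻¹ = a
    rw [((Commute.refl a).zpow_left i).eq, mul_inv_cancel_right]
  obtain ⟨k, hk⟩ : ∃ k : ℤ, r = 4 * k + 3 := ⟨r / 4, by omega⟩
  have hdvd : (2 : ℤ) ^ q * 2 ∣ r + 1 := by
    obtain ⟨l, hl⟩ := hr2
    have h1 : (2 : ℤ) ^ q * 2 * 2 ∣ (4 * (k + 1)) * (2 * k + 1) * 2 :=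
      ⟨l, by rw [show 4 * (k + 1) * (2 * k + 1) * 2 = r * r - 1 by rw [hk]; ring, hl]; ring⟩
    have h2 := Int.dvd_of_mul_dvd_mul_right two_ne_zero h1
    have hcop : IsCoprime ((2 : ℤ) ^ q * 2) (2 * k + 1) := by
      rw [← pow_succ]
      exact IsCoprime.pow_left ⟨-k, 1, by ring⟩
    rw [show r + 1 = 4 * (k + 1) by omega]
    exact hcop.dvd_of_dvd_mul_right h2
  -- `y ^ 2` is `1` or the involution of `⟨a⟩`
  have hy2 : y * y = 1 ∨ y * y = a ^ 2 ^ (q + 1) := by
    obtain ⟨i, hi⟩ := hyy
    have hi' : a ^ i = y * y := hi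
    have h1 : ((2 : ℤ) ^ q * 4) ∣ i * (r - 1) := by
      rw [← hN, mul_sub_one, orderOf_dvd_sub_iff_zpow_eq_zpow, mul_comm, zpow_mul, ← hr', conj_zpow, hi']
      group
    obtain ⟨t, ht⟩ : ∃ t : ℤ, r - 1 = 2 * (2 * t + 1) := ⟨k, by omega⟩
    rw [ht, show (2 : ℤ) ^ q * 4 = 2 ^ q * 2 * 2 by ring,
      show i * (2 * (2 * t + 1)) = i * (2 * t + 1) * 2 by ring] at h1
    have hcop : IsCoprime ((2 : ℤ) ^ q * 2) (2 * t + 1) := by
      rw [← pow_succ]
      exact IsCoprime.pow_left ⟨-t, 1, by ring⟩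
    obtain ⟨c, hc⟩ := hcop.dvd_of_dvd_mul_right (Int.dvd_of_mul_dvd_mul_right two_ne_zero h1)
    rw [← hi', hc]
    rcases Int.even_or_odd' c with ⟨d, rfl | rfl⟩
    · left
      rw [← orderOf_dvd_iff_zpow_eq_one, hN]
      exact ⟨d, by ring⟩
    · right
      rw [← zpow_natCast a, ← orderOf_dvd_sub_iff_zpow_eq_zpow, hN]
      push_cast
      exact ⟨d, by ring⟩
  have hcard : Nat.card P = 2 ^ (q + 2 + 1) := by rw [← ha, hm]; ring
  obtain ⟨c, hc⟩ := hdvd
  rcases Int.even_or_odd' c with ⟨d, rfl | rfl⟩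
  · have hinv : y * a * y⁻¹ = a⁻¹ := by
      rw [hr', ← zpow_neg_one, ← orderOf_dvd_sub_iff_zpow_eq_zpow, hN]
      exact ⟨d, by rw [sub_neg_eq_add, hc]; ring⟩
    rcases hy2 with h | h
    · exact ⟨⟨q + 2, hm2, a, y, hcard, hm, hy, Or.inl ⟨h, hinv⟩⟩⟩
    · exact ⟨⟨q + 2, hm2, a, y, hcard, hm, hy, Or.inr (Or.inl ⟨h, hinv⟩)⟩⟩
  · have hq1 : 1 ≤ q := by
      by_contra hq
      obtain rfl : q = 0 := by omega
      simp only [pow_zero, one_mul] at hc
      omega
    have hrel : y * a * y⁻¹ = a ^ (2 ^ (q + 1) - 1) := by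
      rw [hr', ← zpow_natCast a, ← orderOf_dvd_sub_iff_zpow_eq_zpow, hN, Nat.cast_sub Nat.one_le_two_pow]
      push_cast
      exact ⟨d, by rw [show r = 2 ^ q * 2 * (2 * d + 1) - 1 by omega]; ring⟩
    rcases hy2 with h | h
    · exact ⟨⟨q + 2, hm2, a, y, hcard, hm, hy, Or.inr (Or.inr ⟨by omega, h, hrel⟩)⟩⟩
    · have hpos : 2 ^ (q + 1) - 1 + 1 = 2 ^ (q + 1) := Nat.sub_add_cancel Nat.one_le_two_pow
      refine ⟨⟨q + 2, hm2, a, y * a, hcard, hm, ?_, Or.inr (Or.inr ⟨by omega, ?_, ?_⟩)⟩⟩
      · exact fun hya => hy (by simpa using mul_mem hya (inv_mem (mem_zpowers a)))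
      · calc y * a * (y * a) = (y * a * y⁻¹) * (y * y) * a := by group
          _ = a ^ (2 ^ (q + 1) - 1) * a ^ 2 ^ (q + 1) * a := by rw [hrel, h]
          _ = a ^ (2 * 2 ^ (q + 1)) := by
              rw [← pow_add, ← pow_succ]; congr 1; omega
          _ = 1 := by rw [← pow_succ', ← hm, pow_orderOf_eq_one]
      · rw [show y * a * a * (y * a)⁻¹ = y * a * y⁻¹ by group]
        exact hrel

/-- The isomorphism type. -/
theorem iso_cases {P : Type u} [Group P] [Finite P] (D : MCData P) :
    Nonempty (P ≃* DihedralGroup (2 ^ D.m)) ∨ Nonempty (P ≃* QuaternionGroup (2 ^ (D.m - 1))) ∨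
      Cfsg.IsQuasiDihedral P := by
  have htop : closure ({D.y, D.a} : Set P) = ⊤ := by
    have hi : (zpowers D.a).index = 2 := index_zpowers (by rw [D.orda, D.card]; ring)
    rw [eq_top_iff]
    intro x _
    have hle : zpowers D.a ≤ closure ({D.y, D.a} : Set P) := zpowers_le.2 (subset_closure (by simp))
    by_cases hx : x ∈ zpowers D.a
    · exact hle hx
    · have h2 : x * D.y⁻¹ ∈ zpowers D.a :=
        (mul_mem_iff_of_index_two hi).2 (iff_of_false hx fun h => D.hy (by simpa using inv_mem h))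
      have := mul_mem (hle h2) (subset_closure (show D.y ∈ ({D.y, D.a} : Set P) by simp))
      simpa using this
  rcases D.shape with ⟨h, hi⟩ | ⟨h, hi⟩ | ⟨hm, h, hi⟩
  · obtain ⟨e⟩ := nonempty_dihedralEquiv h hi D.hy
    exact Or.inl (D.orda ▸ ⟨((e.trans (MulEquiv.subgroupCongr htop)).trans topEquiv).symm⟩)
  · have hm := D.two_le
    obtain ⟨e⟩ := nonempty_quaternionEquiv hi (2 ^ (D.m - 1))
      (by rw [D.orda, ← pow_succ']; congr 1; omega) h D.hy
    exact Or.inr (Or.inl ⟨((e.trans (MulEquiv.subgroupCongr htop)).trans topEquiv).symm⟩)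
  · refine Or.inr (Or.inr ⟨D.m, hm, D.card, D.a, D.y, D.orda, ?_, hi⟩)
    exact orderOf_two_of_mul_self h fun h1 => D.hy (h1 ▸ one_mem _)

end Cfsg.Agent.Invol.MaxClassTwo
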