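import Cfsg.Agent.Lib.Invol.Basic
import Cfsg.Agent.Lib.Transfer.Residual

/-!
# Transfer of a single element, and control of fusion of p-elements
-/

namespace Cfsg.Agent.Invol

variable {G : Type*} [Group G] [Finite G]

/-- The transfer of `x ∈ H` is a power of its image when `ϕ` does not separate the powers of `x`
from their conjugates lying in `H`. -/
theorem transfer_eq_pow_of_powers {A : Type*} [CommGroup A] {H : Subgroup G} (ϕ : H →* A) (x : H)
    (hinv : ∀ (g : G) (k : ℕ) (hc : g⁻¹ * (x : G) ^ k * g ∈ H),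
      ϕ ⟨g⁻¹ * (x : G) ^ k * g, hc⟩ = ϕ (x ^ k)) :
    MonoidHom.transfer ϕ (x : G) = ϕ x ^ H.index := by
  classical
  have : Fintype (Quotient (MulAction.orbitRel (Subgroup.zpowers (x : G)) (G ⧸ H))) :=
    Fintype.ofFinite _
  rw [MonoidHom.transfer_eq_prod_quotient_orbitRel_zpowers_quot, Subgroup.index_eq_sum_minimalPeriod H x,
    ← Finset.prod_pow_eq_pow_sum]
  refine Finset.prod_congr rfl fun q _ => ?_
  rw [← map_pow]
  exact hinv q.out.out (Function.minimalPeriod ((x : G) • ·) q.out) _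

open scoped IsMulCommutative in
theorem control_inf_le {p : ℕ} [Fact p.Prime] (H : Subgroup G) (hidx : Nat.Coprime p H.index)
    (hfus : ∀ g ∈ H, (∃ k : ℕ, orderOf g = p ^ k) → ∀ a : G, a * g * a⁻¹ ∈ H →
      ∃ h ∈ H, h * g * h⁻¹ = a * g * a⁻¹) :
    (Cfsg.pResidual p G ⊔ commutator G) ⊓ H ≤
      (Cfsg.pResidual p ↥H ⊔ commutator ↥H).map H.subtype := by
  set K := Cfsg.pResidual p ↥H ⊔ commutator ↥H with hK
  haveI : K.Normal := Subgroup.sup_normal _ _
  haveI hcomm : IsMulCommutative (H ⧸ K) :=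
    Subgroup.Normal.quotient_commutative_iff_commutator_le.mpr le_sup_right
  have hA : IsPGroup p (H ⧸ K) := Transfer.isPGroup_quotient_of_pResidual_le K le_sup_left
  let φ : H →* H ⧸ K := QuotientGroup.mk' K
  let τ : G →* H ⧸ K := MonoidHom.transfer φ
  have hker : Cfsg.pResidual p G ⊔ commutator G ≤ τ.ker :=
    sup_le (Transfer.pResidual_le_ker τ hA) (Abelianization.commutator_subset_ker τ)
  rintro g ⟨hgR, hgH⟩
  obtain ⟨a, b, ha, hb, hab, ⟨ka, hka⟩, hbc⟩ := Transfer.exists_pPart_mul (p := p) (⟨g, hgH⟩ : H)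
  have hbK : φ b = 1 :=
    (QuotientGroup.eq_one_iff b).2 (Subgroup.mem_sup_left (Transfer.mem_pResidual_of_coprime hbc))
  have hbR : (b : G) ∈ Cfsg.pResidual p G :=
    Transfer.mem_pResidual_of_coprime (by rwa [Subgroup.orderOf_coe])
  have haR : (a : G) ∈ Cfsg.pResidual p G ⊔ commutator G := by
    have h1 : g = (a : G) * (b : G) := congrArg Subtype.val hab.symm
    rw [h1] at hgR
    exact (Subgroup.mul_mem_cancel_right _ (Subgroup.mem_sup_left hbR)).1 hgR
  obtain ⟨i, -, hi⟩ := (Nat.dvd_prime_pow (Fact.out : p.Prime)).1 hka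
  have hτ : τ (a : G) = φ a ^ H.index := by
    refine transfer_eq_pow_of_powers φ a fun c k hc => ?_
    have hpow : ∃ j : ℕ, orderOf ((a : G) ^ k) = p ^ j := by
      obtain ⟨j, -, hj⟩ := (Nat.dvd_prime_pow (Fact.out : p.Prime)).1
        ((orderOf_pow_dvd k).trans (dvd_of_eq ((Subgroup.orderOf_coe a).trans hi)))
      exact ⟨j, hj⟩
    obtain ⟨h, hh, heq⟩ := hfus _ (H.pow_mem a.2 k) hpow c⁻¹ (by rwa [inv_inv])
    rw [inv_inv] at heq
    have e : (⟨c⁻¹ * (a : G) ^ k * c, hc⟩ : H) = ⟨h, hh⟩ * a ^ k * ⟨h, hh⟩⁻¹ :=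
      Subtype.ext (by simpa using heq.symm)
    rw [e, map_mul, map_mul, mul_comm (φ ⟨h, hh⟩), mul_assoc, ← map_mul, mul_inv_cancel, map_one,
      mul_one]
  rw [MonoidHom.mem_ker.1 (hker haR)] at hτ
  obtain ⟨j, hj⟩ := IsPGroup.iff_card.1 hA
  have h1 : φ a = 1 := orderOf_eq_one_iff.1 (Nat.eq_one_of_dvd_coprimes
    (hj ▸ Nat.Coprime.pow_left j hidx) (orderOf_dvd_natCard _) (orderOf_dvd_of_pow_eq_one hτ.symm))
  exact ⟨⟨g, hgH⟩, (QuotientGroup.eq_one_iff _).1 (show φ ⟨g, hgH⟩ = 1 by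
    rw [← hab, map_mul, h1, hbK, one_mul]), rfl⟩

theorem control_inf_eq {p : ℕ} [Fact p.Prime] (H : Subgroup G) (hidx : Nat.Coprime p H.index)
    (hfus : ∀ g ∈ H, (∃ k : ℕ, orderOf g = p ^ k) → ∀ a : G, a * g * a⁻¹ ∈ H →
      ∃ h ∈ H, h * g * h⁻¹ = a * g * a⁻¹) :
    (Cfsg.pResidual p G ⊔ commutator G) ⊓ H =
      (Cfsg.pResidual p ↥H ⊔ commutator ↥H).map H.subtype := by
  refine le_antisymm (control_inf_le H hidx hfus) (le_inf ?_ (Subgroup.map_subtype_le _))
  rw [Subgroup.map_sup]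
  refine sup_le_sup (Transfer.map_pResidual_le _) ?_
  rw [Subgroup.map_subtype_commutator]
  exact Subgroup.commutator_mono le_top le_top

end Cfsg.Agent.Invol
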