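import Cfsg.Agent.Lib.Invol.Dihedral
import Cfsg.Agent.Lib.Invol.Quaternion
import Cfsg.Prelude.Def_CaseTheorems

/-!
# Quasi-dihedral 2-groups: normal form, centralisers, special subgroups

Order `8 m`, `m = 2 ^ (n - 2)`, generated by `x` of order `4 m` and an involution `y` with
`y x y⁻¹ = x ^ (2 m - 1)`.
-/

namespace Cfsg.Agent.Invol

/-- The defining data of a quasi-dihedral group. -/
structure QDData (S : Type*) [Group S] where
  n : ℕ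
  m : ℕ
  x : S
  y : S
  three_le : 3 ≤ n
  m_eq : m = 2 ^ (n - 2)
  card_eq : Nat.card S = 8 * m
  ordx : orderOf x = 4 * m
  ordy : orderOf y = 2
  rel : y * x * y⁻¹ = x ^ (2 * (m : ℤ) - 1)

variable {S : Type*} [Group S]

theorem qd_exists (h : IsQuasiDihedral S) : Nonempty (QDData S) := by
  obtain ⟨n, hn, hc, x, y, hx, hy, hr⟩ := h
  obtain ⟨r, rfl⟩ := Nat.exists_eq_add_of_le hn
  refine ⟨⟨3 + r, 2 ^ (3 + r - 2), x, y, hn, rfl, ?_, ?_, hy, ?_⟩⟩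
  · rw [hc, show 3 + r - 2 = r + 1 by omega, show 3 + r + 1 = (r + 1) + 3 by omega, pow_add]; ring
  · rw [hx, show 3 + r - 2 = r + 1 by omega, show 3 + r = (r + 1) + 2 by omega, pow_add]; ring
  · rw [hr, ← zpow_natCast, show 3 + r - 2 = r + 1 by omega, show 3 + r - 1 = (r + 1) + 1 by omega]
    congr 1
    rw [Nat.cast_sub (Nat.one_le_two_pow)]
    push_cast; ring

namespace QDData

variable (D : QDData S)

theorem m_even : 2 ∣ (D.m : ℤ) := by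
  have h := D.three_le
  rw [D.m_eq, show D.n - 2 = (D.n - 3) + 1 by omega, pow_succ]
  push_cast
  exact ⟨2 ^ (D.n - 3), by ring⟩

theorem m_pos : 0 < (D.m : ℤ) := by rw [D.m_eq]; positivity

theorem zpow_eq_iff (a b : ℤ) : D.x ^ a = D.x ^ b ↔ (4 * (D.m : ℤ)) ∣ a - b := by
  rw [← orderOf_dvd_sub_iff_zpow_eq_zpow, D.ordx]
  push_cast
  rfl

theorem zpow_eq_one_iff (a : ℤ) : D.x ^ a = 1 ↔ (4 * (D.m : ℤ)) ∣ a := by
  simpa using D.zpow_eq_iff a 0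

theorem conj_y_zpow (i : ℤ) : D.y * D.x ^ i * D.y⁻¹ = D.x ^ ((2 * (D.m : ℤ) - 1) * i) := by
  rw [← conj_zpow, D.rel, zpow_mul]

theorem y_mul_zpow (i : ℤ) : D.y * D.x ^ i = D.x ^ ((2 * (D.m : ℤ) - 1) * i) * D.y :=
  mul_inv_eq_iff_eq_mul.1 (D.conj_y_zpow i)

theorem y_inv : D.y⁻¹ = D.y := inv_of_orderOf_two D.ordy

theorem y_not_mem : D.y ∉ Subgroup.zpowers D.x := by
  intro h
  obtain ⟨i, hi⟩ := Subgroup.mem_zpowers_iff.1 h
  have h1 := D.rel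
  rw [← hi] at h1
  have h2 : D.x ^ (1 : ℤ) = D.x ^ (2 * (D.m : ℤ) - 1) := by
    rw [← h1, zpow_one]; group
  rw [D.zpow_eq_iff] at h2
  obtain ⟨c, hc⟩ := h2
  obtain ⟨m', hm'⟩ := D.m_even
  have := D.m_pos
  have h4 : (4 : ℤ) ∣ 2 := ⟨D.m * c + m', by rw [hm'] at hc ⊢; linarith⟩
  omega

theorem zpowers_index : (Subgroup.zpowers D.x).index = 2 := by
  have h := (Subgroup.zpowers D.x).card_mul_index
  rw [Nat.card_zpowers, D.ordx, D.card_eq] at h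
  have := D.m_pos
  refine Nat.eq_of_mul_eq_mul_left (show 0 < 4 * D.m by omega) ?_
  rw [h]; ring

theorem repr_cases (g : S) : ∃ i : ℤ, g = D.x ^ i ∨ g = D.x ^ i * D.y := by
  by_cases h : g ∈ Subgroup.zpowers D.x
  · obtain ⟨i, hi⟩ := Subgroup.mem_zpowers_iff.1 h
    exact ⟨i, Or.inl hi.symm⟩
  · have : g * D.y⁻¹ ∈ Subgroup.zpowers D.x := by
      rw [Subgroup.mul_mem_iff_of_index_two D.zpowers_index, inv_mem_iff]
      simp [h, D.y_not_mem]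
    obtain ⟨i, hi⟩ := Subgroup.mem_zpowers_iff.1 this
    exact ⟨i, Or.inr (by rw [hi, inv_mul_cancel_right])⟩

theorem zpow_ne_mul_y (i j : ℤ) : D.x ^ i ≠ D.x ^ j * D.y := fun h =>
  D.y_not_mem (Subgroup.mem_zpowers_iff.2 ⟨-j + i, by rw [zpow_add, h]; group⟩)

theorem mul_y_eq_iff (i j : ℤ) :
    D.x ^ i * D.y = D.x ^ j * D.y ↔ (4 * (D.m : ℤ)) ∣ i - j := by
  rw [mul_left_inj, D.zpow_eq_iff]

theorem mul_zpow_y (i j : ℤ) :
    D.x ^ j * (D.x ^ i * D.y) * (D.x ^ j)⁻¹ = D.x ^ (i + 2 * (1 - (D.m : ℤ)) * j) * D.y := by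
  calc D.x ^ j * (D.x ^ i * D.y) * (D.x ^ j)⁻¹ = D.x ^ j * D.x ^ i * (D.y * D.x ^ (-j)) := by group
    _ = _ := by
      rw [D.y_mul_zpow, ← mul_assoc, ← zpow_add, ← zpow_add]
      congr 2; ring

theorem conj_y_mul_y (i : ℤ) :
    D.y * (D.x ^ i * D.y) * D.y⁻¹ = D.x ^ ((2 * (D.m : ℤ) - 1) * i) * D.y := by
  rw [← mul_assoc, mul_inv_cancel_right, D.y_mul_zpow]

theorem sq_mul_y (i : ℤ) :
    (D.x ^ i * D.y) * (D.x ^ i * D.y) = D.x ^ (2 * (D.m : ℤ) * i) := by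
  rw [mul_assoc, ← mul_assoc D.y, D.y_mul_zpow, mul_assoc, mul_self_of_orderOf_two D.ordy, mul_one,
    ← zpow_add]
  congr 1; ring

theorem sq_mul_y_eq_one_iff (i : ℤ) :
    (D.x ^ i * D.y) * (D.x ^ i * D.y) = 1 ↔ 2 ∣ i := by
  rw [D.sq_mul_y, D.zpow_eq_one_iff,
    show 4 * (D.m : ℤ) = 2 * D.m * 2 by ring, Int.mul_dvd_mul_iff_left (by have := D.m_pos; omega)]

theorem sq_mul_y_odd {i : ℤ} (hi : ¬ 2 ∣ i) :
    (D.x ^ i * D.y) * (D.x ^ i * D.y) = D.x ^ (2 * (D.m : ℤ)) := by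
  rw [D.sq_mul_y, D.zpow_eq_iff]
  obtain ⟨t, rfl⟩ : ∃ t, i = 2 * t + 1 := ⟨(i - 1) / 2, by omega⟩
  exact ⟨t, by ring⟩

theorem ne_one_mul_y (i : ℤ) : D.x ^ i * D.y ≠ 1 := fun h =>
  D.zpow_ne_mul_y 0 i (by rw [h, zpow_zero])

theorem orderOf_z : orderOf (D.x ^ (2 * (D.m : ℤ))) = 2 := by
  refine orderOf_two_of_mul_self ?_ ?_
  · rw [← zpow_add, D.zpow_eq_one_iff]; exact ⟨1, by ring⟩
  · rw [Ne, D.zpow_eq_one_iff]
    intro h
    have := Int.le_of_dvd (by have := D.m_pos; omega) h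
    have := D.m_pos
    omega

theorem orderOf_mul_y_even {i : ℤ} (hi : 2 ∣ i) : orderOf (D.x ^ i * D.y) = 2 :=
  orderOf_two_of_mul_self ((D.sq_mul_y_eq_one_iff i).2 hi) (D.ne_one_mul_y i)

theorem orderOf_mul_y_odd {i : ℤ} (hi : ¬ 2 ∣ i) : orderOf (D.x ^ i * D.y) = 4 := by
  haveI : Fact (Nat.Prime 2) := ⟨Nat.prime_two⟩
  refine orderOf_eq_prime_pow (p := 2) (n := 1) ?_ ?_
  · rw [pow_one, sq, D.sq_mul_y_eq_one_iff]; exact hi
  · rw [show (2 : ℕ) ^ (1 + 1) = 2 * 2 by norm_num, pow_mul, sq, sq, D.sq_mul_y_odd hi, ← sq,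
      ← D.orderOf_z, pow_orderOf_eq_one]

theorem sq_eq_one_cases {g : S} (hg : g * g = 1) :
    (∃ i : ℤ, g = D.x ^ i ∧ 2 * (D.m : ℤ) ∣ i) ∨ ∃ i : ℤ, g = D.x ^ i * D.y ∧ 2 ∣ i := by
  obtain ⟨i, rfl | rfl⟩ := D.repr_cases g
  · left
    rw [← zpow_add, D.zpow_eq_one_iff, ← two_mul,
      show 4 * (D.m : ℤ) = 2 * (2 * D.m) by ring, Int.mul_dvd_mul_iff_left (by norm_num)] at hg
    exact ⟨i, rfl, hg⟩
  · exact Or.inr ⟨i, rfl, (D.sq_mul_y_eq_one_iff i).1 hg⟩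

theorem z_cases {i : ℤ} (hi : 2 * (D.m : ℤ) ∣ i) :
    D.x ^ i = 1 ∨ D.x ^ i = D.x ^ (2 * (D.m : ℤ)) := by
  obtain ⟨c, rfl⟩ := hi
  rcases Int.even_or_odd c with ⟨e, rfl⟩ | ⟨e, rfl⟩
  · left; rw [D.zpow_eq_one_iff]; exact ⟨e, by ring⟩
  · right; rw [D.zpow_eq_iff]; exact ⟨e, by ring⟩

/-- A dihedral-type fact: `2 (1 - m)` acts invertibly modulo `2 m`. -/
theorem dvd_shift_iff (j : ℤ) (k : ℤ) (hk : k ∣ 2 * (D.m : ℤ)) :
    2 * k ∣ 2 * (1 - (D.m : ℤ)) * j ↔ k ∣ j := by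
  rw [mul_assoc, Int.mul_dvd_mul_iff_left (by norm_num : (2 : ℤ) ≠ 0)]
  refine ⟨fun h => ?_, fun h => h.mul_left _⟩
  have hcop : IsCoprime (1 - (D.m : ℤ)) (2 * (D.m : ℤ)) := by
    obtain ⟨m', hm'⟩ := D.m_even
    refine ⟨1 + (D.m : ℤ), m', ?_⟩
    rw [hm']; ring
  exact (IsCoprime.of_isCoprime_of_dvd_right hcop hk).symm.dvd_of_dvd_mul_left h

theorem commute_zpow_mul_y_iff (i j : ℤ) :
    Commute (D.x ^ j) (D.x ^ i * D.y) ↔ 2 * (D.m : ℤ) ∣ j := by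
  rw [← D.dvd_shift_iff j (2 * (D.m : ℤ)) dvd_rfl]
  have e : Commute (D.x ^ j) (D.x ^ i * D.y) ↔
      D.x ^ j * (D.x ^ i * D.y) * (D.x ^ j)⁻¹ = D.x ^ i * D.y :=
    (mul_inv_eq_iff_eq_mul).symm
  rw [e, D.mul_zpow_y, D.mul_y_eq_iff, show 4 * (D.m : ℤ) = 2 * (2 * D.m) by ring]
  constructor <;> intro h <;> convert h using 1 <;> ring

/-- The centraliser of an element outside `⟨x⟩` has the four elements `1, z, g, g z`. -/
theorem commute_mul_y_cases {i : ℤ} {g : S} (hg : Commute g (D.x ^ i * D.y)) :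
    g = 1 ∨ g = D.x ^ (2 * (D.m : ℤ)) ∨ g = D.x ^ i * D.y ∨
      g = D.x ^ (2 * (D.m : ℤ)) * (D.x ^ i * D.y) := by
  obtain ⟨j, rfl | rfl⟩ := D.repr_cases g
  · rw [D.commute_zpow_mul_y_iff] at hg
    rcases D.z_cases hg with h | h
    · exact Or.inl h
    · exact Or.inr (Or.inl h)
  · have hc : Commute (D.x ^ (j - i)) (D.x ^ i * D.y) := by
      have h' := hg.mul_left (Commute.refl (D.x ^ i * D.y)).inv_left
      have e : D.x ^ j * D.y * (D.x ^ i * D.y)⁻¹ = D.x ^ (j - i) := by group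
      rwa [e] at h'
    rw [D.commute_zpow_mul_y_iff] at hc
    have e : D.x ^ j * D.y = D.x ^ (j - i) * (D.x ^ i * D.y) := by
      rw [← mul_assoc, ← zpow_add, sub_add_cancel]
    rcases D.z_cases hc with h | h <;> rw [e, h]
    · exact Or.inr (Or.inr (Or.inl (one_mul _)))
    · exact Or.inr (Or.inr (Or.inr rfl))

theorem z_central (g : S) : Commute (D.x ^ (2 * (D.m : ℤ))) g := by
  obtain ⟨i, rfl | rfl⟩ := D.repr_cases g
  · exact Commute.zpow_zpow_self D.x _ _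
  · exact (D.commute_zpow_mul_y_iff i _).2 dvd_rfl

theorem z_mem_center : D.x ^ (2 * (D.m : ℤ)) ∈ Subgroup.center S :=
  Subgroup.mem_center_iff.2 fun g => (D.z_central g).symm.eq

theorem center_eq : Subgroup.center S = Subgroup.zpowers (D.x ^ (2 * (D.m : ℤ))) := by
  refine le_antisymm (fun g hg => ?_) (Subgroup.zpowers_le.2 D.z_mem_center)
  rw [Subgroup.mem_center_iff] at hg
  have h0 : Commute g (D.x ^ (0 : ℤ) * D.y) := (hg _).symm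
  rcases D.commute_mul_y_cases h0 with h | h | h | h
  · exact h ▸ one_mem _
  · exact h ▸ Subgroup.mem_zpowers _
  · exfalso
    have h1 : Commute (D.x ^ (1 : ℤ)) (D.x ^ (0 : ℤ) * D.y) := h ▸ hg _
    rw [D.commute_zpow_mul_y_iff] at h1
    have := Int.le_of_dvd one_pos h1
    have := D.m_pos
    omega
  · exfalso
    rw [← mul_assoc, ← zpow_add] at h
    have h1 : Commute (D.x ^ (1 : ℤ)) (D.x ^ (2 * (D.m : ℤ) + 0) * D.y) := h ▸ hg _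
    rw [D.commute_zpow_mul_y_iff] at h1
    have := Int.le_of_dvd one_pos h1
    have := D.m_pos
    omega

include D in
theorem card_center : Nat.card (Subgroup.center S) = 2 := by
  rw [D.center_eq, Nat.card_zpowers, D.orderOf_z]

/-- Any element outside `⟨x⟩` has in its class exactly the elements of the same parity. -/
theorem isConj_mul_y (i i' : ℤ) (h : 2 ∣ i - i') : IsConj (D.x ^ i * D.y) (D.x ^ i' * D.y) := by
  obtain ⟨t, ht⟩ := h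
  obtain ⟨m', hm'⟩ := D.m_even
  -- the inverse of `1 - m` modulo `2 m` is `1 + m`
  refine isConj_iff.2 ⟨D.x ^ (-(1 + (D.m : ℤ)) * t), ?_⟩
  rw [D.mul_zpow_y, D.mul_y_eq_iff]
  refine ⟨t * m', ?_⟩
  calc i + 2 * (1 - (D.m : ℤ)) * (-(1 + (D.m : ℤ)) * t) - i'
      = (i - i') - 2 * t + 2 * t * ((D.m : ℤ) * D.m) := by ring
    _ = 4 * (D.m : ℤ) * (t * m') := by rw [ht, hm']; ring

/-- The parity of the exponent is a class invariant outside `⟨x⟩`. -/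
theorem parity_of_isConj {i i' : ℤ} (h : IsConj (D.x ^ i * D.y) (D.x ^ i' * D.y)) :
    2 ∣ i - i' := by
  obtain ⟨m', hm'⟩ := D.m_even
  obtain ⟨g, hg⟩ := isConj_iff.1 h
  obtain ⟨j, rfl | rfl⟩ := D.repr_cases g
  · rw [D.mul_zpow_y, D.mul_y_eq_iff] at hg
    obtain ⟨c, hc⟩ := hg
    exact ⟨(D.m : ℤ) * c * 2 - (1 - (D.m : ℤ)) * j, by linarith⟩
  · rw [show D.x ^ j * D.y * (D.x ^ i * D.y) * (D.x ^ j * D.y)⁻¹ =
      D.x ^ j * (D.y * (D.x ^ i * D.y) * D.y⁻¹) * (D.x ^ j)⁻¹ by group, D.conj_y_mul_y,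
      D.mul_zpow_y, D.mul_y_eq_iff] at hg
    obtain ⟨c, hc⟩ := hg
    exact ⟨(D.m : ℤ) * c * 2 - (1 - (D.m : ℤ)) * j - ((D.m : ℤ) - 1) * i, by linarith⟩

end QDData

end Cfsg.Agent.Invol
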