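import Mathlib
import Cfsg.Prelude.Def_CaseTheorems
import Cfsg.Prelude.Def_Classical
import Cfsg.Agent.Lib.LinearGroups.UnitaryOrder

/-!
Sylow 2-subgroups of `GL_2(q)` and `GU_2(q)`, `q` odd: quasi-dihedral or wreathed.
-/

set_option autoImplicit false

namespace Cfsg.Agent.Invol.SylowGL2

open scoped Matrix MatrixGroups

section general

variable {G : Type*} [Group G]

/-- An involution normalising a finite subgroup and outside it doubles its order. -/
theorem card_sup_involution (B : Subgroup G) (z : G) (hz : orderOf z = 2) (hzB : z ∉ B)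
    (hnorm : ∀ b ∈ B, z * b * z⁻¹ ∈ B) :
    Nat.card ↥(B ⊔ Subgroup.zpowers z) = Nat.card B * 2 := by
  have hz2 : z * z = 1 := by rw [← pow_two, ← hz]; exact pow_orderOf_eq_one z
  have hnz : z ∈ Subgroup.normalizer (B : Set G) := by
    rw [Subgroup.mem_normalizer_iff]
    refine fun b => ⟨hnorm b, fun hb => ?_⟩
    have := hnorm _ hb
    rwa [inv_eq_of_mul_eq_one_right hz2,
      show z * (z * b * z) * z = (z * z) * b * (z * z) by group, hz2, one_mul, mul_one] at this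
  have hle : Subgroup.zpowers z ≤ Subgroup.normalizer (B : Set G) := Subgroup.zpowers_le.2 hnz
  have hdisj : ∀ a ∈ Subgroup.zpowers z, a ∈ B → a = 1 := by
    rintro _ ⟨k, rfl⟩ hk
    rcases Int.even_or_odd k with ⟨j, rfl⟩ | ⟨j, rfl⟩
    · show z ^ (j + j) = 1
      rw [← two_mul, zpow_mul, zpow_two, hz2, one_zpow]
    · refine absurd ?_ hzB
      have hk' : z ^ (2 * j + 1) ∈ B := hk
      rwa [zpow_add_one, zpow_mul, zpow_two, hz2, one_zpow, one_mul] at hk'
  rw [← hz, ← Nat.card_zpowers, ← Nat.card_prod]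
  refine (Nat.card_congr (Equiv.ofBijective
    (fun a : B × Subgroup.zpowers z => (⟨a.1.1 * a.2.1,
      mul_mem (Subgroup.mem_sup_left a.1.2) (Subgroup.mem_sup_right a.2.2)⟩ :
      ↥(B ⊔ Subgroup.zpowers z))) ⟨?_, ?_⟩)).symm
  · rintro ⟨⟨a, ha⟩, ⟨c, hc⟩⟩ ⟨⟨a', ha'⟩, ⟨c', hc'⟩⟩ h
    have h' : a * c = a' * c' := congrArg Subtype.val h
    have : c' * c⁻¹ = a'⁻¹ * a := by
      rw [eq_inv_mul_iff_mul_eq, ← mul_assoc, ← h', mul_assoc, mul_inv_cancel, mul_one]
    have h1 := hdisj _ (mul_mem hc' (inv_mem hc)) (this ▸ mul_mem (inv_mem ha') ha)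
    obtain rfl : c' = c := mul_inv_eq_one.1 h1
    obtain rfl : a = a' := mul_right_cancel h'
    rfl
  · rintro ⟨g, hg⟩
    have hg' : g ∈ (↑(B ⊔ Subgroup.zpowers z) : Set G) := hg
    rw [Subgroup.coe_mul_of_right_le_normalizer_left B (Subgroup.zpowers z) hle] at hg'
    obtain ⟨a, ha, c, hc, rfl⟩ := Set.mem_mul.1 hg'
    exact ⟨⟨⟨a, ha⟩, ⟨c, hc⟩⟩, rfl⟩

variable [Finite G]

/-- A subgroup of the order of the 2-part is isomorphic to every Sylow 2-subgroup. -/
theorem nonempty_equiv_sylow (N : Subgroup G) (k m : ℕ) (hG : Nat.card G = 2 ^ k * m) (hm : Odd m)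
    (hN : Nat.card N = 2 ^ k) (P : Sylow 2 G) : Nonempty (N ≃* (P : Subgroup G)) := by
  have : Fact (Nat.Prime 2) := ⟨Nat.prime_two⟩
  have hm0 : m ≠ 0 := fun h => by simp [h] at hm
  have hfac : (Nat.card G).factorization 2 = k := by
    rw [hG, Nat.factorization_mul_apply_of_coprime, Nat.Prime.factorization_pow Nat.prime_two,
      Nat.factorization_eq_zero_of_not_dvd
        (Nat.not_even_iff_odd.2 hm ∘ even_iff_two_dvd.2)]
    · simp
    · exact Nat.Coprime.pow_left _ (Nat.coprime_two_left.2 hm)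
  exact ⟨(Sylow.ofCard N (by rw [hfac, hN])).equiv P⟩

/-- Criterion for quasi-dihedral Sylow 2-subgroups. -/
theorem isQuasiDihedral_sylow (n m : ℕ) (hn : 3 ≤ n) (hG : Nat.card G = 2 ^ (n + 1) * m)
    (hm : Odd m) (x y : G) (hx : orderOf x = 2 ^ n) (hy : orderOf y = 2)
    (hrel : y * x * y⁻¹ = x ^ (2 ^ (n - 1) - 1)) (P : Sylow 2 G) :
    IsQuasiDihedral (P : Subgroup G) := by
  have hyx : y ∉ Subgroup.zpowers x := by
    rintro ⟨j, rfl⟩
    rw [((Commute.refl x).zpow_left j).eq, mul_inv_cancel_right] at hrel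
    have h1 : 1 % 2 ^ n = (2 ^ (n - 1) - 1) % 2 ^ n := by
      have := pow_eq_pow_iff_modEq.1 ((pow_one x).trans hrel)
      rwa [hx] at this
    have h4 : 4 ≤ 2 ^ (n - 1) :=
      le_trans (by norm_num) (Nat.pow_le_pow_right (show 0 < 2 by norm_num) (show 2 ≤ n - 1 by omega))
    have hle : 2 ^ (n - 1) * 2 = 2 ^ n := by rw [← pow_succ]; congr 1; omega
    rw [Nat.mod_eq_of_lt (by omega), Nat.mod_eq_of_lt (by omega)] at h1
    omega
  have hnorm : ∀ b ∈ Subgroup.zpowers x, y * b * y⁻¹ ∈ Subgroup.zpowers x := by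
    rintro _ ⟨j, rfl⟩
    rw [← conj_zpow, hrel]
    exact zpow_mem (pow_mem (Subgroup.mem_zpowers x) _) _
  have hcard := card_sup_involution _ y hy hyx hnorm
  rw [Nat.card_zpowers, hx, ← pow_succ] at hcard
  obtain ⟨e⟩ := nonempty_equiv_sylow _ _ m hG hm hcard P
  let x' : ↥(Subgroup.zpowers x ⊔ Subgroup.zpowers y) :=
    ⟨x, Subgroup.mem_sup_left (Subgroup.mem_zpowers x)⟩
  let y' : ↥(Subgroup.zpowers x ⊔ Subgroup.zpowers y) :=
    ⟨y, Subgroup.mem_sup_right (Subgroup.mem_zpowers y)⟩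
  refine ⟨n, hn, (Nat.card_congr e.toEquiv).symm.trans hcard, e x', e y', ?_, ?_, ?_⟩
  · rw [MulEquiv.orderOf_eq, Subgroup.orderOf_mk, hx]
  · rw [MulEquiv.orderOf_eq, Subgroup.orderOf_mk, hy]
  · rw [← map_inv, ← map_mul, ← map_mul, ← map_pow]
    exact congrArg e (Subtype.ext hrel)

/-- Criterion for wreathed Sylow 2-subgroups. -/
theorem isWreathed_sylow (n m : ℕ) (hn : 2 ≤ n) (hG : Nat.card G = 2 ^ (2 * n + 1) * m)
    (hm : Odd m) (x y z : G) (hx : orderOf x = 2 ^ n) (hxy : x * y = y * x)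
    (hdisj : Subgroup.zpowers x ⊓ Subgroup.zpowers y = ⊥) (hz : orderOf z = 2)
    (hrel : z * x * z⁻¹ = y) (P : Sylow 2 G) : IsWreathed (P : Subgroup G) := by
  have hy : orderOf y = 2 ^ n := by
    rw [← hrel, ← hx]; exact orderOf_injective (MulAut.conj z).toMonoidHom (MulAut.conj z).injective x
  have hz2 : z * z = 1 := by rw [← pow_two, ← hz]; exact pow_orderOf_eq_one z
  have hrel' : z * y * z⁻¹ = x := by
    rw [← hrel, inv_eq_of_mul_eq_one_right hz2,
      show z * (z * x * z) * z = (z * z) * x * (z * z) by group, hz2, one_mul, mul_one]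
  set B := Subgroup.zpowers x ⊔ Subgroup.zpowers y with hB
  have hle : Subgroup.zpowers y ≤ Subgroup.centralizer ((Subgroup.zpowers x : Subgroup G) : Set G) := by
    rintro _ ⟨j, rfl⟩
    rw [Subgroup.mem_centralizer_iff]
    rintro _ ⟨i, rfl⟩
    exact (Commute.zpow_zpow hxy i j).eq
  have hcardB : Nat.card B = 2 ^ n * 2 ^ n := by
    have hinj : Function.Injective (fun a : Subgroup.zpowers x × Subgroup.zpowers y => a.1.1 * a.2.1) := by
      rintro ⟨⟨a, ha⟩, ⟨c, hc⟩⟩ ⟨⟨a', ha'⟩, ⟨c', hc'⟩⟩ h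
      have h' : a * c = a' * c' := h
      have : c' * c⁻¹ = a'⁻¹ * a := by
        rw [eq_inv_mul_iff_mul_eq, ← mul_assoc, ← h', mul_assoc, mul_inv_cancel, mul_one]
      have hmem : c' * c⁻¹ ∈ Subgroup.zpowers x ⊓ Subgroup.zpowers y :=
        Subgroup.mem_inf.2 ⟨by rw [this]; exact mul_mem (inv_mem ha') ha, mul_mem hc' (inv_mem hc)⟩
      rw [hdisj, Subgroup.mem_bot, mul_inv_eq_one] at hmem
      subst hmem
      obtain rfl : a = a' := mul_right_cancel h'
      rfl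
    have hrange : Set.range (fun a : Subgroup.zpowers x × Subgroup.zpowers y => a.1.1 * a.2.1) =
        (B : Set G) := by
      rw [hB, Subgroup.coe_mul_of_right_le_normalizer_left _ _
        (hle.trans (Subgroup.centralizer_le_normalizer _))]
      ext g
      constructor
      · rintro ⟨a, rfl⟩; exact Set.mul_mem_mul a.1.2 a.2.2
      · rintro ⟨a, ha, c, hc, rfl⟩; exact ⟨⟨⟨a, ha⟩, ⟨c, hc⟩⟩, rfl⟩
    rw [show Nat.card B = Nat.card (B : Set G) from rfl, ← hrange,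
      Nat.card_range_of_injective hinj, Nat.card_prod, Nat.card_zpowers, Nat.card_zpowers, hx, hy]
  have hxB : x ∈ B := Subgroup.mem_sup_left (Subgroup.mem_zpowers x)
  have hyB : y ∈ B := Subgroup.mem_sup_right (Subgroup.mem_zpowers y)
  have hnorm : ∀ b ∈ B, z * b * z⁻¹ ∈ B := by
    intro b hb
    have : B ≤ B.comap (MulAut.conj z).toMonoidHom := by
      rw [hB, sup_le_iff, Subgroup.zpowers_le, Subgroup.zpowers_le, ← hB]
      exact ⟨by show z * x * z⁻¹ ∈ B; rw [hrel]; exact hyB,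
        by show z * y * z⁻¹ ∈ B; rw [hrel']; exact hxB⟩
    exact this hb
  have hzB : z ∉ B := by
    intro h
    have hBc : B ≤ Subgroup.centralizer {x} := by
      rw [hB, sup_le_iff, Subgroup.zpowers_le, Subgroup.zpowers_le,
        Subgroup.mem_centralizer_singleton_iff, Subgroup.mem_centralizer_singleton_iff]
      exact ⟨rfl, hxy.symm⟩
    have := Subgroup.mem_centralizer_singleton_iff.1 (hBc h)
    rw [this, mul_inv_cancel_right] at hrel
    rw [← hrel, inf_idem, Subgroup.zpowers_eq_bot] at hdisj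
    rw [hdisj, orderOf_one] at hx
    exact absurd hx.symm (Nat.one_lt_pow (by omega) (by norm_num)).ne'
  have hcard := card_sup_involution _ z hz hzB hnorm
  rw [hcardB, ← pow_add, ← pow_succ, ← two_mul] at hcard
  obtain ⟨e⟩ := nonempty_equiv_sylow _ _ m hG hm hcard P
  let x' : ↥(B ⊔ Subgroup.zpowers z) := ⟨x, Subgroup.mem_sup_left hxB⟩
  let y' : ↥(B ⊔ Subgroup.zpowers z) := ⟨y, Subgroup.mem_sup_left hyB⟩
  let z' : ↥(B ⊔ Subgroup.zpowers z) := ⟨z, Subgroup.mem_sup_right (Subgroup.mem_zpowers z)⟩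
  refine ⟨n, hn, (Nat.card_congr e.toEquiv).symm.trans hcard, e x', e y', e z', ?_, ?_, ?_, ?_, ?_⟩
  · rw [MulEquiv.orderOf_eq, Subgroup.orderOf_mk, hx]
  · rw [← map_mul, ← map_mul]; exact congrArg e (Subtype.ext hxy)
  · rw [eq_bot_iff]
    rintro w ⟨hwx, hwy⟩
    obtain ⟨i, rfl⟩ := hwx
    obtain ⟨j, hj⟩ := hwy
    dsimp only at hj ⊢
    rw [← map_zpow, ← map_zpow] at hj
    have hj' := congrArg Subtype.val (e.injective hj)
    simp only [SubgroupClass.coe_zpow, x', y'] at hj'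
    have : x ^ i ∈ Subgroup.zpowers x ⊓ Subgroup.zpowers y :=
      ⟨⟨i, rfl⟩, ⟨j, hj'⟩⟩
    rw [hdisj, Subgroup.mem_bot] at this
    rw [Subgroup.mem_bot, ← map_zpow, show x' ^ i = 1 from Subtype.ext (by simpa [x'] using this),
      map_one]
  · rw [MulEquiv.orderOf_eq, Subgroup.orderOf_mk, hz]
  · rw [← map_inv, ← map_mul, ← map_mul]
    exact congrArg e (Subtype.ext hrel)

/-- An element of given order in a finite cyclic group. -/
theorem exists_orderOf_eq [IsCyclic G] (d : ℕ) (hd : d ∣ Nat.card G) : ∃ g : G, orderOf g = d := by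
  obtain ⟨g, hg⟩ := IsCyclic.exists_ofOrder_eq_natCard (α := G)
  refine ⟨g ^ (Nat.card G / d), ?_⟩
  rw [← hg] at hd ⊢
  exact orderOf_pow_orderOf_div (orderOf_pos g).ne' hd

end general

/-- Writing a positive integer as a power of 2 times an odd number. -/
theorem exists_two_pow_mul {k : ℕ} (hk : k ≠ 0) : ∃ a m : ℕ, Odd m ∧ k = 2 ^ a * m :=
  let ⟨a, m, hm, h⟩ := Nat.exists_eq_two_pow_mul_odd hk
  ⟨a, m, hm, h⟩

theorem two_le_exp {a m : ℕ} (hm : Odd m) (h : 4 ∣ 2 ^ a * m) : 2 ≤ a := by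
  by_contra ha
  obtain ⟨j, rfl⟩ := hm
  obtain rfl | rfl : a = 0 ∨ a = 1 := by omega
  · omega
  · omega

section diag

variable {F : Type*} [Field F]

/-- The diagonal torus of `GL_2`. -/
def dg : Fˣ × Fˣ →* GL (Fin 2) F where
  toFun a := ⟨!![(a.1 : F), 0; 0, (a.2 : F)], !![((a.1⁻¹ : Fˣ) : F), 0; 0, ((a.2⁻¹ : Fˣ) : F)],
    by simp [Matrix.one_fin_two], by simp [Matrix.one_fin_two]⟩
  map_one' := Units.ext (by simp [Matrix.one_fin_two])
  map_mul' a b := Units.ext (by simp)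

theorem dg_val (a : Fˣ × Fˣ) : (dg a).1 = !![(a.1 : F), 0; 0, (a.2 : F)] := rfl

theorem dg_injective : Function.Injective (dg (F := F)) := fun a b h => by
  have h1 := congrArg (fun g : GL (Fin 2) F => g.1 0 0) h
  have h2 := congrArg (fun g : GL (Fin 2) F => g.1 1 1) h
  simp [dg_val] at h1 h2
  exact Prod.ext (Units.ext h1) (Units.ext h2)

/-- The permutation matrix of the transposition. -/
def swapM : GL (Fin 2) F :=
  ⟨!![0, 1; 1, 0], !![0, 1; 1, 0], by simp [Matrix.one_fin_two], by simp [Matrix.one_fin_two]⟩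

theorem swapM_val : (swapM (F := F)).1 = !![0, 1; 1, 0] := rfl

theorem orderOf_swapM : orderOf (swapM (F := F)) = 2 := by
  refine orderOf_eq_prime (by rw [pow_two]; exact Units.ext (by simp [swapM_val, Matrix.one_fin_two]))
    fun h => ?_
  have := congrArg (fun g : GL (Fin 2) F => g.1 0 0) h
  simp [swapM_val] at this

theorem swapM_conj (a : Fˣ × Fˣ) : swapM * dg a * swapM⁻¹ = dg (a.2, a.1) := by
  rw [mul_inv_eq_iff_eq_mul]
  exact Units.ext (by simp [swapM_val, dg_val])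

theorem dg_disjoint (ζ : Fˣ) :
    Subgroup.zpowers (dg (ζ, (1 : Fˣ))) ⊓ Subgroup.zpowers (dg ((1 : Fˣ), ζ)) = ⊥ := by
  rw [eq_bot_iff]
  rintro w ⟨⟨i, rfl⟩, j, hj⟩
  dsimp only at hj ⊢
  rw [← map_zpow, ← map_zpow] at hj
  have h := congrArg Prod.fst (dg_injective hj)
  simp only [Prod.pow_fst, one_zpow] at h
  have h1 : ((ζ, (1 : Fˣ)) : Fˣ × Fˣ) ^ i = 1 :=
    Prod.ext (by simpa using h.symm) (by simp)
  rw [Subgroup.mem_bot, ← map_zpow, h1, map_one]

variable [Fintype F]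

theorem card_GL2 : Nat.card (GL (Fin 2) F) =
    (Fintype.card F ^ 2 - 1) * (Fintype.card F ^ 2 - Fintype.card F) := by
  rw [Matrix.card_GL_field, Fin.prod_univ_two]; simp

/-- `q ≡ 1 (mod 4)`: wreathed. -/
theorem wreathed_GL2 (h : Fintype.card F % 4 = 1) (P : Sylow 2 (GL (Fin 2) F)) :
    IsWreathed (P : Subgroup (GL (Fin 2) F)) := by
  set q := Fintype.card F with hq
  have hq1 : 1 < q := Fintype.one_lt_card
  obtain ⟨a, m, hm, ham⟩ := exists_two_pow_mul (k := q - 1) (by omega)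
  have ha : 2 ≤ a := two_le_exp hm (ham ▸ by omega)
  obtain ⟨k, hk⟩ : ∃ k, q = 4 * k + 1 := ⟨q / 4, by omega⟩
  obtain ⟨ζ, hζ⟩ := exists_orderOf_eq (G := Fˣ) (2 ^ a)
    (by rw [Nat.card_units, Nat.card_eq_fintype_card, ← hq, ham]; exact dvd_mul_right _ _)
  refine isWreathed_sylow a ((2 * k + 1) * m ^ 2 * q) ha ?_
    ((Odd.mul (Odd.mul ⟨k, rfl⟩ hm.pow) ⟨2 * k, by omega⟩))
    (dg (ζ, 1)) (dg (1, ζ)) swapM ?_ ?_ (dg_disjoint ζ) orderOf_swapM (swapM_conj _) P
  · rw [card_GL2, ← hq, show q ^ 2 - 1 = (2 * (2 * k + 1)) * (q - 1) by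
        rw [hk, Nat.add_sub_cancel]; apply Nat.sub_eq_of_eq_add; ring,
      show q ^ 2 - q = (q - 1) * q by rw [Nat.sub_mul, one_mul, pow_two], ham]
    ring
  · rw [orderOf_injective dg dg_injective, Prod.orderOf_mk, hζ, orderOf_one, Nat.lcm_one_right]
  · rw [← map_mul, ← map_mul]; simp

end diag

section gl_qd

variable {F K : Type*} [Field F] [Fintype F] [Field K] [Algebra F K]

/-- `q ≡ 3 (mod 4)`: quasi-dihedral. -/
theorem quasiDihedral_GL2_aux (hK : Module.finrank F K = 2) (h : Fintype.card F % 4 = 3)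
    (P : Sylow 2 (GL (Fin 2) F)) : IsQuasiDihedral (P : Subgroup (GL (Fin 2) F)) := by
  set q := Fintype.card F with hq
  have : Module.Finite F K := Module.finite_of_finrank_pos (by omega)
  have : Finite K := Module.finite_of_finite F
  have hcardK : Nat.card K = q ^ 2 := by
    rw [Module.natCard_eq_pow_finrank (K := F), hK, Nat.card_eq_fintype_card]
  have : Fintype K := Fintype.ofFinite K
  obtain ⟨s, m, hm, hsm⟩ := exists_two_pow_mul (k := q + 1) (by omega)
  have hs : 2 ≤ s := two_le_exp hm (hsm ▸ by omega)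
  obtain ⟨k, hk⟩ : ∃ k, q = 4 * k + 3 := ⟨q / 4, by omega⟩
  obtain ⟨ζ, hζ⟩ := exists_orderOf_eq (G := Kˣ) (2 ^ (s + 1)) (by
    refine ⟨m * (2 * k + 1), ?_⟩
    rw [Nat.card_units, hcardK, show q ^ 2 - 1 = (q + 1) * (q - 1) by
      rw [← Nat.sq_sub_sq q 1, one_pow], hsm, show q - 1 = 2 * (2 * k + 1) by omega]
    ring)
  let b : Module.Basis (Fin 2) F K := Module.finBasisOfFinrankEq F K hK
  let e : (Module.End F K)ˣ ≃* GL (Fin 2) F := Units.mapEquiv (algEquivMatrix b).toMulEquiv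
  let σ : Module.End F K := (FiniteField.frobeniusAlgHom F K).toLinearMap
  have hσ : ∀ v, σ v = v ^ q := fun v => by simp [σ, hq]
  have hσ2 : σ * σ = 1 := LinearMap.ext fun v => by
    show σ (σ v) = v
    rw [hσ, hσ, ← pow_mul, ← pow_two, ← hcardK, Nat.card_eq_fintype_card, FiniteField.pow_card]
  let y : (Module.End F K)ˣ := ⟨σ, σ, hσ2, hσ2⟩
  let μ : Kˣ →* (Module.End F K)ˣ := Units.map (Algebra.lmul F K).toMonoidHom
  have hμ : Function.Injective μ := fun a c hac => Units.ext <| by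
    have := LinearMap.congr_fun (congrArg Units.val hac) 1
    simpa [μ] using this
  have hy : orderOf y = 2 := by
    refine orderOf_eq_prime (by rw [pow_two]; exact Units.ext hσ2) fun hy1 => ?_
    have hfix : (ζ : K) ^ q = ζ := by
      rw [← hσ]; exact LinearMap.congr_fun (congrArg Units.val hy1) _
    have : ζ ^ q = ζ ^ 1 := Units.ext (by simpa using hfix)
    rw [pow_eq_pow_iff_modEq, hζ, Nat.ModEq.comm, Nat.modEq_iff_dvd' (by omega)] at this
    have h4 : 4 ∣ q - 1 :=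
      dvd_trans (dvd_trans (by norm_num) (Nat.pow_dvd_pow 2 (show 2 ≤ s + 1 by omega))) this
    omega
  refine isQuasiDihedral_sylow (s + 1) (m * (2 * k + 1) ^ 2 * q) (by omega) ?_
    ((hm.mul (Odd.pow ⟨k, rfl⟩)).mul ⟨2 * k + 1, by omega⟩) (e (μ ζ)) (e y) ?_ ?_ ?_ P
  · rw [card_GL2, ← hq, show q ^ 2 - 1 = (q + 1) * (q - 1) by
        rw [← Nat.sq_sub_sq q 1, one_pow],
      show q ^ 2 - q = (q - 1) * q by rw [Nat.sub_mul, one_mul, pow_two], hsm,
      show q - 1 = 2 * (2 * k + 1) by omega]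
    ring
  · rw [MulEquiv.orderOf_eq, orderOf_injective μ hμ, hζ]
  · rw [MulEquiv.orderOf_eq, hy]
  · rw [← map_inv, ← map_mul, ← map_mul, ← map_pow, ← map_pow]
    have hexp : ζ ^ (2 ^ s - 1) = ζ ^ q := by
      obtain ⟨j, rfl⟩ := hm
      have hqj : q = 2 ^ (s + 1) * j + (2 ^ s - 1) := by
        have : 2 ^ s * (2 * j + 1) = 2 ^ (s + 1) * j + 2 ^ s := by ring
        have : 1 ≤ 2 ^ s := Nat.one_le_two_pow
        omega
      rw [hqj, pow_add, pow_mul, ← hζ, pow_orderOf_eq_one, one_pow, one_mul]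
    rw [Nat.add_sub_cancel, hexp]
    congr 1
    rw [mul_inv_eq_iff_eq_mul]
    refine Units.ext (LinearMap.ext fun v => ?_)
    show σ ((ζ : K) * v) = ((ζ ^ q : Kˣ) : K) * σ v
    rw [hσ, hσ, mul_pow, Units.val_pow_eq_pow_val]

end gl_qd

theorem quasiDihedral_GL2 {F : Type*} [Field F] [Fintype F] (h : Fintype.card F % 4 = 3)
    (P : Sylow 2 (GL (Fin 2) F)) : IsQuasiDihedral (P : Subgroup (GL (Fin 2) F)) := by
  obtain ⟨p, _⟩ := CharP.exists F
  have : Fact p.Prime := ⟨CharP.char_is_prime F p⟩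
  exact quasiDihedral_GL2_aux (K := FiniteField.Extension F p 2)
    (FiniteField.finrank_extension F p 2) h P

section gu

variable {F : Type*} [Field F] [Fintype F] {q : ℕ}

/-- `GU_2(q)`, as written in the statements. -/
abbrev GU2 (F : Type*) [Field F] (q : ℕ) : Subgroup (GL (Fin 2) F) :=
  preserving (Units.coeHom (Matrix (Fin 2) (Fin 2) F)) (hermForm 2 F q)

theorem card_GU2 (hF : Fintype.card F = q ^ 2) :
    Nat.card (GU2 F q) = q * ((q + 1) * (q ^ 2 - 1)) := by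
  have h := UnitaryOrder.card_GU hF 2
  rw [Finset.prod_range_succ, Finset.prod_range_one] at h
  simp at h
  exact h

omit [Fintype F] in
theorem herm2 (u v : Fin 2 → F) :
    hermForm 2 F q u v = u 0 * v 0 ^ q + u 1 * v 1 ^ q := by
  simp [hermForm, Fin.sum_univ_two]

theorem swapM_mem : swapM ∈ GU2 F q := fun u v => by
  simp [herm2, swapM_val, Matrix.mulVec, dotProduct, Fin.sum_univ_two, add_comm]

theorem dg_mem {a : Fˣ × Fˣ} (h1 : a.1 ^ (q + 1) = 1) (h2 : a.2 ^ (q + 1) = 1) :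
    dg a ∈ GU2 F q := fun u v => by
  have e1 : (a.1 : F) * (a.1 : F) ^ q = 1 := by
    rw [← pow_succ', ← Units.val_pow_eq_pow_val, h1, Units.val_one]
  have e2 : (a.2 : F) * (a.2 : F) ^ q = 1 := by
    rw [← pow_succ', ← Units.val_pow_eq_pow_val, h2, Units.val_one]
  simp only [herm2, Units.coeHom_apply, dg_val, Matrix.mulVec, dotProduct, Fin.sum_univ_two]
  simp only [Matrix.cons_val', Matrix.cons_val_zero, Matrix.cons_val_one, Matrix.of_apply,
    Matrix.cons_val_fin_one, Matrix.empty_val', zero_mul, add_zero, zero_add]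
  calc _ = u 0 * v 0 ^ q * ((a.1 : F) * (a.1 : F) ^ q) + u 1 * v 1 ^ q * ((a.2 : F) * (a.2 : F) ^ q) := by
        ring
    _ = _ := by rw [e1, e2, mul_one, mul_one]

/-- `q ≡ 3 (mod 4)`: wreathed. -/
theorem wreathed_GU2 (hF : Fintype.card F = q ^ 2) (h : q % 4 = 3) (P : Sylow 2 ↥(GU2 F q)) :
    IsWreathed (P : Subgroup ↥(GU2 F q)) := by
  obtain ⟨s, m, hm, hsm⟩ := exists_two_pow_mul (k := q + 1) (by omega)
  have hs : 2 ≤ s := two_le_exp hm (hsm ▸ by omega)
  obtain ⟨k, hk⟩ : ∃ k, q = 4 * k + 3 := ⟨q / 4, by omega⟩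
  have hsq : q ^ 2 - 1 = (q + 1) * (q - 1) := by rw [← Nat.sq_sub_sq q 1, one_pow]
  obtain ⟨ζ, hζ⟩ := exists_orderOf_eq (G := Fˣ) (2 ^ s) (by
    rw [Nat.card_units, Nat.card_eq_fintype_card, hF, hsq, hsm, mul_assoc]
    exact dvd_mul_right _ _)
  have hζ1 : ζ ^ (q + 1) = 1 := by rw [hsm, pow_mul, ← hζ, pow_orderOf_eq_one, one_pow]
  have h1 : dg (ζ, (1 : Fˣ)) ∈ GU2 F q := dg_mem hζ1 (one_pow _)
  have h2 : dg ((1 : Fˣ), ζ) ∈ GU2 F q := dg_mem (one_pow _) hζ1
  refine isWreathed_sylow s (q * (2 * k + 1) * m ^ 2) hs ?_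
    ((Odd.mul ⟨2 * k + 1, by omega⟩ ⟨k, rfl⟩).mul hm.pow) ⟨_, h1⟩ ⟨_, h2⟩
    ⟨_, swapM_mem⟩ ?_ ?_ ?_ ?_ ?_ P
  · rw [card_GU2 hF, hsq, hsm, show q - 1 = 2 * (2 * k + 1) by omega]
    ring
  · rw [Subgroup.orderOf_mk, orderOf_injective dg dg_injective, Prod.orderOf_mk, hζ, orderOf_one,
      Nat.lcm_one_right]
  · exact Subtype.ext (by rw [Subgroup.coe_mul, Subgroup.coe_mul, ← map_mul, ← map_mul]; simp)
  · refine Subgroup.map_injective (GU2 F q).subtype_injective ?_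
    rw [Subgroup.map_inf _ _ _ (GU2 F q).subtype_injective, MonoidHom.map_zpowers,
      MonoidHom.map_zpowers, Subgroup.map_bot]
    exact dg_disjoint ζ
  · rw [Subgroup.orderOf_mk, orderOf_swapM]
  · exact Subtype.ext (swapM_conj _)

/-- `q ≡ 1 (mod 4)`: quasi-dihedral. -/
theorem quasiDihedral_GU2 (hF : Fintype.card F = q ^ 2) (h : q % 4 = 1) (P : Sylow 2 ↥(GU2 F q)) :
    IsQuasiDihedral (P : Subgroup ↥(GU2 F q)) := by
  obtain ⟨σ, hσ, hσσ, hq2⟩ := FormsLib.exists_qhom hF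
  obtain ⟨a, m, hm, ham⟩ := exists_two_pow_mul (k := q - 1) (by omega)
  have ha : 2 ≤ a := two_le_exp hm (ham ▸ by omega)
  obtain ⟨k, hk⟩ : ∃ k, q = 4 * k + 1 := ⟨q / 4, by omega⟩
  have hsq : q ^ 2 - 1 = (q + 1) * (q - 1) := by rw [← Nat.sq_sub_sq q 1, one_pow]
  have h2 : (2 : F) ≠ 0 := by
    intro h0
    have hp : ringChar F = 2 := (CharP.ringChar_of_prime_eq_zero Nat.prime_two h0)
    have he := (FiniteField.even_card_iff_char_two).1 hp
    rw [hF, Nat.pow_mod, show q % 2 = 1 by omega] at he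
    norm_num at he
  obtain ⟨ζ, hζ⟩ := exists_orderOf_eq (G := Fˣ) (2 ^ (a + 1)) (by
    refine ⟨(2 * k + 1) * m, ?_⟩
    rw [Nat.card_units, Nat.card_eq_fintype_card, hF, hsq, ham, show q + 1 = 2 * (2 * k + 1) by omega]
    ring)
  -- an element of norm `-1`
  obtain ⟨c, hc⟩ : ∃ c : Fˣ, c ^ (q + 1) = -1 := by
    obtain ⟨g, hg⟩ := IsCyclic.exists_ofOrder_eq_natCard (α := Fˣ)
    obtain ⟨j, hj⟩ := (isOfFinOrder_of_finite g).mem_powers_iff_mem_zpowers.2 (show (-1 : Fˣ) ∈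
      Subgroup.zpowers g by
        rw [Subgroup.eq_top_of_card_eq (Subgroup.zpowers g) (by rw [Nat.card_zpowers, hg])]
        exact Subgroup.mem_top _)
    have hj' : g ^ j = -1 := hj
    have : (g ^ j) ^ (q - 1) = 1 := by
      rw [hj']
      exact Even.neg_one_pow ⟨2 * k, by omega⟩
    rw [← pow_mul, ← orderOf_dvd_iff_pow_eq_one, hg, Nat.card_units, Nat.card_eq_fintype_card, hF,
      hsq, Nat.mul_dvd_mul_iff_right (by omega)] at this
    obtain ⟨i, hi⟩ := this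
    exact ⟨g ^ i, by rw [← hj', hi, ← pow_mul, mul_comm]⟩
  have hcq : (c : F) * (c : F) ^ q = -1 := by
    rw [← pow_succ', ← Units.val_pow_eq_pow_val, hc]; simp
  have hc0 : (c : F) ≠ 0 := c.ne_zero
  let T : GL (Fin 2) F := Matrix.GeneralLinearGroup.mkOfDetNeZero !![1, 1; (c : F), -(c : F)]
    (by rw [Matrix.det_fin_two_of]
        have : (1 : F) * -(c : F) - 1 * (c : F) = -(2 * (c : F)) := by ring
        rw [this]; exact neg_ne_zero.2 (mul_ne_zero h2 hc0))
  have hT : ∀ u v, hermForm 2 F q (T.1 *ᵥ u) (T.1 *ᵥ v) = 2 * (u 0 * v 1 ^ q + u 1 * v 0 ^ q) := by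
    intro u v
    have e : ∀ x y : F, (x + y) ^ q = x ^ q + y ^ q := fun x y => by
      rw [← hσ, ← hσ, ← hσ, map_add]
    have e' : ∀ x : F, (-x) ^ q = -x ^ q := fun x => by rw [← hσ, ← hσ, map_neg]
    simp only [herm2, T, Matrix.GeneralLinearGroup.val_mkOfDetNeZero, Matrix.mulVec, dotProduct,
      Fin.sum_univ_two]
    simp only [Matrix.cons_val', Matrix.cons_val_zero, Matrix.cons_val_one, Matrix.of_apply,
      Matrix.cons_val_fin_one, Matrix.empty_val', one_mul]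
    rw [e, e, neg_mul, neg_mul, e', mul_pow, mul_pow]
    linear_combination ((u 0 - u 1) * (v 0 ^ q - v 1 ^ q)) * hcq
  let D : Fˣ →* GL (Fin 2) F :=
    (MulAut.conj T).toMonoidHom.comp (dg.comp ((MonoidHom.id Fˣ).prod ((powMonoidHom q)⁻¹)))
  have hD : Function.Injective D := fun l l' hl => by
    have := congrArg Prod.fst (dg_injective ((MulAut.conj T).injective hl))
    simpa using this
  have hDmem : ∀ l, D l ∈ GU2 F q := by
    intro l u v
    have hl : ((l : Fˣ) : F) ^ (q ^ 2) = (l : F) := by rw [← hF, FiniteField.pow_card]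
    have hTT : ∀ w, T.1 *ᵥ ((T⁻¹).1 *ᵥ w) = w := fun w => by
      rw [Matrix.mulVec_mulVec, ← Units.val_mul, mul_inv_cancel, Units.val_one, Matrix.one_mulVec]
    show hermForm 2 F q ((D l).1 *ᵥ u) ((D l).1 *ᵥ v) = hermForm 2 F q u v
    simp only [D, MonoidHom.comp_apply, MulEquiv.coe_toMonoidHom, MulAut.conj_apply,
      MonoidHom.prod_apply, MonoidHom.id_apply, MonoidHom.inv_apply, powMonoidHom_apply,
      Units.val_mul, ← Matrix.mulVec_mulVec]
    conv_rhs => rw [← hTT u, ← hTT v]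
    rw [hT, hT]
    simp only [dg_val, Matrix.mulVec, dotProduct, Fin.sum_univ_two]
    simp only [Matrix.cons_val', Matrix.cons_val_zero, Matrix.cons_val_one, Matrix.of_apply,
      Matrix.cons_val_fin_one, Matrix.empty_val', zero_mul, add_zero, zero_add]
    simp only [Units.val_inv_eq_inv_val, Units.val_pow_eq_pow_val, mul_pow, inv_pow, ← pow_mul,
      ← pow_two]
    rw [hl]
    field_simp
  let S : GL (Fin 2) F := dg (1, -1)
  have hS : S ∈ GU2 F q := dg_mem (one_pow _) (Even.neg_one_pow ⟨2 * k + 1, by omega⟩)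
  have hST : S * T = T * swapM := by
    refine Units.ext ?_
    ext i j
    fin_cases i <;> fin_cases j <;>
      simp [S, T, swapM_val, dg_val, Matrix.mul_apply, Fin.sum_univ_two]
  have hSD : ∀ l, S * D l * S⁻¹ = D (l ^ q)⁻¹ := by
    intro l
    have hl : (l ^ q) ^ q = l := Units.ext (by
      rw [Units.val_pow_eq_pow_val, Units.val_pow_eq_pow_val, ← pow_mul, ← pow_two, ← hF,
        FiniteField.pow_card])
    simp only [D, MonoidHom.comp_apply, MulEquiv.coe_toMonoidHom, MulAut.conj_apply,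
      MonoidHom.prod_apply, MonoidHom.id_apply, MonoidHom.inv_apply, powMonoidHom_apply]
    have h' : swapM * dg (l, (l ^ q)⁻¹) * swapM⁻¹ = dg ((l ^ q)⁻¹, (((l ^ q)⁻¹) ^ q)⁻¹) := by
      rw [swapM_conj, inv_pow, inv_inv, hl]
    rw [← h', show S * (T * dg (l, (l ^ q)⁻¹) * T⁻¹) * S⁻¹ =
      (S * T) * dg (l, (l ^ q)⁻¹) * (S * T)⁻¹ by group, hST]
    group
  refine isQuasiDihedral_sylow (a + 1) (q * (2 * k + 1) ^ 2 * m) (by omega) ?_
    ((Odd.mul ⟨2 * k, by omega⟩ (Odd.pow ⟨k, rfl⟩)).mul hm) ⟨D ζ, hDmem ζ⟩ ⟨S, hS⟩ ?_ ?_ ?_ P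
  · rw [card_GU2 hF, hsq, ham, show q + 1 = 2 * (2 * k + 1) by omega]
    ring
  · rw [Subgroup.orderOf_mk, orderOf_injective D hD, hζ]
  · have hne : (-1 : Fˣ) ≠ 1 := fun h0 => h2 <| by
      have := congrArg Units.val h0
      simp only [Units.val_neg, Units.val_one] at this
      linear_combination -this
    rw [Subgroup.orderOf_mk, orderOf_injective dg dg_injective, Prod.orderOf_mk, orderOf_one,
      orderOf_eq_prime (p := 2) (by simp) hne]
    norm_num
  · apply Subtype.ext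
    simp only [Subgroup.coe_mul, Subgroup.coe_inv, SubmonoidClass.coe_pow]
    rw [hSD, ← map_pow, Nat.add_sub_cancel]
    congr 1
    obtain ⟨j, rfl⟩ := hm
    rw [inv_eq_iff_mul_eq_one, ← pow_add, ← orderOf_dvd_iff_pow_eq_one, hζ]
    have e1 : 2 ^ a * (2 * j + 1) = 2 ^ (a + 1) * j + 2 ^ a := by ring
    have e2 : 2 ^ a + 2 ^ a = 2 ^ (a + 1) := by ring
    have : 1 ≤ 2 ^ a := Nat.one_le_two_pow
    exact ⟨j + 1, by rw [mul_add, mul_one]; omega⟩

end gu

end Cfsg.Agent.Invol.SylowGL2
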