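import Cfsg.Agent.Lib.InvChar.Thompson

/-!
# Thompson transfer relative to one element

A variant of `InvChar.thompson_transfer` (by helper21) assuming only that `x` is killed by all sign
characters, with the index-two form of the consequence.
-/

namespace Cfsg.Agent.Invol

open Cfsg.Agent.InvChar Subgroup

variable {G : Type*} [Group G]

/-- Thompson transfer, extremal form: `M` of index two in the Sylow 2-subgroup `S`, `x` of order `2 ^ n`,
all elements of `S` outside `M` of order `> 2 ^ (n-1)`, and `x` killed by every homomorphism `G → ℤˣ`.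
Then some conjugate `g⁻¹ x g` lies in `M` with `g⁻¹ R g ≤ S`, for any given 2-subgroup `R` centralizing `x`. -/
theorem thompson_transfer_elem [Finite G] (S : Sylow 2 G) (M : Subgroup G) (hMS : M ≤ (S : Subgroup G)) (hM : M.relIndex (S : Subgroup G) = 2)
    (n : ℕ) (hord : ∀ y ∈ (S : Subgroup G), y ∉ M → 2 ^ n < 2 * orderOf y)
    (x : G) (hxG : ∀ f : G →* ℤˣ, f x = 1) (hxn : orderOf x = 2 ^ n) (R : Subgroup G) (hR : IsPGroup 2 R)
    (hRx : ∀ r ∈ R, r * x = x * r) :
    ∃ g : G, g⁻¹ * x * g ∈ M ∧ ∀ r ∈ R, g⁻¹ * r * g ∈ (S : Subgroup G) := by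
  classical
  have hM' : (M.subgroupOf (S : Subgroup G)).index = 2 := hM
  have hMn : ∀ s ∈ (S : Subgroup G), ∀ m ∈ M, s⁻¹ * m * s ∈ M := by
    intro s hs m hm
    have := (Subgroup.normal_of_index_eq_two hM').conj_mem ⟨m, hMS hm⟩ hm ⟨s⁻¹, inv_mem hs⟩
    rw [mem_subgroupOf] at this
    simpa using this
  let ε : (S : Subgroup G) →* ℤˣ := indexTwoSign _ hM'
  -- cosets fixed by x
  have hfix : ∀ g : G, x • (g : G ⧸ (S : Subgroup G)) = g ↔ g⁻¹ * x * g ∈ (S : Subgroup G) := by
    intro g
    rw [MulAction.Quotient.smul_mk, smul_eq_mul, QuotientGroup.eq, ← inv_mem_iff]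
    simp [mul_assoc]
  have hout : ∀ g : G, ∃ s ∈ (S : Subgroup G), (QuotientGroup.mk g : G ⧸ (S : Subgroup G)).out = g * s := by
    intro g
    refine ⟨g⁻¹ * (QuotientGroup.mk g : G ⧸ (S : Subgroup G)).out, ?_, by group⟩
    rw [← QuotientGroup.eq]; exact (QuotientGroup.out_eq' _).symm
  let Fix : Finset (G ⧸ (S : Subgroup G)) :=
    haveI := Fintype.ofFinite (G ⧸ (S : Subgroup G))
    Finset.univ.filter fun C => x • C = C
  let FM : Finset (G ⧸ (S : Subgroup G)) := Fix.filter fun C => C.out⁻¹ * x * C.out ∈ M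
  have hFix : ∀ C, C ∈ Fix ↔ x • C = C := by
    intro C; simp [Fix]
  -- membership in FM does not depend on representatives
  have hFM : ∀ g : G, (g : G ⧸ (S : Subgroup G)) ∈ FM ↔ g⁻¹ * x * g ∈ M := by
    intro g
    obtain ⟨s, hs, he⟩ := hout g
    simp only [FM, Finset.mem_filter, hFix, hfix, he]
    constructor
    · rintro ⟨-, h⟩
      have := hMn s⁻¹ (inv_mem hs) _ h
      simpa [mul_assoc] using this
    · intro h
      refine ⟨hMS h, ?_⟩
      have := hMn s hs _ h
      simpa [mul_assoc] using this
  have hper : ∀ C : G ⧸ (S : Subgroup G), ∃ i, Function.minimalPeriod (x • ·) C = 2 ^ i := by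
    intro C
    have hp : Function.IsPeriodicPt (x • ·) (2 ^ n) C := by
      show (x • ·)^[2 ^ n] C = C
      simp [smul_iterate, ← hxn, pow_orderOf_eq_one]
    obtain ⟨i, -, hi⟩ := (Nat.dvd_prime_pow Nat.prime_two).mp hp.minimalPeriod_dvd
    exact ⟨i, hi⟩
  haveI := Fintype.ofFinite (Quotient (MulAction.orbitRel (zpowers x) (G ⧸ (S : Subgroup G))))
  have htr : (-1 : ℤˣ) ^ (Fix.filter fun C => C ∉ FM).card = 1 := by
    have h := MonoidHom.transfer_eq_prod_quotient_orbitRel_zpowers_quot ε x
    rw [hxG] at h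
    let T := fun q : Quotient (MulAction.orbitRel (zpowers x) (G ⧸ (S : Subgroup G))) =>
      ε ⟨q.out.out⁻¹ * x ^ Function.minimalPeriod (x • ·) q.out * q.out.out,
        QuotientGroup.out_conj_pow_minimalPeriod_mem (S : Subgroup G) x q.out⟩
    have hT : ∏ q, T q = 1 := h.symm
    have hval : ∀ q, T q = if q.out ∈ Fix ∧ q.out ∉ FM then -1 else 1 := by
      intro q
      obtain ⟨i, hi⟩ := hper q.out
      rcases Nat.eq_zero_or_pos i with h0 | h0
      · have h1 : Function.minimalPeriod (x • ·) q.out = 1 := by rw [hi, h0, pow_zero]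
        have hf : q.out ∈ Fix := (hFix _).mpr (Function.minimalPeriod_eq_one_iff_isFixedPt.mp h1)
        have hm : q.out ∈ FM ↔ q.out.out⁻¹ * x * q.out.out ∈ M := by
          simp [FM, hf]
        by_cases hmm : q.out ∈ FM
        · rw [if_neg (by simp [hmm])]
          refine indexTwoSign_apply_of_mem _ hM' ?_
          rw [mem_subgroupOf]
          simpa [h1] using hm.mp hmm
        · rw [if_pos ⟨hf, hmm⟩]
          refine indexTwoSign_apply_of_notMem _ hM' ?_
          rw [mem_subgroupOf]
          simpa [h1] using fun hh => hmm (hm.mpr hh)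
      · rw [if_neg]
        · refine indexTwoSign_apply_of_mem _ hM' ?_
          rw [mem_subgroupOf]
          by_contra hnm
          have hlt := hord _ (QuotientGroup.out_conj_pow_minimalPeriod_mem (S : Subgroup G) x q.out) hnm
          have hconj : orderOf (q.out.out⁻¹ * x ^ Function.minimalPeriod (x • ·) q.out * q.out.out) =
              orderOf (x ^ Function.minimalPeriod (x • ·) q.out) := by
            have := orderOf_injective (MulAut.conj q.out.out⁻¹).toMonoidHom (MulAut.conj q.out.out⁻¹).injective
              (x ^ Function.minimalPeriod (x • ·) q.out)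
            simpa using this
          rw [hconj, hi, orderOf_pow, hxn] at hlt
          have hin : i ≤ n := by
            by_contra hc
            rw [Nat.gcd_eq_left (pow_dvd_pow 2 (by omega)), Nat.div_self (by positivity)] at hlt
            have hp : Function.IsPeriodicPt (x • ·) (2 ^ n) q.out := by
              show (x • ·)^[2 ^ n] q.out = q.out
              simp [smul_iterate, ← hxn, pow_orderOf_eq_one]
            have h2 := hp.minimalPeriod_dvd
            rw [hi, Nat.pow_dvd_pow_iff_le_right (by norm_num)] at h2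
            omega
          rw [Nat.gcd_eq_right (pow_dvd_pow 2 hin), Nat.pow_div hin (by norm_num)] at hlt
          have hp' : (2:ℕ) * 2 ^ (n - i) ≤ 2 ^ n := by
            rw [← pow_succ']
            exact Nat.pow_le_pow_right (by norm_num) (by omega)
          omega
        · rintro ⟨hf, -⟩
          have h1 : Function.minimalPeriod (x • ·) q.out = 1 :=
            Function.minimalPeriod_eq_one_iff_isFixedPt.mpr ((hFix _).mp hf)
          rw [h1] at hi
          have : 2 ≤ 2 ^ i := Nat.le_self_pow (by omega) 2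
          omega
    rw [Finset.prod_congr rfl (fun q _ => hval q), Finset.prod_ite, Finset.prod_const_one, mul_one,
      Finset.prod_const] at hT
    convert hT using 2
    refine Finset.card_bij (fun C _ => Quotient.mk'' C) ?_ ?_ ?_
    · intro C hC
      simp only [Finset.mem_filter] at hC
      have hq : (Quotient.mk'' C : Quotient (MulAction.orbitRel (zpowers x) (G ⧸ (S : Subgroup G)))).out = C := by
        have hmk : MulAction.orbitRel (zpowers x) (G ⧸ (S : Subgroup G))
            (Quotient.mk'' C : Quotient (MulAction.orbitRel (zpowers x) (G ⧸ (S : Subgroup G)))).out C :=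
          Quotient.exact' (Quotient.out_eq' _)
        obtain ⟨⟨r, hr⟩, hrC⟩ := hmk
        obtain ⟨k, rfl⟩ := mem_zpowers_iff.mp hr
        rw [← hrC]
        show x ^ k • C = C
        exact zpow_smul_eq x C ((hFix C).mp hC.1) k
      simp [hq, hC.1, hC.2]
    · intro C hC D hD hCD
      simp only [Finset.mem_filter] at hC hD
      have hmk : MulAction.orbitRel (zpowers x) (G ⧸ (S : Subgroup G)) C D := Quotient.exact' hCD
      obtain ⟨⟨r, hr⟩, hrC⟩ := hmk
      obtain ⟨k, rfl⟩ := mem_zpowers_iff.mp hr
      rw [← hrC]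
      exact zpow_smul_eq x D ((hFix D).mp hD.1) k
    · intro q hq
      simp only [Finset.mem_filter] at hq
      exact ⟨q.out, by simp [hq.2.1, hq.2.2], Quotient.out_eq' q⟩
  -- parity
  have hFixOdd : Odd Fix.card := by
    have hxp : IsPGroup 2 (zpowers x) := IsPGroup.of_card (n := n) (by rw [Nat.card_zpowers, hxn])
    have hmod := hxp.card_modEq_card_fixedPoints (G ⧸ (S : Subgroup G))
    have hfp : Nat.card (MulAction.fixedPoints (zpowers x) (G ⧸ (S : Subgroup G))) = Fix.card := by
      rw [Nat.card_coe_set_eq]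
      rw [← Set.ncard_coe_finset]
      congr 1
      ext C
      simp only [MulAction.mem_fixedPoints, Finset.mem_coe, hFix]
      constructor
      · intro h; exact h ⟨x, mem_zpowers x⟩
      · rintro h ⟨r, hr⟩
        obtain ⟨k, rfl⟩ := mem_zpowers_iff.mp hr
        exact zpow_smul_eq x C h k
    rw [hfp] at hmod
    have hidx : ¬ 2 ∣ Nat.card (G ⧸ (S : Subgroup G)) := S.not_dvd_index
    rw [Nat.odd_iff]
    have := hmod
    unfold Nat.ModEq at this
    omega
  have hFModd : Odd FM.card := by
    have h2 : Even (Fix.filter fun C => C ∉ FM).card := by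
      by_contra hc
      rw [Nat.not_even_iff_odd] at hc
      rw [hc.neg_one_pow] at htr
      exact absurd htr (by decide)
    have hsub : Fix.filter (fun C => C ∈ FM) = FM := by
      ext C; simp [FM]
    have := Finset.card_filter_add_card_filter_not (s := Fix) (fun C => C ∈ FM)
    rw [hsub] at this
    rw [Nat.odd_iff] at hFixOdd ⊢
    rw [Nat.even_iff] at h2
    omega
  -- R acts on FM
  have hinv : ∀ r ∈ R, ∀ C : G ⧸ (S : Subgroup G), C ∈ FM → r • C ∈ FM := by
    intro r hr C hC
    induction C using QuotientGroup.induction_on with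
    | _ g =>
      rw [MulAction.Quotient.smul_mk, smul_eq_mul, hFM]
      rw [hFM] at hC
      have : r⁻¹ * x * r = x := by rw [mul_assoc, ← hRx r hr, inv_mul_cancel_left]
      convert hC using 1
      calc (r * g)⁻¹ * x * (r * g) = g⁻¹ * (r⁻¹ * x * r) * g := by group
        _ = g⁻¹ * x * g := by rw [this]
  let A : SubMulAction R (G ⧸ (S : Subgroup G)) :=
    { carrier := ↑FM, smul_mem' := fun r C hC => hinv r r.2 C hC }
  have hA : ¬ 2 ∣ Nat.card A := by
    have : Nat.card A = FM.card := by
      show Nat.card (↑FM : Set (G ⧸ (S : Subgroup G))) = FM.card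
      rw [Nat.card_coe_set_eq, Set.ncard_coe_finset]
    rw [this]
    exact fun h => by rw [Nat.odd_iff] at hFModd; omega
  obtain ⟨⟨C, hC⟩, hfixC⟩ := hR.nonempty_fixed_point_of_prime_not_dvd_card A hA
  induction C using QuotientGroup.induction_on with
  | _ g =>
    refine ⟨g, (hFM g).mp hC, fun r hr => ?_⟩
    have h := congrArg Subtype.val (hfixC ⟨r, hr⟩)
    change r • (QuotientGroup.mk g : G ⧸ (S : Subgroup G)) = QuotientGroup.mk g at h
    rw [MulAction.Quotient.smul_mk, smul_eq_mul, eq_comm, QuotientGroup.eq] at h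
    rwa [← mul_assoc] at h


/-- If no conjugate of `x` lies in `M`, some normal subgroup of index two avoids `x`. -/
theorem exists_index_two_notMem [Finite G] (S : Sylow 2 G) (M : Subgroup G)
    (hMS : M ≤ (S : Subgroup G)) (hM : M.relIndex (S : Subgroup G) = 2) (n : ℕ)
    (hord : ∀ y ∈ (S : Subgroup G), y ∉ M → 2 ^ n < 2 * orderOf y) (x : G)
    (hxn : orderOf x = 2 ^ n) (hno : ∀ g : G, g⁻¹ * x * g ∉ M) :
    ∃ K : Subgroup G, K.Normal ∧ K.index = 2 ∧ x ∉ K := by
  by_contra hK
  push_neg at hK
  have hxG : ∀ f : G →* ℤˣ, f x = 1 := by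
    intro f
    by_contra hx
    refine hx (MonoidHom.mem_ker.1 (hK f.ker inferInstance ?_))
    rw [Subgroup.index_ker]
    have hr : f.range = ⊤ := by
      rw [eq_top_iff]
      intro u _
      rcases Int.units_eq_one_or u with rfl | rfl
      · exact one_mem _
      · exact ⟨x, (Int.units_eq_one_or (f x)).resolve_left hx⟩
    rw [hr, Subgroup.card_top, Nat.card_eq_fintype_card]
    rfl
  obtain ⟨g, hg, -⟩ := thompson_transfer_elem S M hMS hM n hord x hxG hxn ⊥ IsPGroup.of_bot
    (fun r hr => by rw [Subgroup.mem_bot.1 hr, one_mul, mul_one])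
  exact hno g hg

end Cfsg.Agent.Invol
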