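import Cfsg.Agent.Lib.Invol.Basic
import Mathlib.GroupTheory.Sylow
import Mathlib.GroupTheory.Nilpotent
import Mathlib.GroupTheory.SpecificGroups.KleinFour
import Mathlib.Algebra.Group.Subgroup.Order

/-!
# A 2-group of rank at least three has a normal four subgroup
-/

namespace Cfsg.Agent.Invol.NormalFour

universe u

variable {S : Type*} [Group S]

/-- The four group of a central involution and a commuting involution. -/
def fourOf (z y : S) (hz : z * z = 1) (hy : y * y = 1) (hc : Commute z y) : Subgroup S where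
  carrier := {x | x = 1 ∨ x = z ∨ x = y ∨ x = z * y}
  one_mem' := Or.inl rfl
  mul_mem' := by
    intro a b ha hb
    simp only [Set.mem_setOf_eq] at ha hb ⊢
    have h1 : z * (z * y) = y := by rw [← mul_assoc, hz, one_mul]
    have h2 : y * (z * y) = z := by rw [hc.eq, ← mul_assoc, hy, one_mul]
    have h3 : (z * y) * z = y := by rw [hc.eq, mul_assoc, hz, mul_one]
    have h4 : (z * y) * y = z := by rw [mul_assoc, hy, mul_one]
    have h5 : (z * y) * (z * y) = 1 := by rw [← mul_assoc, h3, hy]
    rcases ha with rfl | rfl | rfl | rfl <;> rcases hb with rfl | rfl | rfl | rfl <;>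
      simp only [one_mul, mul_one, hz, hy, h1, h2, h3, h4, h5, hc.eq.symm, true_or, or_true]
  inv_mem' := by
    intro a ha
    simp only [Set.mem_setOf_eq] at ha ⊢
    have h5 : (z * y)⁻¹ = z * y := inv_eq_of_mul_eq_one_right (by
      rw [← mul_assoc, hc.eq, mul_assoc y z z, hz, mul_one, hy])
    rcases ha with rfl | rfl | rfl | rfl <;>
      simp only [inv_one, inv_eq_self_of_mul_self hz, inv_eq_self_of_mul_self hy, h5, true_or,
        or_true]

theorem mem_fourOf {z y x : S} {hz : z * z = 1} {hy : y * y = 1} {hc : Commute z y} :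
    x ∈ fourOf z y hz hy hc ↔ x = 1 ∨ x = z ∨ x = y ∨ x = z * y := Iff.rfl

variable [Finite S]

theorem fourOf_card {z y : S} {hz : z * z = 1} {hy : y * y = 1} {hc : Commute z y}
    (hz1 : z ≠ 1) (hy1 : y ≠ 1) (hne : y ≠ z) : Nat.card (fourOf z y hz hy hc) = 4 := by
  classical
  haveI := Fintype.ofFinite S
  rw [Nat.card_eq_fintype_card, Fintype.card_of_subtype ({1, z, y, z * y} : Finset S)
    (fun x => by simp [mem_fourOf])]
  have h1 : z * y ≠ 1 := fun e => hne ((inv_eq_of_mul_eq_one_right e).symm.trans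
    (inv_eq_self_of_mul_self hz))
  have h2 : z * y ≠ z := fun e => hy1 (mul_eq_left.1 e)
  have h3 : z * y ≠ y := fun e => hz1 (mul_eq_right.1 e)
  rw [Finset.card_insert_of_notMem, Finset.card_insert_of_notMem, Finset.card_insert_of_notMem,
    Finset.card_singleton] <;> simp [hz1.symm, hy1.symm, hne.symm, h1.symm, h2.symm, h3.symm]

omit [Finite S] in
/-- A four group containing a central involution with the other generator moved inside it is
normal. -/
theorem fourOf_normal {z y : S} {hz : z * z = 1} {hy : y * y = 1} {hc : Commute z y}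
    (hzc : ∀ g : S, g * z * g⁻¹ = z)
    (hyc : ∀ g : S, g * y * g⁻¹ = y ∨ g * y * g⁻¹ = z * y) : (fourOf z y hz hy hc).Normal := by
  refine ⟨fun x hx g => ?_⟩
  rcases hx with rfl | rfl | rfl | rfl
  · exact Or.inl (by rw [mul_one, mul_inv_cancel])
  · exact Or.inr (Or.inl (hzc g))
  · rcases hyc g with h | h
    · exact Or.inr (Or.inr (Or.inl h))
    · exact Or.inr (Or.inr (Or.inr h))
  · rw [show g * (z * y) * g⁻¹ = (g * z * g⁻¹) * (g * y * g⁻¹) by group, hzc g]
    rcases hyc g with h | h <;> rw [h]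
    · exact Or.inr (Or.inr (Or.inr rfl))
    · exact Or.inr (Or.inr (Or.inl (by rw [← mul_assoc, hz, one_mul])))

/-- A normal subgroup strictly containing a central subgroup of order two meets the second
centre outside of it. -/
theorem exists_second_center (hS : IsPGroup 2 S) {z : S} (hz : z * z = 1)
    (hzc : ∀ g : S, g * z * g⁻¹ = z) (N : Subgroup S) [N.Normal] (hzN : z ∈ N)
    (hN : ∃ x ∈ N, x ≠ 1 ∧ x ≠ z) :
    ∃ y ∈ N, y ≠ 1 ∧ y ≠ z ∧ (y * y = 1 ∨ y * y = z) ∧
      ∀ g : S, g * y * g⁻¹ = y ∨ g * y * g⁻¹ = z * y := by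
  haveI : Fact (Nat.Prime 2) := ⟨Nat.prime_two⟩
  set Z := Subgroup.zpowers z
  have hmem : ∀ x, x ∈ Z ↔ x = 1 ∨ x = z := fun x => by
    refine ⟨fun hx => ?_, ?_⟩
    · obtain ⟨k, rfl⟩ := Subgroup.mem_zpowers_iff.1 hx
      rcases Int.even_or_odd k with ⟨j, rfl⟩ | ⟨j, rfl⟩
      · left
        rw [← two_mul, zpow_mul, zpow_two, hz, one_zpow]
      · right
        rw [zpow_add, zpow_mul, zpow_two, hz, one_zpow, one_mul, zpow_one]
    · rintro (rfl | rfl)
      · exact Z.one_mem
      · exact Subgroup.mem_zpowers _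
  haveI : Z.Normal := ⟨fun x hx g => by
    rcases (hmem x).1 hx with rfl | rfl
    · rw [mul_one, mul_inv_cancel]; exact Z.one_mem
    · rw [hzc g]; exact Subgroup.mem_zpowers _⟩
  set Nb := N.map (QuotientGroup.mk' Z)
  haveI : Nb.Normal := (inferInstance : N.Normal).map _ (QuotientGroup.mk'_surjective Z)
  have hNb : Nb ≠ ⊥ := fun h => by
    obtain ⟨x, hx, h1, h2⟩ := hN
    have : ((x : S ⧸ Z)) = 1 := Subgroup.mem_bot.1 (h ▸ Subgroup.mem_map_of_mem _ hx)
    rcases (hmem x).1 ((QuotientGroup.eq_one_iff x).1 this) with e | e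
    · exact h1 e
    · exact h2 e
  -- a fixed point of conjugation on the image
  have hdvd : 2 ∣ Nat.card Nb := by
    obtain ⟨k, hk⟩ := IsPGroup.iff_card.1 ((hS.to_quotient Z).to_subgroup Nb)
    rcases k with _ | k
    · exact absurd (Subgroup.eq_bot_of_card_eq _ (by rw [hk, pow_zero])) hNb
    · exact ⟨2 ^ k, by rw [hk, pow_succ']⟩
  letI act : MulAction (S ⧸ Z) Nb :=
    MulAction.compHom Nb (MulAut.conjNormal (H := Nb))
  have hone : (1 : Nb) ∈ MulAction.fixedPoints (S ⧸ Z) Nb := fun g =>
    map_one (MulAut.conjNormal g)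
  obtain ⟨w, hw, hw1⟩ := (hS.to_quotient Z).exists_fixed_point_of_prime_dvd_card_of_fixed_point
    (α := Nb) hdvd hone
  -- an element of order two among the powers of `w`
  obtain ⟨k, hk⟩ := IsPGroup.iff_orderOf.1 (hS.to_quotient Z) (w : S ⧸ Z)
  rcases k with _ | k
  · exact absurd (Subtype.ext (orderOf_eq_one_iff.1 (by rw [hk, pow_zero]))) hw1.symm
  set v := (w : S ⧸ Z) ^ 2 ^ k with hv
  have hv2 : orderOf v = 2 := by
    rw [hv, orderOf_pow' _ (by positivity), hk,
      Nat.gcd_eq_right (pow_dvd_pow 2 (Nat.le_succ k)), pow_succ,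
      Nat.mul_div_cancel_left _ (Nat.two_pow_pos k)]
  obtain ⟨y, hy, hyv⟩ := Nb.pow_mem w.2 (2 ^ k)
  rw [← hv, QuotientGroup.mk'_apply] at hyv
  have hy1 : (y : S ⧸ Z) ≠ 1 := hyv ▸ ne_one_of_orderOf_two hv2
  refine ⟨y, hy, fun e => hy1 (by rw [e, QuotientGroup.mk_one]),
    fun e => hy1 ((QuotientGroup.eq_one_iff y).2 (e ▸ Subgroup.mem_zpowers _)),
    (hmem _).1 ((QuotientGroup.eq_one_iff _).1 ?_), fun g => ?_⟩
  · rw [QuotientGroup.mk_mul, hyv, mul_self_of_orderOf_two hv2]
  · have h1 : (g : S ⧸ Z) * (w : S ⧸ Z) * (g : S ⧸ Z)⁻¹ = w := congrArg Subtype.val (hw (g : S ⧸ Z))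
    have h2 : (g * y * g⁻¹ * y⁻¹) ∈ Z := by
      rw [← QuotientGroup.eq_one_iff, QuotientGroup.mk_mul, QuotientGroup.mk_mul,
        QuotientGroup.mk_mul, QuotientGroup.mk_inv, QuotientGroup.mk_inv, hyv, hv, ← conj_pow, h1,
        mul_inv_cancel]
    rcases (hmem _).1 h2 with e | e
    · exact Or.inl (mul_inv_eq_one.1 e)
    · exact Or.inr (by rw [← e, inv_mul_cancel_right])

theorem conj_eq_of_commute {z g : S} (h : Commute g z) : g * z * g⁻¹ = z := by
  rw [h.eq, mul_inv_cancel_right]

/-- A 2-group containing an elementary abelian subgroup of order eight has a normal four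
subgroup. -/
theorem exists_normal_four : ∀ (n : ℕ) (S : Type u) [Group S] [Finite S], Nat.card S ≤ n →
    IsPGroup 2 S → ∀ E : Subgroup S, 8 ≤ Nat.card E → (∀ e ∈ E, e * e = 1) →
      ∃ U : Subgroup S, U.Normal ∧ Nat.card U = 4 ∧ ∀ x ∈ U, x * x = 1 := by
  intro n
  induction n with
  | zero =>
    intro S _ _ h
    have := Nat.card_pos (α := S)
    omega
  | succ n ih =>
  intro S _ _ hn hS E hE hE2
  haveI : Fact (Nat.Prime 2) := ⟨Nat.prime_two⟩
  have hEc : ∀ a ∈ E, ∀ b ∈ E, a * b = b * a := fun a ha b hb => by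
    have h := hE2 _ (E.mul_mem ha hb)
    calc a * b = (a * b)⁻¹ := (inv_eq_self_of_mul_self h).symm
      _ = b⁻¹ * a⁻¹ := mul_inv_rev _ _
      _ = b * a := by rw [inv_eq_self_of_mul_self (hE2 a ha), inv_eq_self_of_mul_self (hE2 b hb)]
  -- two central involutions
  have hcentral : ∀ y y' : S, y * y = 1 → y' * y' = 1 → y ≠ 1 → y' ≠ 1 → y' ≠ y →
      (∀ g : S, g * y * g⁻¹ = y) → (∀ g : S, g * y' * g⁻¹ = y' ∨ g * y' * g⁻¹ = y * y') →
      ∃ U : Subgroup S, U.Normal ∧ Nat.card U = 4 ∧ ∀ x ∈ U, x * x = 1 := by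
    intro y y' h1 h2 h3 h4 h5 h6 h7
    have hc : Commute y y' := by
      have := h6 y'
      exact (mul_inv_eq_iff_eq_mul.1 this).symm
    refine ⟨fourOf y y' h1 h2 hc, fourOf_normal h6 h7, fourOf_card h3 h4 h5, ?_⟩
    intro x hx
    rcases hx with rfl | rfl | rfl | rfl
    · exact mul_one 1
    · exact h1
    · exact h2
    · calc y * y' * (y * y') = (y * y) * (y' * y') := hc.symm.mul_mul_mul_comm _ _
        _ = 1 := by rw [h1, h2, mul_one]
  by_cases hEtop : E = ⊤
  · have hall : ∀ x : S, x * x = 1 := fun x => hE2 x (hEtop ▸ Subgroup.mem_top x)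
    have hcomm : ∀ x g : S, g * x * g⁻¹ = x := fun x g =>
      conj_eq_of_commute (hEc g (hEtop ▸ Subgroup.mem_top g) x (hEtop ▸ Subgroup.mem_top x))
    haveI : Nontrivial E := Finite.one_lt_card_iff_nontrivial.1 (by omega)
    obtain ⟨a, ha⟩ := exists_ne (1 : E)
    obtain ⟨b, hb1, hb2⟩ : ∃ b : E, b ≠ 1 ∧ b ≠ a := by
      by_contra h
      push Not at h
      classical
      haveI := Fintype.ofFinite E
      have : (Finset.univ : Finset E) ⊆ {1, a} := fun x _ => by
        by_cases hx : x = 1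
        · simp [hx]
        · simp [h x hx]
      have := (Finset.card_le_card this).trans (Finset.card_insert_le _ _)
      rw [Finset.card_univ, Finset.card_singleton, ← Nat.card_eq_fintype_card] at this
      omega
    exact hcentral a b (hall _) (hall _) (fun e => ha (Subtype.ext e)) (fun e => hb1 (Subtype.ext e))
      (fun e => hb2 (Subtype.ext e)) (hcomm _) (fun g => Or.inl (hcomm _ g))
  -- a maximal subgroup containing `E`
  obtain ⟨M, hM, hEM⟩ := (eq_top_or_exists_le_coatom E).resolve_left hEtop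
  haveI : Group.IsNilpotent S := hS.isNilpotent
  haveI hMN : M.Normal := Subgroup.NormalizerCondition.normal_of_coatom M
    Group.normalizerCondition_of_isNilpotent hM
  have hMlt : Nat.card M ≤ n := by
    have : Nat.card M < Nat.card S := by
      refine lt_of_le_of_ne (Subgroup.card_le_card_group M) fun h => hM.1 ?_
      exact Subgroup.eq_top_of_card_eq M h
    omega
  obtain ⟨U₀, hU₀n, hU₀c, hU₀2⟩ := ih M hMlt (hS.to_subgroup M) (E.subgroupOf M)
    (by rwa [Nat.card_congr (Subgroup.subgroupOfEquivOfLe hEM).toEquiv])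
    (fun e he => Subtype.ext (hE2 _ (Subgroup.mem_subgroupOf.1 he)))
  -- a central involution
  haveI : Nontrivial S := Finite.one_lt_card_iff_nontrivial.1
    (by have := Subgroup.card_le_card_group E; omega)
  obtain ⟨z, hzZ, hz⟩ : ∃ z ∈ Subgroup.center S, orderOf z = 2 := by
    haveI := hS.center_nontrivial
    obtain ⟨k, hk⟩ := IsPGroup.iff_card.1 (hS.to_subgroup (Subgroup.center S))
    have h2 : 2 ∣ Nat.card (Subgroup.center S) := by
      rcases k with _ | k
      · have := Finite.one_lt_card (α := Subgroup.center S)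
        rw [hk, pow_zero] at this
        exact absurd this (lt_irrefl _)
      · exact ⟨2 ^ k, by rw [hk, pow_succ']⟩
    obtain ⟨z, hz⟩ := exists_prime_orderOf_dvd_card' 2 h2
    exact ⟨z, z.2, by rwa [Subgroup.orderOf_coe]⟩
  have hz2 := mul_self_of_orderOf_two hz
  have hz1 := ne_one_of_orderOf_two hz
  have hzc : ∀ g : S, g * z * g⁻¹ = z := fun g =>
    conj_eq_of_commute (Subgroup.mem_center_iff.1 hzZ g)
  by_cases hone : ∃ y : S, y * y = 1 ∧ y ≠ 1 ∧ y ≠ z ∧
      ∀ g : S, g * y * g⁻¹ = y ∨ g * y * g⁻¹ = z * y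
  · obtain ⟨y, h1, h2, h3, h4⟩ := hone
    exact hcentral z y hz2 h1 hz1 h2 h3 hzc h4
  push Not at hone
  exfalso
  have hsq : ∀ (N : Subgroup S), N.Normal → z ∈ N → (∃ x ∈ N, x ≠ 1 ∧ x ≠ z) →
      ∃ y ∈ N, y * y = z ∧ y ≠ 1 ∧ y ≠ z ∧ ∀ g : S, g * y * g⁻¹ = y ∨ g * y * g⁻¹ = z * y := by
    intro N hN hzN hx
    haveI := hN
    obtain ⟨y, hy, h1, h2, h3, h4⟩ := exists_second_center hS hz2 hzc N hzN hx
    rcases h3 with h3 | h3
    · obtain ⟨g, hg1, hg2⟩ := hone y h3 h1 h2
      exact absurd ((h4 g).resolve_left hg1) hg2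
    · exact ⟨y, hy, h3, h1, h2, h4⟩
  -- the four subgroup of `M`, seen in `S`
  set U := U₀.map M.subtype with hU
  have hUM : U ≤ M := Subgroup.map_subtype_le _
  have hU2 : ∀ x ∈ U, x * x = 1 := by
    rintro _ ⟨x, hx, rfl⟩
    exact congrArg Subtype.val (hU₀2 x hx)
  have hUc : Nat.card U = 4 := by rw [hU, Subgroup.card_map_of_injective M.subtype_injective, hU₀c]
  have hUn : ∀ m ∈ M, ∀ x ∈ U, m * x * m⁻¹ ∈ U := by
    rintro m hm _ ⟨x, hx, rfl⟩
    exact ⟨⟨m, hm⟩ * x * ⟨m, hm⟩⁻¹, hU₀n.conj_mem x hx _, rfl⟩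
  have hUcomm : ∀ a ∈ U, ∀ b ∈ U, a * b = b * a := fun a ha b hb => by
    have h := hU2 _ (U.mul_mem ha hb)
    calc a * b = (a * b)⁻¹ := (inv_eq_self_of_mul_self h).symm
      _ = b⁻¹ * a⁻¹ := mul_inv_rev _ _
      _ = b * a := by rw [inv_eq_self_of_mul_self (hU2 a ha), inv_eq_self_of_mul_self (hU2 b hb)]
  -- the normal closure inside `M`
  set W := Subgroup.normalClosure (U : Set S)
  have hWM : W ≤ M := Subgroup.normalClosure_le_normal hUM
  have hUW : U ≤ W := Subgroup.le_normalClosure
  haveI : Nontrivial U := Finite.one_lt_card_iff_nontrivial.1 (by omega)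
  obtain ⟨u₀, hu₀⟩ := exists_ne (1 : U)
  have hzW : z ∈ W := by
    by_contra hzW
    -- `W` meets the centre
    haveI : W.Normal := Subgroup.normalClosure_normal
    set Wz := W ⊔ Subgroup.zpowers z
    have hdvd : 2 ∣ Nat.card W := by
      obtain ⟨k, hk⟩ := IsPGroup.iff_card.1 (hS.to_subgroup W)
      rcases k with _ | k
      · exfalso
        have := Subgroup.eq_bot_of_card_eq W (by rw [hk, pow_zero])
        exact hu₀ (Subtype.ext (Subgroup.mem_bot.1 (this ▸ hUW u₀.2)))
      · exact ⟨2 ^ k, by rw [hk, pow_succ']⟩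
    letI act : MulAction S W := MulAction.compHom W (MulAut.conjNormal (H := W))
    obtain ⟨w, hw, hw1⟩ := hS.exists_fixed_point_of_prime_dvd_card_of_fixed_point
      (α := W) hdvd (show (1 : W) ∈ MulAction.fixedPoints S W from fun g =>
        map_one (MulAut.conjNormal g))
    obtain ⟨k, hk⟩ := IsPGroup.iff_orderOf.1 hS (w : S)
    rcases k with _ | k
    · exact hw1 (Subtype.ext (orderOf_eq_one_iff.1 (by rw [hk, pow_zero]))).symm
    have hord : orderOf ((w : S) ^ 2 ^ k) = 2 := by
      rw [orderOf_pow' _ (by positivity), hk, Nat.gcd_eq_right (pow_dvd_pow 2 (Nat.le_succ k)),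
        pow_succ, Nat.mul_div_cancel_left _ (Nat.two_pow_pos k)]
    obtain ⟨g, hg, -⟩ := hone _ (mul_self_of_orderOf_two hord) (ne_one_of_orderOf_two hord)
      (fun e => hzW (e ▸ W.pow_mem w.2 _))
    exact hg (by rw [← conj_pow, show g * (w : S) * g⁻¹ = w from congrArg Subtype.val (hw g)])
  -- `z` lies in every conjugate of `U`
  have hzU : z ∈ U := by
    by_contra hzU
    -- `U` meets the centre of `M`
    have hdvd : 2 ∣ Nat.card U₀ := by rw [hU₀c]; norm_num
    letI act : MulAction M U₀ := MulAction.compHom U₀ (MulAut.conjNormal (H := U₀))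
    obtain ⟨w, hw, hw1⟩ := (hS.to_subgroup M).exists_fixed_point_of_prime_dvd_card_of_fixed_point
      (α := U₀) hdvd (show (1 : U₀) ∈ MulAction.fixedPoints M U₀ from fun g =>
        map_one (MulAut.conjNormal g))
    set a := ((w : M) : S) with ha
    have haU : a ∈ U := ⟨w, w.2, rfl⟩
    have ha1 : a ≠ 1 := fun e => hw1 (Subtype.ext (Subtype.ext e)).symm
    have haz : a ≠ z := fun e => hzU (e ▸ haU)
    have hac : ∀ m ∈ M, m * a * m⁻¹ = a := fun m hm =>
      congrArg (fun q : U₀ => ((q : M) : S)) (hw ⟨m, hm⟩)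
    -- the involutions central in `M`
    set Ω : Subgroup S :=
      { carrier := {x | x ∈ M ∧ x * x = 1 ∧ ∀ m ∈ M, m * x = x * m}
        one_mem' := ⟨M.one_mem, mul_one 1, fun m _ => by rw [mul_one, one_mul]⟩
        mul_mem' := fun {x y} hx hy => ⟨M.mul_mem hx.1 hy.1, by
          calc x * y * (x * y) = (x * x) * (y * y) :=
              Commute.mul_mul_mul_comm (hx.2.2 y hy.1) _ _
            _ = 1 := by rw [hx.2.1, hy.2.1, mul_one],
          fun m hm => by rw [← mul_assoc, hx.2.2 m hm, mul_assoc, hy.2.2 m hm, mul_assoc]⟩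
        inv_mem' := fun {x} hx => by
          rw [inv_eq_self_of_mul_self hx.2.1]
          exact hx }
    have hΩn : Ω.Normal := ⟨fun x hx g => ⟨hMN.conj_mem x hx.1 g, by
      rw [conj_mul, hx.2.1, mul_one, mul_inv_cancel], fun m hm => by
        have h := hx.2.2 (g⁻¹ * m * g) (by simpa using hMN.conj_mem m hm g⁻¹)
        calc m * (g * x * g⁻¹) = g * ((g⁻¹ * m * g) * x) * g⁻¹ := by group
          _ = g * x * g⁻¹ * m := by rw [h]; group⟩⟩
    have hzΩ : z ∈ Ω := ⟨hWM hzW, hz2, fun m _ => Subgroup.mem_center_iff.1 hzZ m⟩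
    have haΩ : a ∈ Ω := ⟨hUM haU, hU2 a haU, fun m hm => mul_inv_eq_iff_eq_mul.1 (hac m hm)⟩
    obtain ⟨y, hy, hyy, hy1, -⟩ := hsq Ω hΩn hzΩ ⟨a, haΩ, ha1, haz⟩
    exact hz1 (hyy.symm.trans hy.2.1)
  obtain ⟨u, huU, hu1, huz⟩ : ∃ u ∈ U, u ≠ 1 ∧ u ≠ z := by
    by_contra h
    push Not at h
    have hle : U ≤ Subgroup.zpowers z := fun x hx => by
      by_cases hx1 : x = 1
      · rw [hx1]; exact one_mem _
      · rw [h x hx hx1]; exact Subgroup.mem_zpowers z
    have := Subgroup.card_le_of_le hle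
    rw [Nat.card_zpowers, hz, hUc] at this
    omega
  have hu2 := hU2 u huU
  have hUeq : ∀ x ∈ U, x = 1 ∨ x = z ∨ x = u ∨ x = z * u := by
    have hc : Commute z u := (Subgroup.mem_center_iff.1 hzZ u).symm
    have hle : fourOf z u hz2 hu2 hc ≤ U := by
      intro x hx
      rcases hx with rfl | rfl | rfl | rfl
      · exact U.one_mem
      · exact hzU
      · exact huU
      · exact U.mul_mem hzU huU
    have := Subgroup.eq_of_le_of_card_ge hle (by rw [fourOf_card hz1 hu1 huz, hUc])
    intro x hx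
    rw [← this] at hx
    exact hx
  obtain ⟨s, hs1, hs2⟩ := hone u hu2 hu1 huz
  set u' := s * u * s⁻¹ with hu'
  have hu'M : u' ∈ M := hMN.conj_mem u (hUM huU) s
  have hu'2 : u' * u' = 1 := by rw [hu', conj_mul, hu2, mul_one, mul_inv_cancel]
  have hmove : ∀ m ∈ M, (m * u * m⁻¹ = u ∨ m * u * m⁻¹ = z * u) := by
    intro m hm
    rcases hUeq _ (hUn m hm u huU) with h | h | h | h
    · exact absurd (conj_eq_one_iff.1 h) hu1
    · refine absurd ?_ huz
      calc u = m⁻¹ * (m * u * m⁻¹) * m := by group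
        _ = m⁻¹ * z * m := by rw [h]
        _ = z := by
          conv_lhs => rw [← hzc m]
          group
    · exact Or.inl h
    · exact Or.inr h
  have hmove' : ∀ m ∈ M, (m * u' * m⁻¹ = u' ∨ m * u' * m⁻¹ = z * u') := by
    intro m hm
    have e : m * u' * m⁻¹ = s * ((s⁻¹ * m * s) * u * (s⁻¹ * m * s)⁻¹) * s⁻¹ := by rw [hu']; group
    rcases hmove _ (show s⁻¹ * m * s ∈ M by simpa using hMN.conj_mem m hm s⁻¹) with h | h <;>
      rw [e, h]
    · exact Or.inl rfl
    · refine Or.inr ?_
      rw [show s * (z * u) * s⁻¹ = (s * z * s⁻¹) * (s * u * s⁻¹) by group, hzc s]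
  -- a second central element inside the centralizer of the two four groups
  set C₀ : Subgroup S := M ⊓ Subgroup.centralizer ({u, u'} : Set S) with hC₀
  have hWcl : ∀ g : S, g * u * g⁻¹ = u ∨ g * u * g⁻¹ = z * u ∨
      g * u * g⁻¹ = u' ∨ g * u * g⁻¹ = z * u' := by
    intro g
    by_cases hg : g ∈ M
    · rcases hmove g hg with h | h
      · exact Or.inl h
      · exact Or.inr (Or.inl h)
    · have hidx : M.index = 2 := by
        obtain ⟨k, hk⟩ := IsPGroup.iff_card.1 hS
        haveI : Finite (S ⧸ M) := inferInstance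
        have hq : IsPGroup 2 (S ⧸ M) := hS.to_quotient M
        have hsimple : ∀ K : Subgroup (S ⧸ M), K = ⊥ ∨ K = ⊤ := fun K => by
          by_cases hK : K.comap (QuotientGroup.mk' M) = M
          · left
            apply Subgroup.comap_injective (QuotientGroup.mk'_surjective M)
            rw [hK, MonoidHom.comap_bot, QuotientGroup.ker_mk']
          · right
            have hle : M ≤ K.comap (QuotientGroup.mk' M) := fun x hx => by
              rw [Subgroup.mem_comap, QuotientGroup.mk'_apply, (QuotientGroup.eq_one_iff x).2 hx]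
              exact K.one_mem
            apply Subgroup.comap_injective (QuotientGroup.mk'_surjective M)
            rw [Subgroup.comap_top, hM.2 _ (lt_of_le_of_ne hle (Ne.symm hK))]
        haveI : Nontrivial (S ⧸ M) := QuotientGroup.nontrivial_iff.2 hM.1
        obtain ⟨t, ht⟩ : ∃ t : S ⧸ M, orderOf t = 2 := by
          obtain ⟨j, hj⟩ := IsPGroup.iff_card.1 hq
          refine exists_prime_orderOf_dvd_card' 2 ?_
          rcases j with _ | j
          · have := Finite.one_lt_card (α := S ⧸ M)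
            rw [hj, pow_zero] at this
            exact absurd this (lt_irrefl _)
          · exact ⟨2 ^ j, by rw [hj, pow_succ']⟩
        rw [Subgroup.index_eq_card, ← Subgroup.card_top, ← ((hsimple (Subgroup.zpowers t)).resolve_left
          fun e => ne_one_of_orderOf_two ht (Subgroup.mem_bot.1 (e ▸ Subgroup.mem_zpowers t))),
          Nat.card_zpowers, ht]
      have hsM : s ∉ M := fun hs => by
        rcases hmove s hs with h | h
        · exact hs1 h
        · exact hs2 h
      have hgs : s⁻¹ * g ∈ M := by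
        have := (Subgroup.mul_mem_iff_of_index_two hidx (a := s⁻¹) (b := g))
        rw [inv_mem_iff] at this
        exact this.2 (iff_of_false hsM hg)
      have e : g * u * g⁻¹ = s * ((s⁻¹ * g) * u * (s⁻¹ * g)⁻¹) * s⁻¹ := by group
      rcases hmove _ hgs with h | h
      · right; right; left
        rw [e, h]
      · right; right; right
        rw [e, h, show s * (z * u) * s⁻¹ = (s * z * s⁻¹) * (s * u * s⁻¹) by group, hzc s]
  have hC₀n : C₀.Normal := by
    refine ⟨fun c hc g => ⟨hMN.conj_mem c hc.1 g, ?_⟩⟩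
    have hcu : ∀ x : S, (x = u ∨ x = z * u ∨ x = u' ∨ x = z * u') → c * x = x * c := by
      have h1 := (Subgroup.mem_centralizer_iff.1 hc.2 u (by simp)).symm
      have h2 := (Subgroup.mem_centralizer_iff.1 hc.2 u' (by simp)).symm
      have h3 : c * z = z * c := Subgroup.mem_center_iff.1 hzZ c
      rintro x (rfl | rfl | rfl | rfl)
      · exact h1
      · exact (Commute.mul_right h3 h1 : Commute c (z * u))
      · exact h2
      · exact (Commute.mul_right h3 h2 : Commute c (z * u'))
    refine Subgroup.mem_centralizer_iff.2 ?_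
    have key : ∀ x : S, c * (g⁻¹ * x * g) = g⁻¹ * x * g * c → x * (g * c * g⁻¹) = g * c * g⁻¹ * x := by
      intro x hx
      calc x * (g * c * g⁻¹) = g * ((g⁻¹ * x * g) * c) * g⁻¹ := by group
        _ = g * c * g⁻¹ * x := by rw [← hx]; group
    rintro x (rfl | rfl)
    · exact key _ (hcu _ (by simpa using hWcl g⁻¹))
    · refine key _ (hcu _ ?_)
      have e : g⁻¹ * u' * g = (g⁻¹ * s) * u * (g⁻¹ * s)⁻¹ := by rw [hu']; group
      rw [e]
      exact hWcl _
  have hzC₀ : z ∈ C₀ := ⟨hWM hzW, Subgroup.mem_centralizer_iff.2 fun x _ =>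
    Subgroup.mem_center_iff.1 hzZ x⟩
  -- `u` and `u'` do not commute
  have hnc : u * u' ≠ u' * u := by
    intro hcom
    -- otherwise `⟨z, u, u'⟩` is normal and elementary
    set Ω : Subgroup S := Subgroup.closure {z, u, u'}
    have hΩ : ∀ x ∈ Ω, x * x = 1 ∧ Commute x z ∧ Commute x u ∧ Commute x u' := by
      intro x hx
      induction hx using Subgroup.closure_induction with
      | mem x hx =>
        have hzu : Commute z u := (Subgroup.mem_center_iff.1 hzZ u).symm
        have hzu' : Commute z u' := (Subgroup.mem_center_iff.1 hzZ u').symm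
        rcases hx with rfl | rfl | rfl
        · exact ⟨hz2, Commute.refl _, hzu, hzu'⟩
        · exact ⟨hu2, hzu.symm, Commute.refl _, hcom⟩
        · exact ⟨hu'2, hzu'.symm, (show Commute u u' from hcom).symm, Commute.refl _⟩
      | one => exact ⟨mul_one 1, Commute.one_left _, Commute.one_left _, Commute.one_left _⟩
      | mul a b ha hb ia ib =>
        refine ⟨?_, ia.2.1.mul_left ib.2.1, ia.2.2.1.mul_left ib.2.2.1, ia.2.2.2.mul_left ib.2.2.2⟩
        have hab : Commute a b := by
          clear ib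
          induction hb using Subgroup.closure_induction with
          | mem y hy =>
            rcases hy with rfl | rfl | rfl
            · exact ia.2.1
            · exact ia.2.2.1
            · exact ia.2.2.2
          | one => exact Commute.one_right _
          | mul c d _ _ h h' => exact h.mul_right h'
          | inv c _ h => exact h.inv_right
        rw [hab.symm.mul_mul_mul_comm, ia.1, ib.1, mul_one]
      | inv a _ ia =>
        exact ⟨by rw [inv_eq_self_of_mul_self ia.1]; exact ia.1, ia.2.1.inv_left, ia.2.2.1.inv_left,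
          ia.2.2.2.inv_left⟩
    have hΩn : Ω.Normal := by
      refine ⟨fun x hx g => ?_⟩
      have hle : Ω.map (MulAut.conj g).toMonoidHom ≤ Ω := by
        rw [MonoidHom.map_closure, Subgroup.closure_le]
        rintro _ ⟨y, hy, rfl⟩
        have hz' : z ∈ Ω := Subgroup.subset_closure (by simp)
        have hu'' : u ∈ Ω := Subgroup.subset_closure (by simp)
        have hu''' : u' ∈ Ω := Subgroup.subset_closure (by simp)
        have hh : ∀ q : S, q * u * q⁻¹ ∈ Ω := fun q => by
          rcases hWcl q with h | h | h | h <;> rw [h]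
          · exact hu''
          · exact mul_mem hz' hu''
          · exact hu'''
          · exact mul_mem hz' hu'''
        show g * y * g⁻¹ ∈ Ω
        rcases hy with rfl | rfl | rfl
        · rw [hzc g]; exact hz'
        · exact hh g
        · rw [show g * (s * u * s⁻¹) * g⁻¹ = (g * s) * u * (g * s)⁻¹ by group]; exact hh _
      exact hle (Subgroup.mem_map_of_mem (MulAut.conj g).toMonoidHom hx)
    obtain ⟨y, hy, hyy, -⟩ := hsq Ω hΩn (Subgroup.subset_closure (by simp))
      ⟨u, Subgroup.subset_closure (by simp), hu1, huz⟩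
    exact hz1 (hyy.symm.trans (hΩ y hy).1)
  have huu' : (u * u') * (u * u') = z := by
    rcases hmove u' hu'M with h | h
    · exact absurd (mul_inv_eq_iff_eq_mul.1 h).symm hnc
    · rw [inv_eq_self_of_mul_self hu'2] at h
      calc (u * u') * (u * u') = u * (u' * u * u') := by group
        _ = u * (z * u) := by rw [h]
        _ = z * (u * u) := by rw [← mul_assoc, Subgroup.mem_center_iff.1 hzZ u, mul_assoc]
        _ = z := by rw [hu2, mul_one]
  set r := u * u' with hr
  have hzr : ∀ a b : S, (z * a) * b = z * (a * b) ∧ a * (z * b) = z * (a * b) := fun a b =>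
    ⟨mul_assoc _ _ _, by rw [← mul_assoc, Subgroup.mem_center_iff.1 hzZ a, mul_assoc]⟩
  have hru : r * u = u * r → False := fun h => hnc (by
    have := h
    rw [hr, mul_assoc u u'] at this
    exact (mul_left_cancel this).symm)
  have hu'u : u' * u = z * r := by
    have h1 : r⁻¹ = z * r := inv_eq_of_mul_eq_one_left (by rw [mul_assoc, huu', hz2])
    rw [← h1, hr, mul_inv_rev, inv_eq_self_of_mul_self hu2, inv_eq_self_of_mul_self hu'2]
  have hrmove : ∀ g : S, g * r * g⁻¹ = r ∨ g * r * g⁻¹ = z * r := by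
    intro g
    have e : g * r * g⁻¹ = (g * u * g⁻¹) * ((g * s) * u * (g * s)⁻¹) := by
      rw [hr, hu']; group
    have hbad : g * r * g⁻¹ ≠ 1 ∧ g * r * g⁻¹ ≠ z := by
      refine ⟨fun h => hru ?_, fun h => hru ?_⟩
      · rw [show r = 1 from conj_eq_one_iff.1 h, one_mul, mul_one]
      · have : r = z := by
          calc r = g⁻¹ * (g * r * g⁻¹) * g := by group
            _ = g⁻¹ * z * g := by rw [h]
            _ = z := by
              conv_lhs => rw [← hzc g]
              group
        rw [this]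
        exact (Subgroup.mem_center_iff.1 hzZ u).symm
    have hzz : ∀ a : S, z * (z * a) = a := fun a => by rw [← mul_assoc, hz2, one_mul]
    rcases hWcl g with h1 | h1 | h1 | h1 <;> rcases hWcl (g * s) with h2 | h2 | h2 | h2 <;>
      rw [h1, h2] at e <;>
      (try simp only [(hzr _ _).1, (hzr _ _).2, hz2, hu2, hu'2, hzz, hu'u, mul_one, ← hr] at e) <;>
      first
        | exact Or.inl e
        | exact Or.inr e
        | exact absurd e hbad.1
        | exact absurd e hbad.2
  -- an element of `M` outside `⟨z⟩` centralizing both four groups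
  obtain ⟨c, hc, hcz⟩ : ∃ c ∈ C₀, c ≠ 1 ∧ c ≠ z := by
    by_contra h
    push Not at h
    classical
    have hbool : ∀ (x : S) (a b : S), (a = x ∨ a = z * x) → (b = x ∨ b = z * x) →
        (decide (a = x) = decide (b = x)) → a = b := by
      intro x a b ha hb hd
      have hne : z * x ≠ x := fun e => hz1 (mul_eq_right.1 e)
      rcases ha with rfl | rfl <;> rcases hb with rfl | rfl
      · rfl
      · simp [hne] at hd
      · simp [hne] at hd
      · rfl
    have hC2 : Nat.card C₀ ≤ 2 := by
      refine (Subgroup.card_le_of_le (K := Subgroup.zpowers z) fun x hx => ?_).trans_eq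
        (by rw [Nat.card_zpowers, hz])
      by_cases hx1 : x = 1
      · rw [hx1]; exact one_mem _
      · rw [h x hx hx1]; exact Subgroup.mem_zpowers z
    let φ : M → Bool × Bool := fun m => (decide ((m : S) * u * (m : S)⁻¹ = u),
      decide ((m : S) * u' * (m : S)⁻¹ = u'))
    have hM8 : Nat.card M ≤ 8 := by
      haveI := Fintype.ofFinite M
      rw [Nat.card_eq_fintype_card, ← Finset.card_univ]
      refine (Finset.card_le_mul_card_image (f := φ) Finset.univ 2 fun v _ => ?_).trans ?_
      · rcases (Finset.univ.filter fun m => φ m = v).eq_empty_or_nonempty with h0 | ⟨m₀, hm₀⟩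
        · simp [h0]
        · refine le_trans ?_ hC2
          haveI := Fintype.ofFinite C₀
          rw [← Fintype.card_coe, ← Nat.card_eq_fintype_card]
          refine Nat.card_le_card_of_injective (fun m => ⟨(m₀ : S)⁻¹ * (m.1 : S),
            M.mul_mem (M.inv_mem m₀.2) m.1.2, ?_⟩) fun a b hab =>
              Subtype.ext (Subtype.ext (mul_left_cancel (congrArg Subtype.val hab)))
          simp only [Finset.mem_filter] at hm₀
          have hm := (Finset.mem_filter.1 m.2).2
          have h1 := hbool u _ _ (hmove _ m.1.2) (hmove _ m₀.2)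
            (congrArg Prod.fst (hm.trans hm₀.2.symm))
          have h2 := hbool u' _ _ (hmove' _ m.1.2) (hmove' _ m₀.2)
            (congrArg Prod.snd (hm.trans hm₀.2.symm))
          have key : ∀ x : S, (m.1 : S) * x * (m.1 : S)⁻¹ = (m₀ : S) * x * (m₀ : S)⁻¹ →
              x * ((m₀ : S)⁻¹ * m.1) = ((m₀ : S)⁻¹ * m.1) * x := by
            intro x hx
            calc x * ((m₀ : S)⁻¹ * m.1) = (m₀ : S)⁻¹ * ((m₀ : S) * x * (m₀ : S)⁻¹) * m.1 := by group
              _ = ((m₀ : S)⁻¹ * m.1) * x := by rw [← hx]; group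
          refine Subgroup.mem_centralizer_iff.2 ?_
          rintro x (rfl | rfl)
          · exact key _ h1
          · exact key _ h2
      · calc 2 * (Finset.univ.image φ).card ≤ 2 * 4 := Nat.mul_le_mul_left 2
              ((Finset.card_le_univ _).trans (by simp))
          _ = 8 := by norm_num
    have hME : E = M := Subgroup.eq_of_le_of_card_ge hEM (hM8.trans hE)
    exact hnc (hEc u (hME ▸ hUM huU) u' (hME ▸ hu'M))
  obtain ⟨y, hy, hyy, hy1, hyz, hymove⟩ := hsq C₀ hC₀n hzC₀ ⟨c, hc, hcz⟩
  have hry : Commute r y := by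
    have h1 := Subgroup.mem_centralizer_iff.1 hy.2 u (by simp)
    have h2 := Subgroup.mem_centralizer_iff.1 hy.2 u' (by simp)
    exact Commute.mul_left h1 h2
  have hry2 : (r * y) * (r * y) = 1 := by
    rw [hry.symm.mul_mul_mul_comm, huu', hyy, hz2]
  have hryne : r * y ≠ 1 ∧ r * y ≠ z := by
    have hyu : Commute y u := (Subgroup.mem_centralizer_iff.1 hy.2 u (by simp)).symm
    constructor
    · intro e
      refine hru ?_
      rw [eq_inv_of_mul_eq_one_left e]
      exact hyu.inv_left
    · intro e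
      refine hru ?_
      rw [eq_mul_inv_of_mul_eq e]
      exact (Commute.mul_left (Subgroup.mem_center_iff.1 hzZ u).symm hyu.inv_left : Commute (z * y⁻¹) u)
  obtain ⟨g, hg1, hg2⟩ := hone (r * y) hry2 hryne.1 hryne.2
  have e : g * (r * y) * g⁻¹ = (g * r * g⁻¹) * (g * y * g⁻¹) := by group
  rcases hrmove g with h1 | h1 <;> rcases hymove g with h2 | h2 <;> rw [h1, h2] at e
  · exact hg1 e
  · exact hg2 (e.trans (hzr r y).2)
  · exact hg2 (e.trans (hzr r y).1)
  · refine hg1 (e.trans ?_)
    rw [(hzr r (z * y)).1, (hzr r y).2, ← mul_assoc, hz2, one_mul]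

end Cfsg.Agent.Invol.NormalFour
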