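import Mathlib
import Cfsg.Agent.Lib.Invol.MaxClassTwo
import Cfsg.Agent.Lib.Invol.NormalFour
import Cfsg.Agent.Lib.OddLocal.Puig
import Cfsg.Agent.Lib.InvChar.OneSubgroup

/-!
A 2-group without normal four subgroup is cyclic or of maximal class, and consequences.
-/

set_option autoImplicit false

namespace Cfsg.Agent.Invol.RoquetteTwo

open Subgroup

universe u

variable {G : Type u} [Group G] [Finite G]

/-- There is no normal elementary subgroup of order four. -/
def NoNormalFour (G : Type u) [Group G] : Prop :=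
  ∀ E : Subgroup G, E.Normal → Nat.card E = 4 → (∀ x ∈ E, x * x = 1) → False

theorem exists_central_involution (hG : IsPGroup 2 G) [Nontrivial G] :
    ∃ z : G, z * z = 1 ∧ z ≠ 1 ∧ ∀ g : G, g * z * g⁻¹ = z := by
  haveI : Fact (Nat.Prime 2) := ⟨Nat.prime_two⟩
  obtain ⟨x, -, hxc, hx1⟩ := OddLocal.exists_mem_center_ne_one_of_normal hG ⊤ top_ne_bot
  obtain ⟨i, hi⟩ := IsPGroup.iff_orderOf.mp hG x
  have hi0 : i ≠ 0 := fun h => hx1 (orderOf_eq_one_iff.mp (by rw [hi, h, pow_zero]))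
  have ho : orderOf (x ^ (orderOf x / 2)) = 2 :=
    orderOf_pow_orderOf_div (orderOf_pos x).ne' (hi ▸ dvd_pow_self 2 hi0)
  refine ⟨_, mul_self_of_orderOf_two ho, ne_one_of_orderOf_two ho, fun g => ?_⟩
  rw [mem_center_iff.mp (pow_mem hxc _) g, mul_inv_cancel_right]

/-- A normal elementary abelian subgroup with more than two elements contains a normal four group. -/
theorem false_of_normal_elementary (hG : IsPGroup 2 G) (hno : NoNormalFour G) (N : Subgroup G) [N.Normal]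
    (hsq : ∀ x ∈ N, x * x = 1) (hcard : 2 < Nat.card N) : False := by
  haveI : Fact (Nat.Prime 2) := ⟨Nat.prime_two⟩
  have hne : N ≠ ⊥ := fun h => by rw [h, card_bot] at hcard; omega
  obtain ⟨z, hzN, hzc, hz1⟩ := OddLocal.exists_mem_center_ne_one_of_normal hG N hne
  have hz : z * z = 1 := hsq z hzN
  have hzc' : ∀ g : G, g * z * g⁻¹ = z := fun g => by
    rw [mem_center_iff.mp hzc g, mul_inv_cancel_right]
  have hex : ∃ x ∈ N, x ≠ 1 ∧ x ≠ z := by
    by_contra h
    push Not at h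
    have hle : N ≤ zpowers z := fun x hx => by
      by_cases hx1 : x = 1
      · rw [hx1]; exact one_mem _
      · rw [h x hx hx1]; exact mem_zpowers z
    have := card_le_of_le hle
    rw [Nat.card_zpowers, orderOf_two_of_mul_self hz hz1] at this
    omega
  obtain ⟨y, hyN, hy1, hyz, -, hyc⟩ := NormalFour.exists_second_center hG hz hzc' N hzN hex
  have hc : Commute z y := (mem_center_iff.mp hzc y).symm
  refine hno (NormalFour.fourOf z y hz (hsq y hyN) hc) (NormalFour.fourOf_normal hzc' hyc)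
    (NormalFour.fourOf_card hz1 hy1 hyz) fun x hx => hsq x ?_
  rcases hx with rfl | rfl | rfl | rfl
  · exact one_mem _
  · exact hzN
  · exact hyN
  · exact mul_mem hzN hyN

/-- A normal abelian subgroup is cyclic. -/
theorem isCyclic_of_normal_abelian (hG : IsPGroup 2 G) (hno : NoNormalFour G) (A : Subgroup G) [A.Normal]
    [hA : IsMulCommutative A] : IsCyclic A := by
  haveI : Fact (Nat.Prime 2) := ⟨Nat.prime_two⟩
  have hcomm : ∀ a ∈ A, ∀ b ∈ A, a * b = b * a := fun a ha b hb =>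
    congrArg Subtype.val (hA.is_comm.comm (⟨a, ha⟩ : A) ⟨b, hb⟩)
  let N : Subgroup G :=
    { carrier := {x | x ∈ A ∧ x * x = 1}
      one_mem' := ⟨one_mem _, one_mul 1⟩
      mul_mem' := by
        rintro a b ⟨ha, ha2⟩ ⟨hb, hb2⟩
        refine ⟨mul_mem ha hb, ?_⟩
        rw [show a * b * (a * b) = a * (b * a) * b by group, hcomm b hb a ha,
          show a * (a * b) * b = (a * a) * (b * b) by group, ha2, hb2, one_mul]
      inv_mem' := by
        rintro a ⟨ha, ha2⟩
        exact ⟨inv_mem ha, by rw [inv_eq_self_of_mul_self ha2]; exact ha2⟩ }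
  haveI hNn : N.Normal := ⟨fun x hx g => ⟨(inferInstance : A.Normal).conj_mem x hx.1 g, by
    rw [show g * x * g⁻¹ * (g * x * g⁻¹) = g * (x * x) * g⁻¹ by group, hx.2, mul_one, mul_inv_cancel]⟩⟩
  have huniq : ∀ H K : Subgroup A, Nat.card H = 2 → Nat.card K = 2 → H = K := by
    intro H K hH hK
    have hN2 : Nat.card N ≤ 2 := by
      by_contra h
      exact false_of_normal_elementary hG hno N (fun x hx => hx.2) (by omega)
    have hsub : ∀ H : Subgroup A, Nat.card H = 2 → H.map A.subtype = N := by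
      intro H hH
      refine eq_of_le_of_card_ge ?_ ?_
      · rintro _ ⟨x, hx, rfl⟩
        refine ⟨x.2, ?_⟩
        have h1 : orderOf x ∣ 2 := hH ▸ orderOf_dvd_natCard H hx
        have := congrArg Subtype.val (orderOf_dvd_iff_pow_eq_one.mp h1)
        simpa [pow_two] using this
      · rw [card_map_of_injective A.subtype_injective, hH]; exact hN2
    exact map_injective A.subtype_injective ((hsub H hH).trans (hsub K hK).symm)
  rcases InvChar.cyclic_or_quaternion (hG.to_subgroup A) (p := 2) huniq with h | ⟨-, n, ⟨e⟩⟩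
  · exact h
  · rcases Nat.eq_zero_or_pos n with rfl | hn
    · have hord : orderOf (QuaternionGroup.xa (n := 2 ^ 0) 0) = Nat.card (QuaternionGroup (2 ^ 0)) := by
        rw [QuaternionGroup.orderOf_xa, Nat.card_eq_fintype_card, QuaternionGroup.card, pow_zero, mul_one]
      haveI := isCyclic_of_orderOf_eq_card _ hord
      exact isCyclic_of_surjective e.symm.toMonoidHom e.symm.surjective
    · exfalso
      have hq : ∀ a b : QuaternionGroup (2 ^ n), a * b = b * a := fun a b => e.symm.injective (by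
        rw [map_mul, map_mul]; exact hA.is_comm.comm _ _)
      have h := hq (QuaternionGroup.a 1) (QuaternionGroup.xa 0)
      simp only [QuaternionGroup.a_mul_xa, QuaternionGroup.xa_mul_a, QuaternionGroup.xa.injEq] at h
      have h' : ((2 : ℕ) : ZMod (2 * 2 ^ n)) = 0 := by push_cast; linear_combination -h
      rw [ZMod.natCast_eq_zero_iff] at h'
      have := Nat.le_of_dvd (by norm_num) h'
      have : 2 ≤ 2 ^ n := le_trans (le_of_eq (pow_one 2).symm) (Nat.pow_le_pow_right (by norm_num) hn)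
      omega

/-- An element acting on a cyclic `⟨a⟩` of order `2^(q+3)` by `1 + 2^(q+2)` gives a normal four group. -/
theorem false_of_modular (hG : IsPGroup 2 G) (hno : NoNormalFour G) (a g : G) [(zpowers a).Normal]
    (q : ℕ) (ha : orderOf a = 2 ^ (q + 3)) (hga : g ∉ zpowers a) (hg2 : g * g ∈ zpowers a)
    (r : ℤ) (hr : g * a * g⁻¹ = a ^ r) (hr1 : ((2 : ℤ) ^ (q + 3)) ∣ r - 1 - 2 ^ (q + 2))
    (hMn : (zpowers a ⊔ zpowers g).Normal) : False := by
  have hN : (orderOf a : ℤ) = 2 ^ (q + 3) := by rw [ha]; norm_num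
  obtain ⟨i, hi⟩ := hg2
  have hi' : a ^ i = g * g := hi
  have hfix : ((2 : ℤ) ^ (q + 3)) ∣ i * r - i := by
    rw [← hN, orderOf_dvd_sub_iff_zpow_eq_zpow, mul_comm, zpow_mul, ← hr, conj_zpow, hi']
    group
  obtain ⟨c, hc⟩ := hr1
  obtain ⟨d, hd⟩ := hfix
  have heven : (2 : ℤ) ∣ i := by
    have h2 : (2 : ℤ) ^ (q + 2) ≠ 0 := pow_ne_zero _ two_ne_zero
    have : (2 : ℤ) ^ (q + 2) * (i * (1 + 2 * c)) = 2 ^ (q + 2) * (2 * d) := by
      have e : r = 1 + 2 ^ (q + 2) + 2 ^ (q + 3) * c := by linear_combination hc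
      rw [e] at hd
      linear_combination hd
    have := mul_left_cancel₀ h2 this
    exact Int.Prime.dvd_mul' Nat.prime_two ⟨d, this⟩ |>.resolve_right (by omega)
  obtain ⟨i2, rfl⟩ := heven
  -- `(a ^ j * g) ^ 2 = a ^ (j * (1 + r) + 2 * i2)`
  have hsq : ∀ j : ℤ, a ^ j * g * (a ^ j * g) = a ^ (j * (1 + r) + 2 * i2) := by
    intro j
    rw [show a ^ j * g * (a ^ j * g) = a ^ j * (g * a ^ j * g⁻¹) * (g * g) by group, ← conj_zpow, hr,
      ← hi', ← zpow_mul, ← _root_.zpow_add, ← _root_.zpow_add]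
    congr 1; ring
  have e : r = 1 + 2 ^ (q + 2) + 2 ^ (q + 3) * c := by linear_combination hc
  -- solve `j * (1 + r) + 2 * i2 ≡ 0`
  obtain ⟨u, v, huv⟩ : IsCoprime ((2 : ℤ) ^ (q + 2)) (1 + 2 ^ (q + 1) * (1 + 2 * c)) :=
    IsCoprime.pow_left ⟨-(2 ^ q * (1 + 2 * c)), 1, by ring⟩
  set j := -(v * i2) with hj
  set x := a ^ j * g with hx
  have hxx : x * x = 1 := by
    rw [hx, hsq, ← orderOf_dvd_iff_zpow_eq_one, hN]
    refine ⟨i2 * u, ?_⟩
    rw [hj, e]
    linear_combination (-2 * i2) * huv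
  have hxa : x ∉ zpowers a := fun h => hga (by
    simpa [hx] using mul_mem (inv_mem (zpow_mem (mem_zpowers a) j)) h)
  set z := a ^ ((2 : ℤ) ^ (q + 2)) with hz
  have hzz : z * z = 1 := by
    rw [hz, ← _root_.zpow_add, ← orderOf_dvd_iff_zpow_eq_one, hN]
    exact ⟨1, by ring⟩
  have hz1 : z ≠ 1 := by
    rw [hz, Ne, ← orderOf_dvd_iff_zpow_eq_one, hN]
    intro h
    have := Int.le_of_dvd (by positivity) h
    have : (2 : ℤ) ^ (q + 2) < 2 ^ (q + 3) := pow_lt_pow_right₀ (by norm_num) (by omega)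
    omega
  have hxax : x * a * x⁻¹ = a ^ r := by
    rw [hx, show a ^ j * g * a * (a ^ j * g)⁻¹ = a ^ j * (g * a * g⁻¹) * (a ^ j)⁻¹ by group, hr,
      ((Commute.refl a).zpow_zpow j r).eq, mul_inv_cancel_right]
  have hcz : Commute z x := by
    have h1 : x * z * x⁻¹ = z := by
      rw [hz, ← conj_zpow, hxax, ← zpow_mul, ← orderOf_dvd_sub_iff_zpow_eq_zpow, hN, e]
      exact ⟨2 ^ (q + 1) * (1 + 2 * c), by ring⟩
    exact (mul_inv_eq_iff_eq_mul.1 h1).symm
  set M := zpowers a ⊔ zpowers g with hM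
  have hMle : M ≤ zpowers a ⊔ zpowers x := by
    refine sup_le le_sup_left (zpowers_le.2 ?_)
    have := mul_mem (mem_sup_left (inv_mem (zpow_mem (mem_zpowers a) j)) : (a ^ j)⁻¹ ∈ zpowers a ⊔ zpowers x)
      (mem_sup_right (mem_zpowers x))
    simpa [hx] using this
  set E := NormalFour.fourOf z x hzz hxx hcz with hE
  have hmemE : ∀ w ∈ M, w * w = 1 → w ∈ E := by
    intro w hw hww
    have hw' : w ∈ ((zpowers a ⊔ zpowers x : Subgroup G) : Set G) := hMle hw
    rw [normal_mul] at hw'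
    obtain ⟨b, ⟨k, rfl⟩, f, ⟨l, rfl⟩, rfl⟩ := hw'
    dsimp only at hww ⊢
    have hpow : a ^ k ^ 1 = a ^ k := by rw [pow_one]
    have hxl : x ^ l = 1 ∨ x ^ l = x := by
      rcases Int.even_or_odd' l with ⟨t, rfl | rfl⟩
      · left; rw [zpow_mul, zpow_two, hxx, one_zpow]
      · right; rw [_root_.zpow_add, zpow_mul, zpow_two, hxx, one_zpow, one_mul, zpow_one]
    have key : ∀ k : ℤ, ((2 : ℤ) ^ (q + 2)) ∣ k → a ^ k = 1 ∨ a ^ k = z := by
      rintro k ⟨t, rfl⟩
      rw [zpow_mul, ← hz]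
      rcases Int.even_or_odd' t with ⟨s, rfl | rfl⟩
      · left; rw [zpow_mul, zpow_two, hzz, one_zpow]
      · right; rw [_root_.zpow_add, zpow_mul, zpow_two, hzz, one_zpow, one_mul, zpow_one]
    rcases hxl with h | h <;> rw [h] at hww ⊢
    · rw [mul_one] at hww ⊢
      rw [← _root_.zpow_add, ← orderOf_dvd_iff_zpow_eq_one, hN] at hww
      rcases key k (by
        obtain ⟨t, ht⟩ := hww
        exact ⟨t, by
          have : k * 2 = 2 ^ (q + 2) * t * 2 := by linear_combination ht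
          exact mul_right_cancel₀ two_ne_zero this⟩) with h | h <;> rw [h]
      · exact Or.inl rfl
      · exact Or.inr (Or.inl rfl)
    · have h2 : a ^ k * (x * a ^ k * x⁻¹) * (x * x) = 1 := by rw [← hww]; group
      rw [hxx, mul_one, ← conj_zpow, hxax, ← zpow_mul, ← _root_.zpow_add, ← orderOf_dvd_iff_zpow_eq_one,
        hN, e] at h2
      have hcop : IsCoprime ((2 : ℤ) ^ (q + 2)) (1 + 2 ^ (q + 1) * (1 + 2 * c)) := ⟨u, v, huv⟩
      rcases key k (hcop.dvd_of_dvd_mul_right (by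
        obtain ⟨t, ht⟩ := h2
        exact ⟨t, by
          have : k * (1 + 2 ^ (q + 1) * (1 + 2 * c)) * 2 = 2 ^ (q + 2) * t * 2 := by linear_combination ht
          exact mul_right_cancel₀ two_ne_zero this⟩)) with h | h <;> rw [h]
      · exact Or.inr (Or.inr (Or.inl (one_mul x)))
      · exact Or.inr (Or.inr (Or.inr rfl))
  have hEM : ∀ w ∈ E, w ∈ M ∧ w * w = 1 := by
    have hxM : x ∈ M := mul_mem (mem_sup_left (zpow_mem (mem_zpowers a) j)) (mem_sup_right (mem_zpowers g))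
    have hzM : z ∈ M := mem_sup_left (zpow_mem (mem_zpowers a) _)
    rintro w (rfl | rfl | rfl | rfl)
    · exact ⟨one_mem _, one_mul 1⟩
    · exact ⟨hzM, hzz⟩
    · exact ⟨hxM, hxx⟩
    · exact ⟨mul_mem hzM hxM, by
        rw [show z * x * (z * x) = z * (x * z) * x by group, ← hcz.eq,
          show z * (z * x) * x = (z * z) * (x * x) by group, hzz, hxx, one_mul]⟩
  refine hno E ⟨fun w hw g' => hmemE _ (hMn.conj_mem w (hEM w hw).1 g') ?_⟩
    (NormalFour.fourOf_card hz1 (fun h => hxa (h ▸ one_mem _))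
      (fun h => hxa (h ▸ zpow_mem (mem_zpowers a) _))) fun w hw => (hEM w hw).2
  rw [show g' * w * g'⁻¹ * (g' * w * g'⁻¹) = g' * (w * w) * g'⁻¹ by group, (hEM w hw).2, mul_one,
    mul_inv_cancel]

/-- A finite 2-group without normal four subgroup is cyclic or has commutator subgroup of index four. -/
theorem cyclic_or_index_four (hG : IsPGroup 2 G) (hno : NoNormalFour G) :
    IsCyclic G ∨ (¬ IsMulCommutative G ∧ (commutator G).index = 4) := by
  haveI : Fact (Nat.Prime 2) := ⟨Nat.prime_two⟩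
  obtain ⟨A, hAn, hAc, hAC⟩ := OddLocal.exists_normal_abelian_selfCentralizing hG
  haveI := hAn
  haveI := hAc
  obtain ⟨⟨a, haA⟩, ha⟩ := (isCyclic_iff_exists_zpowers_eq_top (α := A)).1
    (isCyclic_of_normal_abelian hG hno A)
  have hAa : A = zpowers a := by
    have := congrArg (Subgroup.map A.subtype) ha
    rw [MonoidHom.map_zpowers, ← MonoidHom.range_eq_map, range_subtype] at this
    exact this.symm
  clear ha
  subst hAa
  obtain ⟨m, hm⟩ := IsPGroup.iff_orderOf.mp hG a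
  by_cases hnc : zpowers a = ⊤
  · exact Or.inl (isCyclic_iff_exists_zpowers_eq_top.2 ⟨a, hnc⟩)
  right
  have hC : ∀ g : G, Commute g a → g ∈ zpowers a := fun g hg => by
    rw [← hAC, mem_centralizer_iff]
    rintro _ ⟨i, rfl⟩
    exact (hg.symm.zpow_left i).eq
  have hm2 : 2 ≤ m := by
    by_contra h
    refine hnc ((eq_top_iff' _).2 fun g => hC g ?_)
    have h1 : (g * a * g⁻¹) * (g * a * g⁻¹) = 1 := by
      have ha2 : a * a = 1 := by
        rw [← pow_two, ← orderOf_dvd_iff_pow_eq_one, hm]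
        interval_cases m <;> norm_num
      rw [show g * a * g⁻¹ * (g * a * g⁻¹) = g * (a * a) * g⁻¹ by group, ha2, mul_one, mul_inv_cancel]
    obtain ⟨i, hi⟩ := (inferInstance : (zpowers a).Normal).conj_mem a (mem_zpowers a) g
    have hi' : a ^ i = g * a * g⁻¹ := hi
    by_cases ha1 : a = 1
    · rw [ha1]; exact Commute.one_right g
    rcases Int.even_or_odd' i with ⟨t, rfl | rfl⟩
    · have ha2 : a * a = 1 := by
        rw [← pow_two, ← orderOf_dvd_iff_pow_eq_one, hm]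
        interval_cases m <;> norm_num
      rw [zpow_mul, zpow_two, ha2, one_zpow] at hi'
      exact absurd (conj_eq_one_iff.1 hi'.symm) ha1
    · have ha2 : a * a = 1 := by
        rw [← pow_two, ← orderOf_dvd_iff_pow_eq_one, hm]
        interval_cases m <;> norm_num
      rw [_root_.zpow_add, zpow_mul, zpow_two, ha2, one_zpow, one_mul, zpow_one] at hi'
      exact (mul_inv_eq_iff_eq_mul.1 hi'.symm)
  obtain ⟨q, rfl⟩ : ∃ q, m = q + 2 := ⟨m - 2, by omega⟩
  have hN : (orderOf a : ℤ) = 2 ^ (q + 2) := by rw [hm]; norm_num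
  -- the exponent of an element
  have hexp : ∀ g : G, ∃ r : ℤ, g * a * g⁻¹ = a ^ r ∧ r % 2 = 1 := by
    intro g
    obtain ⟨r, hr⟩ := (inferInstance : (zpowers a).Normal).conj_mem a (mem_zpowers a) g
    refine ⟨r, hr.symm, ?_⟩
    by_contra h
    obtain ⟨t, rfl⟩ : (2 : ℤ) ∣ r := by omega
    have hr' : a ^ (2 * t) = g * a * g⁻¹ := hr
    have h1 : (g * a * g⁻¹) ^ (2 ^ (q + 1) : ℤ) = 1 := by
      rw [← hr', ← zpow_mul, ← orderOf_dvd_iff_zpow_eq_one, hN]
      exact ⟨t, by ring⟩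
    rw [conj_zpow, conj_eq_one_iff, ← orderOf_dvd_iff_zpow_eq_one, hN] at h1
    have := Int.le_of_dvd (by positivity) h1
    have : (2 : ℤ) ^ (q + 1) < 2 ^ (q + 2) := pow_lt_pow_right₀ (by norm_num) (by omega)
    omega
  -- no element acts as a nontrivial exponent `≡ 1 (mod 4)`
  have hno1 : ∀ g : G, ∀ r : ℤ, g * a * g⁻¹ = a ^ r → (4 : ℤ) ∣ r - 1 → g ∈ zpowers a := by
    intro g r hr h4
    by_contra hg
    set Q := G ⧸ zpowers a
    -- a power of `g` of order two modulo `⟨a⟩`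
    obtain ⟨l, hl⟩ := IsPGroup.iff_orderOf.mp (hG.to_quotient (zpowers a)) (g : Q)
    rcases l with _ | l
    · exact hg ((QuotientGroup.eq_one_iff g).1 (orderOf_eq_one_iff.1 (by rw [hl, pow_zero])))
    set w := g ^ 2 ^ l with hw
    have hwn : w ∉ zpowers a := fun h => by
      have h1 : ((g : Q)) ^ 2 ^ l = 1 := by
        rw [← QuotientGroup.mk_pow, QuotientGroup.eq_one_iff]; exact h
      have := Nat.le_of_dvd (by positivity) (hl ▸ orderOf_dvd_of_pow_eq_one h1)
      have : 2 ^ l < 2 ^ (l + 1) := Nat.pow_lt_pow_right (by norm_num) (by omega)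
      omega
    have hww : w * w ∈ zpowers a := by
      rw [← QuotientGroup.eq_one_iff, hw, ← pow_add, ← two_mul, ← pow_succ', QuotientGroup.mk_pow, ← hl,
        pow_orderOf_eq_one]
    obtain ⟨s, hs, hs1⟩ := hexp w
    -- `s ≡ 1 (mod 4)`
    have hpow : ∀ n : ℕ, ∃ s : ℤ, g ^ n * a * (g ^ n)⁻¹ = a ^ s ∧ (4 : ℤ) ∣ s - 1 := by
      intro n
      induction n with
      | zero => exact ⟨1, by simp, by simp⟩
      | succ n ihn =>
        obtain ⟨s, hs, hs4⟩ := ihn
        refine ⟨r * s, ?_, ?_⟩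
        · rw [pow_succ', show g * g ^ n * a * (g * g ^ n)⁻¹ = g * (g ^ n * a * (g ^ n)⁻¹) * g⁻¹ by group,
            hs, ← conj_zpow, hr, ← zpow_mul]
        · rw [show r * s - 1 = (r - 1) * s + (s - 1) by ring]
          exact dvd_add (dvd_mul_of_dvd_left h4 s) hs4
    obtain ⟨s', hs', hs'4⟩ := hpow (2 ^ l)
    have hss : ((2 : ℤ) ^ (q + 2)) ∣ s' - s := by
      rw [← hN, orderOf_dvd_sub_iff_zpow_eq_zpow, ← hs', ← hs]
    have hs4 : (4 : ℤ) ∣ s - 1 := by
      have h4 : (4 : ℤ) ∣ 2 ^ (q + 2) := ⟨2 ^ q, by ring⟩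
      rw [show s - 1 = (s' - 1) - (s' - s) by ring]
      exact dvd_sub hs'4 (h4.trans hss)
    have hsq : ((2 : ℤ) ^ (q + 2)) ∣ s * s - 1 := by
      obtain ⟨i, hi⟩ := hww
      rw [← hN, orderOf_dvd_sub_iff_zpow_eq_zpow, zpow_one, zpow_mul, ← hs, conj_zpow, ← hs,
        show w * (w * a * w⁻¹) * w⁻¹ = (w * w) * a * (w * w)⁻¹ by group, ← hi]
      show a ^ i * a * (a ^ i)⁻¹ = a
      rw [((Commute.refl a).zpow_left i).eq, mul_inv_cancel_right]
    have hns : ¬ ((2 : ℤ) ^ (q + 2)) ∣ s - 1 := fun h => hwn (hC w (by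
      rw [← hN, orderOf_dvd_sub_iff_zpow_eq_zpow, zpow_one, ← hs] at h
      exact mul_inv_eq_iff_eq_mul.1 h))
    obtain ⟨t, ht⟩ := hs4
    obtain ⟨u, hu⟩ := hsq
    have hs2 : s + 1 = 2 * (2 * t + 1) := by omega
    have h' : ((2 : ℤ) ^ (q + 1)) ∣ (4 * t) * (2 * t + 1) := ⟨u, by
      have : (4 * t) * (2 * t + 1) * 2 = 2 ^ (q + 1) * u * 2 := by
        rw [show (4 * t) * (2 * t + 1) * 2 = (s - 1) * (s + 1) by rw [ht, hs2]; ring,
          show (s - 1) * (s + 1) = s * s - 1 by ring, hu]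
        ring
      exact mul_right_cancel₀ two_ne_zero this⟩
    have hcop : IsCoprime ((2 : ℤ) ^ (q + 1)) (2 * t + 1) := IsCoprime.pow_left ⟨-t, 1, by ring⟩
    obtain ⟨c, hc⟩ := hcop.dvd_of_dvd_mul_right h'
    obtain ⟨d, rfl | rfl⟩ := Int.even_or_odd' c
    · exact hns ⟨d, by rw [ht, hc]; ring⟩
    · obtain ⟨q', rfl⟩ : ∃ q', q = q' + 1 := by
        refine ⟨q - 1, ?_⟩
        by_contra hq
        obtain rfl : q = 0 := by omega
        simp only [zero_add, pow_one] at hc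
        omega
      haveI hMn : (zpowers a ⊔ zpowers w).Normal := by
        refine ⟨fun x hx k => ?_⟩
        obtain ⟨e, he, -⟩ := hexp k
        obtain ⟨rk, hrk, -⟩ := hexp w
        have hcomm : k * w * k⁻¹ * w⁻¹ ∈ zpowers a := hC _ (by
          have hkk : (k⁻¹ * a * k⁻¹⁻¹) ^ e = a := by
            rw [conj_zpow, ← he]; group
          obtain ⟨e', he', -⟩ := hexp k⁻¹
          obtain ⟨s', hs'', -⟩ := hexp w⁻¹
          have c1 : k * w * k⁻¹ * w⁻¹ * a * (k * w * k⁻¹ * w⁻¹)⁻¹ = a ^ (s' * e' * s * e) := by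
            rw [show k * w * k⁻¹ * w⁻¹ * a * (k * w * k⁻¹ * w⁻¹)⁻¹ =
              k * (w * (k⁻¹ * (w⁻¹ * a * w⁻¹⁻¹) * k⁻¹⁻¹) * w⁻¹) * k⁻¹ by group, hs'', ← conj_zpow, he',
              ← zpow_mul, ← conj_zpow, hs, ← zpow_mul, ← conj_zpow, he, ← zpow_mul]
            congr 1; ring
          have c2 : a = a ^ (s' * s * (e' * e)) := by
            rw [show s' * s * (e' * e) = (e' * e) * (s * s') by ring, zpow_mul, zpow_mul, zpow_mul a e',
              ← he', conj_zpow, ← he, show k⁻¹ * (k * a * k⁻¹) * k⁻¹⁻¹ = a by group, ← hs, conj_zpow,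
              ← hs'', show w * (w⁻¹ * a * w⁻¹⁻¹) * w⁻¹ = a by group]
          rw [show s' * e' * s * e = s' * s * (e' * e) by ring, ← c2] at c1
          exact mul_inv_eq_iff_eq_mul.1 c1)
        have hle : (zpowers a ⊔ zpowers w).map (MulAut.conj k).toMonoidHom ≤ zpowers a ⊔ zpowers w := by
          rw [Subgroup.map_sup, sup_le_iff, MonoidHom.map_zpowers, MonoidHom.map_zpowers, zpowers_le,
            zpowers_le]
          refine ⟨mem_sup_left ((inferInstance : (zpowers a).Normal).conj_mem a (mem_zpowers a) k), ?_⟩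
          show k * w * k⁻¹ ∈ zpowers a ⊔ zpowers w
          have := mul_mem (mem_sup_left hcomm : k * w * k⁻¹ * w⁻¹ ∈ zpowers a ⊔ zpowers w)
            (mem_sup_right (mem_zpowers w))
          simpa using this
        exact hle ⟨x, hx, rfl⟩
      refine false_of_modular hG hno a w q' hm hwn hww s hs ⟨d, ?_⟩ hMn
      rw [ht, hc]; ring
  -- index two
  obtain ⟨y, hy⟩ : ∃ y, y ∉ zpowers a := by
    by_contra h
    push Not at h
    exact hnc ((eq_top_iff' _).2 h)
  obtain ⟨r, hr, hr1⟩ := hexp y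
  have hr3 : ¬ (4 : ℤ) ∣ r - 1 := fun h => hy (hno1 y r hr h)
  have hidx : (zpowers a).index = 2 := by
    rw [index_eq_two_iff]
    refine ⟨y, fun b => ?_⟩
    by_cases hb : b ∈ zpowers a
    · refine Or.inr ⟨hb, fun h => hy ?_⟩
      simpa using mul_mem (inv_mem hb) h
    · refine Or.inl ⟨?_, hb⟩
      obtain ⟨s, hs, hs1⟩ := hexp b
      have hs3 : ¬ (4 : ℤ) ∣ s - 1 := fun h => hb (hno1 b s hs h)
      refine hno1 _ (r * s) ?_ ?_
      · rw [show b * y * a * (b * y)⁻¹ = b * (y * a * y⁻¹) * b⁻¹ by group, hr, ← conj_zpow, hs,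
          ← zpow_mul, mul_comm]
      · obtain ⟨k1, hk1⟩ : ∃ k : ℤ, r = 4 * k + 3 := ⟨r / 4, by omega⟩
        obtain ⟨k2, hk2⟩ : ∃ k : ℤ, s = 4 * k + 3 := ⟨s / 4, by omega⟩
        exact ⟨4 * k1 * k2 + 3 * k1 + 3 * k2 + 2, by rw [hk1, hk2]; ring⟩
  have hna : ¬ IsMulCommutative G := fun h => hy (hC y (h.is_comm.comm y a))
  refine ⟨hna, ?_⟩
  obtain ⟨t, ht⟩ : ∃ t : ℤ, r - 1 = 2 * (2 * t + 1) := ⟨r / 4, by omega⟩
  have hg : y * a * y⁻¹ * a⁻¹ = a ^ (r - 1) := by rw [hr, zpow_sub_one]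
  have hgg : y * a ^ (r - 1) * y⁻¹ ∈ zpowers (a ^ (r - 1)) := ⟨r, by
    show (a ^ (r - 1)) ^ r = y * a ^ (r - 1) * y⁻¹
    rw [← conj_zpow, hr, ← zpow_mul, ← zpow_mul, mul_comm]⟩
  have hD := MaxClassTwo.commutator_le_zpowers (zpowers a) hidx hy le_sup_left hg hgg
    ((Commute.refl a).zpow_left _)
  have hgD : a ^ (r - 1) ∈ commutator G := hg ▸ commutator_mem_commutator (mem_top y) (mem_top a)
  have h1 := card_mul_index (commutator G)
  have h2 := card_mul_index (zpowers a)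
  rw [le_antisymm hD (zpowers_le.2 hgD)] at h1 ⊢
  have hord : orderOf (a ^ (r - 1)) = 2 ^ (q + 1) := by
    refine orderOf_eq_prime_pow ?_ ?_
    · rw [← zpow_natCast, ← zpow_mul, ← orderOf_dvd_iff_zpow_eq_one, hN, ht]
      push_cast
      rintro ⟨w, hw⟩
      have : ((2 : ℤ) ^ (q + 1)) * (2 * t + 1) = 2 ^ (q + 1) * (2 * w) := by
        linear_combination hw
      have := mul_left_cancel₀ (pow_ne_zero _ two_ne_zero) this
      omega
    · rw [← zpow_natCast, ← zpow_mul, ← orderOf_dvd_iff_zpow_eq_one, hN, ht]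
      push_cast
      exact ⟨2 * t + 1, by ring⟩
  rw [Nat.card_zpowers, hord] at h1
  rw [Nat.card_zpowers, hm, hidx, ← h1] at h2
  have : 2 ^ (q + 2) * 2 = 2 ^ (q + 1) * 4 := by ring
  rw [this] at h2
  exact (Nat.eq_of_mul_eq_mul_left (by positivity) h2).symm

end Cfsg.Agent.Invol.RoquetteTwo
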