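import Mathlib
import Cfsg.Agent.Lib.Invol.RoquetteTwo
import Cfsg.Agent.Lib.PGroup23.NormalSq

/-!
Consequences of the classification of 2-groups of maximal class.
-/

set_option autoImplicit false

namespace Cfsg.Agent.Invol.MaxClassTwo

open Subgroup
open scoped commutatorElement

universe u

variable {P : Type u} [Group P]

theorem MCData.index_eq (D : MCData P) [Finite P] : (zpowers D.a).index = 2 :=
  index_zpowers (by rw [D.orda, D.card]; ring)

theorem MCData.exists_exp (D : MCData P) :
    ∃ r : ℤ, D.y * D.a * D.y⁻¹ = D.a ^ r ∧ ¬ (4 : ℤ) ∣ r - 1 ∧ (2 : ℤ) ∣ r - 1 := by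
  rcases D.shape with ⟨-, h⟩ | ⟨-, h⟩ | ⟨hm, -, h⟩
  · exact ⟨-1, by rw [h, zpow_neg_one], by norm_num, by norm_num⟩
  · exact ⟨-1, by rw [h, zpow_neg_one], by norm_num, by norm_num⟩
  · obtain ⟨k, hk⟩ : ∃ k, D.m = k + 3 := ⟨D.m - 3, by omega⟩
    refine ⟨((2 ^ (D.m - 1) - 1 : ℕ) : ℤ), by rw [zpow_natCast, h], ?_⟩
    have : 2 ^ (D.m - 1) = 4 * 2 ^ k := by rw [hk, show k + 3 - 1 = k + 2 by omega]; ring
    have : 0 < 2 ^ k := by positivity
    omega

theorem MCData.exists_repr (D : MCData P) [Finite P] {g : P} (hg : g ∉ zpowers D.a) :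
    ∃ i : ℤ, g = D.a ^ i * D.y := by
  have h2 : g * D.y⁻¹ ∈ zpowers D.a :=
    (mul_mem_iff_of_index_two D.index_eq).2 (iff_of_false hg fun h => D.hy (by simpa using inv_mem h))
  obtain ⟨i, hi⟩ := h2
  have hi' : D.a ^ i = g * D.y⁻¹ := hi
  exact ⟨i, by rw [hi', inv_mul_cancel_right]⟩

/-- The square of an element outside the cyclic maximal subgroup. -/
theorem MCData.sq_cases (D : MCData P) [Finite P] {g : P} (hg : g ∉ zpowers D.a) :
    g * g = 1 ∨ (g * g = D.a ^ 2 ^ (D.m - 1) ∧
      ((D.y * D.y = D.a ^ 2 ^ (D.m - 1) ∧ D.y * D.a * D.y⁻¹ = D.a⁻¹) ∨ 3 ≤ D.m)) := by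
  obtain ⟨i, rfl⟩ := D.exists_repr hg
  rw [show D.a ^ i * D.y * (D.a ^ i * D.y) = D.a ^ i * (D.y * D.a ^ i * D.y⁻¹) * (D.y * D.y) by group,
    ← conj_zpow]
  rcases D.shape with ⟨h, hi⟩ | ⟨h, hi⟩ | ⟨hm, h, hi⟩
  · rw [h, hi, inv_zpow, mul_inv_cancel, one_mul]; exact Or.inl rfl
  · rw [h, hi, inv_zpow, mul_inv_cancel, one_mul]; exact Or.inr ⟨rfl, Or.inl ⟨rfl, rfl⟩⟩
  · rw [h, mul_one, hi, ← zpow_natCast, ← zpow_mul, ← _root_.zpow_add,
      show i + ((2 ^ (D.m - 1) - 1 : ℕ) : ℤ) * i = ((2 ^ (D.m - 1) : ℕ) : ℤ) * i by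
        rw [Nat.cast_sub Nat.one_le_two_pow]; push_cast; ring, zpow_mul, zpow_natCast]
    have hz : (D.a ^ 2 ^ (D.m - 1)) ^ (2 : ℤ) = 1 := by
      rw [← zpow_natCast, ← zpow_mul, ← orderOf_dvd_iff_zpow_eq_one, D.orda]
      refine ⟨1, ?_⟩
      push_cast
      rw [← pow_succ, mul_one]
      congr 1; omega
    rcases Int.even_or_odd' i with ⟨t, rfl | rfl⟩
    · left; rw [zpow_mul, hz, one_zpow]
    · right
      refine ⟨?_, Or.inr hm⟩
      rw [_root_.zpow_add, zpow_mul, hz, one_zpow, one_mul, zpow_one]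

theorem MCData.pow_four (D : MCData P) [Finite P] {g : P} (hg : g ∉ zpowers D.a) : g ^ 4 = 1 := by
  rw [show 4 = 2 * 2 from rfl, pow_mul, pow_two g]
  rcases D.sq_cases hg with h | ⟨h, -⟩ <;> rw [h]
  · exact one_pow _
  · rw [← pow_mul, ← pow_succ, show D.m - 1 + 1 = D.m by have := D.two_le; omega, ← D.orda,
      pow_orderOf_eq_one]

/-- The centralizer of an element outside the cyclic maximal subgroup meets it in the centre. -/
theorem MCData.commute_cases (D : MCData P) [Finite P] {g : P} (hg : g ∉ zpowers D.a) (k : ℤ)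
    (hc : Commute g (D.a ^ k)) : D.a ^ k = 1 ∨ D.a ^ k = D.a ^ 2 ^ (D.m - 1) := by
  obtain ⟨r, hr, h4, h2⟩ := D.exists_exp
  obtain ⟨i, rfl⟩ := D.exists_repr hg
  have hy : Commute D.y (D.a ^ k) := by
    have := ((Commute.refl D.a).zpow_zpow i k).inv_left.mul_left hc
    rwa [inv_mul_cancel_left] at this
  have hfix : (D.a ^ r) ^ k = D.a ^ k := by
    rw [← hr, conj_zpow, hy.eq, mul_inv_cancel_right]
  obtain ⟨q, hq⟩ : ∃ q, D.m = q + 2 := ⟨D.m - 2, by have := D.two_le; omega⟩
  have hN : (orderOf D.a : ℤ) = 2 ^ (q + 1) * 2 := by rw [D.orda, hq]; push_cast; ring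
  rw [← zpow_mul, ← orderOf_dvd_sub_iff_zpow_eq_zpow, hN] at hfix
  obtain ⟨t, ht⟩ : ∃ t : ℤ, r - 1 = 2 * (2 * t + 1) := ⟨r / 4, by omega⟩
  rw [show r * k - k = k * (r - 1) by ring, ht, show k * (2 * (2 * t + 1)) = k * (2 * t + 1) * 2 by ring]
    at hfix
  have hcop : IsCoprime ((2 : ℤ) ^ (q + 1)) (2 * t + 1) := IsCoprime.pow_left ⟨-t, 1, by ring⟩
  obtain ⟨c, rfl⟩ := hcop.dvd_of_dvd_mul_right (Int.dvd_of_mul_dvd_mul_right two_ne_zero hfix)
  rw [show D.m - 1 = q + 1 by omega]
  rcases Int.even_or_odd' c with ⟨d, rfl | rfl⟩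
  · left; rw [← orderOf_dvd_iff_zpow_eq_one, hN]; exact ⟨d, by ring⟩
  · right
    rw [← zpow_natCast, ← orderOf_dvd_sub_iff_zpow_eq_zpow, hN]
    push_cast
    exact ⟨d, by ring⟩

/-- A non-abelian 2-group with `|P : P'| = 4` and automorphism group not a 2-group is quaternion of order 8. -/
theorem quaternion_of_aut [Finite P] (hP : IsPGroup 2 P) (hna : ¬ IsMulCommutative P)
    (h4 : (commutator P).index = 4) (haut : ¬ IsPGroup 2 (MulAut P)) :
    Nonempty (P ≃* QuaternionGroup 2) := by
  obtain ⟨D⟩ := exists_mcData hP hna h4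
  by_cases hQ8 : D.m = 2 ∧ D.y * D.y = D.a ^ 2 ^ (D.m - 1) ∧ D.y * D.a * D.y⁻¹ = D.a⁻¹
  · obtain ⟨hm, hyy, hinv⟩ := hQ8
    obtain ⟨e⟩ := nonempty_quaternionEquiv hinv 2 (by rw [D.orda, hm]; norm_num)
      (by rw [hyy, hm]; norm_num) D.hy
    have htop : closure ({D.y, D.a} : Set P) = ⊤ := by
      refine eq_top_of_card_eq _ ?_
      rw [← Nat.card_congr e.toEquiv, Nat.card_eq_fintype_card, QuaternionGroup.card, D.card, hm]
      norm_num
    exact ⟨((e.trans (MulEquiv.subgroupCongr htop)).trans topEquiv).symm⟩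
  exfalso
  refine haut fun φ => ?_
  by_contra hφ
  push Not at hφ
  have h0 : orderOf φ ≠ 0 := (orderOf_pos φ).ne'
  obtain ⟨k, o, ho, hko⟩ := Nat.exists_eq_two_pow_mul_odd h0
  have hψ : orderOf (φ ^ 2 ^ k) = o := by
    rw [orderOf_pow' _ (by positivity), hko, Nat.gcd_mul_right_left, Nat.mul_div_cancel_left _ (by positivity)]
  set ψ := φ ^ 2 ^ k with hψdef
  refine hφ k ?_
  have hmem : ∀ g : P, orderOf g = 2 ^ D.m → g ∈ zpowers D.a := by
    intro g hg
    by_contra hgn
    have hm := D.two_le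
    rcases D.sq_cases hgn with h | ⟨h, hh⟩
    · have : orderOf g ∣ 2 := orderOf_dvd_of_pow_eq_one (by rw [pow_two, h])
      rw [hg] at this
      have := Nat.le_of_dvd (by norm_num) this
      have : 2 ^ 2 ≤ 2 ^ D.m := Nat.pow_le_pow_right (by norm_num) hm
      omega
    · have hm3 : 3 ≤ D.m := by
        rcases hh with ⟨hyy, hinv⟩ | hh
        · by_contra h3
          exact hQ8 ⟨by omega, hyy, hinv⟩
        · exact hh
      have := Nat.le_of_dvd (by norm_num) (orderOf_dvd_of_pow_eq_one (D.pow_four hgn))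
      rw [hg] at this
      have : 2 ^ 3 ≤ 2 ^ D.m := Nat.pow_le_pow_right (by norm_num) hm3
      omega
  obtain ⟨s, hs⟩ := hmem (ψ D.a) (by rw [MulEquiv.orderOf_eq, D.orda])
  have hs' : D.a ^ s = ψ D.a := hs
  have hiter : ∀ n : ℕ, (ψ ^ n) D.a = D.a ^ (s ^ n) := by
    intro n
    induction n with
    | zero => simp
    | succ n ih => rw [pow_succ', MulAut.mul_apply, ih, map_zpow, ← hs', ← zpow_mul]; congr 1; ring
  have hψo : ψ ^ o = 1 := by rw [← hψ, pow_orderOf_eq_one]
  have hN : (orderOf D.a : ℤ) = 2 ^ D.m := by rw [D.orda]; norm_num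
  have hdvd : ((2 : ℤ) ^ D.m) ∣ s ^ o - 1 := by
    rw [← hN, orderOf_dvd_sub_iff_zpow_eq_zpow, ← hiter, hψo, zpow_one]; rfl
  have hs2 : (2 : ℤ) ∣ s - 1 := by
    have h2 : (2 : ℤ) ∣ s ^ o - 1 :=
      (dvd_pow_self (2 : ℤ) (show D.m ≠ 0 by have := D.two_le; omega)).trans hdvd
    by_contra h
    have : (2 : ℤ) ∣ s := by omega
    have := dvd_pow this (show o ≠ 0 by rintro rfl; simp at ho)
    omega
  have hfix : ψ D.a = D.a := by
    have hcop : IsCoprime ((2 : ℤ) ^ D.m) (∑ i ∈ Finset.range o, s ^ i) := by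
      refine IsCoprime.pow_left ((Int.prime_two.coprime_iff_not_dvd).2 fun h => ?_)
      have h1 : ((∑ i ∈ Finset.range o, s ^ i : ℤ) : ZMod 2) = 0 := (ZMod.intCast_zmod_eq_zero_iff_dvd _ 2).2 h
      have hsz : (s : ZMod 2) = 1 := by
        have := (ZMod.intCast_zmod_eq_zero_iff_dvd (s - 1) 2).2 hs2
        rw [Int.cast_sub, Int.cast_one] at this
        exact sub_eq_zero.1 this
      rw [Int.cast_sum] at h1
      simp only [Int.cast_pow, hsz, one_pow, Finset.sum_const, Finset.card_range, nsmul_one] at h1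
      rw [ZMod.natCast_eq_zero_iff, ← even_iff_two_dvd] at h1
      exact (Nat.not_even_iff_odd.2 ho) h1
    rw [← geom_sum_mul] at hdvd
    have := hcop.dvd_of_dvd_mul_left hdvd
    rw [← hN, orderOf_dvd_sub_iff_zpow_eq_zpow, zpow_one, hs'] at this
    exact this
  have hfixz : ∀ j : ℤ, ψ (D.a ^ j) = D.a ^ j := fun j => by rw [map_zpow, hfix]
  have hψy : ψ D.y ∉ zpowers D.a := fun ⟨j, hj⟩ =>
    D.hy ⟨j, ψ.injective ((hfixz j).trans hj)⟩
  obtain ⟨j, hj⟩ := D.exists_repr hψy
  have hiter' : ∀ n : ℕ, (ψ ^ n) D.y = D.a ^ (j * n) * D.y := by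
    intro n
    induction n with
    | zero => simp
    | succ n ih =>
      rw [pow_succ', MulAut.mul_apply, ih, map_mul, hfixz, hj, ← mul_assoc, ← _root_.zpow_add]
      congr 2; push_cast; ring
  have hjo : ((2 : ℤ) ^ D.m) ∣ j * o := by
    have h1 := hiter' o
    rw [hψo] at h1
    have h2 : D.a ^ (j * o) = 1 := by
      have h3 : D.a ^ (j * (o : ℤ)) * D.y = 1 * D.y := by rw [one_mul]; exact h1.symm
      exact mul_right_cancel h3
    rw [← hN, orderOf_dvd_iff_zpow_eq_one]; exact h2
  have hy1 : ψ D.y = D.y := by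
    have hcop : IsCoprime ((2 : ℤ) ^ D.m) (o : ℤ) := by
      obtain ⟨t, rfl⟩ := ho
      exact IsCoprime.pow_left ⟨-(t : ℤ), 1, by push_cast; ring⟩
    have := hcop.dvd_of_dvd_mul_right hjo
    rw [← hN, orderOf_dvd_iff_zpow_eq_one] at this
    rw [hj, this, one_mul]
  refine MulEquiv.ext fun g => ?_
  show ψ g = g
  by_cases hg : g ∈ zpowers D.a
  · obtain ⟨i, rfl⟩ := hg; exact hfixz i
  · obtain ⟨i, rfl⟩ := D.exists_repr hg
    rw [map_mul, hfixz, hy1]

/-- A subgroup of order four of involutions acting freely by multiplication. -/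
theorem four_dvd_card [Finite P] (F : Subgroup P) (hF : Nat.card F = 4) (W : Set P)
    (hW : ∀ w ∈ W, ∀ f ∈ F, w * f ∈ W) : 4 ∣ Nat.card W := by
  have heq : W = QuotientGroup.mk ⁻¹' ((QuotientGroup.mk : P → P ⧸ F) '' W) := by
    ext w
    refine ⟨fun h => ⟨w, h, rfl⟩, ?_⟩
    rintro ⟨v, hv, hvw⟩
    have := hW v hv _ (QuotientGroup.eq.1 hvw)
    rwa [mul_inv_cancel_left] at this
  rw [heq, Nat.card_congr (QuotientGroup.preimageMkEquivSubgroupProdSet _ _), Nat.card_prod, hF]
  exact dvd_mul_right _ _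

/-- Alperin–Feit–Thompson: if the number of involutions is `1 (mod 4)`, the group is cyclic or has commutator
subgroup of index four. -/
theorem cyclic_or_index_four_of_count [Finite P] (hP : IsPGroup 2 P)
    (ht : Nat.card {x : P // orderOf x = 2} % 4 = 1) : IsCyclic P ∨ (commutator P).index = 4 := by
  classical
  haveI : Fact (Nat.Prime 2) := ⟨Nat.prime_two⟩
  by_cases hno : RoquetteTwo.NoNormalFour P
  · exact (RoquetteTwo.cyclic_or_index_four hP hno).imp_right And.right
  right
  simp only [RoquetteTwo.NoNormalFour, not_forall] at hno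
  obtain ⟨E, hEn, hE4, hEsq, -⟩ := hno
  haveI := hEn
  set T : Set P := {x | x * x = 1} with hT
  have hTcard : Nat.card T % 4 = 2 := by
    have hset : T = insert 1 {x | orderOf x = 2} := by
      ext x
      simp only [hT, Set.mem_insert_iff, Set.mem_setOf_eq]
      constructor
      · intro h
        by_cases h1 : x = 1
        · exact Or.inl h1
        · exact Or.inr (orderOf_two_of_mul_self h h1)
      · rintro (rfl | h)
        · exact one_mul 1
        · exact mul_self_of_orderOf_two h
    rw [hset, Nat.card_coe_set_eq, Set.ncard_insert_of_notMem (by simp) (Set.toFinite _),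
      ← Nat.card_coe_set_eq]
    change (Nat.card {x : P // orderOf x = 2} + 1) % 4 = 2
    omega
  have hEne : E ≠ ⊥ := fun h => by rw [h, card_bot] at hE4; omega
  obtain ⟨z, hzE, hzc, hz1⟩ := OddLocal.exists_mem_center_ne_one_of_normal hP E hEne
  have hz : z * z = 1 := hEsq z hzE
  have hzcomm : ∀ g : P, Commute z g := fun g => (mem_center_iff.mp hzc g).symm
  have huniq : ∀ w : P, w * w = 1 → w ≠ 1 → (∀ g, Commute w g) → w = z := by
    intro w hw hw1 hwc
    by_contra hwz
    have := four_dvd_card (NormalFour.fourOf z w hz hw (hzcomm w))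
      (NormalFour.fourOf_card hz1 hw1 hwz) T (by
        intro t htT f hf
        have hfc : Commute f t ∧ f * f = 1 := by
          rcases hf with rfl | rfl | rfl | rfl
          · exact ⟨Commute.one_left t, one_mul 1⟩
          · exact ⟨hzcomm t, hz⟩
          · exact ⟨hwc t, hw⟩
          · exact ⟨(hzcomm t).mul_left (hwc t), by
              rw [show z * w * (z * w) = z * (w * z) * w by group, ← (hzcomm w).eq,
                show z * (z * w) * w = z * z * (w * w) by group, hz, hw, one_mul]⟩
        show t * f * (t * f) = 1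
        rw [show t * f * (t * f) = t * (f * t) * f by group, hfc.1.eq,
          show t * (t * f) * f = t * t * (f * f) by group, htT, hfc.2, one_mul])
    omega
  -- `V`
  let V : Subgroup P :=
    { carrier := {g | ∀ s, s * g * s⁻¹ = g ∨ s * g * s⁻¹ = g * z}
      one_mem' := fun s => Or.inl (by group)
      mul_mem' := by
        intro g h hg hh s
        rw [show s * (g * h) * s⁻¹ = (s * g * s⁻¹) * (s * h * s⁻¹) by group]
        rcases hg s with e1 | e1 <;> rcases hh s with e2 | e2 <;> rw [e1, e2]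
        · exact Or.inl rfl
        · exact Or.inr (by group)
        · exact Or.inr (by rw [mul_assoc g z, (hzcomm h).eq]; group)
        · refine Or.inl ?_
          rw [show g * z * (h * z) = g * (z * h) * z by group, (hzcomm h).eq,
            show g * (h * z) * z = g * h * (z * z) by group, hz, mul_one]
      inv_mem' := by
        intro g hg s
        rw [show s * g⁻¹ * s⁻¹ = (s * g * s⁻¹)⁻¹ by group]
        rcases hg s with e1 | e1 <;> rw [e1]
        · exact Or.inl rfl
        · exact Or.inr (by rw [mul_inv_rev, inv_eq_self_of_mul_self hz, (hzcomm g⁻¹).eq]) }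
  have hVmem : ∀ g, g ∈ V ↔ ∀ s, s * g * s⁻¹ = g ∨ s * g * s⁻¹ = g * z := fun g => Iff.rfl
  set W : Set P := {x | x * x = 1 ∧ x ∈ V} with hWdef
  -- classes outside `W` have size divisible by four
  have hTW : 4 ∣ Nat.card ↥(T \ W) := by
    let act : MulAction (ConjAct P) ↥(T \ W) :=
      { smul := fun g x => ⟨g • x.1, by
          obtain ⟨hx1, hx2⟩ := x.2
          set c := ConjAct.ofConjAct g
          refine ⟨?_, fun hw => hx2 ⟨hx1, ?_⟩⟩
          · show g • x.1 * g • x.1 = 1
            rw [← smul_mul', hx1, smul_one]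
          · intro s
            have hs := hw.2 (c * s * c⁻¹)
            rw [ConjAct.smul_def] at hs
            rw [show c * s * c⁻¹ * (c * x.1 * c⁻¹) * (c * s * c⁻¹)⁻¹ = c * (s * x.1 * s⁻¹) * c⁻¹ by group] at hs
            rcases hs with e | e
            · exact Or.inl (mul_left_cancel (mul_right_cancel e))
            · refine Or.inr (mul_left_cancel (mul_right_cancel (e.trans ?_)))
              show c * x.1 * c⁻¹ * z = c * (x.1 * z) * c⁻¹
              rw [mul_assoc _ c⁻¹ z, ← (hzcomm c⁻¹).eq]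
              group⟩
        one_smul := fun x => Subtype.ext (one_smul _ _)
        mul_smul := fun g h x => Subtype.ext (mul_smul _ _ _) }
    haveI := Fintype.ofFinite (MulAction.orbitRel.Quotient (ConjAct P) ↥(T \ W))
    rw [Nat.card_congr (MulAction.selfEquivSigmaOrbits' (ConjAct P) ↥(T \ W)), Nat.card_sigma]
    refine Finset.dvd_sum fun ω _ => ?_
    obtain ⟨⟨x, hx⟩, rfl⟩ := Quotient.exists_rep ω
    obtain ⟨k, hk⟩ := IsPGroup.iff_card.mp hP
    change 4 ∣ Nat.card ↥(MulAction.orbitRel.Quotient.orbit (Quotient.mk'' (⟨x, hx⟩ : ↥(T \ W))))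
    rw [MulAction.orbitRel.Quotient.orbit_mk]
    have hcard : Nat.card ↥(MulAction.orbit (ConjAct P) (⟨x, hx⟩ : ↥(T \ W))) =
        Nat.card ↥(Set.range fun s : P => s * x * s⁻¹) := by
      refine Nat.card_congr ⟨fun w => ⟨w.1.1, ?_⟩, fun w => ⟨⟨w.1, ?_⟩, ?_⟩, fun w => rfl, fun w => rfl⟩
      · obtain ⟨g, hg⟩ := w.2
        exact ⟨ConjAct.ofConjAct g, congrArg Subtype.val hg⟩
      · obtain ⟨s, hs⟩ := w.2
        rw [← hs]
        exact ((ConjAct.toConjAct s) • (⟨x, hx⟩ : ↥(T \ W))).2
      · obtain ⟨s, hs⟩ := w.2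
        exact ⟨ConjAct.toConjAct s, Subtype.ext hs⟩
    have hrange : (Set.range fun s : P => s * x * s⁻¹) = MulAction.orbit (ConjAct P) x := by
      ext w
      exact ⟨fun ⟨s, hs⟩ => ⟨ConjAct.toConjAct s, hs⟩, fun ⟨g, hg⟩ => ⟨ConjAct.ofConjAct g, hg⟩⟩
    rw [hcard, hrange, Nat.card_coe_set_eq, ← MulAction.index_stabilizer]
    set St := MulAction.stabilizer (ConjAct P) x with hStdef
    haveI : Finite (ConjAct P) := Finite.of_equiv P ConjAct.toConjAct.toEquiv
    have hPC : IsPGroup 2 (ConjAct P) := hP.of_equiv ConjAct.toConjAct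
    obtain ⟨i, hi⟩ := hPC.index St
    rw [hi]
    by_contra h4
    have hi2 : i < 2 := by
      by_contra h
      exact h4 ⟨2 ^ (i - 2), by rw [show 4 = 2 ^ 2 from rfl, ← pow_add]; congr 1; omega⟩
    refine hx.2 ⟨hx.1, fun s => ?_⟩
    have hmem : ∀ g : P, ConjAct.toConjAct g ∈ St ↔ g * x * g⁻¹ = x := fun g => Iff.rfl
    interval_cases i
    · rw [pow_zero, index_eq_one] at hi
      exact Or.inl ((hmem s).1 (hi ▸ mem_top _))
    · rw [pow_one] at hi
      haveI : St.Normal := normal_of_index_eq_two hi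
      by_cases hs : s * x * s⁻¹ = x
      · exact Or.inl hs
      set w := x * (s * x * s⁻¹) with hw
      have hx2 : x * x = 1 := hx.1
      have hcent : ∀ g : P, g * x * g⁻¹ = x → g * (s * x * s⁻¹) * g⁻¹ = s * x * s⁻¹ := by
        intro g hg
        have h1 := (hmem _).1 ((inferInstance : St.Normal).conj_mem _ ((hmem g).2 hg)
          (ConjAct.toConjAct s⁻¹))
        have h2 : s⁻¹ * g * s⁻¹⁻¹ * x * (s⁻¹ * g * s⁻¹⁻¹)⁻¹ = x := h1
        calc g * (s * x * s⁻¹) * g⁻¹ = s * (s⁻¹ * g * s⁻¹⁻¹ * x * (s⁻¹ * g * s⁻¹⁻¹)⁻¹) * s⁻¹ := by group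
          _ = s * x * s⁻¹ := by rw [h2]
      have hss : s * s * x * (s * s)⁻¹ = x :=
        (hmem _).1 (by rw [map_mul]; exact mul_self_mem_of_index_two hi _)
      have hxc : Commute x (s * x * s⁻¹) := by
        have := hcent x (mul_inv_cancel_right x x)
        exact mul_inv_eq_iff_eq_mul.1 this
      have hwc : ∀ g, Commute w g := by
        intro g
        have hgw : g * w * g⁻¹ = w := by
          rw [show g * w * g⁻¹ = (g * x * g⁻¹) * (g * (s * x * s⁻¹) * g⁻¹) by rw [hw]; group]
          by_cases hg : g * x * g⁻¹ = x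
          · rw [hg, hcent g hg]
          · have hg' : ConjAct.toConjAct s⁻¹ * ConjAct.toConjAct g ∈ St :=
              (mul_mem_iff_of_index_two hi).2 (iff_of_false (fun h => hs ((hmem s).1 (by simpa using inv_mem h)))
                (fun h => hg ((hmem g).1 h)))
            rw [← map_mul, hmem] at hg'
            have e1 : g * x * g⁻¹ = s * x * s⁻¹ := by
              calc g * x * g⁻¹ = s * (s⁻¹ * g * x * (s⁻¹ * g)⁻¹) * s⁻¹ := by group
                _ = s * x * s⁻¹ := by rw [hg']
            have e2 : g * (s * x * s⁻¹) * g⁻¹ = x := by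
              calc g * (s * x * s⁻¹) * g⁻¹ = s * ((s⁻¹ * g) * (s * x * s⁻¹) * (s⁻¹ * g)⁻¹) * s⁻¹ := by group
                _ = s * (s * x * s⁻¹) * s⁻¹ := by rw [hcent _ hg']
                _ = s * s * x * (s * s)⁻¹ := by group
                _ = x := hss
            rw [e1, e2, hw, hxc.eq]
        exact (mul_inv_eq_iff_eq_mul.1 hgw).symm
      have hw2 : w * w = 1 := by
        rw [hw, show x * (s * x * s⁻¹) * (x * (s * x * s⁻¹)) =
          x * ((s * x * s⁻¹) * x) * (s * x * s⁻¹) by group, ← hxc.eq,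
          show x * (x * (s * x * s⁻¹)) * (s * x * s⁻¹) = x * x * (s * (x * x) * s⁻¹) by group, hx2,
          one_mul, mul_one, mul_inv_cancel]
      have hw1 : w ≠ 1 := fun h => hs ((inv_eq_of_mul_eq_one_right h).symm.trans (inv_eq_self_of_mul_self hx2))
      have hwz := huniq w hw2 hw1 hwc
      refine Or.inr ?_
      calc s * x * s⁻¹ = (x * x) * (s * x * s⁻¹) := by rw [hx2, one_mul]
        _ = x * w := by rw [hw, mul_assoc]
        _ = x * z := by rw [hwz]
  have hWT : W ⊆ T := fun x hx => hx.1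
  have hW2 : Nat.card W % 4 = 2 := by
    have h := Set.ncard_sdiff_add_ncard_of_subset hWT (Set.toFinite T)
    simp only [← Nat.card_coe_set_eq] at h
    omega
  -- `x ∈ E` outside `⟨z⟩`
  have hEV : ∀ e ∈ E, e ∈ V := by
    intro e he
    by_cases he1 : e = 1
    · rw [he1]; exact one_mem V
    by_cases hez : e = z
    · subst hez; exact fun s => Or.inl (by rw [← (hzcomm s).eq, mul_inv_cancel_right])
    have hEeq : NormalFour.fourOf z e hz (hEsq e he) (hzcomm e) = E := by
      refine eq_of_le_of_card_ge ?_ (by rw [hE4, NormalFour.fourOf_card hz1 he1 hez])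
      rintro f (rfl | rfl | rfl | rfl)
      exacts [one_mem _, hzE, he, mul_mem hzE he]
    intro s
    have hse : s * e * s⁻¹ ∈ E := hEn.conj_mem e he s
    rw [← hEeq] at hse
    rcases hse with h | h | h | h
    · exact absurd (conj_eq_one_iff.1 h) he1
    · exact absurd (by
        rw [show e = s⁻¹ * (s * e * s⁻¹) * s by group, h, mul_assoc, (hzcomm s).eq, inv_mul_cancel_left]) hez
    · exact Or.inl h
    · exact Or.inr (h.trans (hzcomm e).eq)
  obtain ⟨x, hxE, hx1, hxz⟩ : ∃ x ∈ E, x ≠ 1 ∧ x ≠ z := by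
    by_contra h
    push Not at h
    have hle : E ≤ zpowers z := fun x hx => by
      by_cases hx1 : x = 1
      · rw [hx1]; exact one_mem _
      · rw [h x hx hx1]; exact mem_zpowers z
    have := card_le_of_le hle
    rw [Nat.card_zpowers, orderOf_two_of_mul_self hz hz1, hE4] at this
    omega
  have hx : x * x = 1 := hEsq x hxE
  have hEcomm : ∀ e ∈ E, ∀ f ∈ E, Commute e f := fun e he f hf => by
    have h1 := hEsq _ (mul_mem he hf)
    show e * f = f * e
    rw [← inv_eq_of_mul_eq_one_right h1, mul_inv_rev, inv_eq_self_of_mul_self (hEsq e he),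
      inv_eq_self_of_mul_self (hEsq f hf)]
  set Y : Set P := {w | w ∈ W ∧ ¬ Commute w x} with hY
  have hY2 : Nat.card Y % 4 = 2 := by
    have h4' : 4 ∣ Nat.card ↥{w | w ∈ W ∧ Commute w x} := by
      refine four_dvd_card E hE4 _ fun w hw e he => ?_
      obtain ⟨⟨hw1, hwV⟩, hwx⟩ := hw
      have hwe : Commute w e := by
        have hEeq : e ∈ NormalFour.fourOf z x hz hx (hzcomm x) := by
          rw [show NormalFour.fourOf z x hz hx (hzcomm x) = E from eq_of_le_of_card_ge (by
            rintro f (rfl | rfl | rfl | rfl)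
            exacts [one_mem _, hzE, hxE, mul_mem hzE hxE])
            (by rw [hE4, NormalFour.fourOf_card hz1 hx1 hxz])]
          exact he
        rcases hEeq with rfl | rfl | rfl | rfl
        exacts [Commute.one_right w, (hzcomm w).symm, hwx, (hzcomm w).symm.mul_right hwx]
      refine ⟨⟨?_, mul_mem hwV (hEV e he)⟩, hwx.mul_left (hEcomm e he x hxE)⟩
      rw [show w * e * (w * e) = w * (e * w) * e by group, ← hwe.eq,
        show w * (w * e) * e = w * w * (e * e) by group, hw1, hEsq e he, one_mul]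
    have hunion : W = {w | w ∈ W ∧ Commute w x} ∪ Y := by
      ext w; by_cases h : Commute w x <;> simp [hY, h]
    have hd : Disjoint {w | w ∈ W ∧ Commute w x} Y := Set.disjoint_left.2 fun w h1 h2 => h2.2 h1.2
    have h := Set.ncard_union_eq hd (Set.toFinite _) (Set.toFinite _)
    rw [← hunion] at h
    simp only [← Nat.card_coe_set_eq] at h
    omega
  obtain ⟨⟨y, ⟨hy, hyV⟩, hyx⟩⟩ := (Nat.card_pos_iff.1 (show 0 < Nat.card Y by omega)).1
  let K : Subgroup P :=
    { carrier := {k | k ∈ V ∧ Commute k x ∧ (k * k = 1 ∨ k * k = z)}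
      one_mem' := ⟨one_mem V, Commute.one_left x, Or.inl (one_mul 1)⟩
      mul_mem' := by
        rintro k l ⟨hkV, hkx, hk⟩ ⟨hlV, hlx, hl⟩
        refine ⟨mul_mem hkV hlV, hkx.mul_left hlx, ?_⟩
        have e : l * k * l⁻¹ = k ∨ l * k * l⁻¹ = k * z := hkV l
        rw [show k * l * (k * l) = k * (l * k * l⁻¹) * (l * l) by group]
        rcases e with e | e <;> rw [e]
        · rcases hk with hk | hk <;> rcases hl with hl | hl <;> rw [hk, hl] <;> simp [hz]
        · rw [← mul_assoc k k z]
          rcases hk with hk | hk <;> rcases hl with hl | hl <;> rw [hk, hl] <;> simp [hz]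
      inv_mem' := by
        rintro k ⟨hkV, hkx, hk⟩
        refine ⟨inv_mem hkV, hkx.inv_left, ?_⟩
        rw [← mul_inv_rev]
        rcases hk with hk | hk <;> rw [hk]
        · exact Or.inl inv_one
        · exact Or.inr (inv_eq_self_of_mul_self hz) }
  have hEK : E ≤ K := fun e he => ⟨hEV e he, hEcomm e he x hxE, Or.inl (hEsq e he)⟩
  have hxy : ∀ w : P, w ∈ V → ¬ Commute w x → w * x * w⁻¹ = x * z := by
    intro w _ hwx
    rcases hEV x hxE w with h | h
    · exact absurd (mul_inv_eq_iff_eq_mul.1 h) hwx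
    · exact h
  -- squares in the coset `K y`
  have hsq : ∀ k ∈ K, k * y * (k * y) = 1 ∨ k * y * (k * y) = z := by
    rintro k ⟨hkV, -, hk⟩
    rw [show k * y * (k * y) = k * (y * k * y⁻¹) * (y * y) by group, hy, mul_one]
    rcases hkV y with e | e <;> rw [e]
    · exact hk
    · rw [← mul_assoc]
      rcases hk with hk | hk <;> rw [hk] <;> simp [hz]
  have hmulx : ∀ k ∈ K, k * x * y * (k * x * y) = k * y * (k * y) * z := by
    rintro k ⟨hkV, hkx, hk⟩
    have e1 : y * (k * x) * y⁻¹ = (y * k * y⁻¹) * (x * z) := by rw [← hxy y hyV hyx]; group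
    rw [show k * x * y * (k * x * y) = k * x * (y * (k * x) * y⁻¹) * (y * y) by group, e1,
      show k * y * (k * y) = k * (y * k * y⁻¹) * (y * y) by group, hy, mul_one, mul_one]
    rcases hkV y with e | e <;> rw [e]
    · rw [show k * x * (k * (x * z)) = k * (x * k) * x * z by group, ← hkx.eq,
        show k * (k * x) * x * z = k * k * (x * x) * z by group, hx, mul_one]
    · rw [show k * x * (k * z * (x * z)) = k * (x * k) * (z * x) * z by group, ← hkx.eq, (hzcomm x).eq,
        show k * (k * x) * (x * z) * z = k * k * (x * x) * (z * z) by group, hx, hz, mul_one, mul_one,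
        show k * (k * z) * z = k * k * (z * z) by group, hz, mul_one]
  have hK4 : Nat.card K = 4 := by
    have hx' : x ∈ K := hEK hxE
    let f : Y × Bool → K := fun p => ⟨p.1.1 * y * (if p.2 then x else 1), by
      obtain ⟨⟨w, ⟨hw, hwV⟩, hwx⟩, b⟩ := p
      have hwy : w * y ∈ K := by
        refine ⟨mul_mem hwV hyV, ?_, ?_⟩
        · have h1 : w * y * x * (w * y)⁻¹ = x := by
            rw [show w * y * x * (w * y)⁻¹ = w * (y * x * y⁻¹) * w⁻¹ by group, hxy y hyV hyx,
              show w * (x * z) * w⁻¹ = (w * x * w⁻¹) * (w * z * w⁻¹) by group, hxy w hwV hwx,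
              ← (hzcomm w).eq, mul_inv_cancel_right, mul_assoc, hz, mul_one]
          exact mul_inv_eq_iff_eq_mul.1 h1
        · rw [show w * y * (w * y) = w * (y * w * y⁻¹) * (y * y) by group, hy, mul_one]
          rcases hwV y with e | e <;> rw [e]
          · exact Or.inl hw
          · exact Or.inr (by rw [← mul_assoc, hw, one_mul])
      cases b
      · simpa using hwy
      · simpa using mul_mem hwy hx'⟩
    have hf : Function.Bijective f := by
      constructor
      · rintro ⟨⟨w, hw⟩, b⟩ ⟨⟨w', hw'⟩, b'⟩ h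
        have h' : w * y * (if b then x else 1) = w' * y * (if b' then x else 1) := congrArg Subtype.val h
        have hyxy : y * x * y⁻¹ = x * z := hxy y hyV hyx
        have hne : ∀ u u' : P, u * u = 1 → u' * u' = 1 → Commute u u' → True := fun _ _ _ _ _ => trivial
        cases b <;> cases b' <;> simp only [Bool.false_eq_true, if_true, if_false, mul_one] at h'
        · obtain rfl : w = w' := mul_right_cancel h'; rfl
        · exfalso
          -- `(w' x z)^2 = z`
          have e : w = w' * (x * z) := by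
            rw [← hyxy, show w' * (y * x * y⁻¹) = w' * y * x * y⁻¹ by group, ← h', mul_inv_cancel_right]
          have h1 : w * w = 1 := hw.1.1
          rw [e, show w' * (x * z) * (w' * (x * z)) = w' * (x * z) * w'⁻¹ * (w' * w') * (x * z) by group,
            hw'.1.1, mul_one, show w' * (x * z) * w'⁻¹ = (w' * x * w'⁻¹) * (w' * z * w'⁻¹) by group,
            hxy w' hw'.1.2 hw'.2, ← (hzcomm w').eq, mul_inv_cancel_right,
            show x * z * z * (x * z) = x * (z * z) * x * z by group, hz, mul_one, hx, one_mul] at h1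
          exact hz1 h1
        · exfalso
          have e : w' = w * (x * z) := by
            rw [← hyxy, show w * (y * x * y⁻¹) = w * y * x * y⁻¹ by group, h', mul_inv_cancel_right]
          have h1 : w' * w' = 1 := hw'.1.1
          rw [e, show w * (x * z) * (w * (x * z)) = w * (x * z) * w⁻¹ * (w * w) * (x * z) by group,
            hw.1.1, mul_one, show w * (x * z) * w⁻¹ = (w * x * w⁻¹) * (w * z * w⁻¹) by group,
            hxy w hw.1.2 hw.2, ← (hzcomm w).eq, mul_inv_cancel_right,
            show x * z * z * (x * z) = x * (z * z) * x * z by group, hz, mul_one, hx, one_mul] at h1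
          exact hz1 h1
        · obtain rfl : w = w' := mul_right_cancel (mul_right_cancel h'); rfl
      · rintro ⟨k, hk⟩
        have hnc : ∀ k' ∈ K, ¬ Commute (k' * y) x := fun k' hk' h => hyx (by
          have := hk'.2.1.inv_left.mul_left h
          rwa [inv_mul_cancel_left] at this)
        rcases hsq k hk with h | h
        · refine ⟨(⟨k * y, ⟨h, mul_mem hk.1 hyV⟩, hnc k hk⟩, false), Subtype.ext ?_⟩
          show k * y * y * (if false = true then x else 1) = k
          simp [mul_assoc, hy]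
        · have hkx : k * x ∈ K := mul_mem hk hx'
          refine ⟨(⟨k * x * y, ⟨?_, mul_mem hkx.1 hyV⟩, hnc _ hkx⟩, true), Subtype.ext ?_⟩
          · rw [hmulx k hk, h, hz]
          · show k * x * y * y * (if true = true then x else 1) = k
            simp [mul_assoc, hy, hx]
    have hcard := Nat.card_congr (Equiv.ofBijective f hf)
    rw [Nat.card_prod, Nat.card_eq_fintype_card (α := Bool), Fintype.card_bool] at hcard
    obtain ⟨i, hi⟩ := IsPGroup.iff_card.mp (hP.to_subgroup K)
    rw [hi] at hcard ⊢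
    rcases i with _ | _ | _ | i
    · simp at hcard
    · rw [pow_one] at hcard; omega
    · norm_num
    · exfalso
      have : 2 ^ (i + 1 + 1 + 1) = 8 * 2 ^ i := by ring
      omega
  have hKE : E = K := eq_of_le_of_card_ge hEK (by rw [hK4, hE4])
  have hsqc : ∀ k ∈ V, ∀ s, s * (k * k) * s⁻¹ = k * k := by
    intro k hk s
    rw [show s * (k * k) * s⁻¹ = (s * k * s⁻¹) * (s * k * s⁻¹) by group]
    rcases hk s with e | e <;> rw [e]
    rw [show k * z * (k * z) = k * (z * k) * z by group, (hzcomm k).eq,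
      show k * (k * z) * z = k * k * (z * z) by group, hz, mul_one]
  have hcent : ∀ c : P, (∀ g, Commute c g) → c * c = 1 := by
    intro c hc
    obtain ⟨i, hi⟩ := IsPGroup.iff_orderOf.mp hP c
    rcases i with _ | _ | i
    · rw [show c = 1 from orderOf_eq_one_iff.mp (by rw [hi, pow_zero]), mul_one]
    · rw [← pow_two, ← orderOf_dvd_iff_pow_eq_one, hi]; simp
    exfalso
    set d := c ^ 2 ^ i with hd
    have hdc : ∀ g, Commute d g := fun g => (hc g).pow_left _
    have hd4 : orderOf d = 4 := by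
      rw [hd, orderOf_pow' _ (by positivity), hi,
        Nat.gcd_eq_right (pow_dvd_pow 2 (by omega : i ≤ i + 1 + 1)),
        show 2 ^ (i + 1 + 1) = 2 ^ i * 4 by ring, Nat.mul_div_cancel_left _ (by positivity)]
    have hdd : d * d = z := huniq _ (by
        have h4 := pow_orderOf_eq_one d
        rw [hd4] at h4
        rw [← h4, ← pow_two d, ← pow_two, ← pow_mul])
      (fun h => by
        have := orderOf_dvd_of_pow_eq_one (show d ^ 2 = 1 by rw [pow_two, h])
        rw [hd4] at this; norm_num at this)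
      (fun g => (hdc g).mul_left (hdc g))
    have hdK : d ∈ K := ⟨fun s => Or.inl (by rw [← (hdc s).eq, mul_inv_cancel_right]), hdc x, Or.inr hdd⟩
    rw [← hKE] at hdK
    rw [hEsq d hdK] at hdd
    exact hz1 hdd.symm
  have hVx : ∀ k ∈ V, Commute k x → k ∈ E := by
    intro k hk hkx
    rw [hKE]
    refine ⟨hk, hkx, ?_⟩
    have hkkc : ∀ g, Commute (k * k) g := fun g => (mul_inv_eq_iff_eq_mul.1 (hsqc k hk g)).symm
    by_cases h : k * k = 1
    · exact Or.inl h
    · exact Or.inr (huniq _ (hcent _ hkkc) h hkkc)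
  -- the centralizer of `x` and `y`
  let R : Subgroup P := centralizer {x} ⊓ centralizer {y}
  have hRmem : ∀ r, r ∈ R ↔ r * x = x * r ∧ r * y = y * r := fun r => by
    rw [mem_inf, mem_centralizer_singleton_iff, mem_centralizer_singleton_iff]
  haveI : R.Normal := by
    refine ⟨fun r hr s => ?_⟩
    rw [hRmem] at hr ⊢
    have key : ∀ v ∈ V, r * v = v * r → s * r * s⁻¹ * v = v * (s * r * s⁻¹) := by
      intro v hv hrv
      have hv' : s⁻¹ * v * s = v ∨ s⁻¹ * v * s = v * z := by simpa using hv s⁻¹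
      have hc : Commute r (s⁻¹ * v * s) := by
        rcases hv' with e | e <;> rw [e]
        · exact hrv
        · exact (show Commute r v from hrv).mul_right (hzcomm r).symm
      rw [show s * r * s⁻¹ * v = s * (r * (s⁻¹ * v * s)) * s⁻¹ by group, hc.eq]
      group
    exact ⟨key x (hEV x hxE) hr.1, key y hyV hr.2⟩
  have hzR : z ∈ R := (hRmem z).2 ⟨(hzcomm x).eq, (hzcomm y).eq⟩
  have hR : ∀ r ∈ R, r = 1 ∨ r = z := by
    intro r hr
    by_contra h
    push Not at h
    obtain ⟨r', hr', hr1, hrz, -, hrc⟩ := NormalFour.exists_second_center hP hz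
      (fun g => by rw [← (hzcomm g).eq, mul_inv_cancel_right]) R hzR ⟨r, hr, h.1, h.2⟩
    have hrV : r' ∈ V := fun s => (hrc s).imp id fun e => e.trans (hzcomm r').eq
    have hrE : r' ∈ NormalFour.fourOf z x hz hx (hzcomm x) := by
      rw [show NormalFour.fourOf z x hz hx (hzcomm x) = E from eq_of_le_of_card_ge (by
        rintro f (rfl | rfl | rfl | rfl)
        exacts [one_mem _, hzE, hxE, mul_mem hzE hxE])
        (by rw [hE4, NormalFour.fourOf_card hz1 hx1 hxz])]
      exact hVx r' hrV ((hRmem r').1 hr').1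
    have hry : Commute r' y := ((hRmem r').1 hr').2
    rcases hrE with e | e | e | e
    · exact hr1 e
    · exact hrz e
    · exact hyx (e ▸ hry).symm
    · refine hyx ?_
      have h' : Commute y (z * x) := (e ▸ hry).symm
      have := (hzcomm y).symm.inv_right.mul_right h'
      rwa [inv_mul_cancel_left] at this
  have hyxy : y * x * y⁻¹ = x * z := hxy y hyV hyx
  have hxyx : x * y * x⁻¹ = y * z := by
    rcases hyV x with e | e
    · exact absurd (mul_inv_eq_iff_eq_mul.1 e).symm hyx
    · exact e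
  have hall : ∀ g : P, g ∈ V := by
    intro g
    obtain ⟨v, hv, hv1, hv2⟩ : ∃ v ∈ V, (g * v) * x * (g * v)⁻¹ = x ∧ (g * v) * y * (g * v)⁻¹ = y := by
      have hgz : g * z * g⁻¹ = z := by rw [← (hzcomm g).eq, mul_inv_cancel_right]
      rcases hEV x hxE g with e1 | e1 <;> rcases hyV g with e2 | e2
      · exact ⟨1, one_mem V, by simpa using e1, by simpa using e2⟩
      · refine ⟨x, hEV x hxE, ?_, ?_⟩
        · rw [show g * x * x * (g * x)⁻¹ = g * x * g⁻¹ by group, e1]
        · rw [show g * x * y * (g * x)⁻¹ = g * (x * y * x⁻¹) * g⁻¹ by group, hxyx,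
            show g * (y * z) * g⁻¹ = (g * y * g⁻¹) * (g * z * g⁻¹) by group, e2, hgz, mul_assoc, hz, mul_one]
      · refine ⟨y, hyV, ?_, ?_⟩
        · rw [show g * y * x * (g * y)⁻¹ = g * (y * x * y⁻¹) * g⁻¹ by group, hyxy,
            show g * (x * z) * g⁻¹ = (g * x * g⁻¹) * (g * z * g⁻¹) by group, e1, hgz, mul_assoc, hz, mul_one]
        · rw [show g * y * y * (g * y)⁻¹ = g * y * g⁻¹ by group, e2]
      · refine ⟨x * y, mul_mem (hEV x hxE) hyV, ?_, ?_⟩
        · rw [show g * (x * y) * x * (g * (x * y))⁻¹ = g * (x * (y * x * y⁻¹) * x⁻¹) * g⁻¹ by group, hyxy,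
            show x * (x * z) * x⁻¹ = x * (x * z * x⁻¹) by group, mul_assoc x z, (hzcomm x⁻¹).eq,
            mul_inv_cancel_left,
            show g * (x * z) * g⁻¹ = (g * x * g⁻¹) * (g * z * g⁻¹) by group, e1, hgz, mul_assoc, hz, mul_one]
        · rw [show g * (x * y) * y * (g * (x * y))⁻¹ = g * (x * y * x⁻¹) * g⁻¹ by group, hxyx,
            show g * (y * z) * g⁻¹ = (g * y * g⁻¹) * (g * z * g⁻¹) by group, e2, hgz, mul_assoc, hz, mul_one]
    have hgv : g * v ∈ R := (hRmem _).2 ⟨mul_inv_eq_iff_eq_mul.1 hv1, mul_inv_eq_iff_eq_mul.1 hv2⟩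
    have hzV : z ∈ V := hEV z hzE
    rcases hR _ hgv with e | e
    · rw [show g = v⁻¹ from eq_inv_of_mul_eq_one_left e]; exact inv_mem hv
    · rw [show g = z * v⁻¹ by rw [← e, mul_inv_cancel_right]]; exact mul_mem hzV (inv_mem hv)
  -- `|P| = 8` and `P' = ⟨z⟩`
  have hEi : E.index = 2 := by
    rw [index_eq_two_iff]
    refine ⟨y, fun b => ?_⟩
    by_cases hb : b ∈ E
    · exact Or.inr ⟨hb, fun h => hyx (hEcomm _ (by simpa using mul_mem (inv_mem hb) h) x hxE)⟩
    · refine Or.inl ⟨hVx _ (hall _) ?_, hb⟩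
      have hbx : ¬ Commute b x := fun h => hb (hVx b (hall b) h)
      have h1 : b * y * x * (b * y)⁻¹ = x := by
        rw [show b * y * x * (b * y)⁻¹ = b * (y * x * y⁻¹) * b⁻¹ by group, hyxy,
          show b * (x * z) * b⁻¹ = (b * x * b⁻¹) * (b * z * b⁻¹) by group, hxy b (hall b) hbx,
          ← (hzcomm b).eq, mul_inv_cancel_right, mul_assoc, hz, mul_one]
      exact mul_inv_eq_iff_eq_mul.1 h1
  have hle : commutator P ≤ zpowers z := by
    rw [_root_.commutator_def, Subgroup.commutator_le]
    intro p _ q _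
    rw [commutatorElement_def, show p * q * p⁻¹ * q⁻¹ = (p * q * p⁻¹) * q⁻¹ by group]
    rcases hall q p with e | e <;> rw [e]
    · rw [mul_inv_cancel]; exact one_mem _
    · rw [← (hzcomm q).eq, mul_inv_cancel_right]; exact mem_zpowers z
  have hzc' : z ∈ commutator P := by
    have h1 : y * x * y⁻¹ * x⁻¹ ∈ commutator P := commutator_mem_commutator (mem_top y) (mem_top x)
    rwa [hyxy, ← (hzcomm x).eq, mul_inv_cancel_right] at h1
  have heq : commutator P = zpowers z := le_antisymm hle (zpowers_le.2 hzc')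
  have h1 := card_mul_index (commutator P)
  have h2 := card_mul_index E
  rw [heq, Nat.card_zpowers, orderOf_two_of_mul_self hz hz1] at h1
  rw [heq]
  rw [hE4, hEi] at h2
  omega

/-- `|G : G'| = 4` for a noncommutative 2-group when the penultimate term of its lower central series is nontrivial. -/
theorem index_four_of_series [Finite P] (hna : ¬ IsMulCommutative P) (n : ℕ) (hn : Nat.card P = 2 ^ n)
    (h : (⊤ : Subgroup P).lowerCentralSeries (n - 2) ≠ ⊥) : (commutator P).index = 4 := by
  haveI : Fact (Nat.Prime 2) := ⟨Nat.prime_two⟩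
  have hP : IsPGroup 2 P := IsPGroup.of_card hn
  haveI := hP.isNilpotent
  have hn3 : 3 ≤ n := by
    by_contra h3
    refine hna ?_
    obtain rfl | rfl | rfl : n = 0 ∨ n = 1 ∨ n = 2 := by omega
    · have : Subsingleton P := (Nat.card_eq_one_iff_unique.mp (by simpa using hn)).1
      exact ⟨⟨fun _ _ => Subsingleton.elim _ _⟩⟩
    · haveI : IsCyclic P := isCyclic_of_prime_card (p := 2) (by simpa using hn)
      exact IsCyclic.isMulCommutative
    · exact IsPGroup.isMulCommutative_of_card_eq_prime_sq (p := 2) hn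
  set L := fun i => (⊤ : Subgroup P).lowerCentralSeries i with hL
  obtain ⟨N, hN⟩ := (Subgroup.isNilpotent_iff_lowerCentralSeries (⊤ : Subgroup P)).mp inferInstance
  have hstrict : ∀ i, L i ≠ ⊥ → L (i + 1) ≠ L i := by
    intro i hi he
    have hst : ∀ j, L (i + j) = L i := by
      intro j
      induction j with
      | zero => rfl
      | succ j ihj =>
        show ⁅L (i + j), ⊤⁆ = L i
        rw [ihj]; exact he
    refine hi (le_bot_iff.1 ?_)
    rw [← hst N, ← hN]
    exact Subgroup.lowerCentralSeries_antitone (⊤ : Subgroup P) (Nat.le_add_left N i)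
  have hpow : ∀ i, ∃ e, Nat.card (L i) = 2 ^ e := fun i => IsPGroup.iff_card.mp (hP.to_subgroup _)
  choose e he using hpow
  have hdec : ∀ i, L i ≠ ⊥ → e (i + 1) < e i := by
    intro i hi
    have hle : L (i + 1) ≤ L i := Subgroup.lowerCentralSeries_antitone (⊤ : Subgroup P) (Nat.le_succ i)
    have hlt : Nat.card (L (i + 1)) < Nat.card (L i) := by
      refine lt_of_le_of_ne (card_le_of_le hle) fun hc => hstrict i hi (eq_of_le_of_card_ge hle hc.ge)
    rw [he, he] at hlt
    exact (Nat.pow_lt_pow_iff_right (by norm_num)).1 hlt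
  have hanti : ∀ i, i ≤ n - 2 → L i ≠ ⊥ := fun i hi hb => h (le_bot_iff.1 (by
    rw [← hb]; exact Subgroup.lowerCentralSeries_antitone (⊤ : Subgroup P) hi))
  have hdrop : ∀ i, 1 ≤ i → i ≤ n - 2 → e i + (i - 1) ≤ e 1 := by
    intro i hi1 hi2
    induction i with
    | zero => omega
    | succ i ih =>
      rcases Nat.eq_zero_or_pos i with rfl | hi0
      · simp
      · have := ih hi0 (by omega)
        have := hdec i (hanti i (by omega))
        omega
  have hlast : 1 ≤ e (n - 2) := by
    rcases Nat.eq_zero_or_pos (e (n - 2)) with h0 | h0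
    · exfalso; exact h (eq_bot_of_card_eq _ (by rw [show Nat.card _ = 2 ^ e (n - 2) from he (n - 2), h0, pow_zero]))
    · exact h0
  have hlow := hdrop (n - 2) (by omega) le_rfl
  have hcomm : L 1 = commutator P := by rw [_root_.commutator_def]; rfl
  have h1 := card_mul_index (commutator P)
  rw [← hcomm, he, hn] at h1
  rw [← hcomm]
  obtain ⟨d, hd⟩ := hP.index (L 1)
  rw [hd, ← pow_add] at h1
  have h1' := Nat.pow_right_injective (le_refl 2) h1
  -- the index is at least four
  have hd2 : 2 ≤ d := by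
    by_contra hd1
    have hd' : (commutator P).index = 2 ^ d := hcomm ▸ hd
    haveI hc : IsCyclic (P ⧸ commutator P) := by
      obtain rfl | rfl : d = 0 ∨ d = 1 := by omega
      · haveI : Subsingleton (P ⧸ commutator P) := (Nat.card_eq_one_iff_unique.mp
          (show Nat.card (P ⧸ commutator P) = 1 by rw [← index_eq_card, hd', pow_zero])).1
        exact ⟨⟨1, fun q => ⟨0, Subsingleton.elim _ _⟩⟩⟩
      · exact isCyclic_of_prime_card (p := 2)
          (show Nat.card (P ⧸ commutator P) = 2 by rw [← index_eq_card, hd', pow_one])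
    obtain ⟨g, hg⟩ := IsCyclic.exists_generator (α := P ⧸ commutator P)
    obtain ⟨g, rfl⟩ := QuotientGroup.mk_surjective g
    have hgen : zpowers g ⊔ commutator P = ⊤ := by
      rw [eq_top_iff]
      intro w _
      obtain ⟨j, hj⟩ := hg (w : P ⧸ commutator P)
      have hj' : ((g ^ j : P) : P ⧸ commutator P) = (w : P ⧸ commutator P) := hj
      rw [QuotientGroup.eq] at hj'
      have := mul_mem (mem_sup_left (zpow_mem (mem_zpowers g) j) : g ^ j ∈ zpowers g ⊔ commutator P)
        (mem_sup_right hj')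
      simpa using this
    have hF : commutator P ≤ frattini P := by
      refine le_iInf₂ fun M hM => ?_
      haveI : M.Normal := NormalizerCondition.normal_of_coatom M
        Group.normalizerCondition_of_isNilpotent hM
      have hcardM : IsCyclic (P ⧸ M) := by
        obtain ⟨w, -, hw⟩ := SetLike.exists_of_lt hM.1.lt_top
        have htop : M ⊔ zpowers w = ⊤ := hM.2 _ (lt_of_le_of_ne le_sup_left fun e =>
          hw (e ▸ mem_sup_right (mem_zpowers w)))
        refine ⟨⟨(w : P ⧸ M), fun q => ?_⟩⟩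
        obtain ⟨q, rfl⟩ := QuotientGroup.mk_surjective q
        have hq : q ∈ ((M ⊔ zpowers w : Subgroup P) : Set P) := htop ▸ mem_top q
        rw [normal_mul] at hq
        obtain ⟨m, hm, _, ⟨j, rfl⟩, rfl⟩ := hq
        refine ⟨j, ?_⟩
        show (w : P ⧸ M) ^ j = _
        rw [QuotientGroup.mk_mul, (QuotientGroup.eq_one_iff m).2 hm, one_mul, QuotientGroup.mk_zpow]
      letI := hcardM.commGroup
      exact Abelianization.commutator_subset_ker (QuotientGroup.mk' M) |>.trans (QuotientGroup.ker_mk' M).le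
    have htop : zpowers g = ⊤ := frattini_nongenerating (eq_top_iff.2 (hgen ▸ sup_le_sup le_rfl hF))
    haveI : IsCyclic P := isCyclic_iff_exists_zpowers_eq_top.2 ⟨g, htop⟩
    exact hna IsCyclic.isMulCommutative
  rw [hd, show d = 2 by omega]
  norm_num

/-- Non-cyclic subgroups are self-centralizing exactly for maximal class. -/
theorem selfCentralizing_iff [Finite P] (hna : ¬ IsMulCommutative P) (n : ℕ) (hn : Nat.card P = 2 ^ n) :
    (∀ H : Subgroup P, ¬ IsCyclic ↥H → centralizer (H : Set P) ≤ H) ↔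
      (⊤ : Subgroup P).lowerCentralSeries (n - 2) ≠ ⊥ := by
  haveI : Fact (Nat.Prime 2) := ⟨Nat.prime_two⟩
  have hP : IsPGroup 2 P := IsPGroup.of_card hn
  constructor
  · intro hsc
    have h4 : (commutator P).index = 4 := by
      by_cases hno : RoquetteTwo.NoNormalFour P
      · rcases RoquetteTwo.cyclic_or_index_four hP hno with h | h
        · exact absurd (haveI := h; IsCyclic.isMulCommutative) hna
        · exact h.2
      simp only [RoquetteTwo.NoNormalFour, not_forall] at hno
      obtain ⟨E, hEn, hE4, hEsq, -⟩ := hno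
      haveI := hEn
      have hEnc : ¬ IsCyclic E := by
        intro h
        obtain ⟨g, hg⟩ := IsCyclic.exists_ofOrder_eq_natCard (α := E)
        have : g ^ 2 = 1 := Subtype.ext (by simpa [pow_two] using hEsq g g.2)
        have := orderOf_dvd_of_pow_eq_one this
        rw [hg, hE4] at this
        norm_num at this
      have hC := hsc E hEnc
      -- conjugation on `E` has image of order at most two
      have hEne : E ≠ ⊥ := fun h => by rw [h, card_bot] at hE4; omega
      obtain ⟨z, hzE, hzc, hz1⟩ := OddLocal.exists_mem_center_ne_one_of_normal hP E hEne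
      obtain ⟨x, hxE, hx1, hxz⟩ : ∃ x ∈ E, x ≠ 1 ∧ x ≠ z := by
        by_contra h
        push Not at h
        have hle : E ≤ zpowers z := fun x hx => by
          by_cases hx1 : x = 1
          · rw [hx1]; exact one_mem _
          · rw [h x hx hx1]; exact mem_zpowers z
        have := card_le_of_le hle
        rw [Nat.card_zpowers, orderOf_two_of_mul_self (hEsq z hzE) hz1, hE4] at this
        omega
      have hzx : Commute z x := (mem_center_iff.mp hzc x).symm
      have hEeq : NormalFour.fourOf z x (hEsq z hzE) (hEsq x hxE) hzx = E := by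
        refine eq_of_le_of_card_ge ?_ (by rw [hE4, NormalFour.fourOf_card hz1 hx1 hxz])
        rintro f (rfl | rfl | rfl | rfl)
        exacts [one_mem _, hzE, hxE, mul_mem hzE hxE]
      have hfix : ∀ g : P, g * x * g⁻¹ = x → g ∈ E := by
        intro g hg
        refine hC (mem_centralizer_iff.2 fun e he => ?_)
        have he' : e ∈ NormalFour.fourOf z x (hEsq z hzE) (hEsq x hxE) hzx := by rw [hEeq]; exact he
        have hgx : Commute g x := mul_inv_eq_iff_eq_mul.1 hg
        have hgz : Commute g z := mem_center_iff.mp hzc g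
        rcases he' with rfl | rfl | rfl | rfl
        exacts [(Commute.one_left g).eq, hgz.symm.eq, hgx.symm.eq, (hgz.mul_right hgx).symm.eq]
      have hconj : ∀ g : P, g * x * g⁻¹ = x ∨ g * x * g⁻¹ = z * x := by
        intro g
        have hgx : g * x * g⁻¹ ∈ E := hEn.conj_mem x hxE g
        rw [← hEeq] at hgx
        rcases hgx with e | e | e | e
        · exact absurd (conj_eq_one_iff.1 e) hx1
        · exact absurd (by
            rw [show x = g⁻¹ * (g * x * g⁻¹) * g by group, e, mul_assoc, ← mem_center_iff.mp hzc g,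
              inv_mul_cancel_left]) hxz
        · exact Or.inl e
        · exact Or.inr e
      obtain ⟨y, hy⟩ : ∃ y, y ∉ E := by
        by_contra h
        push Not at h
        refine hna ⟨⟨fun a b => ?_⟩⟩
        have h1 := hEsq _ (h (a * b))
        calc a * b = (a * b)⁻¹ := (inv_eq_of_mul_eq_one_right h1).symm
          _ = b⁻¹ * a⁻¹ := mul_inv_rev a b
          _ = b * a := by rw [inv_eq_self_of_mul_self (hEsq a (h a)), inv_eq_self_of_mul_self (hEsq b (h b))]
      have hEi : E.index = 2 := by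
        rw [index_eq_two_iff]
        refine ⟨y, fun b => ?_⟩
        by_cases hb : b ∈ E
        · exact Or.inr ⟨hb, fun h => hy (by simpa using mul_mem (inv_mem hb) h)⟩
        · refine Or.inl ⟨hfix _ ?_, hb⟩
          have e1 := (hconj b).resolve_left fun h => hb (hfix b h)
          have e2 := (hconj y).resolve_left fun h => hy (hfix y h)
          rw [show b * y * x * (b * y)⁻¹ = b * (y * x * y⁻¹) * b⁻¹ by group, e2,
            show b * (z * x) * b⁻¹ = (b * z * b⁻¹) * (b * x * b⁻¹) by group, e1,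
            mem_center_iff.mp hzc b, mul_inv_cancel_right, ← mul_assoc, hEsq z hzE, one_mul]
      have h1 := card_mul_index E
      rw [hE4, hEi] at h1
      haveI : (commutator P).Normal := inferInstance
      have hDne : commutator P ≠ ⊥ := fun h => hna ⟨⟨fun x y => commutatorElement_eq_one_iff_mul_comm.1
        ((mem_bot).1 (h ▸ commutator_mem_commutator (mem_top x) (mem_top y)))⟩⟩
      have hle : commutator P ≤ zpowers z := by
        haveI : (zpowers z).Normal := ⟨fun w hw g => by
          rw [mem_center_iff.mp ((zpowers_le.2 hzc) hw) g, mul_inv_cancel_right]; exact hw⟩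
        have hc : Nat.card (P ⧸ zpowers z) = 4 := by
          have := card_eq_card_quotient_mul_card_subgroup (zpowers z)
          rw [Nat.card_zpowers, orderOf_two_of_mul_self (hEsq z hzE) hz1] at this
          omega
        haveI hab : IsMulCommutative (P ⧸ zpowers z) :=
          IsPGroup.isMulCommutative_of_card_eq_prime_sq (p := 2) (by rw [hc]; norm_num)
        rw [_root_.commutator_def, Subgroup.commutator_le]
        intro p _ q _
        rw [← QuotientGroup.eq_one_iff, ← QuotientGroup.mk'_apply, map_commutatorElement,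
          commutatorElement_eq_one_iff_mul_comm]
        exact hab.is_comm.comm _ _
      have hcard2 : Nat.card (commutator P) = 2 := by
        have h2 := card_le_of_le hle
        rw [Nat.card_zpowers, orderOf_two_of_mul_self (hEsq z hzE) hz1] at h2
        have h3 : 1 < Nat.card (commutator P) := (one_lt_card_iff_ne_bot _).2 hDne
        omega
      have h2 := card_mul_index (commutator P)
      rw [hcard2, ← h1] at h2
      omega
    obtain ⟨D⟩ := exists_mcData hP hna h4
    obtain ⟨r, hr, h4r, h2r⟩ := D.exists_exp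
    obtain ⟨t, ht⟩ : ∃ t : ℤ, r - 1 = 2 * (2 * t + 1) := ⟨r / 4, by omega⟩
    have hstep : ∀ i, 1 ≤ i → i < D.m → D.a ^ (2 ^ i) ∈ (⊤ : Subgroup P).lowerCentralSeries i := by
      intro i hi him
      induction i with
      | zero => omega
      | succ i ih =>
        have hprev : D.a ^ (2 ^ i) ∈ (⊤ : Subgroup P).lowerCentralSeries i := by
          rcases Nat.eq_zero_or_pos i with rfl | hi0
          · exact mem_top _
          · exact ih hi0 (by omega)
        rw [Subgroup.lowerCentralSeries_succ]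
        have hmem := commutator_mem_commutator hprev (mem_top D.y)
        have e : ⁅D.a ^ (2 ^ i), D.y⁆ = D.a ^ (((2 : ℤ) ^ i) * (1 - r)) := by
          rw [commutatorElement_def, show D.a ^ 2 ^ i * D.y * (D.a ^ 2 ^ i)⁻¹ * D.y⁻¹ =
            D.a ^ 2 ^ i * (D.y * D.a ^ 2 ^ i * D.y⁻¹)⁻¹ by group, ← conj_pow, hr,
            ← zpow_natCast (D.a ^ r), ← zpow_mul, ← zpow_natCast D.a, ← zpow_neg, ← _root_.zpow_add]
          congr 1; push_cast; ring
        rw [e, show ((2 : ℤ) ^ i) * (1 - r) = 2 ^ (i + 1) * (-(2 * t + 1)) by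
          rw [show (1 - r) = -(2 * (2 * t + 1)) by omega]; ring] at hmem
        have hcop : IsCoprime (-(2 * t + 1)) ((2 : ℤ) ^ D.m) := IsCoprime.pow_right ⟨-1, -t, by ring⟩
        obtain ⟨u, v, huv⟩ := hcop
        have := zpow_mem hmem u
        rw [← zpow_mul] at this
        have e2 : D.a ^ (2 ^ (i + 1) * -(2 * t + 1) * u) = D.a ^ (2 ^ (i + 1)) := by
          rw [← zpow_natCast D.a, ← orderOf_dvd_sub_iff_zpow_eq_zpow, D.orda]
          push_cast
          exact ⟨-(2 ^ (i + 1)) * v, by linear_combination (2 ^ (i + 1)) * huv⟩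
        rwa [e2] at this
    intro hbot
    have hnm : n = D.m + 1 := Nat.pow_right_injective (le_refl 2) (hn.symm.trans D.card)
    have hm := D.two_le
    have h := hstep (D.m - 1) (by omega) (by omega)
    rw [show D.m - 1 = n - 2 by omega, hbot, mem_bot] at h
    have := orderOf_dvd_of_pow_eq_one h
    rw [D.orda] at this
    have := Nat.le_of_dvd (by positivity) this
    have : 2 ^ (n - 2) < 2 ^ D.m := Nat.pow_lt_pow_right (by norm_num) (by omega)
    omega
  · intro h
    obtain ⟨D⟩ := exists_mcData hP hna (index_four_of_series hna n hn h)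
    intro H hH c hc
    obtain ⟨g, hgH, hg⟩ : ∃ g ∈ H, g ∉ zpowers D.a := by
      by_contra hcon
      push Not at hcon
      exact hH (isCyclic_of_injective (inclusion hcon) (inclusion_injective _))
    -- `H` contains the central involution
    have hz : D.a ^ 2 ^ (D.m - 1) ∈ H := by
      have hne : H ⊓ zpowers D.a ≠ ⊥ := by
        intro hb
        have hle : ∀ w ∈ H, w = 1 ∨ w = g := by
          intro w hw
          by_cases hwa : w ∈ zpowers D.a
          · exact Or.inl ((mem_bot).1 (hb ▸ ⟨hw, hwa⟩))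
          · have h2 : w * g⁻¹ ∈ zpowers D.a :=
              (mul_mem_iff_of_index_two D.index_eq).2 (iff_of_false hwa fun h => hg (by simpa using inv_mem h))
            have h2' := Subgroup.mem_inf.2 ⟨mul_mem hw (inv_mem hgH), h2⟩
            rw [hb] at h2'
            have h3 : w * g⁻¹ = 1 := mem_bot.1 h2'
            exact Or.inr (mul_inv_eq_one.1 h3)
        refine hH ⟨⟨⟨g, hgH⟩, fun w => ?_⟩⟩
        rcases hle w w.2 with e | e
        · exact ⟨0, Subtype.ext (by simp [e])⟩
        · exact ⟨1, Subtype.ext (by simp [e])⟩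
      obtain ⟨w, ⟨hwH, hwa⟩, hw1⟩ : ∃ w ∈ H ⊓ zpowers D.a, w ≠ 1 := by
        by_contra hcon
        push Not at hcon
        exact hne (eq_bot_iff.2 fun w hw => mem_bot.2 (hcon w hw))
      obtain ⟨i, hi⟩ := IsPGroup.iff_orderOf.mp hP w
      have hi0 : i ≠ 0 := fun h0 => hw1 (orderOf_eq_one_iff.mp (by rw [hi, h0, pow_zero]))
      have ho : orderOf (w ^ (orderOf w / 2)) = 2 :=
        orderOf_pow_orderOf_div (orderOf_pos w).ne' (hi ▸ dvd_pow_self 2 hi0)
      obtain ⟨j, hj⟩ := pow_mem hwa (orderOf w / 2)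
      have hj' : D.a ^ j = w ^ (orderOf w / 2) := hj
      have hm := D.two_le
      have hsqz : (orderOf D.a : ℤ) ∣ j * 2 := by
        rw [orderOf_dvd_iff_zpow_eq_one, zpow_mul, hj', zpow_two]
        exact mul_self_of_orderOf_two ho
      rw [D.orda, show D.m = D.m - 1 + 1 by omega, pow_succ] at hsqz
      push_cast at hsqz
      obtain ⟨d, hd⟩ := Int.dvd_of_mul_dvd_mul_right two_ne_zero hsqz
      have hzz : (D.a ^ 2 ^ (D.m - 1)) ^ (2 : ℤ) = 1 := by
        rw [zpow_two, ← pow_add, ← two_mul, ← pow_succ', show D.m - 1 + 1 = D.m by omega, ← D.orda,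
          pow_orderOf_eq_one]
      have he : D.a ^ j = (D.a ^ 2 ^ (D.m - 1)) ^ d := by
        rw [hd, zpow_mul]; congr 1; rw [← zpow_natCast]; norm_num
      rcases Int.even_or_odd' d with ⟨t, rfl | rfl⟩
      · rw [zpow_mul, hzz, one_zpow, hj'] at he
        rw [he, orderOf_one] at ho
        omega
      · rw [_root_.zpow_add, zpow_mul, hzz, one_zpow, one_mul, zpow_one, hj'] at he
        rw [← he]; exact pow_mem hwH _
    have hcg : Commute g c := mem_centralizer_iff.1 hc g hgH
    by_cases hca : c ∈ zpowers D.a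
    · obtain ⟨k, rfl⟩ := hca
      rcases D.commute_cases hg k hcg with e | e
      · show D.a ^ k ∈ H; rw [e]; exact one_mem _
      · show D.a ^ k ∈ H; rw [e]; exact hz
    · have h2 : c * g⁻¹ ∈ zpowers D.a :=
        (mul_mem_iff_of_index_two D.index_eq).2 (iff_of_false hca fun h => hg (by simpa using inv_mem h))
      obtain ⟨k, hk⟩ := h2
      have hk' : D.a ^ k = c * g⁻¹ := hk
      have hcom : Commute g (D.a ^ k) := hk' ▸ hcg.mul_right (Commute.refl g).inv_right
      have hmem : D.a ^ k ∈ H := by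
        rcases D.commute_cases hg k hcom with e | e <;> rw [e]
        exacts [one_mem _, hz]
      rw [hk'] at hmem
      simpa using mul_mem hmem hgH

/-- Groups all of whose normal abelian subgroups are cyclic. -/
theorem symplectic_weak [Finite P] (p : ℕ) [Fact p.Prime] (hP : IsPGroup p P)
    (hn : ∀ A : Subgroup P, A.Normal → IsMulCommutative A → IsCyclic A)
    (hm : ∃ B : Subgroup P, IsMulCommutative B ∧ ¬ IsCyclic B) :
    p = 2 ∧ ((∃ n : ℕ, Nonempty (P ≃* QuaternionGroup n)) ∨
      (∃ n : ℕ, 8 ≤ n ∧ Nonempty (P ≃* DihedralGroup n)) ∨ Cfsg.IsQuasiDihedral P) := by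
  obtain ⟨B, hBc, hBn⟩ := hm
  have hncP : ¬ IsCyclic P := fun h => hBn (haveI := h; inferInstance)
  have hp : p = 2 := by
    by_contra hp2
    obtain ⟨E, hEn, hE2, hEc, hEp⟩ := PGroup23.exists_normal_elementary_sq hp2 hP hncP
    haveI := hn E hEn hEc
    obtain ⟨g, hg⟩ := IsCyclic.exists_ofOrder_eq_natCard (α := E)
    have := orderOf_dvd_of_pow_eq_one (show g ^ p = 1 from Subtype.ext (by simpa using hEp g g.2))
    rw [hg, hE2] at this
    have := Nat.le_of_dvd (Fact.out : p.Prime).pos this
    have := (Fact.out : p.Prime).two_le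
    nlinarith
  subst hp
  have hno : RoquetteTwo.NoNormalFour P := by
    intro E hEn hE4 hEsq
    have hEc : IsMulCommutative E := IsPGroup.isMulCommutative_of_card_eq_prime_sq (p := 2) (by rw [hE4]; norm_num)
    haveI := hn E hEn hEc
    obtain ⟨g, hg⟩ := IsCyclic.exists_ofOrder_eq_natCard (α := E)
    have := orderOf_dvd_of_pow_eq_one (show g ^ 2 = 1 from Subtype.ext (by simpa [pow_two] using hEsq g g.2))
    rw [hg, hE4] at this
    norm_num at this
  refine ⟨rfl, ?_⟩
  obtain ⟨hna, h4⟩ := (RoquetteTwo.cyclic_or_index_four hP hno).resolve_left hncP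
  obtain ⟨D⟩ := exists_mcData hP hna h4
  rcases iso_cases D with h | h | h
  · by_cases hm2 : 3 ≤ D.m
    · exact Or.inr (Or.inl ⟨2 ^ D.m, le_trans (by norm_num) (Nat.pow_le_pow_right (by norm_num) hm2), h⟩)
    exfalso
    have hm2' : D.m = 2 := by have := D.two_le; omega
    -- the dihedral group of order eight has a normal four group
    obtain ⟨e⟩ := h
    rw [hm2'] at e
    haveI : Finite (DihedralGroup (2 ^ 2)) := Finite.of_equiv _ e.toEquiv
    let E : Subgroup (DihedralGroup (2 ^ 2)) :=
      { carrier := {w | w = 1 ∨ w = DihedralGroup.r 2 ∨ w = DihedralGroup.sr 0 ∨ w = DihedralGroup.sr 2}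
        one_mem' := Or.inl rfl
        mul_mem' := by decide
        inv_mem' := by decide }
    have hnormal : ∀ w : DihedralGroup (2 ^ 2), (w = 1 ∨ w = DihedralGroup.r 2 ∨ w = DihedralGroup.sr 0 ∨
        w = DihedralGroup.sr 2) → ∀ g : DihedralGroup (2 ^ 2), g * w * g⁻¹ = 1 ∨
        g * w * g⁻¹ = DihedralGroup.r 2 ∨ g * w * g⁻¹ = DihedralGroup.sr 0 ∨
        g * w * g⁻¹ = DihedralGroup.sr 2 := by decide
    have hsq : ∀ w : DihedralGroup (2 ^ 2), (w = 1 ∨ w = DihedralGroup.r 2 ∨ w = DihedralGroup.sr 0 ∨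
        w = DihedralGroup.sr 2) → w * w = 1 := by decide
    haveI hEn : E.Normal := ⟨fun w hw g => hnormal w hw g⟩
    refine hno (E.comap e.toMonoidHom) inferInstance ?_ (fun w hw => e.injective (by
      rw [map_mul, map_one]; exact hsq _ hw))
    refine (Nat.card_congr (e.toEquiv.subtypeEquiv (p := fun w => w ∈ E.comap e.toMonoidHom)
      (q := fun w => w ∈ E) fun w => Iff.rfl)).trans ?_
    change Nat.card {w : DihedralGroup (2 ^ 2) // w = 1 ∨ w = DihedralGroup.r 2 ∨ w = DihedralGroup.sr 0 ∨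
        w = DihedralGroup.sr 2} = 4
    rw [Nat.card_eq_fintype_card]
    decide
  · exact Or.inl ⟨2 ^ (D.m - 1), h⟩
  · exact Or.inr (Or.inr h)

end Cfsg.Agent.Invol.MaxClassTwo
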