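import Mathlib
import Cfsg.Agent.Lib.Invol.MaxClassApps

/-!
Lower central series, class and centre of a 2-group of maximal class.
-/

set_option autoImplicit false

namespace Cfsg.Agent.Invol.MaxClassTwo

open Subgroup
open scoped commutatorElement

universe u

variable {P : Type u} [Group P] [Finite P]

theorem MCData.lcs_eq (D : MCData P) (i : ℕ) (hi : 1 ≤ i) :
    (⊤ : Subgroup P).lowerCentralSeries i = zpowers (D.a ^ 2 ^ i) := by
  obtain ⟨r, hr, h4r, h2r⟩ := D.exists_exp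
  obtain ⟨t, ht⟩ : ∃ t : ℤ, r - 1 = 2 * (2 * t + 1) := ⟨r / 4, by omega⟩
  have hm := D.two_le
  have hcomm : ∀ (j : ℕ) (k : ℤ) (g : P),
      ⁅(D.a ^ 2 ^ j) ^ k, g⁆ ∈ zpowers (D.a ^ 2 ^ (j + 1)) := by
    intro j k g
    by_cases hg : g ∈ zpowers D.a
    · obtain ⟨l, rfl⟩ := hg
      rw [commutatorElement_eq_one_iff_mul_comm.2 ((((Commute.refl D.a).pow_left _).zpow_zpow k l).eq)]
      exact one_mem _
    · obtain ⟨l, rfl⟩ := D.exists_repr hg
      have e1 : (D.a ^ 2 ^ j) ^ k = D.a ^ ((2 : ℤ) ^ j * k) := by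
        rw [← zpow_natCast, ← zpow_mul]; norm_num
      have e2 : ⁅D.a ^ ((2 : ℤ) ^ j * k), D.a ^ l * D.y⁆ = D.a ^ ((2 : ℤ) ^ j * k * (1 - r)) := by
        rw [commutatorElement_def,
          show D.a ^ ((2 : ℤ) ^ j * k) * (D.a ^ l * D.y) * (D.a ^ ((2 : ℤ) ^ j * k))⁻¹ * (D.a ^ l * D.y)⁻¹
            = D.a ^ ((2 : ℤ) ^ j * k + l) * (D.y * D.a ^ ((2 : ℤ) ^ j * k) * D.y⁻¹)⁻¹ * (D.a ^ l)⁻¹ by
            rw [_root_.zpow_add]; group,
          ← conj_zpow, hr, ← zpow_mul, ← zpow_neg, ← zpow_neg, ← _root_.zpow_add, ← _root_.zpow_add]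
        congr 1; ring
      rw [e1, e2]
      refine ⟨-k * (2 * t + 1), ?_⟩
      show (D.a ^ 2 ^ (j + 1)) ^ _ = _
      rw [← zpow_natCast D.a, ← zpow_mul]
      congr 1
      push_cast
      rw [show (1 - r) = -(2 * (2 * t + 1)) by omega]
      ring
  induction i with
  | zero => omega
  | succ i ih =>
    rcases Nat.eq_zero_or_pos i with rfl | hi0
    · show (⊤ : Subgroup P).lowerCentralSeries 1 = _
      rw [Subgroup.top_lowerCentralSeries_one]
      have hg : D.y * D.a * D.y⁻¹ * D.a⁻¹ = D.a ^ (r - 1) := by rw [hr, zpow_sub_one]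
      have hgg : D.y * D.a ^ (r - 1) * D.y⁻¹ ∈ zpowers (D.a ^ (r - 1)) := by
        refine ⟨r, ?_⟩
        show (D.a ^ (r - 1)) ^ r = D.y * D.a ^ (r - 1) * D.y⁻¹
        rw [← conj_zpow, hr, ← zpow_mul, ← zpow_mul, mul_comm]
      refine le_antisymm ((commutator_le_zpowers (zpowers D.a) D.index_eq D.hy le_sup_left hg hgg
        ((Commute.refl D.a).zpow_left _)).trans ?_) ?_
      · rw [zpowers_le]
        refine ⟨2 * t + 1, ?_⟩
        show (D.a ^ 2 ^ 1) ^ _ = _
        rw [← zpow_natCast, ← zpow_mul, ht]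
        norm_num
      · rw [zpowers_le]
        have hmem : D.a ^ (r - 1) ∈ commutator P := hg ▸ commutator_mem_commutator (mem_top _) (mem_top _)
        obtain ⟨u, v, huv⟩ : IsCoprime (2 * t + 1) ((2 : ℤ) ^ (D.m - 1)) :=
          IsCoprime.pow_right ⟨1, -t, by ring⟩
        have h1 := zpow_mem hmem u
        rw [← zpow_mul] at h1
        have e : D.a ^ ((r - 1) * u) = D.a ^ 2 ^ 1 := by
          rw [← zpow_natCast D.a, ← orderOf_dvd_sub_iff_zpow_eq_zpow, D.orda, ht]
          have hm2 : ((2 ^ D.m : ℕ) : ℤ) = 2 * 2 ^ (D.m - 1) := by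
            push_cast; rw [← pow_succ']; congr 1; omega
          rw [hm2]
          exact ⟨-v, by push_cast; linear_combination 2 * huv⟩
        rwa [e] at h1
    · rw [Subgroup.lowerCentralSeries_succ, ih hi0]
      refine le_antisymm ?_ ?_
      · rw [Subgroup.commutator_le]
        rintro _ ⟨k, rfl⟩ g _
        exact hcomm i k g
      · rw [zpowers_le]
        have e : ⁅D.a ^ 2 ^ i, D.y⁆ = D.a ^ (((2 : ℤ) ^ i) * (1 - r)) := by
          rw [commutatorElement_def, show D.a ^ 2 ^ i * D.y * (D.a ^ 2 ^ i)⁻¹ * D.y⁻¹ =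
            D.a ^ 2 ^ i * (D.y * D.a ^ 2 ^ i * D.y⁻¹)⁻¹ by group, ← conj_pow, hr,
            ← zpow_natCast (D.a ^ r), ← zpow_mul, ← zpow_natCast D.a, ← zpow_neg, ← _root_.zpow_add]
          congr 1; push_cast; ring
        have hmem := commutator_mem_commutator (mem_zpowers (D.a ^ 2 ^ i)) (mem_top D.y)
        rw [e] at hmem
        obtain ⟨u, v, huv⟩ : IsCoprime (-(2 * t + 1)) ((2 : ℤ) ^ D.m) :=
          IsCoprime.pow_right ⟨-1, -t, by ring⟩
        have h1 := zpow_mem hmem u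
        rw [← zpow_mul] at h1
        have e2 : D.a ^ ((2 : ℤ) ^ i * (1 - r) * u) = D.a ^ (2 ^ (i + 1)) := by
          rw [← zpow_natCast D.a, ← orderOf_dvd_sub_iff_zpow_eq_zpow, D.orda,
            show (1 - r) = -(2 * (2 * t + 1)) by omega]
          push_cast
          exact ⟨-(2 ^ (i + 1)) * v, by linear_combination (2 ^ (i + 1)) * huv⟩
        rwa [e2] at h1

theorem MCData.nilpotencyClass_eq (D : MCData P) : Group.nilpotencyClass P = D.m := by
  haveI : Fact (Nat.Prime 2) := ⟨Nat.prime_two⟩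
  haveI := (IsPGroup.of_card D.card).isNilpotent
  have hm := D.two_le
  refine le_antisymm ?_ ?_
  · rw [← Subgroup.lowerCentralSeries_eq_bot_iff_nilpotencyClass_le, D.lcs_eq D.m (by omega), zpowers_eq_bot,
      ← D.orda, pow_orderOf_eq_one]
  · by_contra h
    have h1 : Group.nilpotencyClass P ≤ D.m - 1 := by omega
    rw [← Subgroup.lowerCentralSeries_eq_bot_iff_nilpotencyClass_le, D.lcs_eq (D.m - 1) (by omega),
      zpowers_eq_bot] at h1
    have h2 := orderOf_dvd_of_pow_eq_one h1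
    rw [D.orda, Nat.pow_dvd_pow_iff_le_right (by norm_num)] at h2
    omega

theorem MCData.sq_mem_commutator (D : MCData P) (g : P) : g * g ∈ commutator P := by
  have hm := D.two_le
  rw [← Subgroup.top_lowerCentralSeries_one, D.lcs_eq 1 le_rfl, pow_one]
  by_cases hg : g ∈ zpowers D.a
  · obtain ⟨k, rfl⟩ := hg
    refine ⟨k, ?_⟩
    show (D.a ^ 2) ^ k = D.a ^ k * D.a ^ k
    rw [← zpow_natCast, ← zpow_mul, ← _root_.zpow_add]
    congr 1; push_cast; ring
  · rcases D.sq_cases hg with h | ⟨h, -⟩ <;> rw [h]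
    · exact one_mem _
    · refine ⟨(2 ^ (D.m - 2) : ℕ), ?_⟩
      show (D.a ^ 2) ^ _ = _
      rw [zpow_natCast, ← pow_mul, ← pow_succ']
      congr 2; omega

theorem MCData.center_eq (D : MCData P) : center P = zpowers (D.a ^ 2 ^ (D.m - 1)) := by
  have hm := D.two_le
  obtain ⟨r, hr, h4r, h2r⟩ := D.exists_exp
  obtain ⟨z, hz⟩ : ∃ z, z = D.a ^ 2 ^ (D.m - 1) := ⟨_, rfl⟩
  refine le_antisymm ?_ ?_
  · intro c hc
    by_cases hca : c ∈ zpowers D.a
    · obtain ⟨k, rfl⟩ := hca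
      rcases D.commute_cases D.hy k (mem_center_iff.1 hc D.y) with e | e
      · show D.a ^ k ∈ _; rw [e]; exact one_mem _
      · show D.a ^ k ∈ _; rw [e]; exact mem_zpowers _
    · exfalso
      rcases D.commute_cases hca 1 (by rw [zpow_one]; exact (mem_center_iff.1 hc D.a).symm) with e | e <;>
        rw [zpow_one] at e
      · have h1 := D.orda
        rw [e, orderOf_one] at h1
        exact absurd h1 (Nat.one_lt_two_pow (by omega)).ne
      · have h1 : 1 ≡ 2 ^ (D.m - 1) [MOD orderOf D.a] :=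
          pow_eq_pow_iff_modEq.1 (by rw [pow_one]; exact e)
        rw [D.orda] at h1
        have h2 : 2 ^ D.m = 2 * 2 ^ (D.m - 1) := by rw [← pow_succ']; congr 1; omega
        have h3 : 1 < 2 ^ (D.m - 1) := Nat.one_lt_two_pow (by omega)
        rw [Nat.ModEq, Nat.mod_eq_of_lt (by omega), Nat.mod_eq_of_lt (by omega)] at h1
        omega
  · rw [zpowers_le, mem_center_iff]
    intro g
    have hfix : D.y * D.a ^ 2 ^ (D.m - 1) * D.y⁻¹ = D.a ^ 2 ^ (D.m - 1) := by
      rw [← conj_pow, hr, ← zpow_natCast, ← zpow_mul, ← zpow_natCast D.a,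
        ← orderOf_dvd_sub_iff_zpow_eq_zpow, D.orda]
      obtain ⟨s, hs⟩ := h2r
      have hm2 : ((2 ^ D.m : ℕ) : ℤ) = 2 * 2 ^ (D.m - 1) := by
        push_cast; rw [← pow_succ']; congr 1; omega
      rw [hm2]
      exact ⟨s, by push_cast; linear_combination (2 : ℤ) ^ (D.m - 1) * hs⟩
    by_cases hg : g ∈ zpowers D.a
    · obtain ⟨k, rfl⟩ := hg
      exact (((Commute.refl D.a).zpow_left k).pow_right _).eq
    · obtain ⟨l, rfl⟩ := D.exists_repr hg
      exact ((((Commute.refl D.a).zpow_left l).pow_right _).mul_left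
        (mul_inv_eq_iff_eq_mul.1 hfix)).eq

end Cfsg.Agent.Invol.MaxClassTwo
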