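import Cfsg.Agent.Lib.FGS.PolySeq
import Cfsg.Agent.Lib.FGS.RegularPow
import Mathlib

set_option autoImplicit false
set_option linter.all false

namespace Cfsg.Agent.Invol.SmallClassPow

open Subgroup
open scoped commutatorElement

variable {R : Type*} [Group R] [Finite R] {p : ℕ} [hp : Fact p.Prime]

theorem lcs_eq_bot (hcl : (p ≠ 2 ∧ ⁅commutator R, (⊤ : Subgroup R)⁆ = ⊥) ∨
    (3 < p ∧ ⁅⁅commutator R, (⊤ : Subgroup R)⁆, (⊤ : Subgroup R)⁆ = ⊥)) :
    (⊤ : Subgroup R).lowerCentralSeries (p - 1) = ⊥ := by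
  have h2 := hp.out.two_le
  rcases hcl with ⟨hp2, h⟩ | ⟨hp3, h⟩
  · have : (⊤ : Subgroup R).lowerCentralSeries 2 = ⊥ := by
      rw [Subgroup.lowerCentralSeries_succ, Subgroup.top_lowerCentralSeries_one, h]
    exact eq_bot_iff.2 (this ▸ (⊤ : Subgroup R).lowerCentralSeries_antitone (by omega))
  · have : (⊤ : Subgroup R).lowerCentralSeries 3 = ⊥ := by
      rw [Subgroup.lowerCentralSeries_succ, Subgroup.lowerCentralSeries_succ, Subgroup.top_lowerCentralSeries_one, h]
    exact eq_bot_iff.2 (this ▸ (⊤ : Subgroup R).lowerCentralSeries_antitone (by omega))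

theorem regular (hR : IsPGroup p R) (hc : (⊤ : Subgroup R).lowerCentralSeries (p - 1) = ⊥) :
    Cfsg.IsRegularPGroup p R :=
  ⟨hR, fun a b n => FGS.RegularPow.formula_all hR
    (fun a b => FGS.PolySeq.criterion hR hc ⊤ a (mem_top a) b (mem_top b)) n a b⟩

theorem closure_exp (hG : Cfsg.IsRegularPGroup p R) {g : R}
    (hg : g ∈ closure {x : R | x ^ p = 1}) : g ^ p = 1 := by
  induction hg using closure_induction with
  | mem x hx => exact hx
  | one => exact one_pow _
  | mul x y _ _ hx hy =>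
    have := FGS.RegularPow.mul_pow_of_left hG (k := 1) (by simpa using hx) y
    simpa [hy] using this
  | inv x _ hx => rw [inv_pow, hx, inv_one]

theorem mul_pow (hR : IsPGroup p R) (hc : (⊤ : Subgroup R).lowerCentralSeries (p - 1) = ⊥)
    (hder : commutator R ≤ closure {x : R | x ^ p = 1}) (x y : R) :
    (x * y) ^ p = x ^ p * y ^ p := by
  obtain ⟨c, hc', he⟩ := FGS.PolySeq.criterion hR hc ⊤ x (mem_top x) y (mem_top y)
  have hcD : c ∈ commutator R := by
    rw [commutator_def]; exact commutator_mono le_top le_top hc'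
  rw [he, closure_exp (regular hR hc) (hder hcD), mul_one]

end Cfsg.Agent.Invol.SmallClassPow
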