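import Cfsg.Agent.Lib.Invol.ElemTriple
import Cfsg.Agent.Lib.PermGp.SharplyThreePGL
import Cfsg.Agent.S0307

/-!
# Groups with elementary abelian involution centralizers are `PSL(2, 2^n)`
-/

set_option autoImplicit false
set_option linter.unusedSectionVars false

namespace Cfsg.Agent.Invol.ElemCent

universe u

variable {G : Type u} [Group G] [Finite G] {T : Sylow 2 G}

theorem Hyp.exists_field (h : Hyp T) : ∃ (F : Type) (_ : Field F) (_ : Fintype F),
    Fintype.card F = Nat.card T ∧
      Nonempty (G ≃* Matrix.ProjectiveSpecialLinearGroup (Fin 2) F) := by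
  classical
  obtain ⟨v, hv, hvH⟩ := h.exists_outside
  obtain ⟨e, he1, he2⟩ := h.exists_third hv hvH
  letI : Fintype (G ⧸ NT T) := Fintype.ofFinite _
  set i : G ⧸ NT T := QuotientGroup.mk 1
  set o : G ⧸ NT T := QuotientGroup.mk v
  have hio : i ≠ o := (h.mk_u_ne hv hvH).symm
  let φ : G →* Equiv.Perm (G ⧸ NT T) := MulAction.toPermHom G (G ⧸ NT T)
  have hφ : Function.Injective φ := by
    rw [injective_iff_map_eq_one]
    intro g hg
    have hfix : ∀ x : G ⧸ NT T, g • x = x := fun x => congrArg (fun σ : Equiv.Perm _ => σ x) hg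
    exact h.eq_one_of_fix_three g i o e hio he1.symm he2.symm (hfix _) (hfix _) (hfix _)
  let ι : G ≃* φ.range := MonoidHom.ofInjective hφ
  have hι : ∀ (g : G) (x : G ⧸ NT T), ι g • x = g • x := fun _ _ => rfl
  have hsurj : ∀ g : φ.range, ∃ a : G, ι a = g := fun g => ι.surjective g
  have S : PermGp.Sharp3 φ.range := by
    refine ⟨fun g a b c h1 h2 h3 ha hb hc => ?_, fun a b c a' b' c' h1 h2 h3 h4 h5 h6 => ?_⟩
    · obtain ⟨x, rfl⟩ := hsurj g
      rw [hι] at ha hb hc
      rw [h.eq_one_of_fix_three x a b c h1 h2 h3 ha hb hc, map_one]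
    · obtain ⟨x, e1, e2, e3⟩ := h.triply_transitive a b c a' b' c' h1 h2 h3 h4 h5 h6
      exact ⟨ι x, e1, e2, e3⟩
  haveI : Fact (Nat.Prime 2) := ⟨Nat.prime_two⟩
  obtain ⟨j, hj⟩ := IsPGroup.iff_card.1 T.2
  have hcard : Fintype.card (G ⧸ NT T) = 2 ^ j + 1 := by
    rw [← hj, ← Nat.card_eq_fintype_card, ← Nat.card_congr (Equiv.sumCompl fun y : G ⧸ NT T => y = i),
      Nat.card_sum, show Nat.card {y : G ⧸ NT T // y = i} = 1 from Nat.card_eq_one_iff_unique.2
        ⟨inferInstance, ⟨⟨i, rfl⟩⟩⟩, h.card_quotient hv hvH, add_comm]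
  let T' : Subgroup φ.range := (T : Subgroup G).map ι.toMonoidHom
  have D' : PermGp.TransData φ.range i T' 2 j :=
    { prime := Nat.prime_two
      pos := by
        have h4 : 4 ≤ Nat.card (T : Subgroup G) := h.four_le
        rw [hj] at h4
        rcases j with _ | j
        · simp at h4
        · omega
      card := hcard
      fix := by
        rintro _ ⟨t, ht, rfl⟩
        exact (smul_mk_one h).2 (Subgroup.le_normalizer ht)
      exists_eq := fun x y hx hy => by
        obtain ⟨t, ⟨ht, htx⟩, -⟩ := h.existsUnique_translate hv hvH hx hy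
        exact ⟨ι t, ⟨t, ht, rfl⟩, htx⟩
      semi := by
        rintro _ ⟨t, ht, rfl⟩ x hx hfix
        rw [h.translate_free hv hvH ht hx hfix, map_one]
      comm := by
        rintro _ ⟨s, hs, rfl⟩ _ ⟨t, ht, rfl⟩
        rw [← map_mul, ← map_mul, h.comm hs ht]
      exp := by
        rintro _ ⟨t, ht, rfl⟩
        rw [← map_pow, sq, h.mul_self ht, map_one]
      conj := by
        rintro g hg _ ⟨t, ht, rfl⟩
        obtain ⟨a, rfl⟩ := hsurj g
        refine ⟨a * t * a⁻¹,
          (Subgroup.mem_normalizer_iff.1 ((smul_mk_one h).1 hg) t).1 ht, ?_⟩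
        simp }
  -- an involution exchanging `i` and `o` and fixing `e`
  obtain ⟨w, hwi, hwo, hwe⟩ := h.triply_transitive i o e o i e hio he1.symm he2.symm hio.symm
    he2.symm he1.symm
  have hswap : v • i = o ∧ v • o = i := ⟨smul_mk_one' h v, by
    rw [show o = v • i from (smul_mk_one' h v).symm, smul_smul, mul_self_of_orderOf_two hv,
      one_smul]⟩
  have hd : v * w ∈ D T v := (mem_D_iff h).2
    ⟨by rw [mul_smul, hwi, hswap.2], by rw [mul_smul, hwo, hswap.1]⟩
  have hinv : ∀ g : φ.range, g • i = i → g • o = o → ι w * g * ι w = g⁻¹ := by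
    intro g gi go
    obtain ⟨a, rfl⟩ := hsurj g
    have ha : a ∈ D T v := (mem_D_iff h).2 ⟨gi, go⟩
    rw [← map_mul, ← map_mul, ← map_inv]
    congr 1
    have hw : w = v * (v * w) := by rw [← mul_assoc, mul_self_of_orderOf_two hv, one_mul]
    have hk := h.inverts hv hvH hd
    have hww : w * w = 1 := by
      calc w * w = (v * (v * w) * v⁻¹) * (v * v) * (v * w) := by
            conv_lhs => rw [hw]
            group
        _ = 1 := by rw [hk, mul_self_of_orderOf_two hv, mul_one, inv_mul_cancel]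
    calc w * a * w = (v * v) * w * a * w⁻¹ * (v * v)⁻¹ * (w * w) := by
          rw [mul_self_of_orderOf_two hv, one_mul, inv_one, mul_one]
          group
      _ = (v * ((v * w) * a * (v * w)⁻¹) * v⁻¹) * (w * w) := by group
      _ = a⁻¹ := by
          rw [hww, mul_one, h.D_comm hv hvH hd ha, mul_inv_cancel_right, h.inverts hv hvH ha]
  have hcomm : ∀ g k : φ.range, g • i = i → g • o = o → k • i = i → k • o = o →
      g * k = k * g := by
    intro g k gi go ki ko
    obtain ⟨a, rfl⟩ := hsurj g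
    obtain ⟨b, rfl⟩ := hsurj k
    rw [← map_mul, ← map_mul,
      h.D_comm hv hvH ((mem_D_iff h).2 ⟨gi, go⟩) ((mem_D_iff h).2 ⟨ki, ko⟩)]
  obtain ⟨K, _, _, hK, ⟨C⟩⟩ := S.exists_coord D' hio he1.symm he2.symm
    (w := ι w) hwi hwo hwe hcomm hinv
  obtain ⟨ψ⟩ := S.iso_of_coord D' C hio hwi hwo
  refine ⟨K, inferInstance, inferInstance, by rw [hK, ← hj], ?_⟩
  -- in characteristic two `PSL = PGL`
  obtain ⟨g, -, hker⟩ := S0307.result (F := K) rfl 2 (by norm_num)
  have h1 : Nat.gcd 2 (Fintype.card K - 1) = 1 := by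
    rw [hK]
    have hj0 : j ≠ 0 := by have := D'.pos; omega
    have : 2 ∣ 2 ^ j := dvd_pow_self 2 hj0
    have := Nat.one_le_two_pow (n := j)
    exact Nat.coprime_two_left.2 (Nat.odd_iff.2 (by omega))
  have htop : (Matrix.ProjectiveSpecialLinearGroup.toPGL :
      Matrix.ProjectiveSpecialLinearGroup (Fin 2) K →* Matrix.ProjGenLinGroup (Fin 2) K).range = ⊤ := by
    rw [← hker]
    haveI : Subsingleton (Multiplicative (ZMod (Nat.gcd 2 (Fintype.card K - 1)))) := by
      rw [h1]; infer_instance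
    exact top_le_iff.1 fun x _ => Subsingleton.elim _ _
  exact ⟨(ι.trans ψ).trans (MulEquiv.ofBijective _
    ⟨Matrix.ProjectiveSpecialLinearGroup.toPGL_injective, MonoidHom.range_eq_top.1 htop⟩).symm⟩

end Cfsg.Agent.Invol.ElemCent
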