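import Cfsg.Agent.Lib.Invol.ZStarSylow
import Cfsg.Agent.Lib.Transfer.Residual
import Cfsg.Prelude.Def_Transfer
import Cfsg.Prelude.Def_TwoFusion

/-!
# Further applications of the Z* theorem
-/

set_option linter.unusedSectionVars false
set_option linter.style.haveILetI false

namespace Cfsg.Agent.Invol

open Cfsg
open scoped Pointwise

universe u

variable {G : Type u} [Group G] [Finite G]

/-- The centralizer Sylow subgroup and the index count inside an invariant Sylow subgroup. -/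
theorem invariant_sylow_facts (hZ : ZStarHyp.{u}) {z : G} (hz : IsIsolatedInvolution z) {p : ℕ}
    [Fact p.Prime] (hp : p ≠ 2) (P : Sylow p G)
    (hzP : z ∈ Subgroup.normalizer ((P : Subgroup G) : Set G)) :
    ¬ p ∣ ((P : Subgroup G) ⊓ Subgroup.centralizer ({z} : Set G)).relIndex
        (Subgroup.centralizer ({z} : Set G)) ∧
      ((P : Subgroup G) ⊓ Subgroup.centralizer ({z} : Set G)).relIndex (P : Subgroup G) =
        Nat.card {x : G // x ∈ P ∧ z * x * z⁻¹ = x⁻¹} := by
  set C := Subgroup.centralizer ({z} : Set G) with hC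
  set D := (P : Subgroup G) ⊓ C with hD
  have hz2 := isolated_mul_self hz
  have hzC : z ∈ C := Subgroup.mem_centralizer_singleton_iff.2 rfl
  refine ⟨?_, ?_⟩
  · -- a Sylow subgroup of `C` above `D`
    have hDp : IsPGroup p (D.subgroupOf C) :=
      (P.2.to_le inf_le_left).of_equiv (Subgroup.subgroupOfEquivOfLe inf_le_right).symm
    obtain ⟨R, hR⟩ := hDp.exists_le_sylow
    let R' : Subgroup G := (R : Subgroup C).map C.subtype
    have hR'C : R' ≤ C := Subgroup.map_subtype_le _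
    have hzR' : z ∈ Subgroup.normalizer (R' : Set G) := by
      refine LocalEvenB.mem_normalizer_of_conj_mem fun x hx => ?_
      rw [← Subgroup.mem_centralizer_singleton_iff.1 (hR'C hx), mul_inv_cancel_right]
      exact hx
    obtain ⟨Q, ⟨hQ, hzQ, hRQ⟩, hQmax⟩ :=
      Set.Finite.exists_maximalFor id
        {Q : Subgroup G | IsPGroup p Q ∧ z ∈ Subgroup.normalizer (Q : Set G) ∧ R' ≤ Q}
        (Set.toFinite _) ⟨R', R.2.map _, hzR', le_rfl⟩
    obtain ⟨T, rfl⟩ := maximal_invariant_is_sylow hZ hz Q hQ hzQ fun S hS hzS hQS =>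
      le_antisymm (hQmax ⟨hS, hzS, hRQ.trans hQS⟩ hQS) hQS
    -- `T` is conjugate to `P` under `C`
    obtain ⟨g, hg⟩ := MulAction.exists_smul_eq G P T
    have hgz : g⁻¹ * z * g ∈ Subgroup.normalizer ((P : Subgroup G) : Set G) := by
      refine Sylow.smul_eq_iff_mem_normalizer.1 ?_
      rw [mul_smul, mul_smul, hg, Sylow.smul_eq_iff_mem_normalizer.2 hzQ, ← hg, inv_smul_smul]
    obtain ⟨n, hn, hnz⟩ := isolated_isConj_in hz hzP
      (isConj_iff.2 ⟨g⁻¹, by group⟩ : IsConj z (g⁻¹ * z * g)) hgz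
    have hc : g * n ∈ C := by
      rw [hC, Subgroup.mem_centralizer_singleton_iff]
      calc g * n * z = g * (n * z * n⁻¹) * n := by group
        _ = z * (g * n) := by rw [hnz]; group
    have hPT : (g * n) • P = T := by
      rw [mul_smul, Sylow.smul_eq_iff_mem_normalizer.2 hn, hg]
    have hcard : Nat.card R ≤ Nat.card (D.subgroupOf C) := by
      let f : R → D.subgroupOf C := fun x =>
        let y : C := (⟨g * n, hc⟩ : C)⁻¹ * x.1 * ⟨g * n, hc⟩
        ⟨y, by
          refine ⟨?_, y.2⟩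
          have hx : (x.1 : G) ∈ (T : Subgroup G) := hRQ ⟨x.1, x.2, rfl⟩
          rw [← hPT, Sylow.coe_subgroup_smul, Subgroup.mem_pointwise_smul_iff_inv_smul_mem] at hx
          rw [← map_inv, MulAut.smul_def, MulAut.conj_apply, inv_inv] at hx
          exact hx⟩
      refine Nat.card_le_card_of_injective f fun x y hxy => ?_
      have := congrArg Subtype.val hxy
      exact Subtype.ext (mul_left_cancel (mul_right_cancel this))
    have heq : D.subgroupOf C = (R : Subgroup C) := Subgroup.eq_of_le_of_card_ge hR hcard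
    rw [Subgroup.relIndex, heq]
    exact R.not_dvd_index
  · have hodd : ∀ x ∈ (P : Subgroup G), Odd (orderOf x) := by
      intro x hx
      obtain ⟨k, hk⟩ := (IsPGroup.iff_orderOf.1 P.2) (⟨x, hx⟩ : (P : Subgroup G))
      rw [Subgroup.orderOf_mk] at hk
      rw [hk]
      exact ((Fact.out : p.Prime).odd_of_ne_two hp).pow
    let f : {x : G // x ∈ P ∧ z * x * z⁻¹ = x⁻¹} → (P : Subgroup G) ⧸ D.subgroupOf P :=
      fun x => QuotientGroup.mk (⟨x.1, x.2.1⟩ : (P : Subgroup G))
    rw [Subgroup.relIndex, Subgroup.index_eq_card]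
    refine (Nat.card_eq_of_bijective f ⟨?_, ?_⟩).symm
    · rintro ⟨x, hx, hxz⟩ ⟨y, hy, hyz⟩ h
      have h' : x⁻¹ * y ∈ D :=
        (QuotientGroup.eq (s := D.subgroupOf (P : Subgroup G)) (a := ⟨x, hx⟩) (b := ⟨y, hy⟩)).1 h
      exact Subtype.ext ((isolated_exists_unique_split hz x).unique
        ⟨⟨hodd x hx, hxz⟩, by rw [inv_mul_cancel]; exact one_mem _⟩ ⟨⟨hodd y hy, hyz⟩, h'.2⟩)
    · intro q
      obtain ⟨⟨g, hgP⟩, rfl⟩ := QuotientGroup.mk_surjective q
      have hu2 := mul_self_of_orderOf_two (x := g * z * g⁻¹) (by rw [orderOf_conj, hz.1])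
      set d := g * z * g⁻¹ * z with hd
      have hdP : d ∈ (P : Subgroup G) := by
        have e : d = g * (z * g⁻¹ * z⁻¹) := by
          rw [hd, inv_eq_self_of_mul_self hz2]; group
        rw [e]
        exact mul_mem hgP ((Subgroup.mem_normalizer_iff.1 hzP _).1 (inv_mem hgP))
      obtain ⟨e, he, hee, -⟩ := exists_sqrt (hodd d hdP)
      have hinv : z * e * z⁻¹ = e⁻¹ := inverts_of_mem_zpowers (conj_mul_eq_inv' hu2 hz2) he
      have heP : e ∈ (P : Subgroup G) := Subgroup.zpowers_le.2 hdP he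
      refine ⟨⟨e, heP, hinv⟩, ?_⟩
      show QuotientGroup.mk _ = QuotientGroup.mk _
      rw [QuotientGroup.eq]
      refine ⟨Subgroup.mul_mem _ (Subgroup.inv_mem _ heP) hgP, ?_⟩
      have key : e * z * e⁻¹ = g * z * g⁻¹ := by
        calc e * z * e⁻¹ = e * z * (z * e * z⁻¹) := by rw [hinv]
          _ = e * ((z * z) * e) * z⁻¹ := by group
          _ = g * z * g⁻¹ * (z * z⁻¹) := by rw [hz2, one_mul, hee, hd]; group
          _ = g * z * g⁻¹ := by group
      show e⁻¹ * g ∈ C
      rw [hC, Subgroup.mem_centralizer_singleton_iff]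
      calc e⁻¹ * g * z = e⁻¹ * (g * z * g⁻¹) * g := by group
        _ = z * (e⁻¹ * g) := by rw [← key]; group

/-- An element of a Sylow 2-subgroup generating a weakly closed cyclic subgroup, centralised by that
Sylow subgroup, has no other conjugate there. -/
theorem conj_eq_of_zpowers_weaklyClosed (S : Sylow 2 G) {b : G} (hbS : b ∈ S)
    (hbC : ∀ s ∈ S, s * b = b * s) (hw : IsWeaklyClosed (Subgroup.zpowers b) (S : Subgroup G))
    {g : G} (hg : g * b * g⁻¹ ∈ S) : g * b * g⁻¹ = b := by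
  haveI : Fact (Nat.Prime 2) := ⟨Nat.prime_two⟩
  set N := Subgroup.normalizer ((Subgroup.zpowers b : Subgroup G) : Set G) with hN
  have hgN : g ∈ N := by
    refine LocalEvenB.mem_normalizer_of_conjMap_le (hw.2 g ?_).le
    rw [Subgroup.map_le_iff_le_comap, Subgroup.zpowers_le]
    exact hg
  have hSN : (S : Subgroup G) ≤ N := by
    intro s hs
    refine LocalEvenB.mem_normalizer_of_conj_mem fun y hy => ?_
    obtain ⟨i, rfl⟩ := Subgroup.mem_zpowers_iff.1 hy
    rw [← conj_zpow, hbC s hs, mul_inv_cancel_right]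
    exact Subgroup.zpow_mem _ (Subgroup.mem_zpowers b) i
  -- the elements of `N` centralising `b`
  let C₀ : Subgroup N := (Subgroup.centralizer ({b} : Set G)).subgroupOf N
  haveI : C₀.Normal := ⟨fun x hx n => by
    show (n : G) * x * (n : G)⁻¹ ∈ Subgroup.centralizer ({b} : Set G)
    rw [Subgroup.mem_centralizer_singleton_iff]
    obtain ⟨i, hi⟩ := Subgroup.mem_zpowers_iff.1
      ((Subgroup.mem_normalizer_iff''.1 n.2 b).1 (Subgroup.mem_zpowers b))
    have hxb : (x : G) * b ^ i = b ^ i * (x : G) :=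
      ((show Commute (x : G) b from Subgroup.mem_centralizer_singleton_iff.1 hx).zpow_right i).eq
    rw [hi] at hxb
    calc (n : G) * x * (n : G)⁻¹ * b = (n : G) * ((x : G) * ((n : G)⁻¹ * b * n)) * (n : G)⁻¹ := by
          group
      _ = b * ((n : G) * x * (n : G)⁻¹) := by rw [hxb]; group⟩
  obtain ⟨k, hk⟩ := (IsPGroup.iff_orderOf.1 S.2) (⟨b, hbS⟩ : (S : Subgroup G))
  rw [Subgroup.orderOf_mk] at hk
  obtain ⟨i, hi⟩ : ∃ i : ℕ, b ^ i = g * b * g⁻¹ := by
    have h := (Subgroup.mem_normalizer_iff.1 hgN b).1 (Subgroup.mem_zpowers b)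
    exact (mem_powers_iff_mem_zpowers.2 h)
  by_cases hb1 : b = 1
  · subst hb1; simp
  have hk0 : k ≠ 0 := fun h => hb1 (orderOf_eq_one_iff.1 (by rw [hk, h, pow_zero]))
  have hiodd : Odd i := by
    have h : orderOf (b ^ i) = orderOf b := by rw [hi, orderOf_conj]
    rw [orderOf_pow, hk] at h
    rw [← Nat.not_even_iff_odd, even_iff_two_dvd]
    intro h2
    have hgcd : 2 ∣ Nat.gcd (2 ^ k) i := Nat.dvd_gcd (dvd_pow_self 2 hk0) h2
    obtain ⟨c, hc⟩ := hgcd
    have hlt : 2 ^ k / Nat.gcd (2 ^ k) i < 2 ^ k :=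
      Nat.div_lt_self (by positivity) (by
        have := Nat.gcd_pos_of_pos_left i (show 0 < 2 ^ k by positivity); omega)
    omega
  have hiter : ∀ j : ℕ, g ^ j * b * (g ^ j)⁻¹ = b ^ (i ^ j) := by
    intro j
    induction j with
    | zero => simp
    | succ j ih =>
      calc g ^ (j + 1) * b * (g ^ (j + 1))⁻¹ = g ^ j * (g * b * g⁻¹) * (g ^ j)⁻¹ := by
            rw [pow_succ]; group
        _ = b ^ (i ^ (j + 1)) := by rw [← hi, ← conj_pow, ih, ← pow_mul, pow_succ]
  -- an odd power of `g` has 2-power order modulo `C₀`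
  have hord : (⟨g, hgN⟩ : N) ^ (2 ^ k) ∈ C₀ := by
    show g ^ (2 ^ k) ∈ Subgroup.centralizer ({b} : Set G)
    rw [Subgroup.mem_centralizer_singleton_iff]
    have hmod : i ^ (2 ^ k) ≡ 1 [MOD 2 ^ k] := by
      have hcop : Nat.Coprime i (2 ^ k) := Nat.Coprime.pow_right _ (Nat.coprime_two_right.2 hiodd)
      have ht := Nat.ModEq.pow_totient hcop
      obtain ⟨c, hc⟩ : Nat.totient (2 ^ k) ∣ 2 ^ k := by
        rw [Nat.totient_prime_pow Nat.prime_two (Nat.pos_of_ne_zero hk0)]
        simp only [show (2 : ℕ) - 1 = 1 from rfl, mul_one]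
        exact pow_dvd_pow 2 (Nat.sub_le k 1)
      rw [hc, pow_mul]
      simpa [← hc] using ht.pow c
    have h1 := hiter (2 ^ k)
    have hb : b ^ (i ^ 2 ^ k) = b ^ 1 := pow_eq_pow_iff_modEq.2 (by rw [hk]; exact hmod)
    rw [hb, pow_one] at h1
    exact mul_inv_eq_iff_eq_mul.1 h1
  have hindex : Odd C₀.index := by
    have hle : (S : Subgroup G).subgroupOf N ≤ C₀ := fun x hx =>
      Subgroup.mem_centralizer_singleton_iff.2 (hbC _ hx)
    rw [← Nat.not_even_iff_odd, even_iff_two_dvd]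
    exact fun h => S.not_dvd_index (h.trans ((Subgroup.index_dvd_of_le hle).trans
      (Subgroup.relIndex_dvd_index_of_le hSN)))
  have hone : orderOf (QuotientGroup.mk' C₀ (⟨g, hgN⟩ : N)) = 1 := by
    refine Nat.eq_one_of_dvd_coprimes
      (Nat.Coprime.pow_left k (Nat.coprime_two_left.2 hindex)) ?_ ?_
    · refine orderOf_dvd_of_pow_eq_one ?_
      rw [← map_pow]
      exact (QuotientGroup.eq_one_iff _).2 hord
    · rw [Subgroup.index_eq_card]; exact orderOf_dvd_natCard _
  have hgc : (⟨g, hgN⟩ : N) ∈ C₀ := (QuotientGroup.eq_one_iff _).1 (orderOf_eq_one_iff.1 hone)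
  exact mul_inv_eq_iff_eq_mul.2 (Subgroup.mem_centralizer_singleton_iff.1 hgc)

/-- If every cyclic subgroup of `Z(S)` is weakly closed, `G = O(G) C(Z(S))`. -/
theorem mem_oddCore_mul_centralizer (hZ : ZStarHyp.{u}) (S : Sylow 2 G)
    (hw : ∀ Z₀ : Subgroup G,
      Z₀ ≤ (Subgroup.center (S : Subgroup G)).map (S : Subgroup G).subtype →
        IsWeaklyClosed Z₀ (S : Subgroup G))
    (h : G) : ∃ o ∈ oddCore G,
      ∃ c ∈ Subgroup.centralizer
        (((Subgroup.center (S : Subgroup G)).map (S : Subgroup G).subtype : Subgroup G) : Set G),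
      h = o * c := by
  haveI : Fact (Nat.Prime 2) := ⟨Nat.prime_two⟩
  set Z := (Subgroup.center (S : Subgroup G)).map (S : Subgroup G).subtype with hZdef
  have hZS : Z ≤ (S : Subgroup G) := Subgroup.map_subtype_le _
  have hcomm : ∀ a ∈ Z, ∀ s ∈ S, s * a = a * s := by
    rintro a ⟨a', ha', rfl⟩ s hs
    exact congrArg Subtype.val (Subgroup.mem_center_iff.1 ha' ⟨s, hs⟩)
  have hmod : ∀ a ∈ Z, ∀ g : G, a * g * a⁻¹ * g⁻¹ ∈ oddCore G := fun a ha g =>
    central_mod_oddCore hZ S (hZS ha) (fun b hb x hx => by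
      have hbZ : b ∈ Z := Subgroup.zpowers_le.2 ha hb
      exact conj_eq_of_zpowers_weaklyClosed S (hZS hbZ) (fun s hs => hcomm b hbZ s hs)
        (hw _ (Subgroup.zpowers_le.2 hbZ)) hx) g
  let X : Subgroup G := oddCore G ⊔ Z
  haveI hXn : X.Normal := ⟨fun x hx g => by
    obtain ⟨o, ho, a, ha, rfl⟩ := Subgroup.mem_sup_of_normal_left.1 hx
    have e : g * (o * a) * g⁻¹ = (g * o * g⁻¹) * (a * g * a⁻¹ * g⁻¹)⁻¹ * a := by group
    rw [e]
    exact Subgroup.mul_mem_sup
      (mul_mem (Subgroup.Normal.conj_mem inferInstance o ho g) (inv_mem (hmod a ha g))) ha⟩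
  have hdisj : ∀ x ∈ oddCore G, (∃ k : ℕ, x ^ (2 ^ k) = 1) → x = 1 := by
    rintro x hx ⟨k, hk⟩
    rw [← orderOf_eq_one_iff]
    refine Nat.eq_one_of_dvd_coprimes
      (Nat.Coprime.pow_left k (Nat.coprime_two_left.2 odd_card_oddCore))
      (orderOf_dvd_of_pow_eq_one hk) (Subgroup.orderOf_dvd_natCard _ hx)
  let ZX : Sylow 2 X :=
    { toSubgroup := Z.subgroupOf X
      isPGroup' := (S.2.to_le hZS).of_equiv (Subgroup.subgroupOfEquivOfLe le_sup_right).symm
      is_maximal' := by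
        intro R hR hle
        refine le_antisymm (fun x hx => ?_) hle
        obtain ⟨o, ho, a, ha, hoa⟩ := Subgroup.mem_sup_of_normal_left.1 x.2
        have hoX : o ∈ X := Subgroup.mem_sup_left ho
        have hR' : (⟨o, hoX⟩ : X) ∈ R := by
          have e : (⟨o, hoX⟩ : X) = x * (⟨a, Subgroup.mem_sup_right ha⟩ : X)⁻¹ :=
            Subtype.ext (by simp [← hoa])
          rw [e]
          exact mul_mem hx (inv_mem (hle ha))
        obtain ⟨k, hk⟩ := hR ⟨_, hR'⟩
        have ho1 : o = 1 := hdisj o ho ⟨k, by simpa using congrArg (fun t : R => ((t : X) : G)) hk⟩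
        show (x : G) ∈ Z
        rw [← hoa, ho1, one_mul]
        exact ha }
  have htop := Sylow.normalizer_sup_eq_top ZX
  have hmap : (ZX : Subgroup X).map X.subtype = Z := Subgroup.map_subgroupOf_eq_of_le le_sup_right
  rw [hmap] at htop
  obtain ⟨n, hn, x, hx, hnx⟩ := Subgroup.mem_sup_of_normal_right.1
    (htop ▸ Subgroup.mem_top h : h ∈ Subgroup.normalizer (Z : Set G) ⊔ X)
  obtain ⟨o, ho, a, ha, rfl⟩ := Subgroup.mem_sup_of_normal_left.1 hx
  have hncent : n ∈ Subgroup.centralizer (Z : Set G) := by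
    intro b hb
    have hbn : b * n * b⁻¹ * n⁻¹ ∈ Z := by
      have h1 : n * b⁻¹ * n⁻¹ ∈ Z := (Subgroup.mem_normalizer_iff.1 hn b⁻¹).1 (inv_mem hb)
      have := mul_mem (show b ∈ Z from hb) h1
      simpa [mul_assoc] using this
    obtain ⟨k, hk⟩ := S.2 ⟨_, hZS hbn⟩
    have h1 := hdisj _ (hmod b hb n) ⟨k, congrArg Subtype.val hk⟩
    exact mul_inv_eq_iff_eq_mul.1 (mul_inv_eq_one.1 h1)
  refine ⟨n * o * n⁻¹, Subgroup.Normal.conj_mem inferInstance o ho n, n * a, ?_, ?_⟩
  · refine mul_mem hncent fun b hb => ?_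
    exact hcomm a ha b (hZS hb)
  · rw [← hnx]; group

/-- A strongly closed 2-subgroup centralises a core-free subgroup it normalises and meets
trivially. -/
theorem stronglyClosed_centralizes (hZ : ZStarHyp.{u}) (S : Sylow 2 G) (A : Subgroup G)
    (hA : IsStronglyClosed A (S : Subgroup G)) (H : Subgroup G)
    (hAH : A ≤ Subgroup.normalizer (H : Set G)) (hO : oddCore H = ⊥) (hdisj : A ⊓ H = ⊥) :
    A ≤ Subgroup.centralizer (H : Set G) := by
  haveI : Fact (Nat.Prime 2) := ⟨Nat.prime_two⟩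
  have hA2 : IsPGroup 2 A := S.2.to_le hA.1
  -- strong closure holds in every Sylow subgroup containing `A`
  have hclosed : ∀ T : Sylow 2 G, A ≤ T → ∀ x ∈ A, ∀ g : G, g * x * g⁻¹ ∈ T → g * x * g⁻¹ ∈ A := by
    intro T hAT x hx g hgx
    obtain ⟨c, hc⟩ := MulAction.exists_smul_eq G T S
    have hmem : ∀ y ∈ T, c * y * c⁻¹ ∈ S := fun y hy => by
      rw [← hc]
      exact Subgroup.smul_mem_pointwise_smul y (MulAut.conj c) _ hy
    have hcA : A.map (MulAut.conj c).toMonoidHom = A :=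
      Subgroup.eq_of_le_of_card_ge
        (by rintro _ ⟨y, hy, rfl⟩; exact hA.2 y hy c (hmem y (hAT hy)))
        (LocalEvenB.conjMap_card c A).ge
    have h1 := hA.2 x hx (c * g) (by
      have h2 : c * (g * x * g⁻¹) * c⁻¹ ∈ (S : Subgroup G) := hmem _ hgx
      simpa [mul_assoc] using h2)
    rw [← hcA] at h1
    obtain ⟨y, hy, hy'⟩ := h1
    have e : y = g * x * g⁻¹ := by
      have h2 : c * y * c⁻¹ = c * (g * x * g⁻¹) * c⁻¹ := by
        rw [show c * y * c⁻¹ = (c * g) * x * (c * g)⁻¹ from hy']; group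
      exact mul_left_cancel (mul_right_cancel h2)
    exact e ▸ hy
  intro a
  induction h : orderOf a using Nat.strong_induction_on generalizing a with
  | _ n ih =>
    subst h
    intro haA
    by_cases ha1 : a = 1
    · rw [ha1]; exact one_mem _
    have ha2 : a * a ∈ Subgroup.centralizer (H : Set G) := by
      refine ih (orderOf (a * a)) ?_ rfl (mul_mem haA haA)
      obtain ⟨k, hk⟩ := (IsPGroup.iff_orderOf.1 hA2) (⟨a, haA⟩ : A)
      rw [Subgroup.orderOf_mk] at hk
      rcases k with _ | k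
      · exact absurd (orderOf_eq_one_iff.1 hk) ha1
      rw [hk, ← sq]
      calc orderOf (a ^ 2) ≤ 2 ^ k := Nat.le_of_dvd (by positivity) (orderOf_dvd_of_pow_eq_one (by
              rw [← pow_mul, ← pow_succ', ← hk, pow_orderOf_eq_one]))
        _ < 2 ^ (k + 1) := Nat.pow_lt_pow_right (by norm_num) (by omega)
    -- a 2-subgroup through `A` meeting `H` in a Sylow subgroup
    let L : Subgroup G := H ⊔ A
    obtain ⟨T₁, hT₁⟩ : ∃ T₁ : Sylow 2 L, A.subgroupOf L ≤ T₁ :=
      (hA2.of_equiv (Subgroup.subgroupOfEquivOfLe le_sup_right).symm).exists_le_sylow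
    obtain ⟨T, hT⟩ := (T₁.2.map L.subtype).exists_le_sylow
    have hAT : A ≤ T := fun x hx => hT ⟨⟨x, Subgroup.mem_sup_right hx⟩, hT₁ hx, rfl⟩
    let K : Subgroup G := H ⊔ Subgroup.zpowers a
    haveI hHL : (H.subgroupOf L).Normal :=
      Subgroup.normal_subgroupOf_of_le_normalizer (sup_le Subgroup.le_normalizer hAH)
    have haN : Subgroup.zpowers a ≤ Subgroup.normalizer (H : Set G) :=
      Subgroup.zpowers_le.2 (hAH haA)
    haveI hHK : (H.subgroupOf K).Normal :=
      Subgroup.normal_subgroupOf_of_le_normalizer (sup_le Subgroup.le_normalizer haN)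
    have haK : a ∈ K := Subgroup.mem_sup_right (Subgroup.mem_zpowers a)
    have hdec : ∀ x ∈ K, ∃ h ∈ H, ∃ b ∈ Subgroup.zpowers a, h * b = x := by
      intro x hx
      obtain ⟨y, hy, b, hb, hyb⟩ := Subgroup.mem_sup_of_normal_left (s := H.subgroupOf K)
        (t := (Subgroup.zpowers a).subgroupOf K) (x := (⟨x, hx⟩ : K)) |>.1
        (by rw [← Subgroup.subgroupOf_sup le_sup_left le_sup_right, Subgroup.subgroupOf_self]
            exact Subgroup.mem_top _)
      exact ⟨_, hy, _, hb, congrArg Subtype.val hyb⟩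
    have hconj : ∀ y ∈ K, y * a * y⁻¹ ∈ A → y * a * y⁻¹ = a := by
      intro y hy hyA
      obtain ⟨h0, hh0, b, hb, rfl⟩ := hdec y hy
      obtain ⟨i, rfl⟩ := Subgroup.mem_zpowers_iff.1 hb
      have hca : h0 * a ^ i * a * (h0 * a ^ i)⁻¹ = h0 * a * h0⁻¹ := by group
      rw [hca] at hyA ⊢
      have h3 : h0 * a * h0⁻¹ * a⁻¹ ∈ A ⊓ H := by
        refine ⟨Subgroup.mul_mem _ hyA (Subgroup.inv_mem _ haA), ?_⟩
        have h4 : a * h0⁻¹ * a⁻¹ ∈ H :=
          (Subgroup.mem_normalizer_iff.1 (hAH haA) _).1 (inv_mem hh0)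
        simpa [mul_assoc] using mul_mem hh0 h4
      rwa [hdisj, Subgroup.mem_bot, mul_inv_eq_one] at h3
    -- `(H ⊓ T) ⟨a⟩` is a Sylow subgroup of `K` inside `T`
    let HT : Subgroup G := H ⊓ (T : Subgroup G)
    let W : Subgroup G := HT ⊔ Subgroup.zpowers a
    have hW : W ≤ K := sup_le (inf_le_left.trans le_sup_left) le_sup_right
    have hWT : W ≤ (T : Subgroup G) := sup_le inf_le_right (Subgroup.zpowers_le.2 (hAT haA))
    have hidx : ¬ 2 ∣ HT.relIndex H := by
      obtain ⟨Q, hQ⟩ := Transfer.exists_sylow_eq_subgroupOf T₁ (H.subgroupOf L)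
      intro h2
      apply Q.not_dvd_index
      refine h2.trans ?_
      let R : Subgroup G := ((Q : Subgroup (H.subgroupOf L)).map (H.subgroupOf L).subtype).map L.subtype
      have hR : R ≤ HT := by
        rintro _ ⟨_, ⟨q, hq, rfl⟩, rfl⟩
        refine ⟨q.2, hT ⟨_, ?_, rfl⟩⟩
        have hq' : q ∈ (Q : Subgroup (H.subgroupOf L)) := hq
        rw [hQ] at hq'
        exact hq'
      have h3 := Subgroup.relIndex_dvd_of_le_left (L := H) hR
      have e : R.relIndex H = (Q : Subgroup (H.subgroupOf L)).index := by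
        conv_lhs => rw [← Subgroup.map_subgroupOf_eq_of_le (le_sup_left : H ≤ L)]
        rw [Subgroup.relIndex_map_map_of_injective _ _ L.subtype_injective]
        conv_lhs => arg 2; rw [← Subgroup.range_subtype (H.subgroupOf L), MonoidHom.range_eq_map]
        rw [Subgroup.relIndex_map_map_of_injective _ _ (H.subgroupOf L).subtype_injective,
          Subgroup.relIndex_top_right]
      rwa [e] at h3
    have htriv : ∀ x ∈ H, x ∈ Subgroup.zpowers a → x = 1 := fun x hx hx' => by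
      have : x ∈ A ⊓ H := ⟨Subgroup.zpowers_le.2 haA hx', hx⟩
      rwa [hdisj, Subgroup.mem_bot] at this
    have hinj : ∀ h₁ ∈ H, ∀ h₂ ∈ H, ∀ b₁ ∈ Subgroup.zpowers a, ∀ b₂ ∈ Subgroup.zpowers a,
        h₁ * b₁ = h₂ * b₂ → h₁ = h₂ ∧ b₁ = b₂ := by
      intro h₁ hh₁ h₂ hh₂ b₁ hb₁ b₂ hb₂ he
      have e : h₂⁻¹ * h₁ = b₂ * b₁⁻¹ := by
        calc h₂⁻¹ * h₁ = h₂⁻¹ * (h₁ * b₁) * b₁⁻¹ := by group
          _ = b₂ * b₁⁻¹ := by rw [he]; group
      have h1 := htriv _ (mul_mem (inv_mem hh₂) hh₁) (e ▸ mul_mem hb₂ (inv_mem hb₁))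
      have h12 : h₁ = h₂ := (inv_mul_eq_one.1 h1).symm
      exact ⟨h12, mul_left_cancel (h12 ▸ he)⟩
    have hcardK : Nat.card K = Nat.card H * Nat.card (Subgroup.zpowers a) := by
      rw [← Nat.card_prod]
      refine (Nat.card_eq_of_bijective (fun p : H × Subgroup.zpowers a =>
        (⟨p.1 * p.2, Subgroup.mul_mem_sup p.1.2 p.2.2⟩ : K)) ⟨?_, ?_⟩).symm
      · rintro ⟨h₁, b₁⟩ ⟨h₂, b₂⟩ he
        obtain ⟨e1, e2⟩ := hinj _ h₁.2 _ h₂.2 _ b₁.2 _ b₂.2 (congrArg Subtype.val he)
        exact Prod.ext (Subtype.ext e1) (Subtype.ext e2)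
      · rintro ⟨x, hx⟩
        obtain ⟨h0, hh0, b, hb, rfl⟩ := hdec x hx
        exact ⟨(⟨h0, hh0⟩, ⟨b, hb⟩), rfl⟩
    have hcardW : Nat.card HT * Nat.card (Subgroup.zpowers a) ≤ Nat.card W := by
      rw [← Nat.card_prod]
      refine Nat.card_le_card_of_injective (fun p : HT × Subgroup.zpowers a =>
        (⟨p.1 * p.2, Subgroup.mul_mem_sup p.1.2 p.2.2⟩ : W)) ?_
      rintro ⟨h₁, b₁⟩ ⟨h₂, b₂⟩ he
      obtain ⟨e1, e2⟩ := hinj _ h₁.2.1 _ h₂.2.1 _ b₁.2 _ b₂.2 (congrArg Subtype.val he)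
      exact Prod.ext (Subtype.ext e1) (Subtype.ext e2)
    have hWp : IsPGroup 2 (W.subgroupOf K) :=
      (T.2.to_le hWT).of_equiv (Subgroup.subgroupOfEquivOfLe hW).symm
    have hWK : Nat.card (W.subgroupOf K) = Nat.card W :=
      Nat.card_congr (Subgroup.subgroupOfEquivOfLe hW).toEquiv
    have hWidx : ¬ 2 ∣ (W.subgroupOf K).index := by
      intro h2
      have h1 := (W.subgroupOf K).card_mul_index
      have hH : Nat.card H = Nat.card HT * HT.relIndex H := by
        rw [← Nat.card_congr (Subgroup.subgroupOfEquivOfLe (inf_le_left : HT ≤ H)).toEquiv,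
          Subgroup.relIndex]
        exact (HT.subgroupOf H).card_mul_index.symm
      rw [hcardK, hH, hWK] at h1
      obtain ⟨j, hj⟩ := (T.2.to_le hWT).exists_card_eq
      obtain ⟨i₁, hi₁⟩ := (T.2.to_le (inf_le_right : HT ≤ (T : Subgroup G))).exists_card_eq
      obtain ⟨i₂, hi₂⟩ := (T.2.to_le (le_sup_right.trans hWT : Subgroup.zpowers a ≤ _)).exists_card_eq
      rw [hj, hi₁, hi₂] at h1
      rw [hj, hi₁, hi₂, ← pow_add] at hcardW
      have hij : i₁ + i₂ ≤ j := (Nat.pow_le_pow_iff_right (by norm_num)).1 hcardW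
      obtain ⟨d, hd⟩ := Nat.exists_eq_add_of_le hij
      rw [hd, pow_add, show 2 ^ i₁ * HT.relIndex H * 2 ^ i₂ = 2 ^ (i₁ + i₂) * HT.relIndex H by
        rw [pow_add]; ring, mul_assoc] at h1
      apply hidx
      rw [← Nat.eq_of_mul_eq_mul_left (by positivity) h1]
      exact h2.mul_left _
    let T₀ : Sylow 2 K := IsPGroup.toSylow hWp hWidx
    have hT₀ : ∀ x : K, x ∈ T₀ → (x : G) ∈ T := fun x hx => hWT hx
    have haT₀ : (⟨a, haK⟩ : K) ∈ T₀ :=
      (Subgroup.mem_sup_right (Subgroup.mem_zpowers a) : a ∈ W)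
    have hOK : oddCore K = ⊥ := by
      rw [eq_bot_iff]
      intro x hx
      -- the image in the 2-group `K / H` is trivial
      have hxH : (x : G) ∈ H := by
        obtain ⟨h0, hh0, b, hb, hyb⟩ := hdec x x.2
        obtain ⟨k, hk⟩ := hA2 ⟨_, Subgroup.zpowers_le.2 haA hb⟩
        have hk' : b ^ (2 ^ k) = 1 := congrArg Subtype.val hk
        have hbK : b ∈ K := Subgroup.mem_sup_right hb
        have hh0K : h0 ∈ K := Subgroup.mem_sup_left hh0
        have hbk : (QuotientGroup.mk' (H.subgroupOf K) x) ^ (2 ^ k) = 1 := by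
          have e1 : QuotientGroup.mk' (H.subgroupOf K) x =
              QuotientGroup.mk' (H.subgroupOf K) (⟨b, hbK⟩ : K) := by
            rw [show x = (⟨h0, hh0K⟩ : K) * ⟨b, hbK⟩ from Subtype.ext hyb.symm, map_mul]
            have h1 : QuotientGroup.mk' (H.subgroupOf K) (⟨h0, hh0K⟩ : K) = 1 :=
              (QuotientGroup.eq_one_iff _).2 hh0
            rw [h1, one_mul]
          rw [e1, ← map_pow, show (⟨b, hbK⟩ : K) ^ (2 ^ k) = 1 from Subtype.ext hk', map_one]
        have h1 : orderOf (QuotientGroup.mk' (H.subgroupOf K) x) = 1 :=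
          Nat.eq_one_of_dvd_coprimes
            (Nat.Coprime.pow_left k (Nat.coprime_two_left.2 odd_card_oddCore))
            (orderOf_dvd_of_pow_eq_one hbk)
            ((orderOf_map_dvd _ _).trans (Subgroup.orderOf_dvd_natCard _ hx))
        exact (QuotientGroup.eq_one_iff (N := H.subgroupOf K) x).1 (orderOf_eq_one_iff.1 h1)
      let ι : H →* K := Subgroup.inclusion le_sup_left
      have hι : Function.Injective ι := Subgroup.inclusion_injective _
      have hle : (oddCore K).comap ι ≤ oddCore H :=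
        le_oddCore (Subgroup.Normal.comap inferInstance ι)
          (odd_card_oddCore.of_dvd_nat (Subgroup.card_comap_dvd_of_injective _ ι hι))
      rw [hO] at hle
      have h1 : (⟨x, hxH⟩ : H) ∈ (⊥ : Subgroup H) := hle hx
      rw [Subgroup.mem_bot] at h1 ⊢
      exact Subtype.ext (congrArg (fun t : H => (t : G)) h1)
    have hcen : (⟨a, haK⟩ : K) ∈ Subgroup.center K := by
      refine central_of_square_central hZ hOK T₀ haT₀ ?_ ?_
      · rw [Subgroup.mem_center_iff]
        intro y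
        refine Subtype.ext ?_
        show (y : G) * (a * a) = (a * a) * (y : G)
        have hKC : K ≤ Subgroup.centralizer ({a * a} : Set G) :=
          sup_le (fun h hh => Subgroup.mem_centralizer_singleton_iff.2 (ha2 h hh))
            (Subgroup.zpowers_le.2 (Subgroup.mem_centralizer_singleton_iff.2 (by group)))
        exact Subgroup.mem_centralizer_singleton_iff.1 (hKC y.2)
      · intro y hy
        exact Subtype.ext (hconj y y.2 (hclosed T hAT a haA y (hT₀ _ hy)))
    intro h hh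
    exact congrArg Subtype.val
      (Subgroup.mem_center_iff.1 hcen ⟨h, Subgroup.mem_sup_left hh⟩)

end Cfsg.Agent.Invol
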