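import Mathlib
import Cfsg.Prelude.Def_Classical
import Cfsg.Agent.Lib.Invol.Quaternion
import Cfsg.Agent.S0282

set_option autoImplicit false

/-! `PSU₃(2)` is `3² : Q₈`. -/

namespace Cfsg.Agent.U32

open Matrix

variable {F : Type*} [Field F] [Fintype F]

theorem exists_omega (hF : Fintype.card F = 4) : ∃ w : F, w * w = w + 1 ∧ (2 : F) = 0 := by
  classical
  obtain ⟨x, hx⟩ : ∃ x : F, x ∉ ({0, 1} : Finset F) := by
    by_contra h
    push Not at h
    have := Finset.card_le_card (fun x (_ : x ∈ (Finset.univ : Finset F)) => h x)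
    rw [Finset.card_univ, hF] at this
    exact absurd (this.trans (Finset.card_insert_le _ _)) (by simp)
  simp only [Finset.mem_insert, Finset.mem_singleton, not_or] at hx
  have h2 : (2 : F) = 0 := by
    have := FiniteField.cast_card_eq_zero F
    rw [hF] at this
    have h4 : (2 : F) * 2 = 0 := by rw [← this]; norm_num
    exact (mul_eq_zero.1 h4).elim id id
  have h3 : x ^ 3 = 1 := by
    have := FiniteField.pow_card_sub_one_eq_one x hx.1
    rwa [hF] at this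
  have h : (x - 1) * (x * x + x + 1) = 0 := by linear_combination h3
  have h' := (mul_eq_zero.1 h).resolve_left (sub_ne_zero.2 hx.2)
  exact ⟨x, by linear_combination h' - (x + 1) * h2, h2⟩

/-- A generator of `PSU₃(2)`. -/
def mM (w : F) : Matrix (Fin 3) (Fin 3) F := !![1, 1, 1; 1, w, w + 1; 1, w + 1, w]

theorem mM_det {w : F} (hw : w * w = w + 1) (h2 : (2 : F) = 0) : (mM w).det = 1 := by
  simp [mM, det_fin_three] <;> grind

theorem mM_herm {w : F} (hw : w * w = w + 1) (h2 : (2 : F) = 0) (u v : Fin 3 → F) :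
    Cfsg.hermForm 3 F 2 (mM w *ᵥ u) (mM w *ᵥ v) = Cfsg.hermForm 3 F 2 u v := by
  have sq : ∀ x y : F, (x + y) ^ 2 = x ^ 2 + y ^ 2 := fun x y => by linear_combination x * y * h2
  simp [mM, Cfsg.hermForm, Fin.sum_univ_three, Matrix.mulVec, dotProduct, sq, mul_pow] <;> grind

/-- A generator of `PSU₃(2)`. -/
def mJ (w : F) : Matrix (Fin 3) (Fin 3) F := !![1, w, w; w + 1, w, w + 1; w + 1, w + 1, w]

theorem mJ_det {w : F} (hw : w * w = w + 1) (h2 : (2 : F) = 0) : (mJ w).det = 1 := by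
  simp [mJ, det_fin_three] <;> grind

theorem mJ_herm {w : F} (hw : w * w = w + 1) (h2 : (2 : F) = 0) (u v : Fin 3 → F) :
    Cfsg.hermForm 3 F 2 (mJ w *ᵥ u) (mJ w *ᵥ v) = Cfsg.hermForm 3 F 2 u v := by
  have sq : ∀ x y : F, (x + y) ^ 2 = x ^ 2 + y ^ 2 := fun x y => by linear_combination x * y * h2
  simp [mJ, Cfsg.hermForm, Fin.sum_univ_three, Matrix.mulVec, dotProduct, sq, mul_pow] <;> grind

/-- A generator of `PSU₃(2)`. -/
def mA (w : F) : Matrix (Fin 3) (Fin 3) F := !![1, 0, 0; 0, w, 0; 0, 0, w + 1]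

theorem mA_det {w : F} (hw : w * w = w + 1) (h2 : (2 : F) = 0) : (mA w).det = 1 := by
  simp [mA, det_fin_three] <;> grind

theorem mA_herm {w : F} (hw : w * w = w + 1) (h2 : (2 : F) = 0) (u v : Fin 3 → F) :
    Cfsg.hermForm 3 F 2 (mA w *ᵥ u) (mA w *ᵥ v) = Cfsg.hermForm 3 F 2 u v := by
  have sq : ∀ x y : F, (x + y) ^ 2 = x ^ 2 + y ^ 2 := fun x y => by linear_combination x * y * h2
  simp [mA, Cfsg.hermForm, Fin.sum_univ_three, Matrix.mulVec, dotProduct, sq, mul_pow] <;> grind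

/-- A generator of `PSU₃(2)`. -/
def mB (w : F) : Matrix (Fin 3) (Fin 3) F := !![0, 0, 1; 1, 0, 0; 0, 1, 0]

theorem mB_det {w : F} (hw : w * w = w + 1) (h2 : (2 : F) = 0) : (mB w).det = 1 := by
  simp [mB, det_fin_three] <;> grind

theorem mB_herm {w : F} (hw : w * w = w + 1) (h2 : (2 : F) = 0) (u v : Fin 3 → F) :
    Cfsg.hermForm 3 F 2 (mB w *ᵥ u) (mB w *ᵥ v) = Cfsg.hermForm 3 F 2 u v := by
  have sq : ∀ x y : F, (x + y) ^ 2 = x ^ 2 + y ^ 2 := fun x y => by linear_combination x * y * h2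
  simp [mB, Cfsg.hermForm, Fin.sum_univ_three, Matrix.mulVec, dotProduct, sq, mul_pow] <;> grind

theorem rel_ia {w : F} (hw : w * w = w + 1) (h2 : (2 : F) = 0) : mM w * mA w = (1 : F) • ((mB w * mB w) * mM w) := by
  ext r s; fin_cases r <;> fin_cases s <;> simp [mM, mJ, mA, mB, Matrix.mul_apply, Fin.sum_univ_three] <;> grind

theorem rel_ib {w : F} (hw : w * w = w + 1) (h2 : (2 : F) = 0) : mM w * mB w = (1 : F) • (mA w * mM w) := by
  ext r s; fin_cases r <;> fin_cases s <;> simp [mM, mJ, mA, mB, Matrix.mul_apply, Fin.sum_univ_three] <;> grind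

theorem rel_ja {w : F} (hw : w * w = w + 1) (h2 : (2 : F) = 0) : mJ w * mA w = w • ((mA w * mA w * mB w * mB w) * mJ w) := by
  ext r s; fin_cases r <;> fin_cases s <;> simp [mM, mJ, mA, mB, Matrix.mul_apply, Fin.sum_univ_three] <;> grind

theorem rel_jb {w : F} (hw : w * w = w + 1) (h2 : (2 : F) = 0) : mJ w * mB w = (w + 1) • ((mA w * mA w * mB w) * mJ w) := by
  ext r s; fin_cases r <;> fin_cases s <;> simp [mM, mJ, mA, mB, Matrix.mul_apply, Fin.sum_univ_three] <;> grind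

theorem rel_ba {w : F} (hw : w * w = w + 1) (h2 : (2 : F) = 0) : mB w * mA w = (w + 1) • (mA w * mB w) := by
  ext r s; fin_cases r <;> fin_cases s <;> simp [mM, mJ, mA, mB, Matrix.mul_apply, Fin.sum_univ_three] <;> grind

theorem rel_jj {w : F} (hw : w * w = w + 1) (h2 : (2 : F) = 0) : mJ w * mJ w = (1 : F) • (mM w * mM w) := by
  ext r s; fin_cases r <;> fin_cases s <;> simp [mM, mJ, mA, mB, Matrix.mul_apply, Fin.sum_univ_three] <;> grind

theorem rel_ji {w : F} (hw : w * w = w + 1) (h2 : (2 : F) = 0) : mJ w * mM w = (1 : F) • ((mM w * mM w * mM w) * mJ w) := by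
  ext r s; fin_cases r <;> fin_cases s <;> simp [mM, mJ, mA, mB, Matrix.mul_apply, Fin.sum_univ_three] <;> grind

theorem mM_four {w : F} (hw : w * w = w + 1) (h2 : (2 : F) = 0) : mM w ^ 4 = 1 := by
  have hMM : mM w * mM w = !![1, 0, 0; 0, 0, 1; 0, 1, 0] := by
    ext r s; fin_cases r <;> fin_cases s <;> simp [mM, Matrix.mul_apply, Fin.sum_univ_three] <;> grind
  rw [show (4 : ℕ) = 2 + 2 from rfl, pow_add, pow_two, hMM]
  ext r s; fin_cases r <;> fin_cases s <;> simp [Matrix.mul_apply, Fin.sum_univ_three]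

theorem mA_three {w : F} (hw : w * w = w + 1) (h2 : (2 : F) = 0) : mA w ^ 3 = 1 := by
  ext r s; fin_cases r <;> fin_cases s <;> simp [mA, pow_three, Matrix.mul_apply, Fin.sum_univ_three] <;> grind

theorem mB_three (w : F) : mB w ^ 3 = 1 := by
  ext r s; fin_cases r <;> fin_cases s <;> simp [mB, pow_three, Matrix.mul_apply, Fin.sum_univ_three]

set_option maxHeartbeats 2000000 in
theorem structure_u32 (hF : Fintype.card F = 4) :
    ∃ (N : Subgroup (Cfsg.PSU 3 F 2)) (_ : N.Normal), Nat.card N = 9 ∧ (∀ x ∈ N, x ^ 3 = 1) ∧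
      Nonempty (Cfsg.PSU 3 F 2 ⧸ N ≃* QuaternionGroup 2) := by
  obtain ⟨w, hw, h2⟩ := exists_omega hF
  let sM : Matrix.SpecialLinearGroup (Fin 3) F := ⟨mM w, mM_det hw h2⟩
  let sJ : Matrix.SpecialLinearGroup (Fin 3) F := ⟨mJ w, mJ_det hw h2⟩
  let sA : Matrix.SpecialLinearGroup (Fin 3) F := ⟨mA w, mA_det hw h2⟩
  let sB : Matrix.SpecialLinearGroup (Fin 3) F := ⟨mB w, mB_det hw h2⟩
  have mem : ∀ s : Matrix.SpecialLinearGroup (Fin 3) F,
      (∀ u v : Fin 3 → F, Cfsg.hermForm 3 F 2 ((s : Matrix (Fin 3) (Fin 3) F) *ᵥ u) ((s : Matrix (Fin 3) (Fin 3) F) *ᵥ v) =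
        Cfsg.hermForm 3 F 2 u v) → s ∈ Cfsg.SU 3 F 2 := fun s h => h
  have uM : sM ∈ Cfsg.SU 3 F 2 := mem sM (mM_herm hw h2)
  have uJ : sJ ∈ Cfsg.SU 3 F 2 := mem sJ (mJ_herm hw h2)
  have uA : sA ∈ Cfsg.SU 3 F 2 := mem sA (mA_herm hw h2)
  have uB : sB ∈ Cfsg.SU 3 F 2 := mem sB (mB_herm hw h2)
  -- a scalar multiple is the same element of `PSU`
  have proj : ∀ (c : F) (x y : Cfsg.SU 3 F 2),
      ((y : Matrix.SpecialLinearGroup (Fin 3) F) : Matrix (Fin 3) (Fin 3) F) = c • ((x : Matrix.SpecialLinearGroup (Fin 3) F) : Matrix (Fin 3) (Fin 3) F) →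
      (QuotientGroup.mk x : Cfsg.PSU 3 F 2) = QuotientGroup.mk y := by
    intro c x y h
    rw [QuotientGroup.eq, Subgroup.mem_center_iff]
    intro g
    apply Subtype.ext; apply Subtype.ext
    simp only [Subgroup.coe_mul, Subgroup.coe_inv, Matrix.SpecialLinearGroup.coe_mul, h]
    have hx : ((x : Matrix.SpecialLinearGroup (Fin 3) F)⁻¹ : Matrix.SpecialLinearGroup (Fin 3) F).1 * (x : Matrix.SpecialLinearGroup (Fin 3) F).1 = 1 := by
      rw [← Matrix.SpecialLinearGroup.coe_mul, inv_mul_cancel, Matrix.SpecialLinearGroup.coe_one]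
    simp [hx, Matrix.adjugate_mul, Matrix.SpecialLinearGroup.det_coe]
  let π : Cfsg.SU 3 F 2 →* Cfsg.PSU 3 F 2 := QuotientGroup.mk' _
  -- conjugates and products, read off from matrix products
  have rel : ∀ (c : F) (x y u v : Cfsg.SU 3 F 2),
      ((x : Matrix.SpecialLinearGroup (Fin 3) F) : Matrix (Fin 3) (Fin 3) F) * ((y : Matrix.SpecialLinearGroup (Fin 3) F) : Matrix (Fin 3) (Fin 3) F) =
        c • (((u : Matrix.SpecialLinearGroup (Fin 3) F) : Matrix (Fin 3) (Fin 3) F) * ((v : Matrix.SpecialLinearGroup (Fin 3) F) : Matrix (Fin 3) (Fin 3) F)) →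
      π x * π y = π u * π v := by
    intro c x y u v h
    rw [← map_mul, ← map_mul]
    exact (proj c (u * v) (x * y) (by simpa using h)).symm
  obtain ⟨i, hi⟩ : ∃ i, i = π ⟨sM, uM⟩ := ⟨_, rfl⟩
  obtain ⟨j, hj⟩ : ∃ j, j = π ⟨sJ, uJ⟩ := ⟨_, rfl⟩
  obtain ⟨a, ha⟩ : ∃ a, a = π ⟨sA, uA⟩ := ⟨_, rfl⟩
  obtain ⟨b, hb⟩ : ∃ b, b = π ⟨sB, uB⟩ := ⟨_, rfl⟩
  have e_ia : i * a = b * b * i := by
    simp only [hi, hj, ha, hb]
    have h := rel 1 ⟨sM, uM⟩ ⟨sA, uA⟩ (⟨sB, uB⟩ * ⟨sB, uB⟩) ⟨sM, uM⟩ (by simp only [Subgroup.coe_mul, Matrix.SpecialLinearGroup.coe_mul, sM, sJ, sA, sB]; exact rel_ia hw h2)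
    simp only [map_mul] at h
    exact h
  have e_ib : i * b = a * i := by
    simp only [hi, hj, ha, hb]
    have h := rel 1 ⟨sM, uM⟩ ⟨sB, uB⟩ (⟨sA, uA⟩) ⟨sM, uM⟩ (by simp only [Subgroup.coe_mul, Matrix.SpecialLinearGroup.coe_mul, sM, sJ, sA, sB]; exact rel_ib hw h2)
    exact h
  have e_ja : j * a = a * a * b * b * j := by
    simp only [hi, hj, ha, hb]
    have h := rel w ⟨sJ, uJ⟩ ⟨sA, uA⟩ (⟨sA, uA⟩ * ⟨sA, uA⟩ * ⟨sB, uB⟩ * ⟨sB, uB⟩) ⟨sJ, uJ⟩ (by simp only [Subgroup.coe_mul, Matrix.SpecialLinearGroup.coe_mul, sM, sJ, sA, sB]; exact rel_ja hw h2)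
    simp only [map_mul] at h
    exact h
  have e_jb : j * b = a * a * b * j := by
    simp only [hi, hj, ha, hb]
    have h := rel (w + 1) ⟨sJ, uJ⟩ ⟨sB, uB⟩ (⟨sA, uA⟩ * ⟨sA, uA⟩ * ⟨sB, uB⟩) ⟨sJ, uJ⟩ (by simp only [Subgroup.coe_mul, Matrix.SpecialLinearGroup.coe_mul, sM, sJ, sA, sB]; exact rel_jb hw h2)
    simp only [map_mul] at h
    exact h
  have e_ba : b * a = a * b := by
    simp only [hi, hj, ha, hb]
    have h := rel (w + 1) ⟨sB, uB⟩ ⟨sA, uA⟩ (⟨sA, uA⟩) ⟨sB, uB⟩ (by simp only [Subgroup.coe_mul, Matrix.SpecialLinearGroup.coe_mul, sM, sJ, sA, sB]; exact rel_ba hw h2)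
    exact h
  have e_jj : j * j = i * i := by
    simp only [hi, hj, ha, hb]
    have h := rel 1 ⟨sJ, uJ⟩ ⟨sJ, uJ⟩ (⟨sM, uM⟩) ⟨sM, uM⟩ (by simp only [Subgroup.coe_mul, Matrix.SpecialLinearGroup.coe_mul, sM, sJ, sA, sB]; exact rel_jj hw h2)
    exact h
  have e_ji : j * i = i * i * i * j := by
    simp only [hi, hj, ha, hb]
    have h := rel 1 ⟨sJ, uJ⟩ ⟨sM, uM⟩ (⟨sM, uM⟩ * ⟨sM, uM⟩ * ⟨sM, uM⟩) ⟨sJ, uJ⟩ (by simp only [Subgroup.coe_mul, Matrix.SpecialLinearGroup.coe_mul, sM, sJ, sA, sB]; exact rel_ji hw h2)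
    simp only [map_mul] at h
    exact h
  have e_i4 : i ^ 4 = 1 := by
    rw [hi, ← map_pow]
    refine (QuotientGroup.eq_one_iff _).2 ?_
    rw [show (⟨sM, uM⟩ : Cfsg.SU 3 F 2) ^ 4 = 1 from ?_]
    · exact one_mem _
    apply Subtype.ext; apply Subtype.ext
    exact mM_four hw h2
  have e_a3 : a ^ 3 = 1 := by
    rw [ha, ← map_pow]
    refine (QuotientGroup.eq_one_iff _).2 ?_
    rw [show (⟨sA, uA⟩ : Cfsg.SU 3 F 2) ^ 3 = 1 from ?_]
    · exact one_mem _
    apply Subtype.ext; apply Subtype.ext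
    exact mA_three hw h2
  have e_b3 : b ^ 3 = 1 := by
    rw [hb, ← map_pow]
    refine (QuotientGroup.eq_one_iff _).2 ?_
    rw [show (⟨sB, uB⟩ : Cfsg.SU 3 F 2) ^ 3 = 1 from ?_]
    · exact one_mem _
    apply Subtype.ext; apply Subtype.ext
    exact mB_three w
  -- non-triviality: central elements are diagonal in both `A` and `B`
  have notc : ∀ x : Cfsg.SU 3 F 2, π x = 1 →
      ((x : Matrix.SpecialLinearGroup (Fin 3) F) : Matrix (Fin 3) (Fin 3) F) * mB w = mB w * ((x : Matrix.SpecialLinearGroup (Fin 3) F) : Matrix (Fin 3) (Fin 3) F) ∧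
      ((x : Matrix.SpecialLinearGroup (Fin 3) F) : Matrix (Fin 3) (Fin 3) F) * mA w = mA w * ((x : Matrix.SpecialLinearGroup (Fin 3) F) : Matrix (Fin 3) (Fin 3) F) := by
    intro x hx
    have hc := Subgroup.mem_center_iff.1 ((QuotientGroup.eq_one_iff x).1 hx)
    exact ⟨(congrArg (fun z : Cfsg.SU 3 F 2 => ((z : Matrix.SpecialLinearGroup (Fin 3) F) : Matrix (Fin 3) (Fin 3) F)) (hc ⟨sB, uB⟩)).symm,
      (congrArg (fun z : Cfsg.SU 3 F 2 => ((z : Matrix.SpecialLinearGroup (Fin 3) F) : Matrix (Fin 3) (Fin 3) F)) (hc ⟨sA, uA⟩)).symm⟩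
  have hw0 : w ≠ 0 := fun h => by rw [h] at hw; simp at hw
  have hi2 : i * i ≠ 1 := by
    intro h
    rw [hi, ← map_mul] at h
    have h'' := (notc _ h).1
    simp only [Subgroup.coe_mul, Matrix.SpecialLinearGroup.coe_mul] at h''
    have h' := congrFun (congrFun h'' 0) 1
    simp [sM, mM, mB, Matrix.mul_apply, Fin.sum_univ_three] at h'
    grind
  have ha1 : a ≠ 1 := by
    intro h
    rw [ha] at h
    have h' := congrFun (congrFun (notc _ h).1 1) 0
    simp [sA, mA, mB, Matrix.mul_apply, Fin.sum_univ_three] at h'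
    grind
  have hab : a ∉ Subgroup.zpowers b := by
    intro h
    obtain ⟨k, hk⟩ := h
    have hA : ∃ e : ℕ, π (⟨sB, uB⟩ ^ e) = a := by
      obtain ⟨e, he⟩ := (isOfFinOrder_of_finite b).mem_powers_iff_mem_zpowers.2 ⟨k, hk⟩
      exact ⟨e, by rw [map_pow, ← hb]; exact he⟩
    obtain ⟨e, he⟩ := hA
    have hcomm : (⟨sB, uB⟩ : Cfsg.SU 3 F 2) ^ e * ⟨sB, uB⟩ = ⟨sB, uB⟩ * (⟨sB, uB⟩ : Cfsg.SU 3 F 2) ^ e :=
      ((Commute.refl _).pow_left e).eq
    have hq := (QuotientGroup.eq).1 (show (QuotientGroup.mk ((⟨sB, uB⟩ : Cfsg.SU 3 F 2) ^ e) : Cfsg.PSU 3 F 2) = QuotientGroup.mk ⟨sA, uA⟩ from he.trans ha)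
    have hc := Subgroup.mem_center_iff.1 hq ⟨sB, uB⟩
    have hcommA : (⟨sB, uB⟩ : Cfsg.SU 3 F 2) * ⟨sA, uA⟩ = ⟨sA, uA⟩ * ⟨sB, uB⟩ := by
      rw [← mul_assoc, show (⟨sB, uB⟩ : Cfsg.SU 3 F 2) * (⟨sB, uB⟩ ^ e)⁻¹ = (⟨sB, uB⟩ ^ e)⁻¹ * ⟨sB, uB⟩ from
        ((show Commute ((⟨sB, uB⟩ : Cfsg.SU 3 F 2) ^ e) ⟨sB, uB⟩ from hcomm).inv_left).eq.symm, mul_assoc, mul_assoc] at hc
      exact mul_left_cancel hc
    have h'' := congrArg (fun z : Cfsg.SU 3 F 2 => ((z : Matrix.SpecialLinearGroup (Fin 3) F) : Matrix (Fin 3) (Fin 3) F)) hcommA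
    simp only [Subgroup.coe_mul, Matrix.SpecialLinearGroup.coe_mul] at h''
    have h' := congrFun (congrFun h'' 1) 0
    simp [sA, sB, mA, mB, Matrix.mul_apply, Fin.sum_univ_three] at h'
    grind
  have hjni : j ∉ Subgroup.zpowers i := by
    intro h
    obtain ⟨k, hk⟩ := h
    have hcomm : j * i = i * j := by rw [← hk]; exact ((Commute.refl i).zpow_left k).eq
    have : i * i * (i * j) = 1 * (i * j) := by rw [one_mul, ← mul_assoc, ← e_ji, hcomm]
    exact hi2 (mul_right_cancel this)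
  obtain ⟨hcard, -⟩ := S0282.result hF
  haveI := Fact.mk Nat.prime_three
  set N := Subgroup.closure ({a, b} : Set (Cfsg.PSU 3 F 2)) with hN
  have haN : a ∈ N := Subgroup.subset_closure (by simp)
  have hbN : b ∈ N := Subgroup.subset_closure (by simp)
  have hNc : N ≤ Subgroup.centralizer (N : Set (Cfsg.PSU 3 F 2)) := by
    rw [hN, Subgroup.centralizer_closure, Subgroup.closure_le]
    rintro x (rfl | rfl) <;> rw [SetLike.mem_coe, Subgroup.mem_centralizer_iff] <;> rintro y (rfl | rfl)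
    exacts [rfl, e_ba, e_ba.symm, rfl]
  have hN3 : ∀ x ∈ N, x ^ 3 = 1 := by
    intro x hx
    induction hx using Subgroup.closure_induction with
    | mem y hy =>
      rcases hy with rfl | rfl
      · exact e_a3
      · exact e_b3
    | one => exact one_pow 3
    | mul u v hu hv h1 h2' => rw [(show Commute u v from Subgroup.mem_centralizer_iff.1 (hNc hv) u hu).mul_pow, h1, h2', one_mul]
    | inv u hu h1 => rw [inv_pow, h1, inv_one]
  let Q := Subgroup.closure ({j, i} : Set (Cfsg.PSU 3 F 2))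
  have hord : orderOf i = 2 * 2 := by
    haveI := Fact.mk Nat.prime_two
    have := orderOf_eq_prime_pow (p := 2) (n := 1) (x := i) (by rwa [pow_one, pow_two]) (by simpa using e_i4)
    simpa using this
  have e_inv : j * i * j⁻¹ = i⁻¹ := by
    rw [e_ji, mul_inv_cancel_right, eq_inv_iff_mul_eq_one, ← e_i4, pow_succ, pow_three]
    group
  obtain ⟨eQ⟩ := Invol.nonempty_quaternionEquiv e_inv 2 hord (by rw [e_jj, pow_two]) hjni
  have hQcard : Nat.card Q = 8 := by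
    rw [Nat.card_congr eQ.symm.toEquiv, Nat.card_eq_fintype_card, QuaternionGroup.card]
  have hNp : IsPGroup 3 N := fun x => ⟨1, Subtype.ext (by simpa using hN3 x x.2)⟩
  have hdisj : Disjoint N Q := by
    rw [disjoint_iff, eq_bot_iff]
    intro x hx
    rw [Subgroup.mem_bot]
    refine orderOf_eq_one_iff.1 (Nat.eq_one_of_dvd_coprimes (show Nat.Coprime 3 8 by norm_num)
      (orderOf_dvd_of_pow_eq_one (hN3 x hx.1)) ?_)
    rw [← hQcard]; exact Subgroup.orderOf_dvd_natCard Q hx.2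
  have hNcard : Nat.card N = 9 := by
    obtain ⟨n, hn⟩ := IsPGroup.iff_card.1 hNp
    have hdvd : Nat.card N ∣ 72 := hcard ▸ Subgroup.card_subgroup_dvd_card N
    rw [hn] at hdvd ⊢
    have hn2 : n ≤ 2 := by
      by_contra hlt
      have := (pow_dvd_pow 3 (show 3 ≤ n by omega)).trans hdvd
      norm_num at this
    have hbz : Subgroup.zpowers b ≤ N := Subgroup.zpowers_le.2 hbN
    have hb1 : b ≠ 1 := fun h => hab (by
      have h3 : i * b * i⁻¹ = a := by rw [e_ib, mul_inv_cancel_right]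
      rw [h, mul_one, mul_inv_cancel] at h3
      rw [← h3]; exact one_mem _)
    have ho : orderOf b = 3 := orderOf_eq_prime e_b3 hb1
    have hlt : 3 < Nat.card N := by
      by_contra hle
      have := Subgroup.eq_of_le_of_card_ge hbz (by rw [Nat.card_zpowers, ho]; omega)
      exact hab (this ▸ haN)
    rw [hn] at hlt
    interval_cases n <;> simp_all
  have hsub : Nat.card (N ⊔ Q : Subgroup (Cfsg.PSU 3 F 2)) = 72 := by
    refine Nat.dvd_antisymm (hcard ▸ Subgroup.card_subgroup_dvd_card _) ?_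
    have h9 : 9 ∣ Nat.card (N ⊔ Q : Subgroup (Cfsg.PSU 3 F 2)) := hNcard ▸ Subgroup.card_dvd_of_le le_sup_left
    have h8 : 8 ∣ Nat.card (N ⊔ Q : Subgroup (Cfsg.PSU 3 F 2)) := hQcard ▸ Subgroup.card_dvd_of_le le_sup_right
    exact Nat.Coprime.mul_dvd_of_dvd_of_dvd (show Nat.Coprime 9 8 by norm_num) h9 h8
  have htop : N ⊔ Q = ⊤ := Subgroup.eq_top_of_card_eq _ (hsub.trans hcard.symm)
  have hn1 : ∀ g ∈ ({a, b, j, i} : Set (Cfsg.PSU 3 F 2)), ∀ x ∈ N, g * x * g⁻¹ ∈ N := by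
    intro g hg
    suffices hsub' : N ≤ N.comap (MulAut.conj g).toMonoidHom from fun x hx => hsub' hx
    rw [hN, Subgroup.closure_le]
    have self : ∀ u ∈ N, ∀ v ∈ N, u * v * u⁻¹ ∈ N := fun u hu v hv => mul_mem (mul_mem hu hv) (inv_mem hu)
    rintro x (rfl | rfl) <;> show g * _ * g⁻¹ ∈ N <;> rcases hg with rfl | rfl | rfl | rfl
    · exact self _ haN _ haN
    · exact self _ hbN _ haN
    · rw [e_ja, mul_inv_cancel_right]; exact mul_mem (mul_mem (mul_mem haN haN) hbN) hbN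
    · rw [e_ia, mul_inv_cancel_right]; exact mul_mem hbN hbN
    · exact self _ haN _ hbN
    · exact self _ hbN _ hbN
    · rw [e_jb, mul_inv_cancel_right]; exact mul_mem (mul_mem haN haN) hbN
    · rw [e_ib, mul_inv_cancel_right]; exact haN
  haveI hNn : N.Normal := by
    rw [← Subgroup.normalizer_eq_top_iff, eq_top_iff, ← htop]
    have hmem : ∀ g ∈ ({a, b, j, i} : Set (Cfsg.PSU 3 F 2)), g ∈ Subgroup.normalizer (N : Set (Cfsg.PSU 3 F 2)) := by
      intro g hg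
      have hle : N.map (MulAut.conj g).toMonoidHom ≤ N := by
        rintro _ ⟨x, hx, rfl⟩; exact hn1 g hg x hx
      have heq := Subgroup.eq_of_le_of_card_ge hle
        (Subgroup.card_map_of_injective (MulAut.conj g).injective).ge
      refine Subgroup.mem_normalizer_iff.2 fun x => ⟨hn1 g hg x, fun hx => ?_⟩
      rw [← heq] at hx
      obtain ⟨y, hy, hxy⟩ := hx
      rwa [show y = x from (MulAut.conj g).injective hxy] at hy
    refine sup_le Subgroup.le_normalizer ((Subgroup.closure_le _).2 ?_)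
    rintro g (rfl | rfl) <;> exact hmem _ (by simp)
  refine ⟨N, hNn, hNcard, hN3, ?_⟩
  let f : Q →* Cfsg.PSU 3 F 2 ⧸ N := (QuotientGroup.mk' N).comp Q.subtype
  have hfi : Function.Injective f := by
    rw [injective_iff_map_eq_one]
    intro x hx
    have hxN : (x : Cfsg.PSU 3 F 2) ∈ N := (QuotientGroup.eq_one_iff _).1 hx
    exact Subtype.ext (by simpa using (Subgroup.disjoint_def.1 hdisj) hxN x.2)
  have hfb : Function.Bijective f := by
    refine (Nat.bijective_iff_injective_and_card f).2 ⟨hfi, ?_⟩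
    have := Subgroup.card_eq_card_quotient_mul_card_subgroup N
    rw [hcard, hNcard] at this
    rw [hQcard]; omega
  exact ⟨(MulEquiv.ofBijective f hfb).symm.trans eQ.symm⟩

end Cfsg.Agent.U32
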