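import Cfsg.Agent.Lib.Invol.Basic

/-!
# Klein four Sylow 2-subgroups
-/

namespace Cfsg.Agent.Invol

variable {G : Type*} [Group G] [Finite G]

/-- A normaliser element fixing one involution of a Klein four Sylow subgroup centralises it. -/
theorem klein_fixes_all (P : Sylow 2 G) [IsKleinFour (P : Subgroup G)] {n : G}
    (hn : n ∈ Subgroup.normalizer ((P : Subgroup G) : Set G)) {a : G} (ha : a ∈ P) (ha1 : a ≠ 1)
    (hfix : n * a * n⁻¹ = a) : n ∈ Subgroup.centralizer ((P : Subgroup G) : Set G) := by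
  classical
  haveI : Fact (Nat.Prime 2) := ⟨Nat.prime_two⟩
  haveI : IsMulCommutative (P : Subgroup G) :=
    ⟨⟨fun x y => mul_comm_of_exponent_two IsKleinFour.exponent_two x y⟩⟩
  have hcomm : ∀ x ∈ (P : Subgroup G), ∀ y ∈ (P : Subgroup G), x * y = y * x := fun x hx y hy =>
    congrArg Subtype.val
      (mul_comm_of_exponent_two IsKleinFour.exponent_two (⟨x, hx⟩ : (P : Subgroup G)) ⟨y, hy⟩)
  rw [Subgroup.mem_centralizer_iff]
  by_contra hne
  push_neg at hne
  obtain ⟨b, hb, hbn⟩ := hne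
  have hba : b ≠ a := by
    rintro rfl
    exact hbn (mul_inv_eq_iff_eq_mul.1 hfix).symm
  have hb1 : b ≠ 1 := fun h => hbn (by rw [h, one_mul, mul_one])
  -- the elements of `P` are `1, a, b, a * b`
  have huniv : ∀ v ∈ (P : Subgroup G), v = 1 ∨ v = a ∨ v = b ∨ v = a * b := by
    intro v hv
    haveI := Fintype.ofFinite (P : Subgroup G)
    have h := IsKleinFour.eq_finset_univ (x := (⟨a, ha⟩ : (P : Subgroup G))) (y := ⟨b, hb⟩)
      (fun h => ha1 (congrArg Subtype.val h)) (fun h => hb1 (congrArg Subtype.val h))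
      (fun h => hba (congrArg Subtype.val h).symm)
    have hm := Finset.mem_univ (⟨v, hv⟩ : (P : Subgroup G))
    rw [← h] at hm
    simp only [Finset.mem_insert, Finset.mem_singleton, Subtype.ext_iff, Subgroup.coe_mul,
      Subgroup.coe_one] at hm
    tauto
  have hnb : ∀ m ∈ Subgroup.normalizer ((P : Subgroup G) : Set G), m * a * m⁻¹ = a →
      m * b * m⁻¹ = b ∨ m * b * m⁻¹ = a * b := by
    intro m hm hma
    rcases huniv _ ((Subgroup.mem_normalizer_iff.1 hm b).1 hb) with h | h | h | h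
    · exact absurd (conj_eq_one_iff.1 h) hb1
    · exact absurd (mul_left_cancel (mul_right_cancel (h.trans hma.symm))) hba
    · exact Or.inl h
    · exact Or.inr h
  rcases hnb n hn hfix with h | h
  · exact hbn (mul_inv_eq_iff_eq_mul.1 h).symm
  -- `n` swaps `b` and `a * b`; so does an odd power, a 2-element of `P`
  have hp : ∀ j : ℕ, n ^ j * a * (n ^ j)⁻¹ = a ∧
      n ^ j * b * (n ^ j)⁻¹ = if Even j then b else a * b := by
    intro j
    induction j with
    | zero => simp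
    | succ j ih =>
      have e : ∀ x : G, n ^ (j + 1) * x * (n ^ (j + 1))⁻¹ = n * (n ^ j * x * (n ^ j)⁻¹) * n⁻¹ :=
        fun x => by rw [pow_succ']; group
      refine ⟨by rw [e, ih.1, hfix], ?_⟩
      rw [e, ih.2]
      by_cases hj : Even j
      · rw [if_pos hj, if_neg (by rw [Nat.even_add_one]; exact not_not.2 hj), h]
      · rw [if_neg hj, if_pos (Nat.even_add_one.2 hj),
          show n * (a * b) * n⁻¹ = (n * a * n⁻¹) * (n * b * n⁻¹) by group, hfix, h, ← mul_assoc]
        have ha2 : a * a = 1 := congrArg Subtype.val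
          (IsKleinFour.mul_self (⟨a, ha⟩ : (P : Subgroup G)))
        rw [ha2, one_mul]
  obtain ⟨i, m, hm, hi⟩ := Nat.exists_eq_pow_mul_and_not_dvd (orderOf_pos n).ne' 2 (by norm_num)
  have hpow : IsPGroup 2 ↥(Subgroup.zpowers (n ^ m)) := by
    obtain ⟨j, -, hj⟩ := (Nat.dvd_prime_pow Nat.prime_two).1 (orderOf_dvd_of_pow_eq_one
      (show (n ^ m) ^ 2 ^ i = 1 by rw [← pow_mul, mul_comm, ← hi, pow_orderOf_eq_one]))
    exact IsPGroup.of_card (n := j) (by rw [Nat.card_zpowers, hj])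
  have hle : (P : Subgroup G) ⊔ Subgroup.zpowers (n ^ m) = P :=
    P.3 (P.2.to_sup_of_normal_left' hpow (Subgroup.zpowers_le.2 (pow_mem hn m))) le_sup_left
  have hmP : n ^ m ∈ (P : Subgroup G) :=
    (le_sup_right.trans hle.le) (Subgroup.mem_zpowers _)
  have := (hp m).2
  rw [if_neg (fun he => hm (even_iff_two_dvd.1 he)), hcomm _ hmP b hb, mul_inv_cancel_right] at this
  exact ha1 (mul_eq_right.1 this.symm)

theorem klein_classes_of_central (P : Sylow 2 G) [IsKleinFour (P : Subgroup G)]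
    (h : Subgroup.normalizer ((P : Subgroup G) : Set G) ≤
      Subgroup.centralizer ((P : Subgroup G) : Set G)) :
    Nat.card {C : ConjClasses G // ∃ t : G, orderOf t = 2 ∧ ConjClasses.mk t = C} = 3 := by
  classical
  haveI : Fact (Nat.Prime 2) := ⟨Nat.prime_two⟩
  haveI : IsMulCommutative (P : Subgroup G) :=
    ⟨⟨fun x y => mul_comm_of_exponent_two IsKleinFour.exponent_two x y⟩⟩
  let f : {v : (P : Subgroup G) // v ≠ 1} →
      {C : ConjClasses G // ∃ t : G, orderOf t = 2 ∧ ConjClasses.mk t = C} := fun v =>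
    ⟨ConjClasses.mk (v.1 : G), (v.1 : G), orderOf_two_of_mul_self
      (congrArg Subtype.val (IsKleinFour.mul_self v.1)) (fun h => v.2 (Subtype.ext h)), rfl⟩
  have hf : Function.Bijective f := by
    constructor
    · intro v w hvw
      obtain ⟨c, hc⟩ := isConj_iff.1 (ConjClasses.mk_eq_mk_iff_isConj.1 (congrArg Subtype.val hvw))
      obtain ⟨n, hn, hn'⟩ := P.conj_eq_normalizer_conj_of_mem (v.1 : G) c⁻¹ v.1.2
        (by rw [inv_inv, hc]; exact w.1.2)
      rw [inv_inv, hc] at hn'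
      refine Subtype.ext (Subtype.ext ?_)
      rw [hn', mul_assoc, Subgroup.mem_centralizer_iff.1 (h hn) _ v.1.2, inv_mul_cancel_left]
    · rintro ⟨_, t, ht, rfl⟩
      obtain ⟨R, hR⟩ := (IsPGroup.of_card (p := 2) (n := 1)
        (show Nat.card (Subgroup.zpowers t) = 2 ^ 1 by
          rw [Nat.card_zpowers, ht, pow_one])).exists_le_sylow
      obtain ⟨c, hc⟩ := MulAction.exists_smul_eq G R P
      have hm : c * t * c⁻¹ ∈ (P : Subgroup G) := by
        rw [← hc]; exact ⟨t, hR (Subgroup.mem_zpowers t), rfl⟩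
      refine ⟨⟨⟨_, hm⟩, fun h => ne_one_of_orderOf_two ht ?_⟩, Subtype.ext ?_⟩
      · exact conj_eq_one_iff.1 (congrArg Subtype.val h)
      · exact (ConjClasses.mk_eq_mk_iff_isConj.2 (isConj_iff.2 ⟨c, rfl⟩)).symm
  rw [← Nat.card_eq_of_bijective f hf]
  haveI := Fintype.ofFinite (P : Subgroup G)
  rw [Nat.card_eq_fintype_card, Fintype.card_subtype_compl, Fintype.card_subtype_eq,
    ← Nat.card_eq_fintype_card, IsKleinFour.card_four]

theorem klein_classes_of_not_central (P : Sylow 2 G) [IsKleinFour (P : Subgroup G)]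
    (h : ¬ Subgroup.normalizer ((P : Subgroup G) : Set G) ≤
      Subgroup.centralizer ((P : Subgroup G) : Set G)) :
    Nat.card {C : ConjClasses G // ∃ t : G, orderOf t = 2 ∧ ConjClasses.mk t = C} = 1 := by
  classical
  haveI : Fact (Nat.Prime 2) := ⟨Nat.prime_two⟩
  obtain ⟨n, hn, hnc⟩ := SetLike.not_le_iff_exists.1 h
  have hmv : ∀ v ∈ (P : Subgroup G), v ≠ 1 → n * v * n⁻¹ ∈ (P : Subgroup G) ∧ n * v * n⁻¹ ≠ 1 ∧
      n * v * n⁻¹ ≠ v := fun v hv hv1 =>
    ⟨(Subgroup.mem_normalizer_iff.1 hn v).1 hv, fun he => hv1 (conj_eq_one_iff.1 he),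
      fun he => hnc (klein_fixes_all P hn hv hv1 he)⟩
  -- all involutions of `P` are conjugate
  have hall : ∀ a ∈ (P : Subgroup G), a ≠ 1 → ∀ v ∈ (P : Subgroup G), v ≠ 1 → IsConj a v := by
    intro a ha ha1 v hv hv1
    obtain ⟨hb, hb1, hba⟩ := hmv a ha ha1
    obtain ⟨hc, hc1, hcb⟩ := hmv _ hb hb1
    have hab : IsConj a (n * a * n⁻¹) := isConj_iff.2 ⟨n, rfl⟩
    have hac : IsConj a (n * (n * a * n⁻¹) * n⁻¹) := hab.trans (isConj_iff.2 ⟨n, rfl⟩)
    have hca : n * (n * a * n⁻¹) * n⁻¹ ≠ a := by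
      intro he
      -- then `n` fixes the third involution `a * n a n⁻¹`
      refine hnc (klein_fixes_all P hn (mul_mem ha hb) (fun h1 => ?_) ?_)
      · exact hba ((inv_eq_of_mul_eq_one_right h1).symm.trans (inv_eq_self_of_mul_self
          (congrArg Subtype.val (IsKleinFour.mul_self (⟨a, ha⟩ : (P : Subgroup G))))))
      · calc n * (a * (n * a * n⁻¹)) * n⁻¹ = (n * a * n⁻¹) * (n * (n * a * n⁻¹) * n⁻¹) := by group
          _ = (n * a * n⁻¹) * a := by rw [he]
          _ = a * (n * a * n⁻¹) := congrArg Subtype.val (mul_comm_of_exponent_two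
              IsKleinFour.exponent_two (⟨_, hb⟩ : (P : Subgroup G)) ⟨a, ha⟩)
    haveI := Fintype.ofFinite (P : Subgroup G)
    have h := IsKleinFour.eq_finset_univ (x := (⟨a, ha⟩ : (P : Subgroup G))) (y := ⟨_, hb⟩)
      (fun h => ha1 (congrArg Subtype.val h)) (fun h => hb1 (congrArg Subtype.val h))
      (fun h => hba (congrArg Subtype.val h).symm)
    have key : ∀ w ∈ (P : Subgroup G), w ≠ 1 → w = a ∨ w = n * a * n⁻¹ ∨
        w = a * (n * a * n⁻¹) := by
      intro w hw hw1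
      have hm := Finset.mem_univ (⟨w, hw⟩ : (P : Subgroup G))
      rw [← h] at hm
      simp only [Finset.mem_insert, Finset.mem_singleton, Subtype.ext_iff, Subgroup.coe_mul,
        Subgroup.coe_one] at hm
      tauto
    have e : n * (n * a * n⁻¹) * n⁻¹ = a * (n * a * n⁻¹) := by
      rcases key _ hc hc1 with h | h | h
      · exact absurd h hca
      · exact absurd h hcb
      · exact h
    rcases key v hv hv1 with rfl | rfl | rfl
    · exact IsConj.refl _
    · exact hab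
    · exact e ▸ hac
  rw [Nat.card_eq_one_iff_unique]
  have htoP : ∀ t : G, orderOf t = 2 → ∃ v ∈ (P : Subgroup G), v ≠ 1 ∧ IsConj t v := by
    intro t ht
    obtain ⟨R, hR⟩ := (IsPGroup.of_card (p := 2) (n := 1)
      (show Nat.card (Subgroup.zpowers t) = 2 ^ 1 by
        rw [Nat.card_zpowers, ht, pow_one])).exists_le_sylow
    obtain ⟨c, hc⟩ := MulAction.exists_smul_eq G R P
    refine ⟨c * t * c⁻¹, ?_, fun h => ne_one_of_orderOf_two ht (conj_eq_one_iff.1 h),
      isConj_iff.2 ⟨c, rfl⟩⟩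
    rw [← hc]; exact ⟨t, hR (Subgroup.mem_zpowers t), rfl⟩
  refine ⟨⟨?_⟩, ?_⟩
  · rintro ⟨_, t, ht, rfl⟩ ⟨_, s, hs, rfl⟩
    obtain ⟨v, hv, hv1, htv⟩ := htoP t ht
    obtain ⟨w, hw, hw1, hsw⟩ := htoP s hs
    exact Subtype.ext
      (ConjClasses.mk_eq_mk_iff_isConj.2 (htv.trans ((hall v hv hv1 w hw hw1).trans hsw.symm)))
  · haveI : Nontrivial (P : Subgroup G) := by
      rw [← Finite.one_lt_card_iff_nontrivial, IsKleinFour.card_four]; norm_num
    obtain ⟨v, hv⟩ := exists_ne (1 : (P : Subgroup G))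
    exact ⟨⟨ConjClasses.mk (v : G), (v : G), orderOf_two_of_mul_self
      (congrArg Subtype.val (IsKleinFour.mul_self v)) (fun h => hv (Subtype.ext h)), rfl⟩⟩

theorem klein_central_of_complement (P : Sylow 2 G) [IsKleinFour (P : Subgroup G)]
    {K : Subgroup G} (hK : K.Normal) (hc : Subgroup.IsComplement' K (P : Subgroup G)) :
    Subgroup.normalizer ((P : Subgroup G) : Set G) ≤
      Subgroup.centralizer ((P : Subgroup G) : Set G) := by
  intro n hn
  rw [Subgroup.mem_centralizer_iff]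
  intro v hv
  have hv' : n * v * n⁻¹ ∈ (P : Subgroup G) := (Subgroup.mem_normalizer_iff.1 hn v).1 hv
  obtain ⟨⟨k, p⟩, hkp⟩ := hc.2 n
  simp only at hkp
  have hp : (p : G) * v * (p : G)⁻¹ = v := by
    have := congrArg Subtype.val (mul_comm_of_exponent_two IsKleinFour.exponent_two
      (⟨(p : G), p.2⟩ : (P : Subgroup G)) ⟨v, hv⟩)
    simp only [Subgroup.coe_mul] at this
    rw [this, mul_inv_cancel_right]
  have h1 : n * v * n⁻¹ * v⁻¹ ∈ K ⊓ (P : Subgroup G) := by
    refine ⟨?_, (P : Subgroup G).mul_mem hv' ((P : Subgroup G).inv_mem hv)⟩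
    rw [← hkp, show (k : G) * p * v * ((k : G) * p)⁻¹ * v⁻¹ =
      (k : G) * (((p : G) * v * (p : G)⁻¹) * (k : G)⁻¹ * v⁻¹) by group, hp]
    exact mul_mem k.2 (hK.conj_mem _ (inv_mem k.2) v)
  rw [disjoint_iff.1 hc.disjoint, Subgroup.mem_bot, mul_inv_eq_one, mul_inv_eq_iff_eq_mul] at h1
  exact h1.symm

end Cfsg.Agent.Invol
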