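import Cfsg.Agent.Lib.Invol.Basic

/-!
# Subgroups of index two
-/

namespace Cfsg.Agent.Invol

variable {G : Type*} [Group G] [Finite G]

theorem exists_index_two_of_isPGroup (hG : IsPGroup 2 G) (hnt : Nontrivial G) :
    ∃ H : Subgroup G, H.index = 2 := by
  haveI : Fact (Nat.Prime 2) := ⟨Nat.prime_two⟩
  obtain ⟨n, hn⟩ := IsPGroup.iff_card.1 hG
  have hn0 : n ≠ 0 := by
    rintro rfl
    rw [pow_zero, Nat.card_eq_one_iff_unique] at hn
    exact not_subsingleton G hn.1
  obtain ⟨m, rfl⟩ := Nat.exists_eq_succ_of_ne_zero hn0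
  obtain ⟨H, hH⟩ := Sylow.exists_subgroup_card_pow_prime 2 (n := m)
    (show 2 ^ m ∣ Nat.card G by rw [hn]; exact pow_dvd_pow 2 (Nat.le_succ m))
  refine ⟨H, ?_⟩
  have := H.card_mul_index
  rw [hH, hn, pow_succ] at this
  exact Nat.eq_of_mul_eq_mul_left (by positivity) this

/-- A surjection onto a nontrivial 2-group gives a subgroup of index two. -/
theorem exists_index_two_of_surjective {A : Type*} [Group A] [Finite A] (hA : IsPGroup 2 A)
    (hnt : Nontrivial A) (f : G →* A) (hf : Function.Surjective f) :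
    ∃ H : Subgroup G, H.index = 2 := by
  obtain ⟨K, hK⟩ := exists_index_two_of_isPGroup hA hnt
  exact ⟨K.comap f, by rw [Subgroup.index_comap_of_surjective _ hf, hK]⟩

/-- Cyclic Sylow 2-subgroups give a subgroup of index two in groups of even order. -/
theorem exists_index_two_of_cyclic_sylow (heven : Even (Nat.card G)) (T : Sylow 2 G)
    (hT : IsCyclic (T : Subgroup G)) : ∃ H : Subgroup G, H.index = 2 := by
  haveI : Fact (Nat.Prime 2) := ⟨Nat.prime_two⟩
  have hmin : (Nat.card G).minFac = 2 :=
    (Nat.minFac_eq_two_iff _).2 (even_iff_two_dvd.1 heven)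
  have : Subsingleton (T : Subgroup G) → False := by
    intro h
    have h1 := T.card_eq_multiplicity
    rw [Nat.card_unique] at h1
    have h2 : 0 < (Nat.card G).factorization 2 :=
      Nat.Prime.factorization_pos_of_dvd Nat.prime_two Nat.card_pos.ne'
        (even_iff_two_dvd.1 heven)
    exact absurd h1 (Nat.one_lt_two_pow h2.ne').ne
  have hnt : Nontrivial (T : Subgroup G) := not_subsingleton_iff_nontrivial.1 this
  have hle : Subgroup.normalizer ((T : Subgroup G) : Set G) ≤
      Subgroup.centralizer ((T : Subgroup G) : Set G) :=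
    IsCyclic.normalizer_le_centralizer (P := T) (by rw [hmin]) hT
  have hcomp := MonoidHom.ker_transferSylow_isComplement' T hle
  refine exists_index_two_of_surjective (A := (T : Subgroup G)) T.2 hnt
    (MonoidHom.transferSylow T hle) ?_
  rw [← MonoidHom.range_eq_top]
  apply Subgroup.eq_top_of_card_eq
  have h1 := (MonoidHom.transferSylow T hle).ker.card_mul_index
  rw [Subgroup.index_ker, ← hcomp.card_mul_card] at h1
  exact Nat.eq_of_mul_eq_mul_left Nat.card_pos h1

end Cfsg.Agent.Invol
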