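import Cfsg.Agent.Lib.Invol.QDSubgroups

/-!
# The maximal subgroups of a quasi-dihedral group
-/

namespace Cfsg.Agent.Invol

variable {S : Type*} [Group S]

namespace QDData

variable (D : QDData S)

/-- `⟨x ^ 2⟩`. -/
def even : Subgroup S := Subgroup.zpowers (D.x ^ (2 : ℤ))

/-- The dihedral maximal subgroup. -/
def dih : Subgroup S := Subgroup.closure {D.y, D.x ^ (2 : ℤ)}

/-- The quaternion maximal subgroup. -/
def quat : Subgroup S := Subgroup.closure {D.x ^ (1 : ℤ) * D.y, D.x ^ (2 : ℤ)}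

include D in
theorem finite : Finite S := Nat.finite_of_card_ne_zero (by
  rw [D.card_eq]; have := D.m_pos; omega)

theorem mem_even_iff (j : ℤ) : D.x ^ j ∈ D.even ↔ 2 ∣ j := by
  rw [even, Subgroup.mem_zpowers_iff]
  constructor
  · rintro ⟨k, hk⟩
    rw [← zpow_mul, D.zpow_eq_iff] at hk
    obtain ⟨c, hc⟩ := hk
    exact ⟨k - 2 * (D.m : ℤ) * c, by linarith⟩
  · rintro ⟨k, rfl⟩
    exact ⟨k, by rw [← zpow_mul]⟩

theorem mul_y_notMem_even (j : ℤ) : D.x ^ j * D.y ∉ D.even := by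
  intro h
  obtain ⟨k, hk⟩ := Subgroup.mem_zpowers_iff.1 h
  rw [← zpow_mul] at hk
  exact D.zpow_ne_mul_y _ _ hk

theorem orderOf_x_sq : orderOf (D.x ^ (2 : ℤ)) = 2 * D.m := by
  rw [show D.x ^ (2 : ℤ) = D.x ^ (2 : ℕ) by norm_cast, orderOf_pow' _ (by norm_num), D.ordx,
    Nat.gcd_eq_right ⟨2 * D.m, by ring⟩]
  omega

theorem y_inverts_x_sq : D.y * D.x ^ (2 : ℤ) * D.y⁻¹ = (D.x ^ (2 : ℤ))⁻¹ := by
  rw [D.conj_y_zpow, ← zpow_neg, D.zpow_eq_iff]
  exact ⟨1, by ring⟩

theorem xy_inverts_x_sq :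
    D.x ^ (1 : ℤ) * D.y * D.x ^ (2 : ℤ) * (D.x ^ (1 : ℤ) * D.y)⁻¹ = (D.x ^ (2 : ℤ))⁻¹ := by
  calc D.x ^ (1 : ℤ) * D.y * D.x ^ (2 : ℤ) * (D.x ^ (1 : ℤ) * D.y)⁻¹
      = D.x ^ (1 : ℤ) * (D.y * D.x ^ (2 : ℤ) * D.y⁻¹) * (D.x ^ (1 : ℤ))⁻¹ := by group
    _ = _ := by rw [D.y_inverts_x_sq]; group

theorem nonempty_dih : Nonempty (DihedralGroup (2 * D.m) ≃* D.dih) := by
  have h := nonempty_dihedralEquiv (mul_self_of_orderOf_two D.ordy) D.y_inverts_x_sq
    (fun h => D.y_not_mem (Subgroup.zpowers_le.2 (Subgroup.zpow_mem _ (Subgroup.mem_zpowers _) 2) h))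
  rw [D.orderOf_x_sq] at h
  exact h

theorem nonempty_quat : Nonempty (QuaternionGroup D.m ≃* D.quat) := by
  refine nonempty_quaternionEquiv D.xy_inverts_x_sq D.m D.orderOf_x_sq ?_ ?_
  · rw [D.sq_mul_y_odd (by norm_num : ¬ (2 : ℤ) ∣ 1), ← zpow_natCast, ← zpow_mul]
  · intro h
    obtain ⟨k, hk⟩ := Subgroup.mem_zpowers_iff.1 h
    rw [← zpow_mul] at hk
    exact D.zpow_ne_mul_y _ _ hk

theorem card_dih : Nat.card D.dih = 4 * D.m := by
  obtain ⟨e⟩ := D.nonempty_dih
  rw [← Nat.card_congr e.toEquiv, DihedralGroup.nat_card]; ring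

theorem card_quat : Nat.card D.quat = 4 * D.m := by
  obtain ⟨e⟩ := D.nonempty_quat
  haveI : NeZero D.m := ⟨by have := D.m_pos; omega⟩
  rw [← Nat.card_congr e.toEquiv, Nat.card_eq_fintype_card, QuaternionGroup.card]

theorem index_eq_two {M : Subgroup S} (h : Nat.card M = 4 * D.m) : M.index = 2 := by
  have h1 := M.card_mul_index
  rw [h, D.card_eq] at h1
  have := D.m_pos
  exact Nat.eq_of_mul_eq_mul_left (show 0 < 4 * D.m by omega) (h1.trans (by ring))

theorem dih_index : D.dih.index = 2 := D.index_eq_two D.card_dih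

theorem quat_index : D.quat.index = 2 := D.index_eq_two D.card_quat

theorem even_le_zpowers : D.even ≤ Subgroup.zpowers D.x :=
  Subgroup.zpowers_le.2 (Subgroup.zpow_mem _ (Subgroup.mem_zpowers _) 2)

theorem even_le_dih : D.even ≤ D.dih := Subgroup.zpowers_le.2 (Subgroup.subset_closure (by simp))

theorem even_le_quat : D.even ≤ D.quat := Subgroup.zpowers_le.2 (Subgroup.subset_closure (by simp))

theorem mem_dih_iff (j : ℤ) :
    (D.x ^ j ∈ D.dih ↔ 2 ∣ j) ∧ (D.x ^ j * D.y ∈ D.dih ↔ 2 ∣ j) := by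
  have hy : D.y ∈ D.dih := Subgroup.subset_closure (by simp)
  have h1 : D.x ^ j ∈ D.dih ↔ 2 ∣ j := by
    refine ⟨fun h => ?_, fun h => D.even_le_dih ((D.mem_even_iff j).2 h)⟩
    by_contra hj
    obtain ⟨k, rfl⟩ : ∃ k, j = 2 * k + 1 := ⟨(j - 1) / 2, by omega⟩
    have hx : D.x ∈ D.dih := by
      have := mul_mem h (D.even_le_dih ((D.mem_even_iff (-(2 * k))).2 ⟨-k, by ring⟩))
      rwa [← zpow_add, show 2 * k + 1 + -(2 * k) = 1 by ring, zpow_one] at this
    have htop : D.dih = ⊤ := eq_top_iff.2 fun g _ => by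
      obtain ⟨i, rfl | rfl⟩ := D.repr_cases g
      · exact Subgroup.zpow_mem _ hx i
      · exact mul_mem (Subgroup.zpow_mem _ hx i) hy
    have := D.dih_index
    rw [htop, Subgroup.index_top] at this
    omega
  refine ⟨h1, ?_⟩
  rw [Subgroup.mul_mem_cancel_right _ hy, h1]

theorem mem_quat_iff (j : ℤ) :
    (D.x ^ j ∈ D.quat ↔ 2 ∣ j) ∧ (D.x ^ j * D.y ∈ D.quat ↔ ¬ 2 ∣ j) := by
  have hy : D.x ^ (1 : ℤ) * D.y ∈ D.quat := Subgroup.subset_closure (by simp)
  have h1 : ∀ j : ℤ, D.x ^ j ∈ D.quat ↔ 2 ∣ j := by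
    intro j
    refine ⟨fun h => ?_, fun h => D.even_le_quat ((D.mem_even_iff j).2 h)⟩
    by_contra hj
    obtain ⟨k, rfl⟩ : ∃ k, j = 2 * k + 1 := ⟨(j - 1) / 2, by omega⟩
    have hx : D.x ∈ D.quat := by
      have := mul_mem h (D.even_le_quat ((D.mem_even_iff (-(2 * k))).2 ⟨-k, by ring⟩))
      rwa [← zpow_add, show 2 * k + 1 + -(2 * k) = 1 by ring, zpow_one] at this
    have hy' : D.y ∈ D.quat := by
      have := mul_mem (inv_mem hx) hy
      rwa [zpow_one, inv_mul_cancel_left] at this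
    have htop : D.quat = ⊤ := eq_top_iff.2 fun g _ => by
      obtain ⟨i, rfl | rfl⟩ := D.repr_cases g
      · exact Subgroup.zpow_mem _ hx i
      · exact mul_mem (Subgroup.zpow_mem _ hx i) hy'
    have := D.quat_index
    rw [htop, Subgroup.index_top] at this
    omega
  refine ⟨h1 j, ?_⟩
  rw [show D.x ^ j * D.y = D.x ^ (j - 1) * (D.x ^ (1 : ℤ) * D.y) by group,
    Subgroup.mul_mem_cancel_right _ hy, h1]
  omega

include D in
theorem coatom_of_index_two {M : Subgroup S} (h : M.index = 2) : IsCoatom M := by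
  haveI := D.finite
  refine ⟨fun ht => by rw [ht, Subgroup.index_top] at h; omega, fun K hK => ?_⟩
  have hdvd := Subgroup.index_dvd_of_le hK.le
  rw [h] at hdvd
  rcases (Nat.dvd_prime Nat.prime_two).1 hdvd with h1 | h1
  · exact Subgroup.index_eq_one.1 h1
  · have := Subgroup.index_strictAnti hK
    omega

/-- Trichotomy: a subgroup containing an element outside `⟨x ^ 2⟩` and containing `⟨x ^ 2⟩`
contains a maximal one. -/
theorem le_cases {M : Subgroup S} (hM : D.even ≤ M) {g : S} (hg : g ∈ M) (hge : g ∉ D.even) :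
    Subgroup.zpowers D.x ≤ M ∨ D.dih ≤ M ∨ D.quat ≤ M := by
  obtain ⟨j, rfl | rfl⟩ := D.repr_cases g
  · rw [D.mem_even_iff] at hge
    left
    rw [Subgroup.zpowers_le]
    have := mul_mem hg (hM ((D.mem_even_iff (1 - j)).2 (by omega)))
    rwa [← zpow_add, show j + (1 - j) = 1 by ring, zpow_one] at this
  · right
    by_cases hj : 2 ∣ j
    · left
      rw [dih, Subgroup.closure_le, Set.pair_subset_iff]
      refine ⟨?_, hM (Subgroup.mem_zpowers _)⟩
      have := mul_mem (hM ((D.mem_even_iff (-j)).2 (by omega))) hg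
      rwa [← mul_assoc, ← zpow_add, neg_add_cancel, zpow_zero, one_mul] at this
    · right
      rw [quat, Subgroup.closure_le, Set.pair_subset_iff]
      refine ⟨?_, hM (Subgroup.mem_zpowers _)⟩
      have := mul_mem (hM ((D.mem_even_iff (1 - j)).2 (by omega))) hg
      rwa [← mul_assoc, ← zpow_add, show 1 - j + j = 1 by ring] at this

theorem coatom_even_le {M : Subgroup S} (hM : IsCoatom M) : D.even ≤ M := by
  haveI := D.finite
  haveI : Fact (Nat.Prime 2) := ⟨Nat.prime_two⟩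
  have hp : IsPGroup 2 S := by
    refine IsPGroup.of_card (n := D.n + 1) ?_
    have h := D.three_le
    rw [D.card_eq, D.m_eq, show D.n + 1 = D.n - 2 + 3 by omega, pow_add]
    ring
  have hn : Group.IsNilpotent S := hp.isNilpotent
  haveI hMn : M.Normal :=
    Subgroup.NormalizerCondition.normal_of_coatom M (Group.normalizerCondition_of_isNilpotent) hM
  -- a maximal subgroup of a 2-group has index 2
  obtain ⟨k, hk⟩ := (hp.index M)
  have hi : M.index = 2 := by
    have hq : IsPGroup 2 (S ⧸ M) := hp.to_quotient M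
    have hnt : Nontrivial (S ⧸ M) := by
      rw [← Finite.one_lt_card_iff_nontrivial, ← Subgroup.index_eq_card]
      have : M.index ≠ 1 := fun h => hM.1 (Subgroup.index_eq_one.1 h)
      have := M.index_ne_zero_of_finite
      omega
    obtain ⟨K, hK⟩ : ∃ K : Subgroup (S ⧸ M), K.index = 2 := by
      have hd : 2 ∣ Nat.card (S ⧸ M) := hq.card_eq_or_dvd.resolve_left
        (by rw [← Finite.one_lt_card_iff_nontrivial] at hnt; omega)
      obtain ⟨a, ha⟩ := IsPGroup.iff_card.1 hq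
      rcases a with _ | a
      · rw [pow_zero] at ha; omega
      obtain ⟨K, hK⟩ := Sylow.exists_subgroup_card_pow_prime 2 (n := a)
        (show 2 ^ a ∣ Nat.card (S ⧸ M) by rw [ha]; exact pow_dvd_pow 2 (Nat.le_succ a))
      refine ⟨K, ?_⟩
      have := K.card_mul_index
      rw [hK, ha, pow_succ] at this
      exact Nat.eq_of_mul_eq_mul_left (by positivity) this
    have hle : M ≤ K.comap (QuotientGroup.mk' M) := by
      intro v hv
      rw [Subgroup.mem_comap, QuotientGroup.mk'_apply, (QuotientGroup.eq_one_iff v).2 hv]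
      exact one_mem _
    have hKi : (K.comap (QuotientGroup.mk' M)).index = 2 := by
      rw [Subgroup.index_comap_of_surjective _ (QuotientGroup.mk'_surjective M), hK]
    rcases hle.eq_or_lt with h | h
    · rwa [← h] at hKi
    · rw [hM.2 _ h, Subgroup.index_top] at hKi; omega
  rw [even, Subgroup.zpowers_le, zpow_two]
  exact Subgroup.mul_self_mem_of_index_two hi D.x

end QDData

end Cfsg.Agent.Invol
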