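import Cfsg.Agent.Lib.Invol.QDFusionQ8
import Cfsg.Agent.Lib.Invol.QDMax
import Cfsg.Agent.Lib.Invol.IndexTwo
import Cfsg.Agent.Lib.Invol.ThompsonX
import Cfsg.Agent.Lib.Transfer.Residual

/-!
# The four fusion cases for quasi-dihedral Sylow 2-subgroups
-/

set_option linter.unusedSectionVars false
set_option linter.style.haveILetI false

namespace Cfsg.Agent.Invol

open Cfsg

variable {G : Type*} [Group G] [Finite G]

theorem index_ne_two_of_sylow_le (H : Subgroup G) (P : Sylow 2 G) (h : (P : Subgroup G) ≤ H) :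
    H.index ≠ 2 := fun h2 => by
  haveI : Fact (Nat.Prime 2) := ⟨Nat.prime_two⟩
  have h3 := Subgroup.index_dvd_of_le h
  rw [h2] at h3
  exact P.not_dvd_index h3

theorem sylow_le_of_index_odd {S : Sylow 2 G} {K : Subgroup G} [K.Normal] (hK : ¬ 2 ∣ K.index) :
    (S : Subgroup G) ≤ K := by
  intro s hs
  haveI : Fact (Nat.Prime 2) := ⟨Nat.prime_two⟩
  obtain ⟨k, hk⟩ := (IsPGroup.iff_orderOf.1 S.2) (⟨s, hs⟩ : (S : Subgroup G))
  rw [Subgroup.orderOf_mk] at hk
  have h1 : orderOf (QuotientGroup.mk' K s) ∣ 2 ^ k := hk ▸ orderOf_map_dvd _ _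
  have h2 : orderOf (QuotientGroup.mk' K s) ∣ K.index := by
    rw [Subgroup.index_eq_card]; exact orderOf_dvd_natCard _
  have h3 := Nat.eq_one_of_dvd_coprimes
    (Nat.Coprime.pow_left k (Nat.prime_two.coprime_iff_not_dvd.2 hK)) h1 h2
  exact (QuotientGroup.eq_one_iff s).1 (orderOf_eq_one_iff.1 h3)

theorem isConj_mem_normal {K : Subgroup G} [K.Normal] {p q : G} (h : IsConj p q) (hp : p ∈ K) :
    q ∈ K := by
  obtain ⟨c, rfl⟩ := isConj_iff.1 h
  exact Subgroup.Normal.conj_mem inferInstance p hp c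

/-- Three elements `p, q, p q` fused inside `K` lie in every subgroup of index two of `K`. -/
theorem mem_index_two_of_fused {K : Subgroup G} {H : Subgroup K} (hH : H.index = 2) {p q : G}
    (hp : p ∈ K) (hq : q ∈ K)
    (h1 : ∃ k : K, (k : G) * p * (k : G)⁻¹ = q ∨ (k : G) * p * (k : G)⁻¹ = q⁻¹)
    (h2 : ∃ k : K, (k : G) * p * (k : G)⁻¹ = p * q ∨ (k : G) * p * (k : G)⁻¹ = (p * q)⁻¹) :
    (⟨p, hp⟩ : K) ∈ H ∧ (⟨q, hq⟩ : K) ∈ H := by
  haveI := Subgroup.normal_of_index_eq_two hH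
  have hconj : ∀ {u v : K}, (∃ k : K, k * u * k⁻¹ = v ∨ k * u * k⁻¹ = v⁻¹) → (u ∈ H ↔ v ∈ H) := by
    intro u v ⟨k, hk⟩
    constructor
    · intro hu
      have := Subgroup.Normal.conj_mem inferInstance u hu k
      rcases hk with h | h <;> rw [h] at this
      · exact this
      · exact (inv_mem_iff).1 this
    · intro hv
      have hv' : k * u * k⁻¹ ∈ H := by
        rcases hk with h | h <;> rw [h]
        · exact hv
        · exact inv_mem hv
      have := Subgroup.Normal.conj_mem inferInstance _ hv' k⁻¹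
      rwa [show k⁻¹ * (k * u * k⁻¹) * k⁻¹⁻¹ = u by group] at this
  have e1 : (⟨p, hp⟩ : K) ∈ H ↔ (⟨q, hq⟩ : K) ∈ H := hconj (by
    obtain ⟨k, hk⟩ := h1
    exact ⟨k, hk.imp (fun h => Subtype.ext h) (fun h => Subtype.ext h)⟩)
  have e2 : (⟨p, hp⟩ : K) ∈ H ↔ (⟨p, hp⟩ : K) * ⟨q, hq⟩ ∈ H := hconj (by
    obtain ⟨k, hk⟩ := h2
    exact ⟨k, hk.imp (fun h => Subtype.ext h) (fun h => Subtype.ext h)⟩)
  rw [Subgroup.mul_mem_iff_of_index_two hH] at e2
  exact ⟨e2.2 e1, e1.1 (e2.2 e1)⟩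

variable {S : Sylow 2 G}

namespace QDData

variable (D : QDData (S : Subgroup G))

/-- The image in `G` of a subgroup of `S`. -/
abbrev up (_D : QDData (S : Subgroup G)) (M : Subgroup (S : Subgroup G)) : Subgroup G :=
  M.map (S : Subgroup G).subtype

theorem up_relIndex {M : Subgroup (S : Subgroup G)} (h : M.index = 2) :
    (D.up M).relIndex (S : Subgroup G) = 2 := by
  conv_lhs => arg 2; rw [← Subgroup.range_subtype (S : Subgroup G), MonoidHom.range_eq_map]
  rw [Subgroup.relIndex_map_map_of_injective _ _ (S : Subgroup G).subtype_injective,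
    Subgroup.relIndex_top_right, h]

theorem mem_up {M : Subgroup (S : Subgroup G)} {g : (S : Subgroup G)} :
    (g : G) ∈ D.up M ↔ g ∈ M :=
  ⟨fun ⟨_, hg', e⟩ => (Subtype.ext e : _ = g) ▸ hg', fun hg => ⟨g, hg, rfl⟩⟩

theorem exists_ne_gz_class (hfus : ¬ IsConj D.gz (D.gq 0)) :
    ∃ K : Subgroup G, K.Normal ∧ K.index = 2 ∧ D.gq 0 ∉ K := by
  haveI : Fact (Nat.Prime 2) := ⟨Nat.prime_two⟩
  refine exists_index_two_notMem S (D.up D.quat) (Subgroup.map_subtype_le _)
    (D.up_relIndex D.quat_index) 1 (fun t ht htM => by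
      have : orderOf t ≠ 1 := fun h => htM (by rw [orderOf_eq_one_iff.1 h]; exact one_mem _)
      have := orderOf_pos t
      omega)
    (D.gq 0) (by rw [D.orderOf_gq_even (dvd_zero 2), pow_one]) fun g hg => ?_
  obtain ⟨w, hw, hwe⟩ := hg
  have hord : orderOf w = 2 := by
    rw [← Subgroup.orderOf_coe, show (w : G) = g⁻¹ * D.gq 0 * g⁻¹⁻¹ by rw [inv_inv]; exact hwe,
      orderOf_conj, D.orderOf_gq_even (dvd_zero 2)]
  have hc : IsConj (D.gq 0) (w : G) := isConj_iff.2 ⟨g⁻¹, by rw [inv_inv]; exact hwe.symm⟩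
  rcases D.involution_cases w.2 (by rw [Subgroup.orderOf_coe, hord]) with h | ⟨i, hi, h⟩
  · exact hfus (h ▸ hc).symm
  · have he : w = D.x ^ i * D.y := Subtype.ext h
    exact (D.mem_quat_iff i).2.1 (he ▸ hw) hi

theorem exists_ne_ga_class (hfus : ¬ IsConj D.ga (D.gq 1)) :
    ∃ K : Subgroup G, K.Normal ∧ K.index = 2 ∧ D.gq 1 ∉ K := by
  haveI : Fact (Nat.Prime 2) := ⟨Nat.prime_two⟩
  have h1 : ¬ (2 : ℤ) ∣ 1 := by norm_num
  refine exists_index_two_notMem S (D.up D.dih) (Subgroup.map_subtype_le _)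
    (D.up_relIndex D.dih_index) 2 (fun t ht htM => by
      obtain ⟨j, hj | hj⟩ := D.repr_cases ⟨t, ht⟩
      · by_contra hlt
        push_neg at hlt
        have hodd : ¬ 2 ∣ j := fun h2 => htM
          ((show (⟨t, ht⟩ : (S : Subgroup G)) ∈ D.dih from hj ▸ (D.mem_dih_iff j).1.2 h2) |>
            fun h => ⟨_, h, rfl⟩)
        have h2 : (⟨t, ht⟩ : (S : Subgroup G)) * ⟨t, ht⟩ = 1 := by
          have hle : orderOf t ≤ 2 := by omega
          have hdvd : orderOf t ∣ 2 := by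
            have := orderOf_pos t
            interval_cases orderOf t <;> norm_num
          exact Subtype.ext (by rw [Subgroup.coe_mul, ← sq]; exact orderOf_dvd_iff_pow_eq_one.1 hdvd)
        rw [hj, ← zpow_add, D.zpow_eq_one_iff] at h2
        obtain ⟨c, hc⟩ := h2
        obtain ⟨m', hm'⟩ := D.m_even
        exact hodd ⟨c * m' * 2, by rw [hm'] at hc; linarith⟩
      · have hodd : ¬ 2 ∣ j := fun h2 => htM
          ((show (⟨t, ht⟩ : (S : Subgroup G)) ∈ D.dih from hj ▸ (D.mem_dih_iff j).2.2 h2) |>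
            fun h => ⟨_, h, rfl⟩)
        rw [show t = D.gq j from congrArg Subtype.val hj, D.orderOf_gq_odd hodd]
        norm_num)
    (D.gq 1) (by rw [D.orderOf_gq_odd h1]; norm_num) fun g hg => ?_
  obtain ⟨w, hw, hwe⟩ := hg
  have hord : orderOf (w : G) = 4 := by
    rw [show (w : G) = g⁻¹ * D.gq 1 * g⁻¹⁻¹ by rw [inv_inv]; exact hwe, orderOf_conj,
      D.orderOf_gq_odd h1]
  have hc : IsConj (D.gq 1) (w : G) := isConj_iff.2 ⟨g⁻¹, by rw [inv_inv]; exact hwe.symm⟩
  rcases D.order_four_cases w.2 hord with h | h | ⟨i, hi, h⟩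
  · exact hfus (h ▸ hc).symm
  · exact hfus ((h ▸ hc).trans D.ga_isConj_inv.symm).symm
  · have he : w = D.x ^ i * D.y := Subtype.ext h
    exact hi ((D.mem_dih_iff i).2.1 (he ▸ hw))

theorem mem_of_index_two {K : Subgroup G} (hK : K.index = 2) :
    D.gz ∈ K ∧ D.ga ∈ K ∧ ∀ j : ℤ, 2 ∣ j → ((D.x ^ j : (S : Subgroup G)) : G) ∈ K := by
  have hev : ∀ j : ℤ, 2 ∣ j → ((D.x ^ j : (S : Subgroup G)) : G) ∈ K := by
    rintro j ⟨k, rfl⟩
    rw [two_mul, zpow_add, Subgroup.coe_mul]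
    exact (Subgroup.mul_mem_iff_of_index_two hK).2 Iff.rfl
  exact ⟨hev _ ⟨(D.m : ℤ), rfl⟩, hev _ D.m_even, hev⟩

theorem not_le_of_index_two {K : Subgroup G} [K.Normal] (hK : K.index = 2)
    (h0 : D.gq 0 ∈ K) (h1 : D.gq 1 ∈ K) : False := by
  refine index_ne_two_of_sylow_le K S ?_ hK
  intro s hs
  have hx : ((D.x : (S : Subgroup G)) : G) ∈ K := by
    have := mul_mem h1 h0
    rw [gq, gq, ← Subgroup.coe_mul, zpow_zero, one_mul, mul_assoc,
      mul_self_of_orderOf_two D.ordy, mul_one, zpow_one] at this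
    exact this
  obtain ⟨j, hj | hj⟩ := D.repr_cases ⟨s, hs⟩
  · rw [show s = ((D.x ^ j : (S : Subgroup G)) : G) from congrArg Subtype.val hj,
      SubgroupClass.coe_zpow]
    exact K.zpow_mem hx j
  · rw [show s = ((D.x ^ j * D.y : (S : Subgroup G)) : G) from congrArg Subtype.val hj,
      Subgroup.coe_mul, SubgroupClass.coe_zpow]
    have hy : (D.y : G) ∈ K := by simpa [gq] using h0
    exact K.mul_mem (K.zpow_mem hx j) hy

/-- `⟨q i, a⟩` is quaternion of order 8 for odd `i`. -/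
theorem nonempty_q8 {i : ℤ} (hi : ¬ 2 ∣ i) :
    Nonempty (Subgroup.closure ({D.gq i, D.ga} : Set G) ≃* QuaternionGroup 2) := by
  obtain ⟨e⟩ := nonempty_quaternionEquiv (D.gq_conj_ga i) 2 D.orderOf_ga
    (by rw [D.gq_sq hi, sq, D.ga_sq]) (fun h => by
      obtain ⟨k, hk⟩ := Subgroup.mem_zpowers_iff.1 h
      exact D.gq_ne_ga_zpow i k hk.symm)
  exact ⟨e.symm⟩

/-- `⟨q i, z⟩` is a four-group for even `i`. -/
theorem isKleinFour_four {i : ℤ} (hi : 2 ∣ i) :
    IsKleinFour (Subgroup.closure ({D.gq i, D.gz} : Set G)) := by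
  obtain ⟨e⟩ := nonempty_dihedralEquiv (t := D.gq i) (d := D.gz)
    (mul_self_of_orderOf_two (D.orderOf_gq_even hi)) (by
      rw [← (D.gz_commute (D.gq_mem i)).eq, mul_inv_cancel_right,
        inv_of_orderOf_two D.orderOf_gz]) (fun h => by
      obtain ⟨k, hk⟩ := Subgroup.mem_zpowers_iff.1 h
      refine D.gq_ne_ga_zpow i (2 * k) ?_
      rw [zpow_mul, zpow_two, D.ga_sq, hk])
  rw [D.orderOf_gz] at e
  exact ⟨by rw [← Nat.card_congr e.toEquiv, IsKleinFour.card_four],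
    by rw [← Monoid.exponent_eq_of_mulEquiv e, IsKleinFour.exponent_two]⟩

theorem closure_pair_le {p q : G} (hp : p ∈ S) (hq : q ∈ S) :
    Subgroup.closure ({p, q} : Set G) ≤ S := by
  rw [Subgroup.closure_le]; rintro r (rfl | rfl) <;> assumption

variable (T : Subgroup G) [IsKleinFour T] (hTS : T ≤ S) (Q : Subgroup G) (hQS : Q ≤ S)
  (eQ : Q ≃* QuaternionGroup 2)

include hTS in
theorem four_six_iff :
    (Subgroup.centralizer (T : Set G)).relIndex (Subgroup.normalizer (T : Set G)) = 6 ↔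
      IsConj D.gz (D.gq 0) := (D.four_automiser T hTS).2.1

include hTS in
theorem four_two_iff :
    (Subgroup.centralizer (T : Set G)).relIndex (Subgroup.normalizer (T : Set G)) = 2 ↔
      ¬ IsConj D.gz (D.gq 0) := by
  rw [← D.four_six_iff T hTS]
  have := (D.four_automiser T hTS).1
  omega

include hQS eQ in
theorem q8_six_iff :
    (Q ⊔ Subgroup.centralizer (Q : Set G)).relIndex (Subgroup.normalizer (Q : Set G)) = 6 ↔
      IsConj D.ga (D.gq 1) := (D.q8_automiser Q hQS eQ).2.1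

include hQS eQ in
theorem q8_two_iff :
    (Q ⊔ Subgroup.centralizer (Q : Set G)).relIndex (Subgroup.normalizer (Q : Set G)) = 2 ↔
      ¬ IsConj D.ga (D.gq 1) := by
  rw [← D.q8_six_iff Q hQS eQ]
  have := (D.q8_automiser Q hQS eQ).1
  omega

theorem classes_two_one (h : IsConj D.gz (D.gq 0)) :
    Nat.card {C : ConjClasses G // ∃ t : G, orderOf t = 2 ∧ ConjClasses.mk t = C} = 1 :=
  card_classes_eq_one D.orderOf_gz fun _ ht =>
    (D.involution_class ht).elim id (fun h' => h'.trans h.symm)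

theorem classes_two_two (h : ¬ IsConj D.gz (D.gq 0)) :
    Nat.card {C : ConjClasses G // ∃ t : G, orderOf t = 2 ∧ ConjClasses.mk t = C} = 2 :=
  card_classes_eq_two D.orderOf_gz (D.orderOf_gq_even (dvd_zero 2)) h
    fun _ ht => D.involution_class ht

theorem classes_four_one (h : IsConj D.ga (D.gq 1)) :
    Nat.card {C : ConjClasses G // ∃ t : G, orderOf t = 4 ∧ ConjClasses.mk t = C} = 1 :=
  card_classes_eq_one D.orderOf_ga fun _ ht =>
    (D.order_four_class ht).elim id (fun h' => h'.trans h.symm)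

theorem classes_four_two (h : ¬ IsConj D.ga (D.gq 1)) :
    Nat.card {C : ConjClasses G // ∃ t : G, orderOf t = 4 ∧ ConjClasses.mk t = C} = 2 :=
  card_classes_eq_two D.orderOf_ga (D.orderOf_gq_odd (by norm_num)) h
    fun _ ht => D.order_four_class ht

theorem no_index_two (h1 : IsConj D.gz (D.gq 0)) (h2 : IsConj D.ga (D.gq 1)) :
    ∀ H : Subgroup G, H.index ≠ 2 := by
  intro H hH
  haveI := Subgroup.normal_of_index_eq_two hH
  obtain ⟨hz, ha, -⟩ := D.mem_of_index_two hH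
  exact D.not_le_of_index_two hH (isConj_mem_normal h1 hz) (isConj_mem_normal h2 ha)

theorem weaklyClosed_center (h1 : ¬ IsConj D.gz (D.gq 0)) :
    IsWeaklyClosed ((Subgroup.center (S : Subgroup G)).map (S : Subgroup G).subtype)
      (S : Subgroup G) := by
  refine ⟨Subgroup.map_subtype_le _, fun g hg => ?_⟩
  rw [D.center_eq, MonoidHom.map_zpowers, MonoidHom.map_zpowers] at hg ⊢
  have hmem : g * D.gz * g⁻¹ ∈ S := hg (Subgroup.mem_zpowers _)
  rcases D.involution_cases hmem (by rw [orderOf_conj, D.orderOf_gz]) with h | ⟨i, hi, h⟩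
  · exact congrArg Subgroup.zpowers h
  · exact absurd ((isConj_iff.2 ⟨g, h⟩).trans (D.isConj_gq (by simpa using hi))) h1

theorem case_quat (h1 : ¬ IsConj D.gz (D.gq 0)) (h2 : IsConj D.ga (D.gq 1)) :
    ∃ K : Subgroup G, K.Normal ∧ K.index = 2 ∧
      (∀ P : Sylow 2 ↥K, ∃ m : ℕ, 1 ≤ m ∧
        Nonempty ((P : Subgroup ↥K) ≃* QuaternionGroup (2 ^ m))) ∧
      ∀ H : Subgroup ↥K, H.index ≠ 2 := by
  haveI : Fact (Nat.Prime 2) := ⟨Nat.prime_two⟩
  obtain ⟨K, hKn, hK, -⟩ := D.exists_ne_gz_class h1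
  haveI := hKn
  obtain ⟨hz, ha, hev⟩ := D.mem_of_index_two hK
  have hq : ∀ i : ℤ, ¬ 2 ∣ i → D.gq i ∈ K := fun i hi =>
    isConj_mem_normal (h2.trans (D.isConj_gq (by omega))) ha
  have hmem : ∀ s : (S : Subgroup G), (s : G) ∈ K ↔ s ∈ D.quat := by
    intro s
    obtain ⟨j, rfl | rfl⟩ := D.repr_cases s
    · rw [(D.mem_quat_iff j).1]
      refine ⟨fun h => ?_, hev j⟩
      by_contra hj
      refine D.not_le_of_index_two hK ?_ (hq 1 (by norm_num))
      have hy : D.gq 0 = ((D.x ^ j : (S : Subgroup G)) : G)⁻¹ * D.gq j := by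
        rw [gq, gq, ← Subgroup.coe_inv, ← Subgroup.coe_mul]; congr 1; group
      rw [hy]
      exact K.mul_mem (K.inv_mem h) (hq j hj)
    · rw [(D.mem_quat_iff j).2]
      refine ⟨fun h hj => ?_, hq j⟩
      exact D.not_le_of_index_two hK
        (isConj_mem_normal (D.isConj_gq (by simpa using hj)) h) (hq 1 (by norm_num))
  obtain ⟨P₀, hP₀⟩ := Transfer.exists_sylow_eq_subgroupOf S K
  refine ⟨K, hKn, hK, fun P => ?_, fun H hH => ?_⟩
  · refine ⟨D.n - 2, by have := D.three_le; omega, ?_⟩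
    rw [← D.m_eq]
    obtain ⟨e⟩ := D.nonempty_quat
    have e1 : ((K.subgroupOf (S : Subgroup G))) = D.quat := Subgroup.ext fun s => hmem s
    let e2 : (S : Subgroup G).subgroupOf K ≃* K.subgroupOf (S : Subgroup G) :=
      { toFun := fun v => ⟨⟨v.1.1, v.2⟩, v.1.2⟩
        invFun := fun v => ⟨⟨v.1.1, v.2⟩, v.1.2⟩
        left_inv := fun _ => rfl
        right_inv := fun _ => rfl
        map_mul' := fun _ _ => rfl }
    exact ⟨((((Sylow.equiv P P₀).trans (MulEquiv.subgroupCongr hP₀)).trans e2).trans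
      (MulEquiv.subgroupCongr e1)).trans e.symm⟩
  · refine index_ne_two_of_sylow_le H P₀ ?_ hH
    haveI := Subgroup.normal_of_index_eq_two hH
    have hqH : ∀ i : ℤ, (hi : ¬ 2 ∣ i) → (⟨D.gq i, hq i hi⟩ : K) ∈ H := by
      intro i hi
      obtain ⟨e⟩ := D.nonempty_q8 hi
      have hRS := closure_pair_le (S := S) (D.gq_mem i) D.ga_mem
      set R := Subgroup.closure ({D.gq i, D.ga} : Set G)
      have haR : D.ga ∈ R := Subgroup.subset_closure (by simp)
      have hqR : D.gq i ∈ R := Subgroup.subset_closure (by simp)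
      obtain ⟨-, hiff, hsq⟩ := D.q8_automiser R hRS e
      have key : ∀ q ∈ R, orderOf q = 4 → ∃ k : K,
          (k : G) * D.ga * (k : G)⁻¹ = q ∨ (k : G) * D.ga * (k : G)⁻¹ = q⁻¹ := by
        intro q hqR' hq4
        obtain ⟨n, -, hn⟩ := hsq (hiff.2 h2) _ haR q hqR' D.orderOf_ga hq4
        exact ⟨⟨n ^ 2, Subgroup.sq_mem_of_index_two hK n⟩, hn⟩
      exact (mem_index_two_of_fused hH ha (hq i hi) (key _ hqR (D.orderOf_gq_odd hi))
        (key _ (mul_mem haR hqR) (by rw [D.ga_mul_gq, D.orderOf_gq_odd (D.odd_m_add hi)]))).2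
    intro v hv
    rw [hP₀] at hv
    have hvq : (⟨(v : G), hv⟩ : (S : Subgroup G)) ∈ D.quat := (hmem _).1 v.2
    obtain ⟨j, hj | hj⟩ := D.repr_cases (⟨(v : G), hv⟩ : (S : Subgroup G)) <;> rw [hj] at hvq
    · have hev' := (D.mem_quat_iff j).1.1 hvq
      have e : v = ⟨D.gq (j + 1), hq _ (by omega)⟩ * (⟨D.gq 1, hq 1 (by norm_num)⟩ : K)⁻¹ := by
        refine Subtype.ext ?_
        rw [show (v : G) = ((D.x ^ j : (S : Subgroup G)) : G) from congrArg Subtype.val hj]
        simp only [Subgroup.coe_mul, Subgroup.coe_inv, gq]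
        rw [SubgroupClass.coe_zpow, SubgroupClass.coe_zpow, SubgroupClass.coe_zpow]
        group
      rw [e]
      exact H.mul_mem (hqH (j + 1) (by omega)) (H.inv_mem (hqH 1 (by norm_num)))
    · have e : v = ⟨D.gq j, hq j ((D.mem_quat_iff j).2.1 hvq)⟩ :=
        Subtype.ext (show (v : G) = D.gq j from congrArg (fun u : (S : Subgroup G) => (u : G)) hj)
      rw [e]
      exact hqH j ((D.mem_quat_iff j).2.1 hvq)

theorem case_dih (h1 : IsConj D.gz (D.gq 0)) (h2 : ¬ IsConj D.ga (D.gq 1)) :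
    ∃ K : Subgroup G, K.Normal ∧ K.index = 2 ∧
      (∀ P : Sylow 2 ↥K, ∃ m : ℕ, Nonempty ((P : Subgroup ↥K) ≃* DihedralGroup m)) ∧
      ∀ H : Subgroup ↥K, H.index ≠ 2 := by
  haveI : Fact (Nat.Prime 2) := ⟨Nat.prime_two⟩
  obtain ⟨K, hKn, hK, -⟩ := D.exists_ne_ga_class h2
  haveI := hKn
  obtain ⟨hz, ha, hev⟩ := D.mem_of_index_two hK
  have hq : ∀ i : ℤ, 2 ∣ i → D.gq i ∈ K := fun i hi =>
    isConj_mem_normal (h1.trans (D.isConj_gq (by omega))) hz
  have hmem : ∀ s : (S : Subgroup G), (s : G) ∈ K ↔ s ∈ D.dih := by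
    intro s
    obtain ⟨j, rfl | rfl⟩ := D.repr_cases s
    · rw [(D.mem_dih_iff j).1]
      refine ⟨fun h => ?_, hev j⟩
      by_contra hj
      refine D.not_le_of_index_two hK (hq 0 (dvd_zero 2)) ?_
      have hy : D.gq 1 = ((D.x ^ (1 - j) : (S : Subgroup G)) : G) *
          (((D.x ^ j : (S : Subgroup G)) : G) * D.gq 0) := by
        rw [gq, gq, ← Subgroup.coe_mul, ← Subgroup.coe_mul]; congr 1; group
      rw [hy]
      exact K.mul_mem (hev _ (by omega)) (K.mul_mem h (hq 0 (dvd_zero 2)))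
    · rw [(D.mem_dih_iff j).2]
      refine ⟨fun h => ?_, hq j⟩
      by_contra hj
      exact D.not_le_of_index_two hK (hq 0 (dvd_zero 2))
        (isConj_mem_normal (D.isConj_gq (i := j) (j := 1) (by omega)) h)
  obtain ⟨P₀, hP₀⟩ := Transfer.exists_sylow_eq_subgroupOf S K
  refine ⟨K, hKn, hK, fun P => ?_, fun H hH => ?_⟩
  · refine ⟨2 * D.m, ?_⟩
    obtain ⟨e⟩ := D.nonempty_dih
    have e1 : ((K.subgroupOf (S : Subgroup G))) = D.dih := Subgroup.ext fun s => hmem s
    let e2 : (S : Subgroup G).subgroupOf K ≃* K.subgroupOf (S : Subgroup G) :=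
      { toFun := fun v => ⟨⟨v.1.1, v.2⟩, v.1.2⟩
        invFun := fun v => ⟨⟨v.1.1, v.2⟩, v.1.2⟩
        left_inv := fun _ => rfl
        right_inv := fun _ => rfl
        map_mul' := fun _ _ => rfl }
    exact ⟨((((Sylow.equiv P P₀).trans (MulEquiv.subgroupCongr hP₀)).trans e2).trans
      (MulEquiv.subgroupCongr e1)).trans e.symm⟩
  · refine index_ne_two_of_sylow_le H P₀ ?_ hH
    haveI := Subgroup.normal_of_index_eq_two hH
    have hqH : ∀ i : ℤ, (hi : 2 ∣ i) → (⟨D.gq i, hq i hi⟩ : K) ∈ H := by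
      intro i hi
      haveI := D.isKleinFour_four hi
      have hRS := closure_pair_le (S := S) (D.gq_mem i) D.gz_mem
      set R := Subgroup.closure ({D.gq i, D.gz} : Set G)
      have hzR : D.gz ∈ R := Subgroup.subset_closure (by simp)
      have hqR : D.gq i ∈ R := Subgroup.subset_closure (by simp)
      obtain ⟨-, hiff, hsq⟩ := D.four_automiser R hRS
      have key : ∀ q ∈ R, q ≠ 1 → ∃ k : K,
          (k : G) * D.gz * (k : G)⁻¹ = q ∨ (k : G) * D.gz * (k : G)⁻¹ = q⁻¹ := by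
        intro q hqR' hq1
        obtain ⟨n, -, hn⟩ :=
          hsq (hiff.2 h1) _ hzR q hqR' (ne_one_of_orderOf_two D.orderOf_gz) hq1
        exact ⟨⟨n ^ 2, Subgroup.sq_mem_of_index_two hK n⟩, Or.inl hn⟩
      exact (mem_index_two_of_fused hH hz (hq i hi)
        (key _ hqR (ne_one_of_orderOf_two (D.orderOf_gq_even hi)))
        (key _ (mul_mem hzR hqR) (fun h => D.gz_ne_gq (i := i) (by
          rw [← inv_eq_of_mul_eq_one_right h, inv_of_orderOf_two D.orderOf_gz])))).2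
    intro v hv
    rw [hP₀] at hv
    have hvq : (⟨(v : G), hv⟩ : (S : Subgroup G)) ∈ D.dih := (hmem _).1 v.2
    obtain ⟨j, hj | hj⟩ := D.repr_cases (⟨(v : G), hv⟩ : (S : Subgroup G)) <;> rw [hj] at hvq
    · have hev' := (D.mem_dih_iff j).1.1 hvq
      have e : v = ⟨D.gq j, hq _ hev'⟩ * (⟨D.gq 0, hq 0 (dvd_zero 2)⟩ : K)⁻¹ := by
        refine Subtype.ext ?_
        rw [show (v : G) = ((D.x ^ j : (S : Subgroup G)) : G) from congrArg Subtype.val hj]
        simp only [Subgroup.coe_mul, Subgroup.coe_inv, gq]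
        rw [SubgroupClass.coe_zpow, SubgroupClass.coe_zpow]
        group
      rw [e]
      exact H.mul_mem (hqH j hev') (H.inv_mem (hqH 0 (dvd_zero 2)))
    · have e : v = ⟨D.gq j, hq j ((D.mem_dih_iff j).2.1 hvq)⟩ :=
        Subtype.ext (show (v : G) = D.gq j from congrArg (fun u : (S : Subgroup G) => (u : G)) hj)
      rw [e]
      exact hqH j ((D.mem_dih_iff j).2.1 hvq)

theorem case_complement (h1 : ¬ IsConj D.gz (D.gq 0)) (h2 : ¬ IsConj D.ga (D.gq 1)) :
    HasNormalPComplement 2 G := by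
  haveI : Fact (Nat.Prime 2) := ⟨Nat.prime_two⟩
  rw [Transfer.hasNormalPComplement_iff_inf_eq_bot S]
  set K := pResidual 2 G
  have hout : ∀ {A : Subgroup G}, A.Normal → A.index = 2 → K ≤ A := fun {A} hA h =>
    haveI := hA
    Transfer.pResidual_le_of_index_eq_pow A (k := 1) (by rw [h, pow_one])
  -- no element of `S` outside `⟨x⟩` lies in `K`
  have hno : ∀ i : ℤ, D.gq i ∉ K := by
    intro i hi
    by_cases hev : 2 ∣ i
    · obtain ⟨A, hAn, hA, hA0⟩ := D.exists_ne_gz_class h1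
      haveI := hAn
      exact hA0 (isConj_mem_normal (D.isConj_gq (by simpa using hev)) (hout hAn hA hi))
    · obtain ⟨B, hBn, hB, hB1⟩ := D.exists_ne_ga_class h2
      haveI := hBn
      exact hB1 (isConj_mem_normal (D.isConj_gq (by omega)) (hout hBn hB hi))
  obtain ⟨P₀, hP₀⟩ := Transfer.exists_sylow_eq_subgroupOf S K
  have hcyc : IsCyclic (P₀ : Subgroup K) := by
    let f : (P₀ : Subgroup K) →* Subgroup.zpowers D.x :=
      { toFun := fun v => ⟨⟨v.1.1, (hP₀ ▸ v.2 : v.1 ∈ (S : Subgroup G).subgroupOf K)⟩, by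
          obtain ⟨j, hj | hj⟩ := D.repr_cases
            (⟨v.1.1, (hP₀ ▸ v.2 : v.1 ∈ (S : Subgroup G).subgroupOf K)⟩ : (S : Subgroup G))
          · rw [hj]; exact Subgroup.zpow_mem _ (Subgroup.mem_zpowers _) j
          · exfalso
            have hjv : v.1.1 = D.gq j := congrArg Subtype.val hj
            exact hno j (hjv ▸ v.1.2)⟩
        map_one' := rfl
        map_mul' := fun _ _ => rfl }
    exact isCyclic_of_injective f fun v w h =>
      Subtype.ext (Subtype.ext (congrArg (fun u : Subgroup.zpowers D.x => ((u : (S : Subgroup G)) : G)) h))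
  have hodd : ¬ Even (Nat.card K) := by
    intro heven
    obtain ⟨H, hH⟩ := exists_index_two_of_cyclic_sylow heven P₀ hcyc
    haveI := Subgroup.normal_of_index_eq_two hH
    have h := Transfer.pResidual_le_of_index_eq_pow H (k := 1) (by rw [hH, pow_one])
    rw [Transfer.pResidual_pResidual] at h
    rw [top_le_iff.1 h, Subgroup.index_top] at hH
    omega
  rw [inf_comm]
  exact Transfer.sylow_disjoint_of_coprime S K (fun h => hodd (even_iff_two_dvd.2 h))

end QDData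

end Cfsg.Agent.Invol
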