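import Cfsg.Agent.Lib.Invol.Dihedral
import Cfsg.Agent.Lib.Invol.QDCases
import Cfsg.Agent.Lib.Invol.KleinSylow
import Cfsg.Agent.Lib.Invol.Isolated
import Cfsg.Agent.Lib.Transfer.Fusion
import Cfsg.Agent.Lib.ConjFunctor.Family

/-!
# Fusion in groups with dihedral Sylow 2-subgroups

Coordinates: `gr a` is the rotation `r ^ a`, `gs a` the reflection `s r ^ a`, `gz` the central
involution (the order of a rotation is `m = 2 * h`, with `h` even unless stated otherwise).
-/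

set_option linter.unusedSectionVars false
set_option linter.style.haveILetI false

namespace Cfsg.Agent.Invol

open Cfsg

variable {G : Type*} [Group G] [Finite G]

/-- A dihedral Sylow 2-subgroup of order `2 m`, `m = 2 h` with `h` even. -/
structure DihData (S : Subgroup G) where
  m : ℕ
  h : ℕ
  e : S ≃* DihedralGroup m
  m_eq : m = 2 * h
  h_even : 2 ∣ h
  h_pos : 0 < h
  pow : ∃ j : ℕ, m = 2 ^ j

theorem dih_exists {S : Sylow 2 G} {m : ℕ} (hm : 2 ≤ m) (eS : (S : Subgroup G) ≃* DihedralGroup m)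
    (h4 : Nat.card S ≠ 4) : Nonempty (DihData (S : Subgroup G)) := by
  haveI : Fact (Nat.Prime 2) := ⟨Nat.prime_two⟩
  obtain ⟨n, hn⟩ := S.2.exists_card_eq
  have hc : Nat.card S = 2 * m := by
    rw [← DihedralGroup.nat_card, ← Nat.card_congr eS.toEquiv]
  have hn' : 2 * m = 2 ^ n := hc.symm.trans hn
  have hn3 : 3 ≤ n := by
    by_contra hlt
    interval_cases n <;> simp at hn' <;> omega
  obtain ⟨l, rfl⟩ := Nat.exists_eq_add_of_le hn3
  rw [show 3 + l = (l + 2) + 1 by omega, pow_succ'] at hn'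
  refine ⟨⟨m, 2 ^ (l + 1), eS, ?_, dvd_pow_self 2 (by omega), by positivity,
    ⟨l + 2, by omega⟩⟩⟩
  rw [← pow_succ', show l + 1 + 1 = l + 2 from rfl]
  omega

namespace DihData

variable {S : Sylow 2 G} (D : DihData (S : Subgroup G))

/-- Rotations. -/
def gr (a : ℤ) : G := ((D.e.symm (DihedralGroup.r (a : ZMod D.m)) : (S : Subgroup G)) : G)

/-- Reflections. -/
def gs (a : ℤ) : G := ((D.e.symm (DihedralGroup.sr (a : ZMod D.m)) : (S : Subgroup G)) : G)

/-- The central involution. -/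
def gz : G := D.gr D.h

theorem two_h : (D.m : ℤ) = 2 * (D.h : ℤ) := by exact_mod_cast D.m_eq

theorem not_dvd_h : ¬ (D.m : ℤ) ∣ D.h := fun hd => by
  have h1 := Int.le_of_dvd (by exact_mod_cast D.h_pos) hd
  have := D.two_h
  have := D.h_pos
  omega

theorem two_dvd_of_dvd {a : ℤ} (h : (D.m : ℤ) ∣ a) : 2 ∣ a :=
  (Dvd.intro (D.h : ℤ) D.two_h.symm).trans h

theorem h_even_int : (2 : ℤ) ∣ (D.h : ℤ) := by exact_mod_cast D.h_even

theorem gr_mem (a : ℤ) : D.gr a ∈ S := SetLike.coe_mem _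
theorem gs_mem (a : ℤ) : D.gs a ∈ S := SetLike.coe_mem _
theorem gz_mem : D.gz ∈ S := SetLike.coe_mem _

theorem gr_mul_gr (a b : ℤ) : D.gr a * D.gr b = D.gr (a + b) := by
  rw [gr, gr, gr, ← Subgroup.coe_mul, ← map_mul, DihedralGroup.r_mul_r, Int.cast_add]

theorem gr_mul_gs (a b : ℤ) : D.gr a * D.gs b = D.gs (b - a) := by
  rw [gr, gs, gs, ← Subgroup.coe_mul, ← map_mul, DihedralGroup.r_mul_sr, Int.cast_sub]

theorem gs_mul_gr (a b : ℤ) : D.gs a * D.gr b = D.gs (a + b) := by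
  rw [gr, gs, gs, ← Subgroup.coe_mul, ← map_mul, DihedralGroup.sr_mul_r, Int.cast_add]

theorem gs_mul_gs (a b : ℤ) : D.gs a * D.gs b = D.gr (b - a) := by
  rw [gr, gs, gs, ← Subgroup.coe_mul, ← map_mul, DihedralGroup.sr_mul_sr, Int.cast_sub]

theorem gr_zero : D.gr 0 = 1 := by
  rw [gr, Int.cast_zero, ← DihedralGroup.one_def, map_one]; rfl

theorem gr_inv (a : ℤ) : (D.gr a)⁻¹ = D.gr (-a) :=
  inv_eq_of_mul_eq_one_right (by rw [D.gr_mul_gr, add_neg_cancel, D.gr_zero])

theorem gs_inv (a : ℤ) : (D.gs a)⁻¹ = D.gs a :=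
  inv_eq_of_mul_eq_one_right (by rw [D.gs_mul_gs, sub_self, D.gr_zero])

theorem gr_zpow (a t : ℤ) : D.gr a ^ t = D.gr (a * t) := by
  induction t using Int.induction_on with
  | zero => rw [zpow_zero, mul_zero, D.gr_zero]
  | succ i ih => rw [zpow_add_one, ih, D.gr_mul_gr]; congr 1; ring
  | pred i ih => rw [zpow_sub_one, ih, D.gr_inv, D.gr_mul_gr]; congr 1; ring

theorem gr_eq_iff (a b : ℤ) : D.gr a = D.gr b ↔ (D.m : ℤ) ∣ a - b := by
  rw [gr, gr, Subtype.coe_inj, D.e.symm.injective.eq_iff, DihedralGroup.r.injEq,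
    ← ZMod.intCast_zmod_eq_zero_iff_dvd, Int.cast_sub, sub_eq_zero]

theorem gs_eq_iff (a b : ℤ) : D.gs a = D.gs b ↔ (D.m : ℤ) ∣ a - b := by
  rw [gs, gs, Subtype.coe_inj, D.e.symm.injective.eq_iff, DihedralGroup.sr.injEq,
    ← ZMod.intCast_zmod_eq_zero_iff_dvd, Int.cast_sub, sub_eq_zero]

theorem gr_ne_gs (a b : ℤ) : D.gr a ≠ D.gs b := by
  rw [gr, gs, Ne, Subtype.coe_inj, D.e.symm.injective.eq_iff]; simp

theorem gr_eq_one_iff (a : ℤ) : D.gr a = 1 ↔ (D.m : ℤ) ∣ a := by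
  rw [← D.gr_zero, D.gr_eq_iff, sub_zero]

theorem gs_ne_one (a : ℤ) : D.gs a ≠ 1 := fun h => D.gr_ne_gs 0 a (by rw [D.gr_zero, h])

theorem repr_G {g : G} (hg : g ∈ S) : ∃ a : ℤ, g = D.gr a ∨ g = D.gs a := by
  rcases hv : D.e ⟨g, hg⟩ with a | a <;> obtain ⟨a, rfl⟩ := ZMod.intCast_surjective a
  · exact ⟨a, Or.inl (by rw [gr, ← hv, MulEquiv.symm_apply_apply])⟩
  · exact ⟨a, Or.inr (by rw [gs, ← hv, MulEquiv.symm_apply_apply])⟩

theorem gr_conj_gs (a b : ℤ) : D.gr a * D.gs b * (D.gr a)⁻¹ = D.gs (b - 2 * a) := by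
  rw [D.gr_inv, D.gr_mul_gs, D.gs_mul_gr]; congr 1; ring

theorem gs_conj_gr (a b : ℤ) : D.gs a * D.gr b * (D.gs a)⁻¹ = D.gr (-b) := by
  rw [D.gs_inv, D.gs_mul_gr, D.gs_mul_gs]; congr 1; ring

theorem gz_ne_one : D.gz ≠ 1 := fun h => D.not_dvd_h ((D.gr_eq_one_iff _).1 h)

theorem orderOf_gz : orderOf D.gz = 2 :=
  orderOf_two_of_mul_self (by
    rw [gz, D.gr_mul_gr, D.gr_eq_one_iff, D.two_h, two_mul]) D.gz_ne_one

theorem orderOf_gs (a : ℤ) : orderOf (D.gs a) = 2 :=
  orderOf_two_of_mul_self (by rw [D.gs_mul_gs, sub_self, D.gr_zero]) (D.gs_ne_one a)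

theorem gz_commute {g : G} (hg : g ∈ S) : Commute D.gz g := by
  obtain ⟨a, rfl | rfl⟩ := D.repr_G hg
  · rw [commute_iff_eq, gz, D.gr_mul_gr, D.gr_mul_gr, add_comm]
  · rw [commute_iff_eq, gz, D.gr_mul_gs, D.gs_mul_gr, D.gs_eq_iff, D.two_h]
    exact ⟨-1, by ring⟩

theorem involution_cases {t : G} (ht : t ∈ S) (ht2 : orderOf t = 2) :
    t = D.gz ∨ ∃ a : ℤ, t = D.gs a := by
  obtain ⟨a, rfl | rfl⟩ := D.repr_G ht
  · left
    have h := mul_self_of_orderOf_two ht2
    rw [D.gr_mul_gr, D.gr_eq_one_iff, D.two_h, ← two_mul,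
      Int.mul_dvd_mul_iff_left (by norm_num)] at h
    obtain ⟨c, rfl⟩ := h
    rcases Int.even_or_odd c with ⟨d, rfl⟩ | ⟨d, rfl⟩
    · exact absurd ((D.gr_eq_one_iff _).2 ⟨d, by rw [D.two_h]; ring⟩) (ne_one_of_orderOf_two ht2)
    · rw [gz, D.gr_eq_iff, D.two_h]
      exact ⟨d, by ring⟩
  · exact Or.inr ⟨a, rfl⟩

theorem isConj_gs {a b : ℤ} (h : 2 ∣ a - b) : IsConj (D.gs a) (D.gs b) := by
  obtain ⟨t, ht⟩ := h
  exact isConj_iff.2 ⟨D.gr t, by rw [D.gr_conj_gs]; congr 1; omega⟩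

theorem isConj_gs_parity (a : ℤ) : IsConj (D.gs a) (D.gs 0) ∨ IsConj (D.gs a) (D.gs 1) := by
  rcases Int.even_or_odd a with ⟨c, hc⟩ | ⟨c, hc⟩
  · exact Or.inl (D.isConj_gs ⟨c, by omega⟩)
  · exact Or.inr (D.isConj_gs ⟨c, by omega⟩)

theorem involution_class {t : G} (ht : orderOf t = 2) :
    IsConj t D.gz ∨ IsConj t (D.gs 0) ∨ IsConj t (D.gs 1) := by
  haveI : Fact (Nat.Prime 2) := ⟨Nat.prime_two⟩
  obtain ⟨g, hg⟩ := exists_conj_mem_sylow S (k := 1) (t := t) (by rw [ht, pow_one])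
  have hc : IsConj t (g * t * g⁻¹) := isConj_iff.2 ⟨g, rfl⟩
  rcases D.involution_cases hg (by rw [orderOf_conj, ht]) with h | ⟨a, h⟩ <;> rw [h] at hc
  · exact Or.inl hc
  · exact Or.inr ((D.isConj_gs_parity a).imp hc.trans hc.trans)

theorem rot_index_two : (Subgroup.zpowers (D.gr 1)).relIndex (S : Subgroup G) = 2 := by
  have hle : Subgroup.zpowers (D.gr 1) ≤ (S : Subgroup G) := Subgroup.zpowers_le.2 (D.gr_mem 1)
  rw [Subgroup.relIndex, Subgroup.index_eq_two_iff]
  refine ⟨⟨D.gs 0, D.gs_mem 0⟩, fun b => ?_⟩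
  obtain ⟨a, hb | hb⟩ := D.repr_G b.2 <;>
    simp only [Subgroup.mem_subgroupOf, Subgroup.coe_mul, hb, D.gr_mul_gs, D.gs_mul_gs]
  · refine Or.inr ⟨Subgroup.mem_zpowers_iff.2 ⟨a, by rw [D.gr_zpow, one_mul]⟩, fun h => ?_⟩
    obtain ⟨t, ht⟩ := Subgroup.mem_zpowers_iff.1 h
    rw [D.gr_zpow] at ht
    exact D.gr_ne_gs _ _ ht
  · refine Or.inl ⟨Subgroup.mem_zpowers_iff.2 ⟨0 - a, by rw [D.gr_zpow, one_mul]⟩, fun h => ?_⟩
    obtain ⟨t, ht⟩ := Subgroup.mem_zpowers_iff.1 h
    rw [D.gr_zpow] at ht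
    exact D.gr_ne_gs _ _ ht

theorem gs_notMem_rot (a : ℤ) : D.gs a ∉ Subgroup.zpowers (D.gr 1) := fun h => by
  obtain ⟨t, ht⟩ := Subgroup.mem_zpowers_iff.1 h
  rw [D.gr_zpow] at ht
  exact D.gr_ne_gs _ _ ht

/-- A reflection not fused to `gz` avoids a normal subgroup of index two. -/
theorem exists_index_two_gs {i : ℤ} (h : ¬ IsConj D.gz (D.gs i)) :
    ∃ K : Subgroup G, K.Normal ∧ K.index = 2 ∧ D.gs i ∉ K := by
  haveI : Fact (Nat.Prime 2) := ⟨Nat.prime_two⟩
  refine exists_index_two_notMem S (Subgroup.zpowers (D.gr 1))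
    (Subgroup.zpowers_le.2 (D.gr_mem 1)) D.rot_index_two 1 (fun t ht htM => ?_)
    (D.gs i) (by rw [D.orderOf_gs, pow_one]) fun g hg => ?_
  · have : orderOf t ≠ 1 := fun h => htM (by rw [orderOf_eq_one_iff.1 h]; exact one_mem _)
    have := orderOf_pos t
    omega
  have hc : IsConj (D.gs i) (g⁻¹ * D.gs i * g) := isConj_iff.2 ⟨g⁻¹, by rw [inv_inv]⟩
  rcases D.involution_cases (Subgroup.zpowers_le.2 (D.gr_mem 1) hg)
    (by rw [show g⁻¹ * D.gs i * g = g⁻¹ * D.gs i * g⁻¹⁻¹ by rw [inv_inv], orderOf_conj,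
      D.orderOf_gs]) with h' | ⟨a, h'⟩
  · exact h (h' ▸ hc).symm
  · exact D.gs_notMem_rot a (h' ▸ hg)

theorem fused_of_no_index_two (hG : ∀ H : Subgroup G, H.index ≠ 2) (i : ℤ) :
    IsConj D.gz (D.gs i) := by
  by_contra h
  obtain ⟨K, -, hK, -⟩ := D.exists_index_two_gs h
  exact hG K hK

theorem no_index_two (h0 : IsConj D.gz (D.gs 0)) (h1 : IsConj D.gz (D.gs 1)) :
    ∀ H : Subgroup G, H.index ≠ 2 := by
  intro H hH
  haveI := Subgroup.normal_of_index_eq_two hH
  have hz : D.gz ∈ H := by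
    obtain ⟨c, hc⟩ := D.h_even_int
    rw [gz, hc, two_mul, ← D.gr_mul_gr]
    exact (Subgroup.mul_mem_iff_of_index_two hH).2 Iff.rfl
  refine index_ne_two_of_sylow_le H S (fun s hs => ?_) hH
  have hr : D.gr 1 ∈ H := by
    have := H.mul_mem (isConj_mem_normal h0 hz) (isConj_mem_normal h1 hz)
    rwa [D.gs_mul_gs, sub_zero] at this
  obtain ⟨a, rfl | rfl⟩ := D.repr_G hs
  · rw [show D.gr a = D.gr 1 ^ a by rw [D.gr_zpow, one_mul]]
    exact H.zpow_mem hr a
  · rw [show D.gs a = D.gs 0 * D.gr 1 ^ a by rw [D.gr_zpow, one_mul, D.gs_mul_gr, zero_add]]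
    exact H.mul_mem (isConj_mem_normal h0 hz) (H.zpow_mem hr a)

theorem no_isolated (h0 : IsConj D.gz (D.gs 0)) (h1 : IsConj D.gz (D.gs 1)) (t : G) :
    ¬ IsIsolatedInvolution t := by
  intro ht
  have hc : IsConj t D.gz := by
    rcases D.involution_class ht.1 with h | h | h
    · exact h
    · exact h.trans h0.symm
    · exact h.trans h1.symm
  obtain ⟨g, hg⟩ := isConj_iff.1 hc
  have hiso : IsIsolatedInvolution D.gz := hg ▸ isolated_conj ht g
  exact D.gr_ne_gs _ _ (isolated_eq_of_commute hiso h0 (D.gz_commute (D.gs_mem 0))).symm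

theorem case_complement (h0 : ¬ IsConj D.gz (D.gs 0)) (h1 : ¬ IsConj D.gz (D.gs 1)) :
    HasNormalPComplement 2 G := by
  haveI : Fact (Nat.Prime 2) := ⟨Nat.prime_two⟩
  rw [Transfer.hasNormalPComplement_iff_inf_eq_bot S]
  set K := pResidual 2 G
  have hout : ∀ {A : Subgroup G}, A.Normal → A.index = 2 → K ≤ A := fun {A} hA h =>
    haveI := hA
    Transfer.pResidual_le_of_index_eq_pow A (k := 1) (by rw [h, pow_one])
  have hno : ∀ i : ℤ, D.gs i ∉ K := by
    intro i hi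
    rcases D.isConj_gs_parity i with h | h
    · obtain ⟨A, hAn, hA, hA0⟩ := D.exists_index_two_gs h0
      haveI := hAn
      exact hA0 (isConj_mem_normal h (hout hAn hA hi))
    · obtain ⟨A, hAn, hA, hA1⟩ := D.exists_index_two_gs h1
      haveI := hAn
      exact hA1 (isConj_mem_normal h (hout hAn hA hi))
  obtain ⟨P₀, hP₀⟩ := Transfer.exists_sylow_eq_subgroupOf S K
  have hrot : ∀ v : K, (v : G) ∈ S → (v : G) ∈ Subgroup.zpowers (D.gr 1) := by
    intro v hv
    obtain ⟨a, ha | ha⟩ := D.repr_G hv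
    · exact Subgroup.mem_zpowers_iff.2 ⟨a, by rw [D.gr_zpow, one_mul, ha]⟩
    · exact absurd (ha ▸ v.2) (hno a)
  have hcyc : IsCyclic (P₀ : Subgroup K) := by
    let f : (P₀ : Subgroup K) →* Subgroup.zpowers (D.gr 1) :=
      { toFun := fun v => ⟨v.1.1, hrot v.1 (hP₀ ▸ v.2 : v.1 ∈ (S : Subgroup G).subgroupOf K)⟩
        map_one' := rfl
        map_mul' := fun _ _ => rfl }
    exact isCyclic_of_injective f fun v w h =>
      Subtype.ext (Subtype.ext (congrArg (fun u : Subgroup.zpowers (D.gr 1) => (u : G)) h))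
  have hodd : ¬ Even (Nat.card K) := by
    intro heven
    obtain ⟨H, hH⟩ := exists_index_two_of_cyclic_sylow heven P₀ hcyc
    haveI := Subgroup.normal_of_index_eq_two hH
    have h := Transfer.pResidual_le_of_index_eq_pow H (k := 1) (by rw [hH, pow_one])
    rw [Transfer.pResidual_pResidual] at h
    rw [top_le_iff.1 h, Subgroup.index_top] at hH
    omega
  rw [inf_comm]
  exact Transfer.sylow_disjoint_of_coprime S K (fun h => hodd (even_iff_two_dvd.2 h))

/-- With only one reflection class fused to `gz` there is no normal subgroup of index 4. -/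
theorem index_ne_four {i : ℤ} (hi : IsConj D.gz (D.gs i)) (N : Subgroup G) [N.Normal] :
    N.index ≠ 4 := by
  intro hN
  haveI : Fact (Nat.Prime 2) := ⟨Nat.prime_two⟩
  have hcard : Nat.card (G ⧸ N) = 4 := by rw [← Subgroup.index_eq_card, hN]
  have hab : ∀ p q : G ⧸ N, p * q = q * p := fun p q =>
    (IsPGroup.isMulCommutative_of_card_eq_prime_sq (p := 2) (G := G ⧸ N) (by rw [hcard]; norm_num)
      ).is_comm.comm p q
  let π := QuotientGroup.mk' N
  have hr2 : π (D.gr 1) * π (D.gr 1) = 1 := by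
    have h : π (D.gs 0 * D.gr 1 * (D.gs 0)⁻¹) = π (D.gr 1) := by
      rw [map_mul, map_mul, hab (π (D.gs 0)), map_inv, mul_inv_cancel_right]
    rw [D.gs_conj_gr, ← D.gr_inv, map_inv] at h
    calc π (D.gr 1) * π (D.gr 1) = (π (D.gr 1))⁻¹ * π (D.gr 1) := by rw [h]
      _ = 1 := inv_mul_cancel _
  have hrpow : ∀ a : ℤ, π (D.gr a) = π (D.gr 1) ^ a := fun a => by
    rw [← map_zpow, D.gr_zpow, one_mul]
  have hz : π D.gz = 1 := by
    obtain ⟨c, hc⟩ := D.h_even_int
    rw [gz, hrpow, hc, zpow_mul, zpow_two, hr2, one_zpow]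
  have hi1 : π (D.gs i) = 1 := by
    obtain ⟨c, hc'⟩ := isConj_iff.1 hi
    rw [← hc', map_mul, map_mul, hz, mul_one, map_inv, mul_inv_cancel]
  -- the image of `S` has at most two elements
  have hsmall : ∀ s ∈ S, π s = 1 ∨ π s = π (D.gr 1) := by
    have key : ∀ a : ℤ, π (D.gr a) = 1 ∨ π (D.gr a) = π (D.gr 1) := fun a => by
      rw [hrpow]
      rcases Int.even_or_odd a with ⟨c, rfl⟩ | ⟨c, rfl⟩
      · left; rw [← two_mul, zpow_mul, zpow_two, hr2, one_zpow]
      · right; rw [zpow_add_one, zpow_mul, zpow_two, hr2, one_zpow, one_mul]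
    intro s hs
    obtain ⟨a, rfl | rfl⟩ := D.repr_G hs
    · exact key a
    · rw [show D.gs a = D.gs i * D.gr (a - i) by rw [D.gs_mul_gr]; congr 1; ring, map_mul, hi1,
        one_mul]
      exact key _
  have hle : (S : Subgroup G).map π ≤ Subgroup.zpowers (π (D.gr 1)) := by
    rintro _ ⟨s, hs, rfl⟩
    rcases hsmall s hs with h | h <;> rw [h]
    · exact one_mem _
    · exact Subgroup.mem_zpowers _
  have htop : (S : Subgroup G).map π = ⊤ := by
    rw [← Subgroup.map_top_of_surjective π (QuotientGroup.mk'_surjective N),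
      ← Transfer.pResidual_sup_sylow S, Subgroup.map_sup, Eq.comm, sup_eq_right]
    refine le_trans ?_ bot_le
    rw [le_bot_iff, Subgroup.map_eq_bot_iff, QuotientGroup.ker_mk']
    exact Transfer.pResidual_le_of_index_eq_pow N (k := 2) (by rw [hN]; norm_num)
  rw [htop] at hle
  have h2 := Nat.le_of_dvd two_pos ((Subgroup.card_dvd_of_le hle).trans
    (by rw [Nat.card_zpowers]; exact orderOf_dvd_of_pow_eq_one (by rw [sq]; exact hr2)))
  rw [Subgroup.card_top, hcard] at h2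
  omega

/-! ### Four-subgroups -/

theorem four_facts (U : Subgroup G) [IsKleinFour U] (hUS : U ≤ S) :
    ∃ i : ℤ, D.gz ∈ U ∧ D.gs i ∈ U ∧
      ∀ t, t ∈ U ↔ t = 1 ∨ t = D.gz ∨ t = D.gs i ∨ t = D.gs (i + D.h) := by
  classical
  have hsq : ∀ t ∈ U, t * t = 1 := fun t ht =>
    congrArg Subtype.val (IsKleinFour.mul_self (⟨t, ht⟩ : U))
  have hord : ∀ t ∈ U, t = 1 ∨ t = D.gz ∨ ∃ a, t = D.gs a := fun t ht => by
    by_cases h1 : t = 1
    · exact Or.inl h1
    · exact Or.inr (D.involution_cases (hUS ht) (orderOf_two_of_mul_self (hsq t ht) h1))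
  obtain ⟨i, hi⟩ : ∃ i, D.gs i ∈ U := by
    by_contra hno
    push Not at hno
    have hle : (U : Set G) ⊆ {1, D.gz} := fun t ht => by
      rcases hord t ht with h | h | ⟨a, h⟩
      · exact Or.inl h
      · exact Or.inr h
      · exact absurd (h ▸ ht) (hno a)
    have h2 := Set.ncard_le_ncard hle (Set.toFinite _)
    rw [← Nat.card_coe_set_eq, show Nat.card (U : Set G) = Nat.card U from rfl,
      IsKleinFour.card_four, Set.ncard_pair D.gz_ne_one.symm] at h2
    omega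
  have hlist : ∀ t ∈ U, t = 1 ∨ t = D.gz ∨ t = D.gs i ∨ t = D.gs (i + D.h) := by
    intro t ht
    rcases hord t ht with h | h | ⟨a, h⟩
    · exact Or.inl h
    · exact Or.inr (Or.inl h)
    · subst h
      refine Or.inr (Or.inr ?_)
      have hp := hsq _ (U.mul_mem hi ht)
      rw [D.gs_mul_gs, D.gr_mul_gr, D.gr_eq_one_iff, ← two_mul, D.two_h,
        Int.mul_dvd_mul_iff_left (by norm_num)] at hp
      obtain ⟨c, hc⟩ := hp
      rcases Int.even_or_odd c with ⟨d, rfl⟩ | ⟨d, rfl⟩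
      · left; rw [D.gs_eq_iff, D.two_h]; exact ⟨d, by rw [hc]; ring⟩
      · right; rw [D.gs_eq_iff, D.two_h]; exact ⟨d, by rw [← sub_sub, hc]; ring⟩
  have hle : (U : Set G) ⊆ {1, D.gz, D.gs i, D.gs (i + D.h)} := fun t ht => by
    simpa using hlist t ht
  have hge := Set.eq_of_subset_of_ncard_le hle (by
    rw [← Nat.card_coe_set_eq (s := (U : Set G)), show Nat.card (U : Set G) = Nat.card U from rfl,
      IsKleinFour.card_four]
    refine (Set.ncard_insert_le _ _).trans (Nat.succ_le_succ ?_)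
    refine (Set.ncard_insert_le _ _).trans (Nat.succ_le_succ ?_)
    refine (Set.ncard_insert_le _ _).trans (Nat.succ_le_succ ?_)
    rw [Set.ncard_singleton]) (Set.toFinite _)
  have hmem : ∀ t, t ∈ U ↔ t = 1 ∨ t = D.gz ∨ t = D.gs i ∨ t = D.gs (i + D.h) := fun t => by
    rw [← SetLike.mem_coe, hge]; simp
  exact ⟨i, (hmem _).2 (Or.inr (Or.inl rfl)), hi, hmem⟩

theorem four_exists (i : ℤ) : ∃ U : Subgroup G, IsKleinFour U ∧ U ≤ S ∧ D.gs i ∈ U := by
  obtain ⟨e⟩ := nonempty_dihedralEquiv (t := D.gs i) (d := D.gz)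
    (mul_self_of_orderOf_two (D.orderOf_gs i)) (by
      rw [← (D.gz_commute (D.gs_mem i)).eq, mul_inv_cancel_right,
        inv_of_orderOf_two D.orderOf_gz])
    (fun h => by
      obtain ⟨t, ht⟩ := Subgroup.mem_zpowers_iff.1 h
      rw [gz, D.gr_zpow] at ht
      exact D.gr_ne_gs _ _ ht)
  rw [D.orderOf_gz] at e
  refine ⟨Subgroup.closure ({D.gs i, D.gz} : Set G), ⟨?_, ?_⟩, ?_,
    Subgroup.subset_closure (by simp)⟩
  · rw [← Nat.card_congr e.toEquiv, IsKleinFour.card_four]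
  · rw [← Monoid.exponent_eq_of_mulEquiv e, IsKleinFour.exponent_two]
  · rw [Subgroup.closure_le]
    rintro t (rfl | rfl)
    · exact D.gs_mem i
    · exact D.gz_mem

theorem swap_spec {q : ℤ} (hq : (D.h : ℤ) = 2 * q) (i : ℤ) :
    D.gr q * D.gs i * (D.gr q)⁻¹ = D.gs (i + D.h) := by
  rw [D.gr_conj_gs, D.gs_eq_iff, D.two_h]; exact ⟨-1, by rw [hq]; ring⟩

theorem swap_spec' {q : ℤ} (hq : (D.h : ℤ) = 2 * q) (i : ℤ) :
    D.gr q * D.gs (i + D.h) * (D.gr q)⁻¹ = D.gs i := by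
  rw [D.gr_conj_gs]; congr 1; omega

theorem swap_mem_normalizer {q : ℤ} (hq : (D.h : ℤ) = 2 * q) (U : Subgroup G) [IsKleinFour U]
    (hUS : U ≤ S) : D.gr q ∈ Subgroup.normalizer (U : Set G) := by
  obtain ⟨i, -, -, hU⟩ := D.four_facts U hUS
  have hz : D.gr q * D.gz * (D.gr q)⁻¹ = D.gz := by
    rw [← (D.gz_commute (D.gr_mem q)).eq, mul_inv_cancel_right]
  refine Subgroup.mem_normalizer_iff.2 fun t => ?_
  rw [hU, hU]
  constructor
  · rintro (rfl | rfl | rfl | rfl)
    · exact Or.inl (by group)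
    · exact Or.inr (Or.inl hz)
    · exact Or.inr (Or.inr (Or.inr (D.swap_spec hq i)))
    · exact Or.inr (Or.inr (Or.inl (D.swap_spec' hq i)))
  · have back : ∀ v w, D.gr q * v * (D.gr q)⁻¹ = w → D.gr q * t * (D.gr q)⁻¹ = w → t = v :=
      fun v w hv ht => mul_left_cancel (mul_right_cancel (ht.trans hv.symm))
    rintro (h | h | h | h)
    · exact Or.inl (conj_eq_one_iff.1 h)
    · exact Or.inr (Or.inl (back _ _ hz h))
    · exact Or.inr (Or.inr (Or.inr (back _ _ (D.swap_spec' hq i) h)))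
    · exact Or.inr (Or.inr (Or.inl (back _ _ (D.swap_spec hq i) h)))

/-- The automiser of a four-subgroup of `S`. -/
theorem four_automiser (U : Subgroup G) [IsKleinFour U] (hUS : U ≤ S) {i : ℤ} (hiU : D.gs i ∈ U) :
    ((Subgroup.centralizer (U : Set G)).relIndex (Subgroup.normalizer (U : Set G)) = 2 ∨
      (Subgroup.centralizer (U : Set G)).relIndex (Subgroup.normalizer (U : Set G)) = 6) ∧
    ((Subgroup.centralizer (U : Set G)).relIndex (Subgroup.normalizer (U : Set G)) = 6 ↔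
      IsConj D.gz (D.gs i)) := by
  haveI : Fact (Nat.Prime 2) := ⟨Nat.prime_two⟩
  obtain ⟨q, hq⟩ := D.h_even_int
  obtain ⟨j, hz, hj, hU⟩ := D.four_facts U hUS
  have hij : IsConj (D.gs i) (D.gs j) := by
    rcases (hU _).1 hiU with h | h | h | h
    · exact absurd h (D.gs_ne_one i)
    · exact absurd h.symm (D.gr_ne_gs _ _)
    · exact h ▸ IsConj.refl _
    · exact h ▸ D.isConj_gs (by obtain ⟨c, hc⟩ := D.h_even_int; exact ⟨c, by omega⟩)
  set N := Subgroup.normalizer (U : Set G) with hN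
  letI : MulAction N G := MulAction.compHom G (MulAut.conj.comp N.subtype)
  have hact : ∀ (n : N) (g : G), n • g = (n : G) * g * (n : G)⁻¹ := fun _ _ => rfl
  have hjk : D.gs j ≠ D.gs (j + D.h) := fun h => D.not_dvd_h (by
    have := (D.gs_eq_iff _ _).1 h
    rwa [show j - (j + D.h) = -(D.h : ℤ) by ring, dvd_neg] at this)
  have hne : ∀ a : ℤ, D.gz ≠ D.gs a := fun a => D.gr_ne_gs _ a
  have hinv : ∀ n : N, ∀ p, (p = D.gz ∨ p = D.gs j ∨ p = D.gs (j + D.h)) →
      (n • p = D.gz ∨ n • p = D.gs j ∨ n • p = D.gs (j + D.h)) := by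
    intro n p hp
    rcases (hU _).1 ((Subgroup.mem_normalizer_iff.1 n.2 p).1 ((hU p).2 (Or.inr hp))) with h | h
    · exfalso
      have hp1 : p = 1 := conj_eq_one_iff.1 h
      rcases hp with rfl | rfl | rfl
      · exact D.gz_ne_one hp1
      · exact D.gs_ne_one _ hp1
      · exact D.gs_ne_one _ hp1
    · exact h
  have hK : ∀ n : N, n ∈ (Subgroup.centralizer (U : Set G)).subgroupOf N ↔
      n • D.gz = D.gz ∧ n • D.gs j = D.gs j ∧ n • D.gs (j + D.h) = D.gs (j + D.h) := by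
    intro n
    rw [Subgroup.mem_subgroupOf, Subgroup.mem_centralizer_iff]
    simp only [hact, mul_inv_eq_iff_eq_mul]
    constructor
    · intro h
      exact ⟨(h _ hz).symm, (h _ hj).symm, (h _ ((hU _).2 (Or.inr (Or.inr (Or.inr rfl))))).symm⟩
    · rintro ⟨h1, h2, h3⟩ t ht
      rcases (hU t).1 ht with rfl | rfl | rfl | rfl
      · rw [one_mul, mul_one]
      · exact h1.symm
      · exact h2.symm
      · exact h3.symm
  have hqz : D.gr q * D.gz * (D.gr q)⁻¹ = D.gz := by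
    rw [← (D.gz_commute (D.gr_mem q)).eq, mul_inv_cancel_right]
  obtain ⟨hcases, hiff, -⟩ := three_point_action (N := N) D.gz (D.gs j) (D.gs (j + D.h))
    (hne _) (hne _) hjk hinv _ hK ⟨D.gr q, D.swap_mem_normalizer hq U hUS⟩ hqz (D.swap_spec hq j)
  refine ⟨hcases, ?_⟩
  rw [Subgroup.relIndex, hiff]
  constructor
  · rintro ⟨n, hn⟩
    have hc : IsConj D.gz (n • D.gz) := isConj_iff.2 ⟨n, rfl⟩
    rcases hinv n _ (Or.inl rfl) with h | h | h
    · exact absurd h hn
    · exact (h ▸ hc).trans hij.symm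
    · exact ((h ▸ hc).trans (isConj_iff.2 ⟨D.gr q, D.swap_spec' hq j⟩)).trans hij.symm
  · intro hconj
    obtain ⟨g, hg⟩ := isConj_iff.1 (hij.symm.trans hconj.symm)
    -- move `U` into `S` with `gs j` going to `gz`
    have hSC : (S : Subgroup G) ≤ Subgroup.centralizer ({D.gz} : Set G) := fun s hs =>
      Subgroup.mem_centralizer_singleton_iff.2 (D.gz_commute hs).symm.eq
    have hU2 : IsPGroup 2 ↥(U.map (MulAut.conj g).toMonoidHom) :=
      ((IsPGroup.of_card (n := 2) (by rw [IsKleinFour.card_four]; norm_num)) :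
        IsPGroup 2 U).map _
    have hUC : U.map (MulAut.conj g).toMonoidHom ≤ Subgroup.centralizer ({D.gz} : Set G) := by
      rintro _ ⟨t, ht, rfl⟩
      rw [Subgroup.mem_centralizer_singleton_iff, ← hg]
      have hc : Commute t (D.gs j) :=
        congrArg Subtype.val (mul_comm_of_exponent_two IsKleinFour.exponent_two
          (⟨t, ht⟩ : U) ⟨_, hj⟩)
      exact (hc.map (MulAut.conj g).toMonoidHom).eq
    obtain ⟨c, hc, hcS⟩ := exists_conj_le_sylow S _ hSC hU2 hUC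
    set f := c * g with hf
    let U' : Subgroup G := U.map (MulAut.conj f).toMonoidHom
    have hU'S : U' ≤ S := by
      rintro _ ⟨t, ht, rfl⟩
      have := hcS _ ⟨t, ht, rfl⟩
      show f * t * f⁻¹ ∈ S
      rw [hf, show c * g * t * (c * g)⁻¹ = c * (g * t * g⁻¹) * c⁻¹ by group]
      exact this
    have hfz : f * D.gs j * f⁻¹ = D.gz := by
      rw [hf, show c * g * D.gs j * (c * g)⁻¹ = c * (g * D.gs j * g⁻¹) * c⁻¹ by group, hg,
        Subgroup.mem_centralizer_singleton_iff.1 hc, mul_inv_cancel_right]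
    let eU := Subgroup.equivMapOfInjective U (MulAut.conj f).toMonoidHom (MulAut.conj f).injective
    haveI : IsKleinFour U' :=
      ⟨by rw [← Nat.card_congr eU.toEquiv, IsKleinFour.card_four],
        by rw [← Monoid.exponent_eq_of_mulEquiv eU, IsKleinFour.exponent_two]⟩
    have hnN : f⁻¹ * D.gr q * f ∈ N := by
      have hs := D.swap_mem_normalizer hq U' hU'S
      refine Subgroup.mem_normalizer_iff.2 fun t => ?_
      have key : ∀ t, f * t * f⁻¹ ∈ U' ↔ t ∈ U := fun t =>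
        ⟨fun ⟨s, hs, e⟩ => (mul_left_cancel (mul_right_cancel (e : f * s * f⁻¹ = f * t * f⁻¹))) ▸ hs,
          fun ht => ⟨t, ht, rfl⟩⟩
      rw [← key, ← key (f⁻¹ * D.gr q * f * t * (f⁻¹ * D.gr q * f)⁻¹),
        show f * (f⁻¹ * D.gr q * f * t * (f⁻¹ * D.gr q * f)⁻¹) * f⁻¹ =
          D.gr q * (f * t * f⁻¹) * (D.gr q)⁻¹ by group]
      exact Subgroup.mem_normalizer_iff.1 hs _
    refine ⟨⟨_, hnN⟩, fun hfix => ?_⟩
    have h1 : D.gr q * (f * D.gz * f⁻¹) * (D.gr q)⁻¹ = f * D.gz * f⁻¹ := by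
      have := congrArg (fun s => f * s * f⁻¹) hfix
      simp only [hact] at this
      conv_rhs => rw [← this]
      group
    obtain ⟨a, -, -, hU'⟩ := D.four_facts U' hU'S
    rcases (hU' _).1 ⟨D.gz, hz, rfl⟩ with e | e | e | e
    · exact D.gz_ne_one (conj_eq_one_iff.1 e)
    · exact hne j (mul_left_cancel (mul_right_cancel ((e.trans hfz.symm) :
        f * D.gz * f⁻¹ = f * D.gs j * f⁻¹)))
    · have e' : f * D.gz * f⁻¹ = D.gs a := e
      rw [e', D.swap_spec hq a, D.gs_eq_iff, show a + (D.h : ℤ) - a = D.h by ring] at h1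
      exact D.not_dvd_h h1
    · have e' : f * D.gz * f⁻¹ = D.gs (a + D.h) := e
      rw [e', D.swap_spec' hq a, D.gs_eq_iff, show a - (a + (D.h : ℤ)) = -(D.h : ℤ) by ring,
        dvd_neg] at h1
      exact D.not_dvd_h h1

/-- An element normalising `S` keeps the parity of the reflections. -/
theorem parity_of_normalizes {y : G} (hy : y ∈ Subgroup.normalizer ((S : Subgroup G) : Set G))
    {i j : ℤ} (hij : y * D.gs i * y⁻¹ = D.gs j) : 2 ∣ i - j := by
  haveI : Fact (Nat.Prime 2) := ⟨Nat.prime_two⟩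
  set N := Subgroup.normalizer ((S : Subgroup G) : Set G) with hN
  have hzfix : ∀ n ∈ N, n * D.gz * n⁻¹ = D.gz := by
    intro n hn
    have hmem := (Subgroup.mem_normalizer_iff.1 hn _).1 D.gz_mem
    rcases D.involution_cases hmem (by rw [orderOf_conj, D.orderOf_gz]) with h | ⟨a, h⟩
    · exact h
    · exfalso
      have hcen : Commute (D.gs a) (D.gr 1) := by
        rw [← h]
        have h2 := (D.gz_commute ((Subgroup.mem_normalizer_iff''.1 hn _).1 (D.gr_mem 1))).map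
          (MulAut.conj n).toMonoidHom
        simpa [mul_assoc] using h2
      rw [commute_iff_eq, D.gs_mul_gr, D.gr_mul_gs, D.gs_eq_iff,
        show a + 1 - (a - 1) = 2 by ring, D.two_h] at hcen
      obtain ⟨c, hc⟩ := D.h_even_int
      have := Int.le_of_dvd (by norm_num) hcen
      have := D.h_pos
      omega
  have hrefl : ∀ n ∈ N, ∀ i : ℤ, ∃ j, n * D.gs i * n⁻¹ = D.gs j := by
    intro n hn i
    rcases D.involution_cases ((Subgroup.mem_normalizer_iff.1 hn _).1 (D.gs_mem i))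
      (by rw [orderOf_conj, D.orderOf_gs]) with h | h
    · exact absurd (mul_left_cancel (mul_right_cancel (h.trans (hzfix n hn).symm)))
        (D.gr_ne_gs _ _).symm
    · exact h
  -- elements moving the parity of one reflection move every parity
  have hmove : ∀ n ∈ N, ∀ i j k l : ℤ, n * D.gs i * n⁻¹ = D.gs j → n * D.gs k * n⁻¹ = D.gs l →
      (2 ∣ i - k ↔ 2 ∣ j - l) := by
    intro n hn i j k l h1 h2
    obtain ⟨a, b, hb⟩ : ∃ (a : ℤ) (b : Bool), n * D.gr 1 * n⁻¹ = if b then D.gr a else D.gs a := by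
      obtain ⟨a, h | h⟩ := D.repr_G ((Subgroup.mem_normalizer_iff.1 hn _).1 (D.gr_mem 1))
      · exact ⟨a, true, h⟩
      · exact ⟨a, false, h⟩
    cases b
    · exfalso
      simp only [Bool.false_eq_true, if_false] at hb
      have h4 := congrArg orderOf hb
      rw [orderOf_conj, D.orderOf_gs] at h4
      have h2' := mul_self_of_orderOf_two h4
      rw [D.gr_mul_gr, D.gr_eq_one_iff, D.two_h] at h2'
      obtain ⟨c, hc⟩ := D.h_even_int
      have := Int.le_of_dvd (by norm_num) h2'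
      have := D.h_pos
      omega
    simp only [if_true] at hb
    have ha : ¬ (2 : ℤ) ∣ a := by
      rintro ⟨c, rfl⟩
      have h3 : n * D.gz * n⁻¹ = D.gr (2 * c * D.h) := by
        rw [show D.gz = D.gr 1 ^ (D.h : ℤ) by rw [D.gr_zpow, one_mul]; rfl, ← conj_zpow, hb,
          D.gr_zpow]
      rw [hzfix n hn, gz, D.gr_eq_iff] at h3
      have h5 : (D.m : ℤ) ∣ 2 * c * D.h := ⟨c, by rw [D.two_h]; ring⟩
      exact D.not_dvd_h (by have := dvd_add h3 h5; rwa [sub_add_cancel] at this)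
    have e : n * D.gr (k - i) * n⁻¹ = D.gr (l - j) := by
      rw [← D.gs_mul_gs, ← D.gs_mul_gs, ← h1, ← h2]; group
    rw [show D.gr (k - i) = D.gr 1 ^ (k - i) by rw [D.gr_zpow, one_mul], ← conj_zpow, hb,
      D.gr_zpow, D.gr_eq_iff] at e
    have h2m := D.two_dvd_of_dvd e
    constructor <;> intro h
    · have hp : (2 : ℤ) ∣ a * (k - i) := (dvd_sub_comm.1 h).mul_left a
      have := dvd_sub hp h2m
      rwa [show a * (k - i) - (a * (k - i) - (l - j)) = l - j by ring, dvd_sub_comm] at this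
    · have hp : (2 : ℤ) ∣ a * (k - i) := by
        have := dvd_add h2m (dvd_sub_comm.1 h)
        rwa [sub_add_cancel] at this
      rcases Int.prime_two.dvd_or_dvd hp with h' | h'
      · exact absurd h' ha
      · exact dvd_sub_comm.1 h'
  -- `Keep` is a subgroup
  let Keep : Subgroup G :=
    { carrier := {n | n ∈ N ∧ ∀ i j : ℤ, n * D.gs i * n⁻¹ = D.gs j → 2 ∣ i - j}
      one_mem' := ⟨N.one_mem, fun i j h => by
        rw [one_mul, inv_one, mul_one, D.gs_eq_iff] at h; exact D.two_dvd_of_dvd h⟩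
      mul_mem' := fun {a b} ha hb => ⟨N.mul_mem ha.1 hb.1, fun i j h => by
        obtain ⟨k, hk⟩ := hrefl b hb.1 i
        rw [show a * b * D.gs i * (a * b)⁻¹ = a * (b * D.gs i * b⁻¹) * a⁻¹ by group, hk] at h
        have := dvd_add (hb.2 i k hk) (ha.2 k j h)
        rwa [sub_add_sub_cancel] at this⟩
      inv_mem' := fun {a} ha => ⟨N.inv_mem ha.1, fun i j h => by
        have h' : a * D.gs j * a⁻¹ = D.gs i := by rw [← h]; group
        exact dvd_sub_comm.1 (ha.2 j i h')⟩ }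
  have hcomb : ∀ a ∈ N, ∀ b ∈ N, a ∉ Keep → b ∉ Keep → a * b ∈ Keep := by
    intro a ha b hb hna hnb
    have flip : ∀ n ∈ N, n ∉ Keep → ∀ i j : ℤ, n * D.gs i * n⁻¹ = D.gs j → ¬ 2 ∣ i - j := by
      intro n hn hnk i j h hd
      refine hnk ⟨hn, fun i' j' h' => ?_⟩
      by_cases hii : 2 ∣ i - i'
      · have := dvd_add (dvd_sub hd hii) ((hmove n hn i j i' j' h h').1 hii)
        rwa [show i - j - (i - i') + (j - j') = i' - j' by ring] at this
      · have hjj : ¬ (2 : ℤ) ∣ j - j' := fun hh => hii ((hmove n hn i j i' j' h h').2 hh)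
        omega
    refine ⟨N.mul_mem ha hb, fun i j h => ?_⟩
    obtain ⟨k, hk⟩ := hrefl b hb i
    rw [show a * b * D.gs i * (a * b)⁻¹ = a * (b * D.gs i * b⁻¹) * a⁻¹ by group, hk] at h
    have h1 := flip b hb hnb i k hk
    have h2 := flip a ha hna k j h
    omega
  -- 2-elements and elements of odd order keep the parity
  obtain ⟨p, q, hp, hq, hpq, ⟨e, he⟩, hq2⟩ := Transfer.exists_pPart_mul (p := 2) y
  have hpN : p ∈ N := N.zpowers_le.2 hy hp
  have hqN : q ∈ N := N.zpowers_le.2 hy hq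
  have hpK : p ∈ Keep := by
    refine ⟨hpN, ?_⟩
    have hpS : p ∈ (S : Subgroup G) := by
      obtain ⟨l, -, hl⟩ := (Nat.dvd_prime_pow Nat.prime_two).1 he
      have hW : IsPGroup 2 ↥(Subgroup.zpowers p ⊔ (S : Subgroup G)) :=
        (IsPGroup.of_card (n := l) (G := Subgroup.zpowers p)
          (by rw [Nat.card_zpowers, hl])).to_sup_of_normal_right' S.2 (Subgroup.zpowers_le.2 hpN)
      rw [← S.3 hW le_sup_right]
      exact Subgroup.mem_sup_left (Subgroup.mem_zpowers p)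
    intro i j h
    obtain ⟨a, rfl | rfl⟩ := D.repr_G hpS
    · rw [D.gr_conj_gs, D.gs_eq_iff] at h
      have := D.two_dvd_of_dvd h
      omega
    · rw [D.gs_inv, D.gs_mul_gs, D.gr_mul_gs, D.gs_eq_iff] at h
      have := D.two_dvd_of_dvd h
      omega
  have hqK : q ∈ Keep := by
    by_contra hnot
    have hq2' : q * q ∈ Keep := hcomb q hqN q hqN hnot hnot
    have hodd : Odd (orderOf q) := Nat.coprime_two_right.1 hq2
    obtain ⟨l, hl⟩ := hodd
    refine hnot ?_
    have hql : (q * q) ^ l * q = 1 := by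
      rw [← sq, ← pow_mul, ← pow_succ, ← hl, pow_orderOf_eq_one]
    rw [eq_inv_of_mul_eq_one_right hql]
    exact inv_mem (pow_mem hq2' l)
  exact ((hpq ▸ mul_mem hpK hqK : y ∈ Keep)).2 i j hij

/-- Four-subgroups of `S` of different parity are not conjugate. -/
theorem parity_of_conj {U V : Subgroup G} [IsKleinFour U] (hUS : U ≤ S) (hVS : V ≤ S) {g : G}
    (hg : U.map (MulAut.conj g).toMonoidHom = V) {i j : ℤ} (hi : D.gs i ∈ U) (hj : D.gs j ∈ V) :
    2 ∣ i - j := by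
  haveI : Fact (Nat.Prime 2) := ⟨Nat.prime_two⟩
  have hsteps := ConjFunctor.alperin_fn S (U : Set G) g hUS (by
    rintro _ ⟨t, ht, rfl⟩; exact hVS (hg ▸ ⟨t, ht, rfl⟩))
  have hpar : ∀ (W : Subgroup G), IsKleinFour W → W ≤ S → ∀ a b : ℤ,
      D.gs a ∈ W → D.gs b ∈ W → 2 ∣ a - b := by
    intro W hW hWS a b ha hb
    haveI := hW
    obtain ⟨c, -, -, hmem⟩ := D.four_facts W hWS
    obtain ⟨q, hq⟩ := D.h_even_int
    have key : ∀ x : ℤ, D.gs x ∈ W → 2 ∣ x - c := by
      intro x hx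
      rcases (hmem _).1 hx with h | h | h | h
      · exact absurd h (D.gs_ne_one x)
      · exact absurd h.symm (D.gr_ne_gs _ _)
      · exact D.two_dvd_of_dvd ((D.gs_eq_iff _ _).1 h)
      · have := D.two_dvd_of_dvd ((D.gs_eq_iff _ _).1 h)
        omega
    have := key a ha
    have := key b hb
    omega
  suffices H : ∀ g', ConjFunctor.Steps (ConjFunctor.fnFamily 2 (S : Subgroup G)) (U : Set G) g' →
      U.map (MulAut.conj g').toMonoidHom ≤ S ∧
        ∀ b : ℤ, D.gs b ∈ U.map (MulAut.conj g').toMonoidHom → 2 ∣ i - b from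
    (H g hsteps).2 j (hg ▸ hj)
  clear hsteps hg hj
  intro g' hs
  induction hs with
  | one =>
    have e : U.map (MulAut.conj (1 : G)).toMonoidHom = U := ConjFunctor.cj_one U
    rw [e]
    exact ⟨hUS, fun b hb => hpar U inferInstance hUS i b hi hb⟩
  | @step c x T _ hT hc hx ih =>
    set U₁ := U.map (MulAut.conj c).toMonoidHom with hU₁
    have h1T : U₁ ≤ T := by rintro _ ⟨t, ht, rfl⟩; exact hc ⟨t, ht, rfl⟩
    have e : U.map (MulAut.conj (x * c)).toMonoidHom = U₁.map (MulAut.conj x).toMonoidHom :=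
      ConjFunctor.cj_mul x c U
    rw [e]
    have h2T : U₁.map (MulAut.conj x).toMonoidHom ≤ T := by
      rintro _ ⟨t, ht, rfl⟩
      exact (Subgroup.mem_normalizer_iff.1 hx t).1 (h1T ht)
    refine ⟨h2T.trans hT.1, fun b hb => ?_⟩
    let eU := Subgroup.equivMapOfInjective U (MulAut.conj c).toMonoidHom (MulAut.conj c).injective
    haveI : IsKleinFour U₁ :=
      ⟨by rw [hU₁, ← Nat.card_congr eU.toEquiv, IsKleinFour.card_four],
        by rw [hU₁, ← Monoid.exponent_eq_of_mulEquiv eU, IsKleinFour.exponent_two]⟩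
    obtain ⟨a, -, ha, hmem⟩ := D.four_facts U₁ ih.1
    have hia := ih.2 a ha
    by_contra hnd
    have hab : ¬ 2 ∣ a - b := fun h => hnd (by omega)
    -- `T` contains reflections of both parities, so `T = S`
    have hr : D.gr (b - a) ∈ T := by
      rw [← D.gs_mul_gs]; exact mul_mem (h1T ha) (h2T hb)
    have hr1 : D.gr 1 ∈ T := by
      obtain ⟨j', hj'⟩ := D.pow
      have hco : IsCoprime (b - a) (D.m : ℤ) := by
        rw [hj']
        push_cast
        refine IsCoprime.pow_right ?_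
        rcases Int.even_or_odd (b - a) with ⟨r, hr'⟩ | ⟨r, hr'⟩
        · omega
        · exact ⟨1, -r, by rw [hr']; ring⟩
      obtain ⟨u, v, huv⟩ := hco
      have : D.gr 1 = D.gr (b - a) ^ u := by
        rw [D.gr_zpow, D.gr_eq_iff]; exact ⟨v, by linarith⟩
      rw [this]; exact T.zpow_mem hr u
    have hTS : T = (S : Subgroup G) := by
      refine le_antisymm hT.1 fun s hs => ?_
      obtain ⟨k, rfl | rfl⟩ := D.repr_G hs
      · rw [show D.gr k = D.gr 1 ^ k by rw [D.gr_zpow, one_mul]]; exact T.zpow_mem hr1 k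
      · rw [show D.gs k = D.gs a * D.gr 1 ^ (k - a) by
          rw [D.gr_zpow, one_mul, D.gs_mul_gr]; congr 1; ring]
        exact T.mul_mem (h1T ha) (T.zpow_mem hr1 _)
    subst hTS
    obtain ⟨_, ⟨t, ht, rfl⟩, he⟩ := hb
    rcases D.involution_cases (ih.1 ⟨t, ht, rfl⟩) (by
        rw [MulEquiv.coe_toMonoidHom, MulAut.conj_apply, orderOf_conj]
        exact orderOf_two_of_mul_self (congrArg Subtype.val (IsKleinFour.mul_self (⟨t, ht⟩ : U)))
          (fun h1 => D.gs_ne_one b (by rw [← he, h1]; simp))) with h | ⟨a', h⟩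
    · rw [h] at he
      have hb2 : x * D.gz * x⁻¹ = D.gs b := he
      rcases D.involution_cases ((Subgroup.mem_normalizer_iff.1 hx _).1 D.gz_mem)
        (by rw [orderOf_conj, D.orderOf_gz]) with h' | ⟨a', h'⟩
      · exact D.gr_ne_gs _ _ (h'.symm.trans hb2)
      · -- a conjugate of the centre is central
        have hcen := (D.gz_commute ((Subgroup.mem_normalizer_iff''.1 hx _).1 (D.gr_mem 1))).map
          (MulAut.conj x).toMonoidHom
        have hc' : Commute (D.gs b) (D.gr 1) := by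
          rw [← hb2]; simpa [mul_assoc] using hcen
        rw [commute_iff_eq, D.gs_mul_gr, D.gr_mul_gs, D.gs_eq_iff,
          show b + 1 - (b - 1) = 2 by ring, D.two_h] at hc'
        obtain ⟨q, hq⟩ := D.h_even_int
        have := Int.le_of_dvd (by norm_num) hc'
        have := D.h_pos
        omega
    · rw [h] at he
      have h4 := D.parity_of_normalizes hx (he : x * D.gs a' * x⁻¹ = D.gs b)
      have h5 := hpar U₁ inferInstance ih.1 a a' ha (h ▸ ⟨t, ht, rfl⟩)
      omega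

theorem classes_one (h0 : IsConj D.gz (D.gs 0)) (h1 : IsConj D.gz (D.gs 1)) :
    Nat.card {C : ConjClasses G // ∃ t : G, orderOf t = 2 ∧ ConjClasses.mk t = C} = 1 :=
  card_classes_eq_one D.orderOf_gz fun _ ht => by
    rcases D.involution_class ht with h | h | h
    · exact h
    · exact h.trans h0.symm
    · exact h.trans h1.symm

theorem classes_two {i j : ℤ} (hij : ¬ 2 ∣ i - j) (h0 : IsConj D.gz (D.gs i))
    (h1 : ¬ IsConj D.gz (D.gs j)) :
    Nat.card {C : ConjClasses G // ∃ t : G, orderOf t = 2 ∧ ConjClasses.mk t = C} = 2 :=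
  card_classes_eq_two D.orderOf_gz (D.orderOf_gs j) h1 fun _ ht => by
    rcases D.involution_class ht with h | h | h
    · exact Or.inl h
    · by_cases hj : 2 ∣ (0 : ℤ) - j
      · exact Or.inr (h.trans (D.isConj_gs hj))
      · exact Or.inl (h.trans ((D.isConj_gs (a := 0) (b := i) (by omega)).trans h0.symm))
    · by_cases hj : 2 ∣ (1 : ℤ) - j
      · exact Or.inr (h.trans (D.isConj_gs hj))
      · exact Or.inl (h.trans ((D.isConj_gs (a := 1) (b := i) (by omega)).trans h0.symm))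

theorem classes_three (h0 : ¬ IsConj D.gz (D.gs 0)) (h1 : ¬ IsConj D.gz (D.gs 1)) :
    Nat.card {C : ConjClasses G // ∃ t : G, orderOf t = 2 ∧ ConjClasses.mk t = C} = 3 := by
  refine card_classes_eq_three D.orderOf_gz (D.orderOf_gs 0) (D.orderOf_gs 1) h0 h1 (fun h => ?_)
    fun _ ht => D.involution_class ht
  haveI : Fact (Nat.Prime 2) := ⟨Nat.prime_two⟩
  obtain ⟨g, hg⟩ := isConj_iff.1 h
  obtain ⟨s, hs, hse⟩ := Transfer.fusion_of_hasNormalPComplement S (D.case_complement h0 h1)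
    (D.gs 0) (D.gs_mem 0) g⁻¹ (by rw [inv_inv, hg]; exact D.gs_mem 1)
  rw [inv_inv, hg] at hse
  obtain ⟨a, rfl | rfl⟩ := D.repr_G hs
  · rw [D.gr_inv, D.gr_mul_gs, D.gs_mul_gr, D.gs_eq_iff] at hse
    have := D.two_dvd_of_dvd hse
    omega
  · rw [D.gs_inv, D.gs_mul_gs, D.gr_mul_gs, D.gs_eq_iff] at hse
    have := D.two_dvd_of_dvd hse
    omega

end DihData

end Cfsg.Agent.Invol
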