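import Cfsg.Agent.Lib.Invol.QDSubgroups
import Cfsg.Agent.Lib.Invol.ThreePoint

/-!
# Fusion in groups with quasi-dihedral Sylow 2-subgroups

`z` is the central involution, `a = x ^ m` the element of order 4 in `⟨x⟩`, `q i = x ^ i y`.
-/

set_option linter.unusedSectionVars false
set_option linter.style.haveILetI false

namespace Cfsg.Agent.Invol

open scoped Pointwise

variable {G : Type*} [Group G] [Finite G] {S : Sylow 2 G}

namespace QDData

variable (D : QDData (S : Subgroup G))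

/-- The central involution, in `G`. -/
def gz : G := ((D.x ^ (2 * (D.m : ℤ)) : (S : Subgroup G)) : G)

/-- The element of order 4 inside the cyclic maximal subgroup, in `G`. -/
def ga : G := ((D.x ^ (D.m : ℤ) : (S : Subgroup G)) : G)

/-- The elements outside the cyclic maximal subgroup, in `G`. -/
def gq (i : ℤ) : G := ((D.x ^ i * D.y : (S : Subgroup G)) : G)

theorem gz_mem : D.gz ∈ S := SetLike.coe_mem _
theorem ga_mem : D.ga ∈ S := SetLike.coe_mem _
theorem gq_mem (i : ℤ) : D.gq i ∈ S := SetLike.coe_mem _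

theorem orderOf_gz : orderOf D.gz = 2 := by rw [gz, Subgroup.orderOf_coe, D.orderOf_z]

theorem orderOf_gq_even {i : ℤ} (hi : 2 ∣ i) : orderOf (D.gq i) = 2 := by
  rw [gq, Subgroup.orderOf_coe, D.orderOf_mul_y_even hi]

theorem orderOf_gq_odd {i : ℤ} (hi : ¬ 2 ∣ i) : orderOf (D.gq i) = 4 := by
  rw [gq, Subgroup.orderOf_coe, D.orderOf_mul_y_odd hi]

theorem orderOf_ga : orderOf D.ga = 4 := by
  rw [ga, Subgroup.orderOf_coe, zpow_natCast, orderOf_pow, D.ordx]
  have := D.m_pos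
  rw [Nat.gcd_eq_right (dvd_mul_left D.m 4), Nat.mul_div_cancel _ (by omega)]

theorem gz_commute {g : G} (hg : g ∈ S) : Commute D.gz g :=
  (D.z_central ⟨g, hg⟩).map (S : Subgroup G).subtype

theorem ga_sq : D.ga * D.ga = D.gz := by
  rw [ga, gz, ← Subgroup.coe_mul, ← zpow_add, two_mul]

theorem gq_sq {i : ℤ} (hi : ¬ 2 ∣ i) : D.gq i * D.gq i = D.gz := by
  rw [gq, gz, ← Subgroup.coe_mul, D.sq_mul_y_odd hi]

theorem gq_conj_in {i j : ℤ} (h : 2 ∣ i - j) : ∃ c ∈ S, c * D.gq i * c⁻¹ = D.gq j := by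
  obtain ⟨c, hc⟩ := isConj_iff.1 (D.isConj_mul_y i j h)
  exact ⟨c, c.2, congrArg Subtype.val hc⟩

theorem isConj_gq {i j : ℤ} (h : 2 ∣ i - j) : IsConj (D.gq i) (D.gq j) := by
  obtain ⟨c, -, hc⟩ := D.gq_conj_in h
  exact isConj_iff.2 ⟨c, hc⟩

/-- The involutions of `S`. -/
theorem involution_cases {t : G} (ht : t ∈ S) (ht2 : orderOf t = 2) :
    t = D.gz ∨ ∃ i : ℤ, 2 ∣ i ∧ t = D.gq i := by
  have h2 : (⟨t, ht⟩ : (S : Subgroup G)) * ⟨t, ht⟩ = 1 :=
    Subtype.ext (mul_self_of_orderOf_two ht2)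
  rcases D.sq_eq_one_cases h2 with ⟨i, hi, hdvd⟩ | ⟨i, hi, hev⟩
  · rcases D.z_cases hdvd with h | h
    · exact absurd (congrArg Subtype.val (hi.trans h)) (ne_one_of_orderOf_two ht2)
    · exact Or.inl (congrArg Subtype.val (hi.trans h))
  · exact Or.inr ⟨i, hev, congrArg Subtype.val hi⟩

/-- The elements of order 4 of `S`. -/
theorem order_four_cases {t : G} (ht : t ∈ S) (ht4 : orderOf t = 4) :
    t = D.ga ∨ t = D.ga⁻¹ ∨ ∃ i : ℤ, ¬ 2 ∣ i ∧ t = D.gq i := by
  have h4 : orderOf (⟨t, ht⟩ : (S : Subgroup G)) = 4 := by rw [Subgroup.orderOf_mk, ht4]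
  obtain ⟨j, hj | hj⟩ := D.repr_cases ⟨t, ht⟩
  · have hp := pow_orderOf_eq_one (⟨t, ht⟩ : (S : Subgroup G))
    rw [h4, hj, ← zpow_natCast, ← zpow_mul, D.zpow_eq_one_iff] at hp
    push_cast at hp
    rw [mul_comm j, Int.mul_dvd_mul_iff_left (by norm_num)] at hp
    obtain ⟨k, rfl, hk⟩ := D.dvd_two_m_cases j hp
    have hodd : ¬ 2 ∣ k := by
      intro h2
      have h22 : (⟨t, ht⟩ : (S : Subgroup G)) ^ 2 = 1 := by
        rw [hj, ← zpow_natCast, ← zpow_mul, D.zpow_eq_one_iff]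
        obtain ⟨c, hc⟩ := hk.2 h2
        exact ⟨c, by rw [hc]; push_cast; ring⟩
      have := Nat.le_of_dvd (by norm_num) (orderOf_dvd_of_pow_eq_one h22)
      omega
    rcases (show (∃ u, k = 4 * u + 1) ∨ ∃ u, k = 4 * u + -1 by
      obtain ⟨u, rfl⟩ : ∃ u, k = 2 * u + 1 := ⟨(k - 1) / 2, by omega⟩
      rcases Int.even_or_odd u with ⟨v, rfl⟩ | ⟨v, rfl⟩
      · exact Or.inl ⟨v, by ring⟩
      · exact Or.inr ⟨v + 1, by ring⟩) with ⟨u, rfl⟩ | ⟨u, rfl⟩
    · refine Or.inl ?_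
      have e : (⟨t, ht⟩ : (S : Subgroup G)) = D.x ^ (D.m : ℤ) := by
        rw [hj, D.zpow_eq_iff]; exact ⟨u, by ring⟩
      exact congrArg Subtype.val e
    · refine Or.inr (Or.inl ?_)
      have e : (⟨t, ht⟩ : (S : Subgroup G)) = (D.x ^ (D.m : ℤ))⁻¹ := by
        rw [hj, ← zpow_neg, D.zpow_eq_iff]; exact ⟨u, by ring⟩
      exact congrArg Subtype.val e
  · refine Or.inr (Or.inr ⟨j, fun hev => ?_, congrArg Subtype.val hj⟩)
    rw [hj, D.orderOf_mul_y_even hev] at h4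
    omega

theorem ga_isConj_inv : IsConj D.ga D.ga⁻¹ := by
  refine isConj_iff.2 ⟨(D.y : G), ?_⟩
  have h := congrArg Subtype.val D.a_conj_y
  rw [zpow_neg] at h
  exact h

theorem involution_class {t : G} (ht : orderOf t = 2) :
    IsConj t D.gz ∨ IsConj t (D.gq 0) := by
  haveI : Fact (Nat.Prime 2) := ⟨Nat.prime_two⟩
  obtain ⟨g, hg⟩ := exists_conj_mem_sylow S (k := 1) (t := t) (by rw [ht, pow_one])
  have hc : IsConj t (g * t * g⁻¹) := isConj_iff.2 ⟨g, rfl⟩
  rcases D.involution_cases hg (by rw [orderOf_conj, ht]) with h | ⟨i, hi, h⟩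
  · exact Or.inl (h ▸ hc)
  · exact Or.inr (hc.trans (h ▸ D.isConj_gq (by simpa using hi)))

theorem order_four_class {t : G} (ht : orderOf t = 4) :
    IsConj t D.ga ∨ IsConj t (D.gq 1) := by
  haveI : Fact (Nat.Prime 2) := ⟨Nat.prime_two⟩
  obtain ⟨g, hg⟩ := exists_conj_mem_sylow S (k := 2) (t := t) (by rw [ht]; norm_num)
  have hc : IsConj t (g * t * g⁻¹) := isConj_iff.2 ⟨g, rfl⟩
  rcases D.order_four_cases hg (by rw [orderOf_conj, ht]) with h | h | ⟨i, hi, h⟩
  · exact Or.inl (h ▸ hc)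
  · exact Or.inl (hc.trans (h ▸ D.ga_isConj_inv.symm))
  · exact Or.inr (hc.trans (h ▸ D.isConj_gq (by omega)))

/-- A four-subgroup of `S`, listed. -/
theorem four_facts (T : Subgroup G) [IsKleinFour T] (hTS : T ≤ S) :
    ∃ i : ℤ, 2 ∣ i ∧ D.gz ∈ T ∧ D.gq i ∈ T ∧
      (∀ t : G, t ∈ T ↔ t = 1 ∨ t = D.gz ∨ t = D.gq i ∨ t = D.gz * D.gq i) ∧
      (∀ g : G, g ∈ S → Commute g (D.gq i) → g ∈ T) := by
  let e := Subgroup.subgroupOfEquivOfLe hTS
  haveI : IsKleinFour (T.subgroupOf (S : Subgroup G)) :=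
    ⟨by rw [Nat.card_congr e.toEquiv, IsKleinFour.card_four],
      by rw [Monoid.exponent_eq_of_mulEquiv e, IsKleinFour.exponent_two]⟩
  obtain ⟨i, hev, hi, hmem⟩ := D.four_mem_iff (T.subgroupOf (S : Subgroup G))
  have hz : D.gz ∈ T := (hmem _).2 (D.z_central _)
  have hq : D.gq i ∈ T := hi
  refine ⟨i, hev, hz, hq, fun t => ⟨fun ht => ?_, ?_⟩,
    fun g hg hc => (hmem ⟨g, hg⟩).2 (Subtype.ext hc.eq)⟩
  · rcases D.commute_mul_y_cases ((hmem ⟨t, hTS ht⟩).1 ht) with h | h | h | h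
    · exact Or.inl (congrArg Subtype.val h)
    · exact Or.inr (Or.inl (congrArg Subtype.val h))
    · exact Or.inr (Or.inr (Or.inl (congrArg Subtype.val h)))
    · exact Or.inr (Or.inr (Or.inr (congrArg Subtype.val h)))
  · rintro (rfl | rfl | rfl | rfl)
    · exact one_mem _
    · exact hz
    · exact hq
    · exact mul_mem hz hq

theorem gz_ne_gq {i : ℤ} : D.gz ≠ D.gq i := fun h => D.zpow_ne_mul_y _ i (Subtype.ext h)

/-- `a` swaps `q i` and `z * q i` for `i` even. -/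
theorem ga_conj_gq_even {i : ℤ} : D.ga * D.gq i * D.ga⁻¹ = D.gz * D.gq i := by
  rw [ga, gz, gq, ← Subgroup.coe_inv, ← Subgroup.coe_mul, ← Subgroup.coe_mul, ← Subgroup.coe_mul]
  congr 1
  obtain ⟨m', hm'⟩ := D.m_even
  rw [D.mul_zpow_y, ← mul_assoc, ← zpow_add, D.mul_y_eq_iff]
  exact ⟨-m', by rw [hm']; ring⟩

/-- The automiser of a four-subgroup of `S`. -/
theorem four_automiser (T : Subgroup G) [IsKleinFour T] (hTS : T ≤ S) :
    ((Subgroup.centralizer (T : Set G)).relIndex (Subgroup.normalizer (T : Set G)) = 2 ∨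
      (Subgroup.centralizer (T : Set G)).relIndex (Subgroup.normalizer (T : Set G)) = 6) ∧
    ((Subgroup.centralizer (T : Set G)).relIndex (Subgroup.normalizer (T : Set G)) = 6 ↔
      IsConj D.gz (D.gq 0)) ∧
    ((Subgroup.centralizer (T : Set G)).relIndex (Subgroup.normalizer (T : Set G)) = 6 →
      ∀ p ∈ T, ∀ q ∈ T, p ≠ 1 → q ≠ 1 →
        ∃ n ∈ Subgroup.normalizer (T : Set G), n ^ 2 * p * (n ^ 2)⁻¹ = q) := by
  haveI : Fact (Nat.Prime 2) := ⟨Nat.prime_two⟩
  set N := Subgroup.normalizer (T : Set G) with hN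
  obtain ⟨i, hev, hz, hq, hT, hself⟩ := D.four_facts T hTS
  letI : MulAction N G := MulAction.compHom G (MulAut.conj.comp N.subtype)
  have hact : ∀ (n : N) (g : G), n • g = (n : G) * g * (n : G)⁻¹ := fun _ _ => rfl
  have hd1 : D.gz ≠ 1 := ne_one_of_orderOf_two D.orderOf_gz
  have hd2 : D.gq i ≠ 1 := ne_one_of_orderOf_two (D.orderOf_gq_even hev)
  have hd3 : D.gz * D.gq i ≠ 1 := fun h => D.gz_ne_gq (by
    rw [← inv_eq_of_mul_eq_one_right h, inv_of_orderOf_two D.orderOf_gz])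
  have hinv : ∀ n : N, ∀ p, (p = D.gz ∨ p = D.gq i ∨ p = D.gz * D.gq i) →
      (n • p = D.gz ∨ n • p = D.gq i ∨ n • p = D.gz * D.gq i) := by
    intro n p hp
    have hpT : p ∈ T := (hT p).2 (Or.inr hp)
    have h1 : n • p ∈ T := (Subgroup.mem_normalizer_iff.1 n.2 p).1 hpT
    rcases (hT _).1 h1 with h | h
    · exfalso
      have hp1 : p = 1 := conj_eq_one_iff.1 h
      rcases hp with rfl | rfl | rfl <;> contradiction
    · exact h
  have hK : ∀ n : N, n ∈ (Subgroup.centralizer (T : Set G)).subgroupOf N ↔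
      n • D.gz = D.gz ∧ n • D.gq i = D.gq i ∧ n • (D.gz * D.gq i) = D.gz * D.gq i := by
    intro n
    rw [Subgroup.mem_subgroupOf, Subgroup.mem_centralizer_iff]
    simp only [hact, mul_inv_eq_iff_eq_mul]
    constructor
    · intro h
      exact ⟨(h _ hz).symm, (h _ hq).symm, (h _ (mul_mem hz hq)).symm⟩
    · rintro ⟨h1, h2, h3⟩ t ht
      rcases (hT t).1 ht with rfl | rfl | rfl | rfl
      · rw [one_mul, mul_one]
      · exact h1.symm
      · exact h2.symm
      · exact h3.symm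
  have hsN : D.ga ∈ N := by
    have hfix : D.ga * D.gz * D.ga⁻¹ = D.gz := by
      rw [← (D.gz_commute D.ga_mem).eq, mul_inv_cancel_right]
    refine Subgroup.mem_normalizer_iff.2 fun t => ?_
    have key : ∀ t ∈ T, D.ga * t * D.ga⁻¹ ∈ T := by
      intro t ht
      rcases (hT t).1 ht with rfl | rfl | rfl | rfl
      · simp
      · rw [hfix]; exact hz
      · rw [D.ga_conj_gq_even]; exact mul_mem hz hq
      · rw [conj_mul.symm, hfix, D.ga_conj_gq_even, ← mul_assoc,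
          mul_self_of_orderOf_two D.orderOf_gz, one_mul]
        exact hq
    refine ⟨key t, fun h => ?_⟩
    -- four successive conjugations by `a` are trivial
    have h4 := key _ (key _ (key _ h))
    have e : D.ga * (D.ga * (D.ga * (D.ga * t * D.ga⁻¹) * D.ga⁻¹) * D.ga⁻¹) * D.ga⁻¹ =
        D.ga ^ 4 * t * (D.ga ^ 4)⁻¹ := by simp only [pow_succ, pow_zero, one_mul]; group
    rw [e, ← D.orderOf_ga, pow_orderOf_eq_one, one_mul, inv_one, mul_one] at h4
    exact h4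
  obtain ⟨hcases, hiff, hsq⟩ := three_point_action (N := N) D.gz (D.gq i) (D.gz * D.gq i)
    D.gz_ne_gq (fun h => hd2 (mul_eq_left.1 h.symm))
    (fun h => hd1 (mul_eq_right.1 h.symm)) hinv _ hK ⟨D.ga, hsN⟩
    (by rw [hact, ← (D.gz_commute D.ga_mem).eq, mul_inv_cancel_right])
    (by rw [hact]; exact D.ga_conj_gq_even)
  refine ⟨hcases, ?_, fun h6 p hp q' hq' hp1 hq1 => ?_⟩
  · rw [Subgroup.relIndex, hiff]
    constructor
    · rintro ⟨n, hn⟩
      have hc : IsConj D.gz (n • D.gz) := isConj_iff.2 ⟨n, rfl⟩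
      rcases hinv n _ (Or.inl rfl) with h | h | h
      · exact absurd h hn
      · exact (h ▸ hc).trans (D.isConj_gq (by simpa using hev))
      · rw [← D.ga_conj_gq_even] at h
        exact ((h ▸ hc).trans (isConj_iff.2 ⟨D.ga, rfl⟩ : IsConj (D.gq i) _).symm).trans
          (D.isConj_gq (by simpa using hev))
    · intro hconj
      obtain ⟨g, hg⟩ := isConj_iff.1 (((D.isConj_gq (i := i) (j := 0) (by simpa using hev)).trans
        hconj.symm))
      -- move `T` into `S`, with `q i` going to `z`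
      have hSC : (S : Subgroup G) ≤ Subgroup.centralizer ({D.gz} : Set G) := fun s hs =>
        Subgroup.mem_centralizer_singleton_iff.2 (D.gz_commute hs).symm.eq
      have hT2 : IsPGroup 2 ↥(T.map (MulAut.conj g).toMonoidHom) :=
        ((IsPGroup.of_card (n := 2) (by rw [IsKleinFour.card_four]; norm_num)) :
          IsPGroup 2 T).map _
      have hTC : T.map (MulAut.conj g).toMonoidHom ≤ Subgroup.centralizer ({D.gz} : Set G) := by
        rintro _ ⟨t, ht, rfl⟩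
        rw [Subgroup.mem_centralizer_singleton_iff, ← hg]
        have hc : t * D.gq i = D.gq i * t :=
          congrArg Subtype.val (mul_comm_of_exponent_two IsKleinFour.exponent_two
            (⟨t, ht⟩ : T) ⟨_, hq⟩)
        show g * t * g⁻¹ * (g * D.gq i * g⁻¹) = g * D.gq i * g⁻¹ * (g * t * g⁻¹)
        calc g * t * g⁻¹ * (g * D.gq i * g⁻¹) = g * (t * D.gq i) * g⁻¹ := by group
          _ = _ := by rw [hc]; group
      obtain ⟨c, hc, hcS⟩ := exists_conj_le_sylow S _ hSC hT2 hTC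
      set h := c * g with hh
      have hhT : T.map (MulAut.conj h).toMonoidHom ≤ (S : Subgroup G) := by
        rintro _ ⟨t, ht, rfl⟩
        have := hcS _ ⟨t, ht, rfl⟩
        show h * t * h⁻¹ ∈ S
        rw [hh, show c * g * t * (c * g)⁻¹ = c * (g * t * g⁻¹) * c⁻¹ by group]
        exact this
      have hhu : h * D.gq i * h⁻¹ = D.gz := by
        rw [hh, show c * g * D.gq i * (c * g)⁻¹ = c * (g * D.gq i * g⁻¹) * c⁻¹ by group, hg,
          Subgroup.mem_centralizer_singleton_iff.1 hc, mul_inv_cancel_right]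
      let T' : Subgroup G := T.map (MulAut.conj h).toMonoidHom
      let eT := Subgroup.equivMapOfInjective T (MulAut.conj h).toMonoidHom (MulAut.conj h).injective
      haveI : IsKleinFour T' :=
        ⟨by rw [← Nat.card_congr eT.toEquiv, IsKleinFour.card_four],
          by rw [← Monoid.exponent_eq_of_mulEquiv eT, IsKleinFour.exponent_two]⟩
      obtain ⟨j, hjev, hz', hq', hT', -⟩ := D.four_facts T' hhT
      have hfix : D.ga * D.gz * D.ga⁻¹ = D.gz := by
        rw [← (D.gz_commute D.ga_mem).eq, mul_inv_cancel_right]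
      have hnN : h⁻¹ * D.ga * h ∈ N := by
        refine Subgroup.mem_normalizer_iff.2 fun t => ?_
        have key : ∀ t, h * t * h⁻¹ ∈ T' ↔ t ∈ T := fun t =>
          ⟨fun ⟨s, hs, e⟩ => (mul_left_cancel (mul_right_cancel (e : h * s * h⁻¹ = h * t * h⁻¹))) ▸ hs,
            fun ht => ⟨t, ht, rfl⟩⟩
        have hnorm : ∀ s, s ∈ T' → D.ga * s * D.ga⁻¹ ∈ T' := by
          intro s hs
          rcases (hT' s).1 hs with rfl | rfl | rfl | rfl
          · simp
          · rw [hfix]; exact hz'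
          · rw [D.ga_conj_gq_even]; exact mul_mem hz' hq'
          · rw [conj_mul.symm, hfix, D.ga_conj_gq_even, ← mul_assoc,
              mul_self_of_orderOf_two D.orderOf_gz, one_mul]
            exact hq'
        rw [← key, ← key (h⁻¹ * D.ga * h * t * (h⁻¹ * D.ga * h)⁻¹),
          show h * (h⁻¹ * D.ga * h * t * (h⁻¹ * D.ga * h)⁻¹) * h⁻¹ =
            D.ga * (h * t * h⁻¹) * D.ga⁻¹ by group]
        refine ⟨hnorm _, fun h' => ?_⟩
        have h4 := hnorm _ (hnorm _ (hnorm _ h'))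
        have e : ∀ s, D.ga * (D.ga * (D.ga * (D.ga * s * D.ga⁻¹) * D.ga⁻¹) * D.ga⁻¹) * D.ga⁻¹ =
            D.ga ^ 4 * s * (D.ga ^ 4)⁻¹ := fun s => by simp only [pow_succ, pow_zero, one_mul]; group
        rw [e, ← D.orderOf_ga, pow_orderOf_eq_one, one_mul, inv_one, mul_one] at h4
        exact h4
      refine ⟨⟨_, hnN⟩, fun hfixz => ?_⟩
      -- a transposition of `T'` fixes only `z`
      have h1 : D.ga * (h * D.gz * h⁻¹) * D.ga⁻¹ = h * D.gz * h⁻¹ := by
        have := congrArg (fun s => h * s * h⁻¹) hfixz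
        simp only [hact] at this
        conv_rhs => rw [← this]
        group
      have hne : h * D.gz * h⁻¹ ≠ D.gz := by
        conv_rhs => rw [← hhu]
        exact fun e => D.gz_ne_gq (mul_left_cancel (mul_right_cancel e))
      have hmemT' : h * D.gz * h⁻¹ ∈ T' := ⟨D.gz, hz, rfl⟩
      have hd1' : D.gq j ≠ D.gz * D.gq j := fun e => hd1 (mul_eq_right.1 e.symm)
      rcases (hT' _).1 hmemT' with e | e | e | e
      · exact hd1 (conj_eq_one_iff.1 e)
      · exact hne e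
      · rw [e, D.ga_conj_gq_even] at h1
        exact hd1' h1.symm
      · rw [e, conj_mul.symm, hfix, D.ga_conj_gq_even, ← mul_assoc,
          mul_self_of_orderOf_two D.orderOf_gz, one_mul] at h1
        exact hd1' h1
  · obtain ⟨n, hn⟩ := hsq h6 p q' (((hT p).1 hp).resolve_left hp1) (((hT q').1 hq').resolve_left hq1)
    exact ⟨n, n.2, hn⟩

/-- A quaternion subgroup of `S`, listed. -/
theorem q8_facts_G (Q : Subgroup G) (hQS : Q ≤ S) (e : Q ≃* QuaternionGroup 2) :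
    ∃ i : ℤ, ¬ 2 ∣ i ∧ D.ga ∈ Q ∧ D.gq i ∈ Q ∧
      (∀ g ∈ Q, ∃ t : ℤ, g = D.ga ^ t ∨ g = D.ga ^ t * D.gq i) := by
  obtain ⟨i, hi, hmem⟩ := D.q8_mem_iff (Q.subgroupOf (S : Subgroup G))
    ((Subgroup.subgroupOfEquivOfLe hQS).trans e)
  have ha : D.ga ∈ Q := (hmem _).2 ⟨1, Or.inl (by rw [mul_one])⟩
  have hq : D.gq i ∈ Q := (hmem _).2 ⟨0, Or.inr (by rw [mul_zero, zpow_zero, one_mul])⟩
  refine ⟨i, hi, ha, hq, fun g hg => ?_⟩
  obtain ⟨t, h | h⟩ := (hmem ⟨g, hQS hg⟩).1 hg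
  · exact ⟨t, Or.inl (by rw [ga, ← SubgroupClass.coe_zpow, ← zpow_mul, ← h])⟩
  · exact ⟨t, Or.inr (by rw [ga, gq, ← SubgroupClass.coe_zpow, ← zpow_mul, ← Subgroup.coe_mul, ← h])⟩

/-- `x ^ ((m / 2) (1 + m))`, which fixes `a` and sends `q i` to `a * q i` for `i` odd. -/
theorem exists_swap :
    ∃ s : G, s ∈ S ∧ s * D.ga * s⁻¹ = D.ga ∧ ∀ i : ℤ, s * D.gq i * s⁻¹ = D.ga * D.gq i := by
  obtain ⟨m', hm'⟩ := D.m_even
  refine ⟨((D.x ^ (m' * (1 + (D.m : ℤ))) : (S : Subgroup G)) : G), SetLike.coe_mem _, ?_,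
    fun i => ?_⟩
  · rw [ga, ← Subgroup.coe_inv, ← Subgroup.coe_mul, ← Subgroup.coe_mul]
    congr 1
    rw [← zpow_add, ← zpow_neg, ← zpow_add]
    congr 1; ring
  · rw [ga, gq, ← Subgroup.coe_inv, ← Subgroup.coe_mul, ← Subgroup.coe_mul, ← Subgroup.coe_mul]
    congr 1
    rw [D.mul_zpow_y, show D.x ^ (D.m : ℤ) * (D.x ^ i * D.y) = D.x ^ ((D.m : ℤ) + i) * D.y by group,
      D.mul_y_eq_iff]
    exact ⟨-(m' * m'), by rw [hm']; ring⟩

end QDData

end Cfsg.Agent.Invol
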