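import Cfsg.Agent.Lib.Invol.WrCases
import Cfsg.Agent.Lib.Invol.ZStarCons

/-!
# Centralisers of involutions in groups with quasi-dihedral or wreathed Sylow 2-subgroups
-/

set_option linter.unusedSectionVars false
set_option linter.style.haveILetI false

namespace Cfsg.Agent.Invol

open Cfsg

universe u

variable {G : Type u} [Group G] [Finite G] {S : Sylow 2 G}

theorem mem_zpowers_of_orderOf_two {A : Type*} [Group A] {z v : A} (hz : orderOf z = 2)
    (h : v ∈ Subgroup.zpowers z) : v = 1 ∨ v = z := by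
  obtain ⟨t, rfl⟩ := Subgroup.mem_zpowers_iff.1 h
  rcases Int.even_or_odd t with ⟨c, rfl⟩ | ⟨c, rfl⟩
  · left
    rw [← two_mul, zpow_mul, zpow_two, mul_self_of_orderOf_two hz, one_zpow]
  · right
    rw [zpow_add_one, zpow_mul, zpow_two, mul_self_of_orderOf_two hz, one_zpow, one_mul]

theorem isQuasiDihedral_of_equiv {A B : Type*} [Group A] [Group B] (h : IsQuasiDihedral A)
    (e : A ≃* B) : IsQuasiDihedral B := by
  obtain ⟨n, hn, hc, x, y, hx, hy, hr⟩ := h
  exact ⟨n, hn, (Nat.card_congr e.toEquiv).symm.trans hc, e x, e y,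
    by rw [MulEquiv.orderOf_eq, hx], by rw [MulEquiv.orderOf_eq, hy],
    by rw [← map_inv, ← map_mul, ← map_mul, hr, map_pow]⟩

theorem isWreathed_of_equiv {A B : Type*} [Group A] [Group B] (h : IsWreathed A) (e : A ≃* B) :
    IsWreathed B := by
  obtain ⟨n, hn, hc, x, y, z, hx, hxy, hd, hz, hzx⟩ := h
  refine ⟨n, hn, (Nat.card_congr e.toEquiv).symm.trans hc, e x, e y, e z,
    by rw [MulEquiv.orderOf_eq, hx], by rw [← map_mul, ← map_mul, hxy], ?_,
    by rw [MulEquiv.orderOf_eq, hz], by rw [← map_inv, ← map_mul, ← map_mul, hzx]⟩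
  have hx' : Subgroup.zpowers (e x) = (Subgroup.zpowers x).map e.toMonoidHom :=
    (MonoidHom.map_zpowers e.toMonoidHom x).symm
  have hy' : Subgroup.zpowers (e y) = (Subgroup.zpowers y).map e.toMonoidHom :=
    (MonoidHom.map_zpowers e.toMonoidHom y).symm
  rw [hx', hy', ← Subgroup.map_inf _ _ _ e.injective, hd, Subgroup.map_bot]

/-- Transport of wreathed data along an isomorphism. -/
def WrData.map {A B : Type*} [Group A] [Group B] (D : WrData A) (e : A ≃* B) : WrData B where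
  n := D.n
  h := D.h
  x := e D.x
  y := e D.y
  z := e D.z
  two_le := D.two_le
  h_eq := D.h_eq
  card_eq := (Nat.card_congr e.toEquiv).symm.trans D.card_eq
  ordx := by rw [MulEquiv.orderOf_eq, D.ordx]
  comm := by rw [← map_mul, ← map_mul, D.comm]
  disj := by
    have hx : Subgroup.zpowers (e D.x) = (Subgroup.zpowers D.x).map e.toMonoidHom :=
      (MonoidHom.map_zpowers e.toMonoidHom D.x).symm
    have hy : Subgroup.zpowers (e D.y) = (Subgroup.zpowers D.y).map e.toMonoidHom :=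
      (MonoidHom.map_zpowers e.toMonoidHom D.y).symm
    rw [hx, hy, ← Subgroup.map_inf _ _ _ e.injective, D.disj, Subgroup.map_bot]
  ordz := by rw [MulEquiv.orderOf_eq, D.ordz]
  conjz := by rw [← map_inv, ← map_mul, ← map_mul, D.conjz]

theorem WrData.map_u {A B : Type*} [Group A] [Group B] (D : WrData A) (e : A ≃* B) (a b : ℤ) :
    (D.map e).u a b = e (D.u a b) := by
  simp [WrData.u, WrData.map, map_mul, map_zpow]

/-- Transport of quasi-dihedral data along an isomorphism. -/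
def QDData.map {A B : Type*} [Group A] [Group B] (D : QDData A) (e : A ≃* B) : QDData B where
  n := D.n
  m := D.m
  x := e D.x
  y := e D.y
  three_le := D.three_le
  m_eq := D.m_eq
  card_eq := (Nat.card_congr e.toEquiv).symm.trans D.card_eq
  ordx := by rw [MulEquiv.orderOf_eq, D.ordx]
  ordy := by rw [MulEquiv.orderOf_eq, D.ordy]
  rel := by rw [← map_inv, ← map_mul, ← map_mul, D.rel, map_zpow]

theorem QDData.fused_of_no_index_two (D : QDData (S : Subgroup G))
    (hG : ∀ H : Subgroup G, H.index ≠ 2) : IsConj D.gz (D.gq 0) ∧ IsConj D.ga (D.gq 1) := by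
  constructor
  · by_contra h
    obtain ⟨K, -, hK, -⟩ := D.exists_ne_gz_class h
    exact hG K hK
  · by_contra h
    obtain ⟨K, -, hK, -⟩ := D.exists_ne_ga_class h
    exact hG K hK

theorem WrData.fused_of_no_index_two (D : WrData (S : Subgroup G))
    (hG : ∀ H : Subgroup G, H.index ≠ 2) : IsConj D.gw D.ge ∧ IsConj D.gi (D.gq 0) := by
  constructor
  · by_contra h
    obtain ⟨T, ξ, ζ, hξ, -, hu, -⟩ := D.exists_char h
    haveI : NeZero (2 * D.h) := ⟨by have := D.h_pos; omega⟩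
    let f : G →* Multiplicative (ZMod 2) :=
      ((ZMod.castHom (dvd_mul_right 2 D.h) (ZMod 2)).toAddMonoidHom.toMultiplicative).comp T
    have hf : f (D.gu 1 0) = Multiplicative.ofAdd (1 : ZMod 2) := by
      show Multiplicative.ofAdd (ZMod.castHom (dvd_mul_right 2 D.h) (ZMod 2)
        (Multiplicative.toAdd (T (D.gu 1 0)))) = _
      rw [hu]
      refine congrArg Multiplicative.ofAdd ?_
      rw [toAdd_ofAdd, map_intCast]
      obtain ⟨k, rfl⟩ := hξ
      push_cast
      rw [show (2 : ZMod 2) = 0 from rfl]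
      ring
    have hsurj : Function.Surjective f := by
      intro v
      rcases (show ∀ v : Multiplicative (ZMod 2), v = 1 ∨ v = Multiplicative.ofAdd 1 by decide) v
        with rfl | rfl
      · exact ⟨1, map_one f⟩
      · exact ⟨_, hf⟩
    refine hG f.ker ?_
    rw [Subgroup.index_ker, MonoidHom.range_eq_top.2 hsurj, Subgroup.card_top,
      Nat.card_congr Multiplicative.toAdd, Nat.card_zmod]
  · by_contra h
    obtain ⟨K, -, hK, -⟩ := D.exists_index_two_gz h
    exact hG K hK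

/-- A Sylow 2-subgroup centralising a conjugate of a central element. -/
theorem exists_sylow_le_centralizer {x w : G} (h : IsConj x w) (hw : ∀ s ∈ S, Commute w s) :
    ∃ S' : Sylow 2 G, (S' : Subgroup G) ≤ Subgroup.centralizer ({x} : Set G) ∧
      Nonempty ((S : Subgroup G) ≃* (S' : Subgroup G)) := by
  haveI : Fact (Nat.Prime 2) := ⟨Nat.prime_two⟩
  obtain ⟨c, hc⟩ := isConj_iff.1 h
  refine ⟨c⁻¹ • S, fun v hv => ?_, ⟨Sylow.equiv S (c⁻¹ • S)⟩⟩
  rw [Sylow.coe_subgroup_smul, Subgroup.mem_pointwise_smul_iff_inv_smul_mem, ← map_inv, inv_inv]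
    at hv
  rw [Subgroup.mem_centralizer_singleton_iff]
  have h2 : Commute w (c * v * c⁻¹) := hw _ hv
  have := h2.map (MulAut.conj c⁻¹).toMonoidHom
  simp only [← hc, MulEquiv.coe_toMonoidHom, MulAut.conj_apply, inv_inv] at this
  simpa [mul_assoc] using this.symm.eq

theorem WrData.eq_gw_of_central (D : WrData (S : Subgroup G)) {x : G} (hxS : x ∈ S)
    (hx : orderOf x = 2) (hc : ∀ s ∈ S, Commute x s) : x = D.gw := by
  have hmem : x ∈ D.gcent :=
    ⟨⟨x, hxS⟩, Subgroup.mem_center_iff.2 fun s => Subtype.ext (hc s s.2).symm.eq, rfl⟩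
  obtain ⟨t, rfl⟩ := D.mem_gcent_iff.1 hmem
  rcases D.base_involution_cases (D.gu_mem_base t t) hx with h | h | h
  · exact h
  · exact absurd h (D.diag_ne_ge t).1
  · exact absurd h (D.diag_ne_ge t).2

theorem QDData.eq_gz_of_central (D : QDData (S : Subgroup G)) {x : G} (hxS : x ∈ S)
    (hx : orderOf x = 2) (hc : ∀ s ∈ S, Commute x s) : x = D.gz := by
  have hmem : (⟨x, hxS⟩ : (S : Subgroup G)) ∈ Subgroup.center (S : Subgroup G) :=
    Subgroup.mem_center_iff.2 fun s => Subtype.ext (hc s s.2).symm.eq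
  rw [D.center_eq] at hmem
  rcases mem_zpowers_of_orderOf_two D.orderOf_z hmem with h | h
  · rw [show x = 1 from congrArg Subtype.val h, orderOf_one] at hx
    omega
  · exact congrArg Subtype.val h

theorem sylow_subtype_equiv {C : Subgroup G} (h : (S : Subgroup G) ≤ C) :
    Nonempty ((S : Subgroup G) ≃* (S.subtype h : Subgroup C)) :=
  ⟨(Subgroup.subgroupOfEquivOfLe h).symm.trans
    (MulEquiv.subgroupCongr (Sylow.coe_subtype S h).symm)⟩

theorem centralizer_facts_wreathed (hS : IsWreathed (S : Subgroup G))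
    (hG : ∀ H : Subgroup G, H.index ≠ 2) {x : G} (hx : orderOf x = 2) :
    ∃ R : Sylow 2 ↥(Subgroup.centralizer ({x} : Set G)), Nat.card R = Nat.card S ∧
      (∃ K : Subgroup ↥(Subgroup.centralizer ({x} : Set G)), K.Normal ∧ (∃ a : ℕ, K.index = 2 ^ a) ∧
        (∀ H : Subgroup ↥K, H.index ≠ 2) ∧
        (∀ P : Sylow 2 ↥K, ∃ m : ℕ, 1 ≤ m ∧
          Nonempty ((P : Subgroup ↥K) ≃* QuaternionGroup (2 ^ m)))) ∧
      (∀ Z₀ : Subgroup ↥(Subgroup.centralizer ({x} : Set G)),
        Z₀ ≤ ((Subgroup.center (R : Subgroup ↥(Subgroup.centralizer ({x} : Set G)))).map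
          (R : Subgroup ↥(Subgroup.centralizer ({x} : Set G))).subtype) →
          IsWeaklyClosed Z₀ (R : Subgroup ↥(Subgroup.centralizer ({x} : Set G)))) := by
  haveI : Fact (Nat.Prime 2) := ⟨Nat.prime_two⟩
  obtain ⟨D₀⟩ := wr_exists hS
  obtain ⟨f1, f2⟩ := D₀.fused_of_no_index_two hG
  have hxw : IsConj x D₀.gw := by
    rcases D₀.involution_class hx with h | h | h
    · exact h
    · exact h.trans f1.symm
    · exact h.trans ((D₀.isConj_ge_gf f2).symm.trans f1.symm)
  obtain ⟨S', hS'C, ⟨e'⟩⟩ := exists_sylow_le_centralizer (S := S) hxw fun s hs => D₀.gw_commute hs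
  set C := Subgroup.centralizer ({x} : Set G)
  let R : Sylow 2 C := S'.subtype hS'C
  obtain ⟨eR⟩ := sylow_subtype_equiv (S := S') hS'C
  have hRwr : IsWreathed (R : Subgroup C) := isWreathed_of_equiv hS (e'.trans eR)
  obtain ⟨DC⟩ := wr_exists hRwr
  let e : (R : Subgroup C) ≃* (S' : Subgroup G) :=
    (MulEquiv.subgroupCongr (Sylow.coe_subtype S' hS'C)).trans (Subgroup.subgroupOfEquivOfLe hS'C)
  let D := DC.map e
  have hcoe : ∀ a b : ℤ, D.gu a b = ((DC.gu a b : C) : G) := fun a b => by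
    rw [WrData.gu, DC.map_u e]; rfl
  have hxC : x ∈ C := Subgroup.mem_centralizer_singleton_iff.2 rfl
  have hxS : x ∈ S' := by
    by_contra hns
    have hsub : IsPGroup 2 ↥(Subgroup.zpowers x ⊔ (S' : Subgroup G)) := by
      refine (IsPGroup.of_card (n := 1) (G := Subgroup.zpowers x)
        (by rw [Nat.card_zpowers, hx, pow_one])).to_sup_of_normal_right' S'.2 ?_
      rw [Subgroup.zpowers_le, Subgroup.mem_normalizer_iff]
      intro v
      constructor
      · intro hv
        rwa [← (Subgroup.mem_centralizer_singleton_iff.1 (hS'C hv)), mul_inv_cancel_right]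
      · intro hv
        have hcv := Subgroup.mem_centralizer_singleton_iff.1 (hS'C hv)
        have : x * v * x⁻¹ = v := by
          calc x * v * x⁻¹ = x⁻¹ * (x * v * x⁻¹ * x) := by rw [hcv]; group
            _ = v := by group
        rwa [← this]
    refine hns ?_
    show x ∈ (S' : Subgroup G)
    rw [← S'.3 hsub le_sup_right]
    exact Subgroup.mem_sup_left (Subgroup.mem_zpowers x)
  have hxgw : x = D.gw := D.eq_gw_of_central hxS hx fun s hs =>
    (show Commute s x from Subgroup.mem_centralizer_singleton_iff.1 (hS'C hs)).symm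
  have g1 : ¬ IsConj DC.gw DC.ge := by
    intro h
    obtain ⟨c, hc⟩ := isConj_iff.1 h
    refine DC.gw_ne_ge ?_
    rw [← hc]
    apply Subtype.ext
    have hv : ((DC.gw : C) : G) = x := by rw [hxgw]; exact (hcoe _ _).symm
    show ((DC.gw : C) : G) = (c : G) * ((DC.gw : C) : G) * (c : G)⁻¹
    rw [hv, Subgroup.mem_centralizer_singleton_iff.1 c.2, mul_inv_cancel_right]
  have g2 : IsConj DC.gi (DC.gq 0) := by
    obtain ⟨n, -, hc, hn⟩ := D.exists_three_cycle (D.fused_of_no_index_two hG).2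
    have hnC : n ^ 2 ∈ C := by
      rw [Subgroup.mem_centralizer_singleton_iff, hxgw]
      exact ((hc _ (D.mem_gcent_iff.2 ⟨_, rfl⟩)).pow_left 2).eq
    have hi : D.gi = ((DC.gi : C) : G) := hcoe _ _
    have hq : D.gq 0 = ((DC.gq 0 : C) : G) := by
      rw [WrData.gq, WrData.gq, Subgroup.coe_mul, ← hcoe]; rfl
    rw [hi, hq] at hn
    rcases hn with h | h
    · exact isConj_iff.2 ⟨⟨n ^ 2, hnC⟩, Subtype.ext h⟩
    · refine DC.isConj_gi_inv.trans (isConj_iff.2 ⟨⟨n ^ 2, hnC⟩, Subtype.ext ?_⟩)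
      show n ^ 2 * ((DC.gi : C) : G)⁻¹ * (n ^ 2)⁻¹ = ((DC.gq 0 : C) : G)
      rw [← conj_inv, h, inv_inv]
  obtain ⟨K, hK1, hK2, hK3, hK4⟩ := DC.case_quat g1 g2
  exact ⟨R, (Nat.card_congr (e'.trans eR).toEquiv).symm, ⟨K, hK1, ⟨_, hK2⟩, hK4, hK3⟩,
    fun Z₀ hZ => DC.weaklyClosed_le_gcent g1 hZ⟩

theorem centralizer_facts_quasidihedral (hS : IsQuasiDihedral (S : Subgroup G))
    (hG : ∀ H : Subgroup G, H.index ≠ 2) {x : G} (hx : orderOf x = 2) :
    ∃ R : Sylow 2 ↥(Subgroup.centralizer ({x} : Set G)), Nat.card R = Nat.card S ∧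
      (∃ K : Subgroup ↥(Subgroup.centralizer ({x} : Set G)), K.Normal ∧ (∃ a : ℕ, K.index = 2 ^ a) ∧
        (∀ H : Subgroup ↥K, H.index ≠ 2) ∧
        (∀ P : Sylow 2 ↥K, ∃ m : ℕ, 1 ≤ m ∧
          Nonempty ((P : Subgroup ↥K) ≃* QuaternionGroup (2 ^ m)))) ∧
      (∀ Z₀ : Subgroup ↥(Subgroup.centralizer ({x} : Set G)),
        Z₀ ≤ ((Subgroup.center (R : Subgroup ↥(Subgroup.centralizer ({x} : Set G)))).map
          (R : Subgroup ↥(Subgroup.centralizer ({x} : Set G))).subtype) →
          IsWeaklyClosed Z₀ (R : Subgroup ↥(Subgroup.centralizer ({x} : Set G)))) := by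
  haveI : Fact (Nat.Prime 2) := ⟨Nat.prime_two⟩
  obtain ⟨D₀⟩ := qd_exists hS
  obtain ⟨f1, -⟩ := D₀.fused_of_no_index_two hG
  have hxw : IsConj x D₀.gz := (D₀.involution_class hx).elim id fun h => h.trans f1.symm
  obtain ⟨S', hS'C, ⟨e'⟩⟩ := exists_sylow_le_centralizer (S := S) hxw fun s hs => D₀.gz_commute hs
  set C := Subgroup.centralizer ({x} : Set G)
  let R : Sylow 2 C := S'.subtype hS'C
  obtain ⟨eR⟩ := sylow_subtype_equiv (S := S') hS'C
  have hRqd : IsQuasiDihedral (R : Subgroup C) := isQuasiDihedral_of_equiv hS (e'.trans eR)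
  obtain ⟨DC⟩ := qd_exists hRqd
  let e : (R : Subgroup C) ≃* (S' : Subgroup G) :=
    (MulEquiv.subgroupCongr (Sylow.coe_subtype S' hS'C)).trans (Subgroup.subgroupOfEquivOfLe hS'C)
  let D := DC.map e
  have hxS : x ∈ S' := by
    by_contra hns
    have hsub : IsPGroup 2 ↥(Subgroup.zpowers x ⊔ (S' : Subgroup G)) := by
      refine (IsPGroup.of_card (n := 1) (G := Subgroup.zpowers x)
        (by rw [Nat.card_zpowers, hx, pow_one])).to_sup_of_normal_right' S'.2 ?_
      rw [Subgroup.zpowers_le, Subgroup.mem_normalizer_iff]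
      intro v
      constructor
      · intro hv
        rwa [← (Subgroup.mem_centralizer_singleton_iff.1 (hS'C hv)), mul_inv_cancel_right]
      · intro hv
        have hcv := Subgroup.mem_centralizer_singleton_iff.1 (hS'C hv)
        have : x * v * x⁻¹ = v := by
          calc x * v * x⁻¹ = x⁻¹ * (x * v * x⁻¹ * x) := by rw [hcv]; group
            _ = v := by group
        rwa [← this]
    refine hns ?_
    show x ∈ (S' : Subgroup G)
    rw [← S'.3 hsub le_sup_right]
    exact Subgroup.mem_sup_left (Subgroup.mem_zpowers x)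
  have hxgz : x = D.gz := D.eq_gz_of_central hxS hx fun s hs =>
    (show Commute s x from Subgroup.mem_centralizer_singleton_iff.1 (hS'C hs)).symm
  have hzc : D.gz = ((DC.gz : C) : G) := by
    show ((((e DC.x) ^ _ : (S' : Subgroup G))) : G) = _
    rw [← map_zpow]; rfl
  have hac : D.ga = ((DC.ga : C) : G) := by
    show ((((e DC.x) ^ _ : (S' : Subgroup G))) : G) = _
    rw [← map_zpow]; rfl
  have hqc : ∀ i : ℤ, D.gq i = ((DC.gq i : C) : G) := fun i => by
    show ((((e DC.x) ^ i * e DC.y : (S' : Subgroup G))) : G) = _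
    rw [← map_zpow, ← map_mul]; rfl
  have g1 : ¬ IsConj DC.gz (DC.gq 0) := by
    intro h
    obtain ⟨c, hc⟩ := isConj_iff.1 h
    refine DC.gz_ne_gq (i := 0) ?_
    rw [← hc]
    apply Subtype.ext
    have hv : ((DC.gz : C) : G) = x := by rw [hxgz, hzc]
    show ((DC.gz : C) : G) = (c : G) * ((DC.gz : C) : G) * (c : G)⁻¹
    rw [hv, Subgroup.mem_centralizer_singleton_iff.1 c.2, mul_inv_cancel_right]
  have g2 : IsConj DC.ga (DC.gq 1) := by
    have h1 : ¬ (2 : ℤ) ∣ 1 := by norm_num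
    obtain ⟨eQ⟩ := D.nonempty_q8 h1
    set Q := Subgroup.closure ({D.gq 1, D.ga} : Set G) with hQ
    obtain ⟨-, hiff, hsq⟩ := D.q8_automiser Q (QDData.closure_pair_le (D.gq_mem 1) D.ga_mem) eQ
    obtain ⟨n, -, hn⟩ := hsq (hiff.2 (D.fused_of_no_index_two hG).2) D.ga
      (Subgroup.subset_closure (by simp)) (D.gq 1) (Subgroup.subset_closure (by simp))
      D.orderOf_ga (D.orderOf_gq_odd h1)
    have hnC : n ^ 2 ∈ C := by
      rw [Subgroup.mem_centralizer_singleton_iff, hxgz]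
      refine mul_inv_eq_iff_eq_mul.1 ?_
      rw [← D.ga_sq, show n ^ 2 * (D.ga * D.ga) * (n ^ 2)⁻¹ =
        (n ^ 2 * D.ga * (n ^ 2)⁻¹) * (n ^ 2 * D.ga * (n ^ 2)⁻¹) by group]
      rcases hn with h | h <;> rw [h]
      · rw [D.gq_sq h1, D.ga_sq]
      · rw [← mul_inv_rev, D.gq_sq h1, inv_of_orderOf_two D.orderOf_gz, D.ga_sq]
    rw [hac, hqc] at hn
    rcases hn with h | h
    · exact isConj_iff.2 ⟨⟨n ^ 2, hnC⟩, Subtype.ext h⟩
    · refine DC.ga_isConj_inv.trans (isConj_iff.2 ⟨⟨n ^ 2, hnC⟩, Subtype.ext ?_⟩)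
      show n ^ 2 * ((DC.ga : C) : G)⁻¹ * (n ^ 2)⁻¹ = ((DC.gq 1 : C) : G)
      rw [← conj_inv, h, inv_inv]
  obtain ⟨K, hK1, hK2, hK3, hK4⟩ := DC.case_quat g1 g2
  refine ⟨R, (Nat.card_congr (e'.trans eR).toEquiv).symm,
    ⟨K, hK1, ⟨1, by rw [hK2, pow_one]⟩, hK4, hK3⟩, fun Z₀ hZ => ?_⟩
  -- the centre has order two
  have hcard : Nat.card ((Subgroup.center (R : Subgroup C)).map (R : Subgroup C).subtype :
      Subgroup C) = 2 := by
    rw [Subgroup.card_map_of_injective (R : Subgroup C).subtype_injective]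
    exact DC.card_center
  have hdvd := Subgroup.card_dvd_of_le hZ
  rw [hcard] at hdvd
  rcases (Nat.dvd_prime Nat.prime_two).1 hdvd with h | h
  · rw [Subgroup.card_eq_one.1 h]
    exact ⟨bot_le, fun g _ => Subgroup.map_bot _⟩
  · rw [Subgroup.eq_of_le_of_card_ge hZ (by rw [hcard, h])]
    exact DC.weaklyClosed_center g1

/-- An isolated involution in a quasi-dihedral or wreathed Sylow 2-subgroup makes `O(G) Z(S)`
normal. -/
theorem oddCore_sup_center_normal (hZ : ZStarHyp.{u}) (S : Sylow 2 G)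
    (hS : IsQuasiDihedral (S : Subgroup G) ∨ IsWreathed (S : Subgroup G)) {z : G} (hzS : z ∈ S)
    (hz : IsIsolatedInvolution z) :
    (oddCore G ⊔ (Subgroup.center (S : Subgroup G)).map (S : Subgroup G).subtype).Normal := by
  haveI : Fact (Nat.Prime 2) := ⟨Nat.prime_two⟩
  set Z := (Subgroup.center (S : Subgroup G)).map (S : Subgroup G).subtype with hZdef
  have hzc : ∀ s ∈ S, Commute z s := by
    intro s hs
    have h := isolated_eq_of_mem_pGroup hz S.2 hzS (isConj_iff.2 ⟨s, rfl⟩)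
      (mul_mem (mul_mem hs hzS) (inv_mem hs))
    exact (mul_inv_eq_iff_eq_mul.1 h).symm
  have hwc : ∀ b ∈ Z, ∀ g : G, g * b * g⁻¹ ∈ S → g * b * g⁻¹ = b := by
    rcases hS with h | h
    · obtain ⟨D⟩ := qd_exists h
      have hzgz := D.eq_gz_of_central hzS hz.1 hzc
      intro b hb g hg
      rw [hZdef, D.center_eq, MonoidHom.map_zpowers] at hb
      rcases mem_zpowers_of_orderOf_two D.orderOf_gz hb with h1 | h1
      · subst h1; group
      · rw [h1, ← hzgz] at hg ⊢
        exact isolated_eq_of_mem_pGroup hz S.2 hzS (isConj_iff.2 ⟨g, rfl⟩) hg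
    · obtain ⟨D⟩ := wr_exists h
      have hzgw := D.eq_gw_of_central hzS hz.1 hzc
      have h1 : ¬ IsConj D.gw D.ge := fun hc => D.gw_ne_ge
        (isolated_eq_of_mem_pGroup (hzgw ▸ hz) S.2 (hzgw ▸ hzS) hc D.ge_mem).symm
      exact fun b hb g hg => D.central_weakly_closed h1 hb hg
  refine ⟨fun x hx g => ?_⟩
  have hle : oddCore G ⊔ Z ≤ (oddCore G ⊔ Z).comap (MulAut.conj g).toMonoidHom := by
    refine sup_le (fun v hv => Subgroup.mem_sup_left (Subgroup.Normal.conj_mem inferInstance v hv g))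
      (fun b hb => ?_)
    show g * b * g⁻¹ ∈ oddCore G ⊔ Z
    have hb' : b ∈ (S : Subgroup G) := Subgroup.map_subtype_le _ hb
    have h := central_mod_oddCore hZ S hb' (fun c hc g' hg' =>
      hwc c (Subgroup.zpowers_le.2 hb hc) g' hg') g
    rw [show g * b * g⁻¹ = (b * g * b⁻¹ * g⁻¹)⁻¹ * b by group]
    exact mul_mem (Subgroup.mem_sup_left (inv_mem h)) (Subgroup.mem_sup_right hb)
  exact hle hx

end Cfsg.Agent.Invol
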