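import Cfsg.Agent.Lib.Invol.WrClasses

/-!
# The four fusion cases for wreathed Sylow 2-subgroups
-/

set_option linter.unusedSectionVars false
set_option linter.style.haveILetI false

namespace Cfsg.Agent.Invol

open Cfsg

variable {G : Type*} [Group G] [Finite G] {S : Sylow 2 G}

theorem pick_of_three {α : Type*} {a b c p q r s : α} (hp : p = a ∨ p = b ∨ p = c)
    (hq : q = a ∨ q = b ∨ q = c) (hr : r = a ∨ r = b ∨ r = c) (hs : s = a ∨ s = b ∨ s = c)
    (hpq : p ≠ q) (hpr : p ≠ r) (hqr : q ≠ r) (hsq : s ≠ q) (hsr : s ≠ r) : s = p := by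
  rcases hp with rfl | rfl | rfl <;> rcases hq with rfl | rfl | rfl <;>
    rcases hr with rfl | rfl | rfl <;> first
      | exact absurd rfl hpq
      | exact absurd rfl hpr
      | exact absurd rfl hqr
      | (rcases hs with rfl | rfl | rfl <;> first
          | rfl
          | exact absurd rfl hsq
          | exact absurd rfl hsr)

namespace WrData

variable (D : WrData (S : Subgroup G))

/-- The generator of the antidiagonal. -/
def gd : G := D.gu 1 (-1)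

theorem gd_zpow (t : ℤ) : D.gd ^ t = D.gu t (-t) := by rw [gd, D.gu_zpow, one_mul, neg_one_mul]

theorem orderOf_gd : orderOf D.gd = 2 * D.h := by
  have hiff : ∀ t : ℤ, D.gd ^ t = 1 ↔ 2 * (D.h : ℤ) ∣ t := fun t => by
    rw [D.gd_zpow, D.gu_eq_one_iff, dvd_neg, and_self]
  refine Nat.dvd_antisymm (orderOf_dvd_iff_pow_eq_one.2 ?_) ?_
  · rw [← zpow_natCast, hiff]; push_cast; exact dvd_rfl
  · have := (hiff (orderOf D.gd)).1 (by rw [zpow_natCast, pow_orderOf_eq_one])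
    exact_mod_cast this

/-- The generalised quaternion subgroup `⟨gd, gq 0⟩` of index `2 h`. -/
def gquatLarge : Subgroup G := Subgroup.closure ({D.gq 0, D.gd} : Set G)

theorem gq_conj_gd : D.gq 0 * D.gd * (D.gq 0)⁻¹ = D.gd⁻¹ := by
  rw [gq, gd, D.guz_conj_gu, D.gu_inv, neg_neg]

theorem gq_eq_gd_zpow_mul (a : ℤ) : D.gq a = D.gd ^ a * D.gq 0 := by
  rw [D.gd_zpow, gq, gq, ← mul_assoc, D.gu_mul, mul_left_inj, D.gu_eq_iff]
  exact ⟨⟨0, by ring⟩, ⟨0, by ring⟩⟩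

theorem nonempty_gquatLarge : Nonempty (D.gquatLarge ≃* QuaternionGroup D.h) := by
  obtain ⟨e⟩ := nonempty_quaternionEquiv D.gq_conj_gd D.h D.orderOf_gd
    (by rw [D.gq_sq, ← zpow_natCast, D.gd_zpow, gw, D.gu_eq_iff]
        exact ⟨⟨0, by ring⟩, ⟨1, by ring⟩⟩)
    (fun h => D.guz_notMem _ _ (Subgroup.zpowers_le.2 (D.gu_mem_base _ _) h))
  exact ⟨e.symm⟩

theorem gquatLarge_le : D.gquatLarge ≤ S := by
  rw [gquatLarge, Subgroup.closure_le]
  rintro r (rfl | rfl)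
  · exact D.gq_mem 0
  · exact D.gu_mem _ _

theorem card_gquatLarge : Nat.card D.gquatLarge = 4 * D.h := by
  obtain ⟨e⟩ := D.nonempty_gquatLarge
  have : NeZero D.h := ⟨by have := D.h_pos; omega⟩
  rw [Nat.card_congr e.toEquiv, Nat.card_eq_fintype_card, QuaternionGroup.card]

theorem two_h_zero : ((2 * D.h : ℕ) : ZMod (2 * D.h)) = 0 := ZMod.natCast_self _

theorem intCast_eq_zero_iff (t : ℤ) : (t : ZMod (2 * D.h)) = 0 ↔ 2 * (D.h : ℤ) ∣ t := by
  rw [ZMod.intCast_zmod_eq_zero_iff_dvd]; push_cast; rfl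

theorem intCast_eq_iff (s t : ℤ) : (s : ZMod (2 * D.h)) = t ↔ 2 * (D.h : ℤ) ∣ s - t := by
  rw [← D.intCast_eq_zero_iff, Int.cast_sub, sub_eq_zero]

/-- `x ^ a * y ^ b * z ^ e ↦ a + b + h e`. -/
theorem exists_sumHom : ∃ φ : (S : Subgroup G) →* Multiplicative (ZMod (2 * D.h)),
    (∀ a b : ℤ, φ (D.u a b) = Multiplicative.ofAdd ((a + b : ℤ) : ZMod (2 * D.h))) ∧
      φ D.z = Multiplicative.ofAdd ((D.h : ℤ) : ZMod (2 * D.h)) := by
  classical
  have hex : ∀ s : (S : Subgroup G), ∃ j : ZMod (2 * D.h),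
      (∃ a b : ℤ, s = D.u a b ∧ j = ((a + b : ℤ) : ZMod (2 * D.h))) ∨
        ∃ a b : ℤ, s = D.u a b * D.z ∧ j = ((a + b + D.h : ℤ) : ZMod (2 * D.h)) := by
    intro s
    obtain ⟨a, b, h | h⟩ := D.repr_cases s
    · exact ⟨_, Or.inl ⟨a, b, h, rfl⟩⟩
    · exact ⟨_, Or.inr ⟨a, b, h, rfl⟩⟩
  choose f hf using hex
  have hu : ∀ a b : ℤ, f (D.u a b) = ((a + b : ℤ) : ZMod (2 * D.h)) := by
    intro a b
    rcases hf (D.u a b) with ⟨c, d, h, hj⟩ | ⟨c, d, h, -⟩
    · rw [hj, D.intCast_eq_iff]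
      obtain ⟨h1, h2⟩ := (D.u_eq_iff _ _ _ _).1 h.symm
      have := dvd_add h1 h2
      rwa [show c + d - (a + b) = (c - a) + (d - b) by ring]
    · exact absurd h (D.u_ne_uz _ _ _ _)
  have huz : ∀ a b : ℤ, f (D.u a b * D.z) = ((a + b + D.h : ℤ) : ZMod (2 * D.h)) := by
    intro a b
    rcases hf (D.u a b * D.z) with ⟨c, d, h, -⟩ | ⟨c, d, h, hj⟩
    · exact absurd h.symm (D.u_ne_uz _ _ _ _)
    · rw [hj, D.intCast_eq_iff]
      obtain ⟨h1, h2⟩ := (D.uz_eq_iff _ _ _ _).1 h.symm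
      have := dvd_add h1 h2
      rwa [show c + d + (D.h : ℤ) - (a + b + D.h) = (c - a) + (d - b) by ring]
  refine ⟨MonoidHom.mk' (fun s => Multiplicative.ofAdd (f s)) ?_, fun a b => ?_, ?_⟩
  · intro s t
    rw [← ofAdd_add]
    refine congrArg _ ?_
    obtain ⟨a, b, rfl | rfl⟩ := D.repr_cases s <;> obtain ⟨c, d, rfl | rfl⟩ := D.repr_cases t
    · rw [D.u_mul, hu, hu, hu, ← Int.cast_add, D.intCast_eq_iff]; exact ⟨0, by ring⟩
    · rw [D.u_mul_uz, hu, huz, huz, ← Int.cast_add, D.intCast_eq_iff]; exact ⟨0, by ring⟩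
    · rw [D.uz_mul_u, hu, huz, huz, ← Int.cast_add, D.intCast_eq_iff]; exact ⟨0, by ring⟩
    · rw [D.uz_mul_uz, hu, huz, huz, ← Int.cast_add, D.intCast_eq_iff]; exact ⟨-1, by ring⟩
  · exact congrArg Multiplicative.ofAdd (hu a b)
  · refine congrArg Multiplicative.ofAdd ?_
    have := huz 0 0
    rw [D.u_zero, one_mul] at this
    simpa using this

/-- When `gw` is not fused to `ge`, `G` has a character which is faithful modulo `⟨gd, gq 0⟩`. -/
theorem exists_char (h1 : ¬ IsConj D.gw D.ge) :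
    ∃ (T : G →* Multiplicative (ZMod (2 * D.h))) (ξ ζ : ℤ), Odd ξ ∧ Even ζ ∧
      (∀ a b : ℤ, T (D.gu a b) = Multiplicative.ofAdd (((a + b) * ξ : ℤ) : ZMod (2 * D.h))) ∧
      T D.gz = Multiplicative.ofAdd (ζ : ZMod (2 * D.h)) := by
  haveI : Fact (Nat.Prime 2) := ⟨Nat.prime_two⟩
  have : NeZero (2 * D.h) := ⟨by have := D.h_pos; omega⟩
  obtain ⟨φ, hφ, -⟩ := D.exists_sumHom
  set T := MonoidHom.transfer φ with hT
  set m := (S : Subgroup G).index with hm
  have hmodd : Odd m := Nat.not_even_iff_odd.1 fun h => S.not_dvd_index h.two_dvd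
  have h11 : T (D.gu 1 1) = Multiplicative.ofAdd (((2 * m : ℕ) : ℤ) : ZMod (2 * D.h)) := by
    have := transfer_eq_pow_of_powers φ (D.u 1 1) (fun g k hc => by
      refine congrArg φ (Subtype.ext ?_)
      have hb : D.gu 1 1 ^ k ∈ D.gcent := D.gcent.pow_mem (D.mem_gcent_iff.2 ⟨1, rfl⟩) k
      have h := D.central_weakly_closed h1 hb (g := g⁻¹) (by rw [inv_inv]; exact hc)
      rw [inv_inv] at h
      exact h)
    rw [hT, gu, this, hφ]
    rw [← ofAdd_nsmul]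
    congr 1
    push_cast
    rw [nsmul_eq_mul, ← hm]
    ring
  obtain ⟨ξ, hξ⟩ := ZMod.intCast_surjective (Multiplicative.toAdd (T (D.gu 1 0)))
  obtain ⟨ζ, hζ⟩ := ZMod.intCast_surjective (Multiplicative.toAdd (T D.gz))
  have hx : T (D.gu 1 0) = Multiplicative.ofAdd (ξ : ZMod (2 * D.h)) := by rw [hξ]; rfl
  have hz : T D.gz = Multiplicative.ofAdd (ζ : ZMod (2 * D.h)) := by rw [hζ]; rfl
  have hy : T (D.gu 0 1) = Multiplicative.ofAdd (ξ : ZMod (2 * D.h)) := by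
    rw [← D.gz_conj_gu 1 0, map_mul, map_mul, map_inv, mul_comm (T D.gz), mul_inv_cancel_right, hx]
  have hu : ∀ a b : ℤ, T (D.gu a b) = Multiplicative.ofAdd (((a + b) * ξ : ℤ) : ZMod (2 * D.h)) := by
    intro a b
    have e : D.gu a b = D.gu 1 0 ^ a * D.gu 0 1 ^ b := by
      rw [D.gu_zpow, D.gu_zpow, D.gu_mul]; simp
    rw [e, map_mul, map_zpow, map_zpow, hx, hy, ← ofAdd_zsmul, ← ofAdd_zsmul, ← ofAdd_add]
    congr 1
    rw [zsmul_eq_mul, zsmul_eq_mul]
    push_cast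
    ring
  have hh : 2 ∣ (D.h : ℤ) := D.h_even
  have hξodd : Odd ξ := by
    have h := (hu 1 1).symm.trans h11
    rw [Multiplicative.ofAdd.apply_eq_iff_eq, D.intCast_eq_iff] at h
    push_cast at h
    rw [show 2 * ξ - 2 * (m : ℤ) = 2 * (ξ - m) by ring,
      Int.mul_dvd_mul_iff_left (by norm_num)] at h
    have h2 : (2 : ℤ) ∣ ξ - m := hh.trans h
    have : Odd (m : ℤ) := by exact_mod_cast hmodd
    rcases this with ⟨j, hj⟩
    obtain ⟨i, hi⟩ := h2
    exact ⟨i + j, by omega⟩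
  have hζev : Even ζ := by
    have h : T D.gz * T D.gz = 1 := by
      rw [← map_mul, show D.gz * D.gz = 1 from congrArg Subtype.val D.z_sq, map_one]
    rw [hz, ← ofAdd_add, ← ofAdd_zero, Multiplicative.ofAdd.apply_eq_iff_eq, ← Int.cast_add,
      D.intCast_eq_zero_iff, ← two_mul, Int.mul_dvd_mul_iff_left (by norm_num)] at h
    exact even_iff_two_dvd.2 (hh.trans h)
  exact ⟨T, ξ, ζ, hξodd, hζev, hu, hz⟩

theorem isPGroup_target : IsPGroup 2 (Multiplicative (ZMod (2 * D.h))) :=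
  IsPGroup.of_card (n := D.n) (by
    rw [Nat.card_congr Multiplicative.toAdd, Nat.card_zmod, D.two_h])

theorem dvd_of_dvd_mul_odd {ξ t : ℤ} (hξ : Odd ξ) (h : 2 * (D.h : ℤ) ∣ t * ξ) :
    2 * (D.h : ℤ) ∣ t := by
  obtain ⟨m, rfl⟩ := hξ
  have hco : IsCoprime ((2 : ℤ) ^ D.n) (2 * m + 1) :=
    (show IsCoprime (2 : ℤ) (2 * m + 1) from ⟨-m, 1, by ring⟩).pow_left
  have e : 2 * (D.h : ℤ) = 2 ^ D.n := by exact_mod_cast D.two_h
  rw [e] at h ⊢
  exact hco.dvd_of_dvd_mul_right h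

/-- Some element of order 4 outside the base lies in the 2-residual. -/
theorem exists_gq_mem_residual (h2 : IsConj D.gi (D.gq 0)) :
    ∃ b : ℤ, D.gq b ∈ pResidual 2 G := by
  haveI : Fact (Nat.Prime 2) := ⟨Nat.prime_two⟩
  obtain ⟨n, hn, -, hn2⟩ := D.exists_three_cycle h2
  have hiQ : D.gi ∈ D.gquat := Subgroup.subset_closure (by simp)
  have hqQ : D.gq 0 ∈ D.gquat := Subgroup.subset_closure (by simp)
  obtain ⟨e⟩ := D.nonempty_gquat
  obtain ⟨a, -, -, hlist⟩ := D.q8_in D.gquat D.gquat_le e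
  have hord : orderOf D.gi = 4 := D.orderOf_of_sq D.gi_sq
  have hin : ∀ m ∈ Subgroup.normalizer (D.gquat : Set G), m * D.gi * m⁻¹ ∈ D.gquat :=
    fun m hm => (Subgroup.mem_normalizer_iff.1 hm _).1 hiQ
  let ax : G → Subgroup G := fun m => Subgroup.zpowers (m * D.gi * m⁻¹)
  have hmove : ∀ u v : G, ax u = ax v → ∀ w : G, ax (w * u) = ax (w * v) := by
    intro u v h w
    simp only [ax] at h ⊢
    rw [show w * u * D.gi * (w * u)⁻¹ = w * (u * D.gi * u⁻¹) * w⁻¹ by group,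
      show w * v * D.gi * (w * v)⁻¹ = w * (v * D.gi * v⁻¹) * w⁻¹ by group,
      ← conj_smul_zpowers w, ← conj_smul_zpowers w, h]
  have hax1 : ax 1 = Subgroup.zpowers D.gi := by simp [ax]
  have hn20 : ax (n ^ 2) ≠ ax 1 := by
    rw [hax1]
    intro h
    have h' : ax (n ^ 2) = Subgroup.zpowers (D.gq 0) := by
      simp only [ax]
      rcases hn2 with h' | h' <;> rw [h']
      exact Subgroup.zpowers_inv
    exact (D.axes 0).distinct.1 (h.symm.trans h')
  have hn1 : ax n ≠ ax 1 := fun h => hn20 (by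
    have := hmove _ _ h n
    rw [← sq, mul_one] at this
    exact this.trans h)
  have hn21 : ax (n ^ 2) ≠ ax n := fun h => hn1 (by
    have := hmove _ _ h n⁻¹
    rwa [sq, inv_mul_cancel_left, inv_mul_cancel] at this)
  have hn3 : ax (n ^ 3) = ax 1 := by
    have hall : ∀ m ∈ Subgroup.normalizer (D.gquat : Set G),
        ax m = Subgroup.zpowers D.gi ∨ ax m = Subgroup.zpowers (D.gq a) ∨
          ax m = Subgroup.zpowers (D.gi * D.gq a) := fun m hm =>
      (D.axes a).axis_cases hlist (hin m hm) (by rw [orderOf_conj, hord])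
    refine pick_of_three (hall 1 (one_mem _)) (hall n hn) (hall _ (pow_mem hn 2))
      (hall _ (pow_mem hn 3)) hn1.symm hn20.symm hn21.symm (fun h => hn20 ?_) (fun h => hn1 ?_)
    · have := hmove _ _ h n⁻¹
      rwa [pow_succ' n 2, inv_mul_cancel_left, inv_mul_cancel] at this
    · have := hmove _ _ h (n ^ 2)⁻¹
      rwa [pow_succ n 2, inv_mul_cancel_left, inv_mul_cancel] at this
  -- the odd part of `n`
  set j := (orderOf n).factorization 2 with hj
  set m := n ^ (2 ^ j) with hm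
  have hcop : (orderOf m).Coprime 2 := by
    rw [hm, orderOf_pow' n (pow_ne_zero j two_ne_zero),
      Nat.gcd_eq_right (Nat.ordProj_dvd _ _)]
    exact (Nat.coprime_ordCompl Nat.prime_two (orderOf_pos n).ne').symm
  have hmK : m ∈ pResidual 2 G := Transfer.mem_pResidual_of_coprime hcop
  have hm1 : ax m ≠ ax 1 := by
    let St : Subgroup G :=
      { carrier := {g | ax g = ax 1}
        one_mem' := rfl
        mul_mem' := fun {u v} (hu : ax u = ax 1) (hv : ax v = ax 1) => by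
          show ax (u * v) = ax 1
          rw [hmove v 1 hv u, mul_one, hu]
        inv_mem' := fun {u} (hu : ax u = ax 1) => by
          show ax u⁻¹ = ax 1
          have := hmove u 1 hu u⁻¹
          rw [inv_mul_cancel, mul_one] at this
          exact this.symm }
    intro h
    have h3 : n ^ 3 ∈ St := hn3
    have hm' : n ^ (2 ^ j) ∈ St := h
    obtain ⟨q, hq⟩ : ∃ q, 2 ^ j = 3 * q + 1 ∨ 2 ^ j = 3 * q + 2 := by
      refine ⟨2 ^ j / 3, ?_⟩
      have : ¬ 3 ∣ 2 ^ j := fun h => by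
        have := Nat.prime_three.dvd_of_dvd_pow h
        omega
      omega
    rcases hq with hq | hq <;> rw [hq, pow_add, pow_mul,
      St.mul_mem_cancel_left (St.pow_mem h3 q)] at hm'
    · rw [pow_one] at hm'; exact hn1 hm'
    · exact hn20 hm'
  have hmN : m ∈ Subgroup.normalizer (D.gquat : Set G) := pow_mem hn _
  obtain ⟨t, ht | ht⟩ := hlist _ (hin m hmN)
  · exfalso
    refine hm1 ?_
    rw [hax1]
    simp only [ax]
    rcases mem_zpowers_of_orderOf_four hord (by rw [orderOf_conj, hord])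
      (ht ▸ Subgroup.zpow_mem _ (Subgroup.mem_zpowers D.gi) t) with h | h <;> rw [h]
    exact Subgroup.zpowers_inv
  · refine ⟨D.k * (t - 1) + a, ?_⟩
    have h : D.gi⁻¹ * m * D.gi * m⁻¹ ∈ pResidual 2 G := by
      have := Subgroup.Normal.conj_mem inferInstance m hmK D.gi⁻¹
      rw [inv_inv] at this
      exact mul_mem this (inv_mem hmK)
    rw [show D.gi⁻¹ * m * D.gi * m⁻¹ = D.gi⁻¹ * (m * D.gi * m⁻¹) by group, ht, ← mul_assoc,
      show D.gi⁻¹ * D.gi ^ t = D.gi ^ (t - 1) by group] at h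
    rwa [gi, D.gu_zpow, gq, ← mul_assoc, D.gu_mul, ← show D.gq (D.k * (t - 1) + a) =
      D.gu (D.k * (t - 1) + a) (-D.k * (t - 1) + (D.h - a)) * D.gz by
        rw [gq, mul_left_inj, D.gu_eq_iff]; exact ⟨⟨0, by ring⟩, ⟨0, by ring⟩⟩] at h

theorem gquatLarge_le_residual (h2 : IsConj D.gi (D.gq 0)) : D.gquatLarge ≤ pResidual 2 G := by
  obtain ⟨b, hb⟩ := D.exists_gq_mem_residual h2
  have hq : ∀ a : ℤ, D.gq a ∈ pResidual 2 G := fun a => isConj_mem_normal (D.isConj_gq b a) hb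
  rw [gquatLarge, Subgroup.closure_le]
  rintro r (rfl | rfl)
  · exact hq 0
  · have : D.gd = D.gq 1 * (D.gq 0)⁻¹ := by
      rw [D.gq_eq_gd_zpow_mul 1, mul_inv_cancel_right, zpow_one]
    rw [this]
    exact mul_mem (hq 1) (inv_mem (hq 0))

theorem residual_inf_sylow (h1 : ¬ IsConj D.gw D.ge) (h2 : IsConj D.gi (D.gq 0)) :
    pResidual 2 G ⊓ (S : Subgroup G) = D.gquatLarge := by
  refine le_antisymm ?_ (le_inf (D.gquatLarge_le_residual h2) D.gquatLarge_le)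
  rintro s ⟨hsK, hsS⟩
  obtain ⟨T, ξ, ζ, hξ, -, hu, hz⟩ := D.exists_char h1
  have hker : ∀ g ∈ pResidual 2 G, T g = 1 := fun g hg =>
    Transfer.pResidual_le_ker T D.isPGroup_target hg
  have hq0 : 2 * (D.h : ℤ) ∣ (D.h : ℤ) * ξ + ζ := by
    have h := hker _ (D.gquatLarge_le_residual h2 (Subgroup.subset_closure (by simp) :
      D.gq 0 ∈ D.gquatLarge))
    rw [gq, map_mul, hu, hz, ← ofAdd_add, ← ofAdd_zero, Multiplicative.ofAdd.apply_eq_iff_eq,
      ← Int.cast_add, D.intCast_eq_zero_iff] at h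
    simpa using h
  have hd : D.gd ∈ D.gquatLarge := Subgroup.subset_closure (by simp)
  have hs := hker s hsK
  obtain ⟨a, b, rfl | rfl⟩ := D.repr_G hsS
  · rw [hu, ← ofAdd_zero, Multiplicative.ofAdd.apply_eq_iff_eq, D.intCast_eq_zero_iff] at hs
    have hab := D.dvd_of_dvd_mul_odd hξ hs
    rw [show D.gu a b = D.gd ^ a by
      rw [D.gd_zpow, D.gu_eq_iff]; exact ⟨⟨0, by ring⟩, by rwa [sub_neg_eq_add, add_comm]⟩]
    exact zpow_mem hd a
  · rw [map_mul, hu, hz, ← ofAdd_add, ← ofAdd_zero, Multiplicative.ofAdd.apply_eq_iff_eq,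
      ← Int.cast_add, D.intCast_eq_zero_iff] at hs
    have hab := D.dvd_of_dvd_mul_odd hξ (t := a + b - D.h) (by
      have := dvd_sub hs hq0
      rwa [show (a + b) * ξ + ζ - ((D.h : ℤ) * ξ + ζ) = (a + b - D.h) * ξ by ring] at this)
    rw [show D.gu a b * D.gz = D.gq a by
      rw [gq, mul_left_inj, D.gu_eq_iff]
      exact ⟨⟨0, by ring⟩, by rwa [show b - ((D.h : ℤ) - a) = a + b - D.h by ring]⟩,
      D.gq_eq_gd_zpow_mul]
    exact mul_mem (zpow_mem hd a) (Subgroup.subset_closure (by simp))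

theorem case_quat (h1 : ¬ IsConj D.gw D.ge) (h2 : IsConj D.gi (D.gq 0)) :
    ∃ K : Subgroup G, K.Normal ∧ K.index = 2 ^ D.n ∧
      (∀ P : Sylow 2 ↥K, ∃ m : ℕ, 1 ≤ m ∧
        Nonempty ((P : Subgroup ↥K) ≃* QuaternionGroup (2 ^ m))) ∧
      ∀ H : Subgroup ↥K, H.index ≠ 2 := by
  haveI : Fact (Nat.Prime 2) := ⟨Nat.prime_two⟩
  set K := pResidual 2 G with hK
  have hinf := D.residual_inf_sylow h1 h2
  refine ⟨K, inferInstance, ?_, fun P => ?_, fun H hH => ?_⟩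
  · have hsup : K ⊔ (S : Subgroup G) = ⊤ := Transfer.pResidual_sup_sylow S
    have hrel : K.index = K.relIndex (S : Subgroup G) := by
      rw [← Subgroup.relIndex_top_right, ← hsup, sup_comm, Subgroup.relIndex_sup_right]
    have hmul := (K.subgroupOf (S : Subgroup G)).card_mul_index
    have hcard : Nat.card (K.subgroupOf (S : Subgroup G)) = 4 * D.h := by
      rw [← Subgroup.card_map_of_injective (S : Subgroup G).subtype_injective,
        Subgroup.subgroupOf_map_subtype, hinf, D.card_gquatLarge]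
    rw [hcard, ← Subgroup.relIndex, ← hrel, D.card_eq] at hmul
    refine Nat.eq_of_mul_eq_mul_left (show 0 < 4 * D.h by have := D.h_pos; omega) (hmul.trans ?_)
    rw [← D.two_h]; ring
  · obtain ⟨P₀, hP₀⟩ := Transfer.exists_sylow_eq_subgroupOf S K
    refine ⟨D.n - 1, by have := D.two_le; omega, ?_⟩
    rw [← D.h_eq]
    obtain ⟨e⟩ := D.nonempty_gquatLarge
    let e2 : (S : Subgroup G).subgroupOf K ≃* ↥(K ⊓ (S : Subgroup G)) :=
      { toFun := fun v => ⟨v.1.1, v.1.2, v.2⟩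
        invFun := fun v => ⟨⟨v.1, v.2.1⟩, v.2.2⟩
        left_inv := fun _ => rfl
        right_inv := fun _ => rfl
        map_mul' := fun _ _ => rfl }
    exact ⟨((((Sylow.equiv P P₀).trans (MulEquiv.subgroupCongr hP₀)).trans e2).trans
      (MulEquiv.subgroupCongr hinf)).trans e⟩
  · haveI := Subgroup.normal_of_index_eq_two hH
    have h := Transfer.pResidual_le_of_index_eq_pow H (k := 1) (by rw [hH, pow_one])
    rw [show pResidual 2 ↥K = ⊤ from Transfer.pResidual_pResidual] at h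
    rw [top_le_iff.1 h, Subgroup.index_top] at hH
    omega

theorem case_complement (h1 : ¬ IsConj D.gw D.ge) (h2 : ¬ IsConj D.gi (D.gq 0)) :
    HasNormalPComplement 2 G := by
  haveI : Fact (Nat.Prime 2) := ⟨Nat.prime_two⟩
  obtain ⟨A, hAn, hA, hzA⟩ := D.exists_index_two_gz h2
  haveI := hAn
  obtain ⟨T, ξ, ζ, hξ, hζ, hu, hz⟩ := D.exists_char h1
  set K := pResidual 2 G
  have hKA : K ≤ A := Transfer.pResidual_le_of_index_eq_pow A (k := 1) (by rw [hA, pow_one])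
  rw [Transfer.hasNormalPComplement_iff_inf_eq_bot S]
  obtain ⟨P₀, hP₀⟩ := Transfer.exists_sylow_eq_subgroupOf S K
  have hanti : ∀ s ∈ K, s ∈ S → s ∈ Subgroup.zpowers D.gd := by
    intro s hsK hsS
    have hs : T s = 1 := Transfer.pResidual_le_ker T D.isPGroup_target hsK
    obtain ⟨a, b, rfl | rfl⟩ := D.repr_G hsS
    · rw [hu, ← ofAdd_zero, Multiplicative.ofAdd.apply_eq_iff_eq, D.intCast_eq_zero_iff] at hs
      have hab := D.dvd_of_dvd_mul_odd hξ hs
      rw [show D.gu a b = D.gd ^ a by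
        rw [D.gd_zpow, D.gu_eq_iff]; exact ⟨⟨0, by ring⟩, by rwa [sub_neg_eq_add, add_comm]⟩]
      exact zpow_mem (Subgroup.mem_zpowers _) a
    · exfalso
      rw [map_mul, hu, hz, ← ofAdd_add, ← ofAdd_zero, Multiplicative.ofAdd.apply_eq_iff_eq,
        ← Int.cast_add, D.intCast_eq_zero_iff] at hs
      have hpar : ¬ 2 ∣ a + b := by
        rcases D.base_le_or_parity hA with hp | hp
        · exact absurd ((A.mul_mem_cancel_left (hp _ (D.gu_mem_base a b))).1 (hKA hsK)) hzA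
        · intro hab
          exact hzA ((A.mul_mem_cancel_left ((hp a b).2 hab)).1 (hKA hsK))
      have h2' : (2 : ℤ) ∣ (a + b) * ξ + ζ := (dvd_mul_right 2 (D.h : ℤ)).trans hs
      have h3 : (2 : ℤ) ∣ (a + b) * ξ := (dvd_add_left hζ.two_dvd).1 h2'
      rcases Int.prime_two.dvd_or_dvd h3 with h4 | h4
      · exact hpar h4
      · obtain ⟨m, hm⟩ := hξ; omega
  have hcyc : IsCyclic (P₀ : Subgroup K) := by
    let f : (P₀ : Subgroup K) →* Subgroup.zpowers D.gd :=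
      { toFun := fun v => ⟨v.1.1, hanti _ v.1.2
          (hP₀ ▸ v.2 : v.1 ∈ (S : Subgroup G).subgroupOf K)⟩
        map_one' := rfl
        map_mul' := fun _ _ => rfl }
    exact isCyclic_of_injective f fun v w h =>
      Subtype.ext (Subtype.ext (congrArg (fun u : Subgroup.zpowers D.gd => (u : G)) h))
  have hodd : ¬ Even (Nat.card K) := by
    intro heven
    obtain ⟨H, hH⟩ := exists_index_two_of_cyclic_sylow heven P₀ hcyc
    haveI := Subgroup.normal_of_index_eq_two hH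
    have h := Transfer.pResidual_le_of_index_eq_pow H (k := 1) (by rw [hH, pow_one])
    rw [Transfer.pResidual_pResidual] at h
    rw [top_le_iff.1 h, Subgroup.index_top] at hH
    omega
  rw [inf_comm]
  exact Transfer.sylow_disjoint_of_coprime S K (fun h => hodd (even_iff_two_dvd.2 h))

/-- With `gw` fused to `ge`, the base lies in every subgroup of index two. -/
theorem gbase_le_index_two (h1 : IsConj D.gw D.ge) {A : Subgroup G} (hA : A.index = 2) :
    D.gbase ≤ A := by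
  haveI := Subgroup.normal_of_index_eq_two hA
  rcases D.base_le_or_parity hA with hp | hp
  · exact hp
  exfalso
  obtain ⟨n, hn, hnw⟩ :=
    D.gbase_automiser.2.2 (D.gbase_automiser.2.1.2 h1) D.gw D.ge (Or.inl rfl) (Or.inr (Or.inl rfl))
  obtain ⟨a, b, hab⟩ := D.mem_gbase_iff.1
    ((Subgroup.mem_normalizer_iff.1 (pow_mem hn 2) _).1 (D.gu_mem_base 1 1))
  have hmem : D.gu a b ∈ A := hab ▸ Subgroup.Normal.conj_mem inferInstance _
    ((hp 1 1).2 ⟨1, rfl⟩) _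
  have hev := (hp a b).1 hmem
  have h : (n ^ 2 * D.gu 1 1 * (n ^ 2)⁻¹) ^ (D.h : ℤ) = D.gu a b ^ (D.h : ℤ) := by rw [hab]
  rw [conj_zpow, D.gu_zpow, D.gu_zpow, one_mul, show D.gu D.h D.h = D.gw from rfl, hnw, ge,
    D.gu_eq_iff] at h
  have h' := dvd_sub h.1 h.2
  obtain ⟨c, hc⟩ := hev
  refine D.not_dvd_h ?_
  have e : (D.h : ℤ) = ((D.h : ℤ) - a * D.h - (0 - b * D.h)) + 2 * (D.h : ℤ) * (c - b) := by
    rw [show a = 2 * c - b by omega]; ring
  have h'' := dvd_add h' (dvd_mul_right (2 * (D.h : ℤ)) (c - b))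
  rwa [← e] at h''

theorem case_base (h1 : IsConj D.gw D.ge) (h2 : ¬ IsConj D.gi (D.gq 0)) :
    ∃ K : Subgroup G, K.Normal ∧ K.index = 2 ∧ D.gbase ≤ K ∧ ∀ H : Subgroup ↥K, H.index ≠ 2 := by
  haveI : Fact (Nat.Prime 2) := ⟨Nat.prime_two⟩
  obtain ⟨K, hKn, hK, hzK⟩ := D.exists_index_two_gz h2
  haveI := hKn
  have hB := D.gbase_le_index_two h1 hK
  refine ⟨K, hKn, hK, hB, fun H hH => ?_⟩
  obtain ⟨P₀, hP₀⟩ := Transfer.exists_sylow_eq_subgroupOf S K
  refine index_ne_two_of_sylow_le H P₀ ?_ hH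
  haveI := Subgroup.normal_of_index_eq_two hH
  -- membership in `H`, pushed to `G`
  let H' : Subgroup G := H.map K.subtype
  have hH'K : ∀ {v : G}, v ∈ H' → v ∈ K := fun {v} ⟨w, _, e⟩ => e ▸ w.2
  have hconj : ∀ n : G, ∀ v ∈ H', n ^ 2 * v * (n ^ 2)⁻¹ ∈ H' := by
    rintro n _ ⟨w, hw, rfl⟩
    exact ⟨_, Subgroup.Normal.conj_mem inferInstance w hw ⟨n ^ 2, Subgroup.sq_mem_of_index_two hK n⟩,
      rfl⟩
  have hdbl : ∀ a b : ℤ, D.gu (2 * a) (2 * b) ∈ H' := by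
    intro a b
    refine ⟨⟨D.gu a b, hB (D.gu_mem_base _ _)⟩ * ⟨D.gu a b, hB (D.gu_mem_base _ _)⟩,
      (Subgroup.mul_mem_iff_of_index_two hH).2 Iff.rfl, ?_⟩
    show D.gu a b * D.gu a b = _
    rw [D.gu_mul, two_mul, two_mul]
  -- the class of an element modulo squares is read off from its power `h`
  have hred : ∀ a b c d : ℤ, D.gu a b ∈ H' →
      D.gu a b ^ (D.h : ℤ) = D.gu c d ^ (D.h : ℤ) → D.gu c d ∈ H' := by
    intro a b c d hab h
    rw [D.gu_zpow, D.gu_zpow, D.gu_eq_iff, ← sub_mul, ← sub_mul,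
      Int.mul_dvd_mul_iff_right (by have := D.h_pos; omega),
      Int.mul_dvd_mul_iff_right (by have := D.h_pos; omega)] at h
    obtain ⟨⟨p, hp⟩, ⟨q, hq⟩⟩ := h
    have : D.gu c d = D.gu a b * D.gu (2 * -p) (2 * -q) := by
      rw [D.gu_mul, D.gu_eq_iff]; exact ⟨⟨0, by linarith⟩, ⟨0, by linarith⟩⟩
    rw [this]
    exact mul_mem hab (hdbl _ _)
  have hpow : ∀ v : G, v = D.gu 1 0 ∨ v = D.gu 0 1 ∨ v = D.gu 1 1 →
      v ^ (D.h : ℤ) = D.gw ∨ v ^ (D.h : ℤ) = D.ge ∨ v ^ (D.h : ℤ) = D.ge' := by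
    rintro v (rfl | rfl | rfl) <;> rw [D.gu_zpow, one_mul] <;> simp [gw, ge, ge']
  obtain ⟨a, b, hv, hvcase⟩ : ∃ a b : ℤ, D.gu a b ∈ H' ∧
      (D.gu a b = D.gu 1 0 ∨ D.gu a b = D.gu 0 1 ∨ D.gu a b = D.gu 1 1) := by
    by_cases hx : (⟨D.gu 1 0, hB (D.gu_mem_base _ _)⟩ : K) ∈ H
    · exact ⟨1, 0, ⟨_, hx, rfl⟩, Or.inl rfl⟩
    by_cases hy : (⟨D.gu 0 1, hB (D.gu_mem_base _ _)⟩ : K) ∈ H
    · exact ⟨0, 1, ⟨_, hy, rfl⟩, Or.inr (Or.inl rfl)⟩
    refine ⟨1, 1, ⟨⟨D.gu 1 0, hB (D.gu_mem_base _ _)⟩ * ⟨D.gu 0 1, hB (D.gu_mem_base _ _)⟩,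
      (Subgroup.mul_mem_iff_of_index_two hH).2 (iff_of_false hx hy), ?_⟩, Or.inr (Or.inr rfl)⟩
    show D.gu 1 0 * D.gu 0 1 = _
    rw [D.gu_mul]; norm_num
  have hall : ∀ c d : ℤ, (D.gu c d ^ (D.h : ℤ) = D.gw ∨ D.gu c d ^ (D.h : ℤ) = D.ge ∨
      D.gu c d ^ (D.h : ℤ) = D.ge') → D.gu c d ∈ H' := by
    intro c d hcd
    obtain ⟨n, hn, hnv⟩ :=
      D.gbase_automiser.2.2 (D.gbase_automiser.2.1.2 h1) _ _ (hpow _ hvcase) hcd
    obtain ⟨a', b', hab⟩ := D.mem_gbase_iff.1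
      ((Subgroup.mem_normalizer_iff.1 (pow_mem hn 2) _).1 (D.gu_mem_base a b))
    refine hred a' b' c d (hab ▸ hconj n _ hv) ?_
    rw [← hab, conj_zpow, hnv]
  have hbase : ∀ v ∈ D.gbase, v ∈ H' := by
    intro v hv
    obtain ⟨c, d, rfl⟩ := D.mem_gbase_iff.1 hv
    have hgen : D.gu 1 0 ∈ H' ∧ D.gu 0 1 ∈ H' :=
      ⟨hall _ _ (hpow _ (Or.inl rfl)), hall _ _ (hpow _ (Or.inr (Or.inl rfl)))⟩
    have e : D.gu c d = D.gu 1 0 ^ c * D.gu 0 1 ^ d := by
      rw [D.gu_zpow, D.gu_zpow, D.gu_mul]; simp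
    rw [e]
    exact mul_mem (zpow_mem hgen.1 c) (zpow_mem hgen.2 d)
  intro v hv
  rw [hP₀] at hv
  have hvB : (v : G) ∈ D.gbase := by
    obtain ⟨c, d, h | h⟩ := D.repr_G (hv : (v : G) ∈ (S : Subgroup G))
    · rw [show (v : G) = D.gu c d from h]
      exact D.gu_mem_base c d
    · have hvK : D.gu c d * D.gz ∈ K := (show (v : G) = _ from h) ▸ v.2
      exact absurd ((K.mul_mem_cancel_left (hB (D.gu_mem_base c d))).1 hvK) hzK
  obtain ⟨w, hw, e⟩ := hbase _ hvB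
  exact (Subtype.ext e : w = v) ▸ hw

theorem case_none (h1 : IsConj D.gw D.ge) (h2 : IsConj D.gi (D.gq 0)) :
    ∀ H : Subgroup G, H.index ≠ 2 := by
  intro H hH
  haveI := Subgroup.normal_of_index_eq_two hH
  have hB := D.gbase_le_index_two h1 hH
  have hz : D.gz ∈ H := by
    rw [← D.gf_zero]
    exact isConj_mem_normal (D.isConj_ge_gf h2) (hB D.ge_mem_base)
  refine index_ne_two_of_sylow_le H S (fun s hs => ?_) hH
  obtain ⟨a, b, rfl | rfl⟩ := D.repr_G hs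
  · exact hB (D.gu_mem_base a b)
  · exact mul_mem (hB (D.gu_mem_base a b)) hz

/-- The abelian maximal subgroup given by its order. -/
theorem eq_gbase_of_card {n : ℕ} (hn : Nat.card S = 2 ^ (2 * n + 1)) {U : Subgroup G}
    (hUS : U ≤ S) (hUab : IsMulCommutative U) (hU : Nat.card U = 2 ^ (2 * n)) : U = D.gbase := by
  haveI := hUab
  refine D.eq_gbase hUS (fun p hp q hq => ?_) ?_
  · exact congrArg Subtype.val
      (IsMulCommutative.is_comm.comm (⟨p, hp⟩ : U) ⟨q, hq⟩)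
  · rw [hU, D.n_eq hn, pow_mul', ← D.two_h]; ring

theorem base_two_iff :
    (Subgroup.centralizer (D.gbase : Set G)).relIndex (Subgroup.normalizer (D.gbase : Set G)) = 2 ↔
      ¬ IsConj D.gw D.ge := by
  rw [← D.gbase_automiser.2.1]
  have := D.gbase_automiser.1
  omega

theorem q_six_iff (Q : Subgroup G) (hQS : Q ≤ S) (e : Q ≃* QuaternionGroup 2) :
    ((Q ⊔ D.gcent) ⊔ Subgroup.centralizer ((Q ⊔ D.gcent : Subgroup G) : Set G)).relIndex
        (Subgroup.normalizer ((Q ⊔ D.gcent : Subgroup G) : Set G)) = 6 ↔ IsConj D.gi (D.gq 0) :=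
  (D.V_automiser Q hQS e).2.1

theorem q_two_iff (Q : Subgroup G) (hQS : Q ≤ S) (e : Q ≃* QuaternionGroup 2) :
    ((Q ⊔ D.gcent) ⊔ Subgroup.centralizer ((Q ⊔ D.gcent : Subgroup G) : Set G)).relIndex
        (Subgroup.normalizer ((Q ⊔ D.gcent : Subgroup G) : Set G)) = 2 ↔
      ¬ IsConj D.gi (D.gq 0) := by
  rw [← D.q_six_iff Q hQS e]
  have := (D.V_automiser Q hQS e).1
  omega

end WrData

end Cfsg.Agent.Invol
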