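import Cfsg.Agent.Lib.Invol.WrFusionV
import Cfsg.Agent.Lib.Invol.QDCases
import Cfsg.Agent.Lib.Invol.TransferPow
import Cfsg.Prelude.Def_Transfer

/-!
# Fusion in groups with wreathed Sylow 2-subgroups: classes of involutions, weak closure

`gw ~ ge` is fusion in the base, `gi ~ gq 0` fusion in `Q * Z(S)`.
-/

set_option linter.unusedSectionVars false
set_option linter.style.haveILetI false

namespace Cfsg.Agent.Invol

open Cfsg

variable {G : Type*} [Group G] [Finite G] {S : Sylow 2 G}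

/-- An element generated by a subgroup and moved into it by conjugation. -/
theorem mem_normalizer_of_map_eq {N : Subgroup G} {n : G}
    (h : N.map (MulAut.conj n).toMonoidHom = N) : n ∈ Subgroup.normalizer (N : Set G) := by
  refine Subgroup.mem_normalizer_iff.2 fun v => ⟨fun hv => ?_, fun hv => ?_⟩
  · have := Subgroup.mem_map_of_mem (MulAut.conj n).toMonoidHom hv
    rwa [h] at this
  · rw [← h] at hv
    obtain ⟨v', hv', e⟩ := hv
    exact (mul_left_cancel (mul_right_cancel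
      (e : n * v' * n⁻¹ = n * v * n⁻¹))) ▸ hv'

namespace WrData

variable (D : WrData (S : Subgroup G))

theorem gw_mem_base : D.gw ∈ D.gbase := D.gu_mem_base _ _
theorem ge_mem_base : D.ge ∈ D.gbase := D.gu_mem_base _ _
theorem gi_mem_base : D.gi ∈ D.gbase := D.gu_mem_base _ _
theorem gc_mem_gcent : D.gc ∈ D.gcent := D.mem_gcent_iff.2 ⟨_, rfl⟩

theorem diag_ne_ge (t : ℤ) : D.gu t t ≠ D.ge ∧ D.gu t t ≠ D.ge' := by
  constructor
  · intro h
    rw [ge, D.gu_eq_iff] at h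
    have := dvd_sub h.1 h.2
    rw [show t - (D.h : ℤ) - (t - 0) = -(D.h : ℤ) by ring, dvd_neg] at this
    exact D.not_dvd_h this
  · intro h
    rw [ge', D.gu_eq_iff] at h
    have := dvd_sub h.2 h.1
    rw [show t - (D.h : ℤ) - (t - 0) = -(D.h : ℤ) by ring, dvd_neg] at this
    exact D.not_dvd_h this

theorem conj_gbase_eq {n : G} (h : ∀ v ∈ D.gbase, n * v * n⁻¹ ∈ S) :
    D.gbase.map (MulAut.conj n).toMonoidHom = D.gbase := by
  refine D.eq_gbase ?_ ?_ ?_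
  · rintro _ ⟨v, hv, rfl⟩; exact h v hv
  · rintro _ ⟨v, hv, rfl⟩ _ ⟨v', hv', rfl⟩
    exact (D.gbase_comm hv hv').map (MulAut.conj n).toMonoidHom
  · rw [Subgroup.card_map_of_injective (MulAut.conj n).injective, D.card_gbase]

/-- A conjugation onto an element centralised by `S`, from one centralised by the base, may be
taken inside the normaliser of the base. -/
theorem move_base {a b g : G} (hgab : g * a * g⁻¹ = b) (ha : ∀ v ∈ D.gbase, Commute v a)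
    (hb : ∀ s ∈ S, Commute s b) :
    ∃ n ∈ Subgroup.normalizer (D.gbase : Set G), n * a * n⁻¹ = b := by
  haveI : Fact (Nat.Prime 2) := ⟨Nat.prime_two⟩
  have hS : (S : Subgroup G) ≤ Subgroup.centralizer ({b} : Set G) := fun s hs =>
    Subgroup.mem_centralizer_singleton_iff.2 (hb s hs).eq
  have hB : D.gbase.map (MulAut.conj g).toMonoidHom ≤ Subgroup.centralizer ({b} : Set G) := by
    rintro _ ⟨v, hv, rfl⟩
    rw [Subgroup.mem_centralizer_singleton_iff, ← hgab]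
    exact ((ha v hv).map (MulAut.conj g).toMonoidHom).eq
  obtain ⟨c, hc, hcS⟩ := exists_conj_le_sylow S _ hS ((S.2.to_le D.gbase_le).map _) hB
  refine ⟨c * g, mem_normalizer_of_map_eq (D.conj_gbase_eq fun v hv => ?_), ?_⟩
  · rw [show c * g * v * (c * g)⁻¹ = c * (g * v * g⁻¹) * c⁻¹ by group]
    exact hcS _ ⟨v, hv, rfl⟩
  · rw [show c * g * a * (c * g)⁻¹ = c * (g * a * g⁻¹) * c⁻¹ by group, hgab,
      Subgroup.mem_centralizer_singleton_iff.1 hc, mul_inv_cancel_right]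

theorem conj_base_involution {n t : G} (hn : n ∈ Subgroup.normalizer (D.gbase : Set G))
    (ht : t ∈ D.gbase) (ht2 : orderOf t = 2) :
    n * t * n⁻¹ = D.gw ∨ n * t * n⁻¹ = D.ge ∨ n * t * n⁻¹ = D.ge' :=
  D.base_involution_cases ((Subgroup.mem_normalizer_iff.1 hn t).1 ht) (by rw [orderOf_conj, ht2])

/-- An element of the normaliser fixing `gw` acts on the base as `1` or as `gz`. -/
theorem normalizer_cases {n : G} (hn : n ∈ Subgroup.normalizer (D.gbase : Set G))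
    (hw : n * D.gw * n⁻¹ = D.gw) :
    (∀ v ∈ D.gbase, n * v * n⁻¹ = v) ∨ (∀ v ∈ D.gbase, n * v * n⁻¹ = D.gz * v * D.gz⁻¹) := by
  have hfix : ∀ m, m ∈ Subgroup.centralizer (D.gbase : Set G) → ∀ v ∈ D.gbase, m * v * m⁻¹ = v :=
    fun m hm v hv => by rw [← Subgroup.mem_centralizer_iff.1 hm v hv, mul_inv_cancel_right]
  have hzz : ∀ v : G, D.gz * (D.gz * v * D.gz⁻¹) * D.gz⁻¹ = v := fun v => by
    have h : D.gz * D.gz = 1 := congrArg Subtype.val D.z_sq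
    rw [inv_eq_of_mul_eq_one_right h]
    calc D.gz * (D.gz * v * D.gz) * D.gz = (D.gz * D.gz) * v * (D.gz * D.gz) := by group
      _ = v := by rw [h, one_mul, mul_one]
  rcases D.conj_base_involution hn D.ge_mem_base D.orderOf_ge with h | h | h
  · exact absurd (mul_left_cancel (mul_right_cancel (h.trans hw.symm))) D.gw_ne_ge.symm
  · exact Or.inl (hfix n (D.centralizes_of_fixes hn hw h))
  · right
    have hn' : D.gz * n ∈ Subgroup.centralizer (D.gbase : Set G) := by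
      refine D.centralizes_of_fixes (mul_mem (D.sylow_le_normalizer D.gz_mem) hn) ?_ ?_
      · rw [show D.gz * n * D.gw * (D.gz * n)⁻¹ = D.gz * (n * D.gw * n⁻¹) * D.gz⁻¹ by group, hw]
        exact D.gz_conj_gu _ _
      · rw [show D.gz * n * D.ge * (D.gz * n)⁻¹ = D.gz * (n * D.ge * n⁻¹) * D.gz⁻¹ by group, h]
        exact D.gz_conj_gu _ _
    intro v hv
    have h1 := hfix _ hn' v hv
    rw [show D.gz * n * v * (D.gz * n)⁻¹ = D.gz * (n * v * n⁻¹) * D.gz⁻¹ by group] at h1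
    conv_rhs => rw [← h1]
    rw [hzz]

theorem not_isConj_gi_gc : ¬ IsConj D.gi D.gc := by
  intro h
  obtain ⟨g, hg⟩ := isConj_iff.1 h
  obtain ⟨n, hn, hngc⟩ := D.move_base hg (fun v hv => D.gbase_comm hv (D.gu_mem_base _ _))
    (fun s hs => (D.gc_commute hs).symm)
  have hw : n * D.gw * n⁻¹ = D.gw := by
    rw [← D.gi_sq, show n * (D.gi * D.gi) * n⁻¹ = (n * D.gi * n⁻¹) * (n * D.gi * n⁻¹) by group,
      hngc, D.gc_sq, D.gi_sq]
  rcases D.normalizer_cases hn hw with h' | h'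
  · exact D.gi_ne_gc ((h' _ (D.gu_mem_base _ _)).symm.trans hngc)
  · have e : D.gi⁻¹ = D.gc := by
      rw [← hngc, h' D.gi (D.gu_mem_base _ _), gi, D.gz_conj_gu, D.gu_inv, neg_neg]
    exact D.gi_ne_gc_inv (by rw [← e, inv_inv])

theorem not_isConj_gi_gc_inv : ¬ IsConj D.gi D.gc⁻¹ := by
  intro h
  obtain ⟨g, hg⟩ := isConj_iff.1 h
  refine D.not_isConj_gi_gc (D.isConj_gi_inv.trans (isConj_iff.2 ⟨g, ?_⟩))
  rw [← conj_inv, hg, inv_inv]

theorem gq_k : D.gq D.k = D.gc * D.gf 0 := by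
  rw [gc, gf, gq, ← mul_assoc, D.gu_mul, mul_left_inj, D.gu_eq_iff]
  have := D.two_k
  exact ⟨⟨0, by omega⟩, ⟨0, by omega⟩⟩

theorem gc_mul_ge : D.gc * D.ge = D.gi⁻¹ := by
  rw [gc, ge, gi, D.gu_mul, D.gu_inv, D.gu_eq_iff]
  have := D.two_k
  exact ⟨⟨1, by omega⟩, ⟨0, by omega⟩⟩

theorem gc_inv_mul_ge : D.gc⁻¹ * D.ge = D.gi := by
  rw [gc, ge, gi, D.gu_inv, D.gu_mul, D.gu_eq_iff]
  have := D.two_k
  exact ⟨⟨0, by omega⟩, ⟨0, by omega⟩⟩

theorem gi_mul_gc : D.gi * D.gc = D.ge := by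
  rw [gc, ge, gi, D.gu_mul, D.gu_eq_iff]
  have := D.two_k
  exact ⟨⟨0, by omega⟩, ⟨0, by omega⟩⟩

theorem gq_mul_gc (a : ℤ) : D.gq a * D.gc = D.gf (a + D.k) := by
  rw [gq, gc, gf, D.guz_mul_gu, mul_left_inj, D.gu_eq_iff]
  have := D.two_k
  exact ⟨⟨0, by omega⟩, ⟨1, by omega⟩⟩

theorem gq_inv (a : ℤ) : (D.gq a)⁻¹ = D.gq (a + D.h) := by
  refine inv_eq_of_mul_eq_one_right ?_
  rw [gq, gq, D.guz_mul_guz, D.gu_eq_one_iff]
  exact ⟨⟨0, by ring⟩, ⟨1, by ring⟩⟩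

theorem gf_zero : D.gf 0 = D.gz := by rw [gf, neg_zero, D.gu_zero, one_mul]

/-- An element of `S` conjugate to `gw` and commuting with the image of `gc`. -/
theorem images_of_conj_gw (h : IsConj (D.gf 0) D.gw) :
    ∃ g : G, g * D.gf 0 * g⁻¹ ∈ D.gbase ∧ g * D.gc * g⁻¹ ∈ D.gbase := by
  haveI : Fact (Nat.Prime 2) := ⟨Nat.prime_two⟩
  obtain ⟨g, hg⟩ := isConj_iff.1 h
  have hSC : (S : Subgroup G) ≤ Subgroup.centralizer ({D.gw} : Set G) := fun s hs =>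
    Subgroup.mem_centralizer_singleton_iff.2 (D.gw_commute hs).symm.eq
  have hR : IsPGroup 2 (Subgroup.zpowers (g * D.gc * g⁻¹)) :=
    IsPGroup.of_card (n := 2) (by
      rw [Nat.card_zpowers, orderOf_conj, D.orderOf_of_sq D.gc_sq]; rfl)
  have hRC : Subgroup.zpowers (g * D.gc * g⁻¹) ≤ Subgroup.centralizer ({D.gw} : Set G) := by
    rw [Subgroup.zpowers_le, Subgroup.mem_centralizer_singleton_iff, ← hg]
    exact ((D.gc_commute (D.gf_mem 0)).map (MulAut.conj g).toMonoidHom).eq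
  obtain ⟨c, hc, hcS⟩ := exists_conj_le_sylow S _ hSC hR hRC
  have h1 : c * g * D.gf 0 * (c * g)⁻¹ = D.gw := by
    rw [show c * g * D.gf 0 * (c * g)⁻¹ = c * (g * D.gf 0 * g⁻¹) * c⁻¹ by group, hg,
      Subgroup.mem_centralizer_singleton_iff.1 hc, mul_inv_cancel_right]
  refine ⟨c * g, h1 ▸ D.gu_mem_base _ _, ?_⟩
  have h2 : c * g * D.gc * (c * g)⁻¹ ∈ S := by
    have := hcS _ (Subgroup.mem_zpowers _)
    rwa [show c * g * D.gc * (c * g)⁻¹ = c * (g * D.gc * g⁻¹) * c⁻¹ by group]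
  obtain ⟨a, b, h3 | h3⟩ := D.repr_G h2
  · exact h3 ▸ D.gu_mem_base a b
  · exfalso
    have h4 : c * g * D.gw * (c * g)⁻¹ = D.gu (a + b) (b + a) := by
      rw [← D.guz_mul_guz, ← h3, ← D.gc_sq]; group
    have hmem : c * g * D.gw * (c * g)⁻¹ ∈ D.gbase := h4 ▸ D.gu_mem_base _ _
    rcases D.base_involution_cases hmem (by rw [orderOf_conj, D.orderOf_gw]) with h5 | h5 | h5
    · have := mul_left_cancel (mul_right_cancel (h5.trans h1.symm))
      rw [gw, gf] at this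
      exact D.gu_ne_guz _ _ _ _ this
    · rw [h4, add_comm b a] at h5; exact (D.diag_ne_ge _).1 h5
    · rw [h4, add_comm b a] at h5; exact (D.diag_ne_ge _).2 h5

theorem images_of_conj_ge (h1 : ¬ IsConj D.gw D.ge) (h : IsConj (D.gf 0) D.ge) :
    ∃ g : G, g * D.gf 0 * g⁻¹ ∈ D.gbase ∧ g * D.gc * g⁻¹ ∈ D.gbase := by
  haveI : Fact (Nat.Prime 2) := ⟨Nat.prime_two⟩
  obtain ⟨g, hg⟩ := isConj_iff.1 h
  set C := Subgroup.centralizer ({D.ge} : Set G) with hC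
  have hBC : D.gbase ≤ C := fun v hv =>
    Subgroup.mem_centralizer_singleton_iff.2 (D.gbase_comm hv (D.gu_mem_base _ _)).eq
  have hR : IsPGroup 2 (Subgroup.zpowers (g * D.gc * g⁻¹)) :=
    IsPGroup.of_card (n := 2) (by
      rw [Nat.card_zpowers, orderOf_conj, D.orderOf_of_sq D.gc_sq]; rfl)
  have hRC : Subgroup.zpowers (g * D.gc * g⁻¹) ≤ C := by
    rw [Subgroup.zpowers_le, hC, Subgroup.mem_centralizer_singleton_iff, ← hg]
    exact ((D.gc_commute (D.gf_mem 0)).map (MulAut.conj g).toMonoidHom).eq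
  obtain ⟨T, hT⟩ := (hR.of_equiv (Subgroup.subgroupOfEquivOfLe hRC).symm).exists_le_sylow
  obtain ⟨T', hT'⟩ :=
    ((S.2.to_le D.gbase_le).of_equiv (Subgroup.subgroupOfEquivOfLe hBC).symm).exists_le_sylow
  obtain ⟨c, hc⟩ := MulAction.exists_smul_eq C T' T
  obtain ⟨x, -, hx⟩ := exists_conj_le_sylow S ⊤ le_top (T.2.map C.subtype) le_top
  have hxc : ∀ v ∈ D.gbase, x * c * v * (x * c)⁻¹ ∈ S := by
    intro v hv
    have h2 : c * (⟨v, hBC hv⟩ : C) * c⁻¹ ∈ (T : Subgroup C) := by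
      rw [← hc, Sylow.coe_subgroup_smul]
      exact Subgroup.smul_mem_pointwise_smul _ (MulAut.conj c) _ (hT' hv)
    have := hx _ (Subgroup.mem_map_of_mem C.subtype h2)
    rw [show x * c * v * (x * c)⁻¹ = x * ((c : G) * v * (c : G)⁻¹) * x⁻¹ by group]
    exact this
  have hN := mem_normalizer_of_map_eq (D.conj_gbase_eq hxc)
  have hce : (x : G) * D.ge * x⁻¹ = x * c * D.ge * (x * c)⁻¹ := by
    conv_rhs => rw [show x * c * D.ge * (x * (c : G))⁻¹ = x * ((c : G) * D.ge * (c : G)⁻¹) * x⁻¹ by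
      group, Subgroup.mem_centralizer_singleton_iff.1 c.2, mul_inv_cancel_right]
  have hoff : ∀ v ∈ (T : Subgroup C), x * (v : G) * x⁻¹ ∈ D.gbase := by
    intro v hv
    have hvS := hx _ (Subgroup.mem_map_of_mem C.subtype hv)
    have hcomm : Commute (x * (v : G) * x⁻¹) (x * D.ge * x⁻¹) :=
      (show Commute (v : G) D.ge from Subgroup.mem_centralizer_singleton_iff.1 v.2).map
        (MulAut.conj x).toMonoidHom
    rcases D.conj_base_involution hN D.ge_mem_base D.orderOf_ge with h2 | h2 | h2 <;>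
      rw [← hce] at h2
    · exact absurd (isConj_iff.2 ⟨x, h2⟩ : IsConj D.ge D.gw).symm h1
    · rw [h2] at hcomm
      exact D.centralizer_offdiag (a := D.h) (b := 0) (by simpa using D.not_dvd_h) hvS hcomm
    · rw [h2] at hcomm
      exact D.centralizer_offdiag (a := 0) (b := D.h) (by simpa using D.not_dvd_h) hvS hcomm
  refine ⟨x * g, ?_, ?_⟩
  · rw [show x * g * D.gf 0 * (x * g)⁻¹ = x * (g * D.gf 0 * g⁻¹) * x⁻¹ by group, hg, hce]
    exact (Subgroup.mem_normalizer_iff.1 hN _).1 (D.gu_mem_base _ _)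
  · rw [show x * g * D.gc * (x * g)⁻¹ = x * (g * D.gc * g⁻¹) * x⁻¹ by group]
    exact hoff ⟨_, hRC (Subgroup.mem_zpowers _)⟩ (hT (Subgroup.mem_zpowers _))

/-- Fusion of an outer involution into the base forces fusion in `Q * Z(S)`. -/
theorem fusion_q_of_gf (h : IsConj (D.gf 0) D.gw ∨ IsConj (D.gf 0) D.ge) :
    IsConj D.gi (D.gq 0) := by
  obtain ⟨g, hgf, hgc⟩ : ∃ g : G, g * D.gf 0 * g⁻¹ ∈ D.gbase ∧ g * D.gc * g⁻¹ ∈ D.gbase := by
    by_cases h1 : IsConj D.gw D.ge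
    · exact D.images_of_conj_gw (h.elim id fun h' => h'.trans h1.symm)
    · exact h.elim D.images_of_conj_gw (D.images_of_conj_ge h1)
  obtain ⟨d, hdw, hdf, hdc⟩ : ∃ d : G, d * D.gw * d⁻¹ = D.gw ∧ d * D.gf 0 * d⁻¹ ∈ D.gbase ∧
      d * D.gc * d⁻¹ ∈ D.gbase := by
    have hgw : g * D.gw * g⁻¹ ∈ D.gbase := by
      rw [← D.gc_sq, show g * (D.gc * D.gc) * g⁻¹ = g * D.gc * g⁻¹ * (g * D.gc * g⁻¹) by group]
      exact mul_mem hgc hgc
    have hcase := D.base_involution_cases hgw (by rw [orderOf_conj, D.orderOf_gw])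
    by_cases hgw' : g * D.gw * g⁻¹ = D.gw
    · exact ⟨g, hgw', hgf, hgc⟩
    have h1 : IsConj D.gw D.ge := by
      rcases hcase with h2 | h2 | h2
      · exact absurd h2 hgw'
      · exact isConj_iff.2 ⟨g, h2⟩
      · exact (isConj_iff.2 ⟨g, h2⟩ : IsConj D.gw D.ge').trans D.isConj_ge'.symm
    obtain ⟨n, hn, hnw⟩ :=
      D.gbase_automiser.2.2 (D.gbase_automiser.2.1.2 h1) _ D.gw hcase (Or.inl rfl)
    have hn2 := pow_mem hn 2
    refine ⟨n ^ 2 * g, ?_, ?_, ?_⟩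
    · rw [show n ^ 2 * g * D.gw * (n ^ 2 * g)⁻¹ = n ^ 2 * (g * D.gw * g⁻¹) * (n ^ 2)⁻¹ by group,
        hnw]
    · rw [show n ^ 2 * g * D.gf 0 * (n ^ 2 * g)⁻¹ = n ^ 2 * (g * D.gf 0 * g⁻¹) * (n ^ 2)⁻¹ by
        group]
      exact (Subgroup.mem_normalizer_iff.1 hn2 _).1 hgf
    · rw [show n ^ 2 * g * D.gc * (n ^ 2 * g)⁻¹ = n ^ 2 * (g * D.gc * g⁻¹) * (n ^ 2)⁻¹ by group]
      exact (Subgroup.mem_normalizer_iff.1 hn2 _).1 hgc
  obtain ⟨m, hmw, hmf, hmc⟩ : ∃ m : G, m * D.gw * m⁻¹ = D.gw ∧ m * D.gf 0 * m⁻¹ = D.ge ∧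
      m * D.gc * m⁻¹ ∈ D.gbase := by
    rcases D.base_involution_cases hdf (by rw [orderOf_conj, D.orderOf_gf]) with h2 | h2 | h2
    · have := mul_left_cancel (mul_right_cancel (h2.trans hdw.symm))
      rw [gw, gf] at this
      exact absurd this.symm (D.gu_ne_guz _ _ _ _)
    · exact ⟨d, hdw, h2, hdc⟩
    · refine ⟨D.gz * d, ?_, ?_, ?_⟩
      · rw [show D.gz * d * D.gw * (D.gz * d)⁻¹ = D.gz * (d * D.gw * d⁻¹) * D.gz⁻¹ by group, hdw]
        exact D.gz_conj_gu _ _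
      · rw [show D.gz * d * D.gf 0 * (D.gz * d)⁻¹ = D.gz * (d * D.gf 0 * d⁻¹) * D.gz⁻¹ by group,
          h2]
        exact D.gz_conj_gu _ _
      · rw [show D.gz * d * D.gc * (D.gz * d)⁻¹ = D.gz * (d * D.gc * d⁻¹) * D.gz⁻¹ by group]
        exact (Subgroup.mem_normalizer_iff.1 (D.sylow_le_normalizer D.gz_mem) _).1 hdc
  have hsq : m * D.gc * m⁻¹ * (m * D.gc * m⁻¹) = D.gw := by
    rw [show m * D.gc * m⁻¹ * (m * D.gc * m⁻¹) = m * (D.gc * D.gc) * m⁻¹ by group, D.gc_sq, hmw]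
  have hq : IsConj (D.gq D.k) (m * D.gc * m⁻¹ * D.ge) :=
    isConj_iff.2 ⟨m, by rw [D.gq_k, ← hmf]; group⟩
  rcases D.base_sq_cases hmc hsq with h2 | h2 | h2 | h2
  · rw [h2, D.gc_mul_ge] at hq
    exact (D.isConj_gi_inv.trans hq.symm).trans (D.isConj_gq _ 0)
  · rw [h2, D.gc_inv_mul_ge] at hq
    exact hq.symm.trans (D.isConj_gq _ 0)
  · exact absurd (isConj_iff.2 ⟨m, h2⟩ : IsConj D.gc D.gi).symm D.not_isConj_gi_gc
  · exact absurd ((isConj_iff.2 ⟨m, h2⟩ : IsConj D.gc D.gi⁻¹).trans D.isConj_gi_inv.symm).symm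
      D.not_isConj_gi_gc

/-- The quaternion subgroup `⟨gi, gq 0⟩`. -/
def gquat : Subgroup G := Subgroup.closure ({D.gq 0, D.gi} : Set G)

theorem gquat_le : D.gquat ≤ S := by
  rw [gquat, Subgroup.closure_le]
  rintro r (rfl | rfl)
  · exact D.gq_mem 0
  · exact D.gi_mem

theorem nonempty_gquat : Nonempty (D.gquat ≃* QuaternionGroup 2) := by
  obtain ⟨e⟩ := nonempty_quaternionEquiv (D.gq_rel 0) 2 (D.orderOf_of_sq D.gi_sq)
    (by rw [D.gq_sq, sq, D.gi_sq]) (D.axes 0).not_mem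
  exact ⟨e.symm⟩

theorem exists_three_cycle (h2 : IsConj D.gi (D.gq 0)) :
    ∃ n : G, n ∈ Subgroup.normalizer (D.gquat : Set G) ∧ (∀ c ∈ D.gcent, Commute n c) ∧
      (n ^ 2 * D.gi * (n ^ 2)⁻¹ = D.gq 0 ∨ n ^ 2 * D.gi * (n ^ 2)⁻¹ = (D.gq 0)⁻¹) := by
  obtain ⟨e⟩ := D.nonempty_gquat
  obtain ⟨-, hiff, hsq⟩ := D.V_automiser D.gquat D.gquat_le e
  exact hsq (hiff.2 h2) D.gi (Subgroup.subset_closure (by simp)) (D.gq 0)
    (Subgroup.subset_closure (by simp)) (D.orderOf_of_sq D.gi_sq) (D.orderOf_of_sq (D.gq_sq 0))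

/-- Fusion in `Q * Z(S)` moves `ge` onto every outer involution, centralising `Z(S)`. -/
theorem exists_fuse_gf (h2 : IsConj D.gi (D.gq 0)) (a : ℤ) :
    ∃ n : G, (∀ c ∈ D.gcent, Commute n c) ∧ n * D.ge * n⁻¹ = D.gf a := by
  obtain ⟨n, -, hc, hn⟩ := D.exists_three_cycle h2
  obtain ⟨j, hj⟩ : ∃ j, n ^ 2 * D.ge * (n ^ 2)⁻¹ = D.gf j := by
    have hcc : n ^ 2 * D.gc * (n ^ 2)⁻¹ = D.gc := by
      rw [((hc _ D.gc_mem_gcent).pow_left 2).eq, mul_inv_cancel_right]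
    rw [← D.gi_mul_gc, show n ^ 2 * (D.gi * D.gc) * (n ^ 2)⁻¹ =
      (n ^ 2 * D.gi * (n ^ 2)⁻¹) * (n ^ 2 * D.gc * (n ^ 2)⁻¹) by group, hcc]
    rcases hn with h | h <;> rw [h]
    · exact ⟨_, D.gq_mul_gc 0⟩
    · rw [D.gq_inv]; exact ⟨_, D.gq_mul_gc _⟩
  refine ⟨D.gu (a - j) 0 * n ^ 2, fun c hc' => ?_, ?_⟩
  · exact ((D.gcent_commute hc' (D.gu_mem _ _)).symm).mul_left ((hc c hc').pow_left 2)
  · rw [show D.gu (a - j) 0 * n ^ 2 * D.ge * (D.gu (a - j) 0 * n ^ 2)⁻¹ =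
      D.gu (a - j) 0 * (n ^ 2 * D.ge * (n ^ 2)⁻¹) * (D.gu (a - j) 0)⁻¹ by group, hj,
      gf, gf, D.gu_conj_guz, mul_left_inj, D.gu_eq_iff]
    exact ⟨⟨0, by ring⟩, ⟨0, by ring⟩⟩

theorem isConj_ge_gf (h2 : IsConj D.gi (D.gq 0)) : IsConj D.ge (D.gf 0) := by
  obtain ⟨n, -, hn⟩ := D.exists_fuse_gf h2 0
  exact isConj_iff.2 ⟨n, hn⟩

theorem not_isConj_gf (h2 : ¬ IsConj D.gi (D.gq 0)) :
    ¬ IsConj D.gw (D.gf 0) ∧ ¬ IsConj D.ge (D.gf 0) :=
  ⟨fun h => h2 (D.fusion_q_of_gf (Or.inl h.symm)), fun h => h2 (D.fusion_q_of_gf (Or.inr h.symm))⟩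

theorem not_isConj_gw_gf (h1 : ¬ IsConj D.gw D.ge) : ¬ IsConj D.gw (D.gf 0) := fun h =>
  h1 (h.trans (D.isConj_ge_gf (D.fusion_q_of_gf (Or.inl h.symm))).symm)

theorem classes_one (h1 : IsConj D.gw D.ge) (h2 : IsConj D.gi (D.gq 0)) :
    Nat.card {C : ConjClasses G // ∃ t : G, orderOf t = 2 ∧ ConjClasses.mk t = C} = 1 :=
  card_classes_eq_one D.orderOf_gw fun _ ht => by
    rcases D.involution_class ht with h | h | h
    · exact h
    · exact h.trans h1.symm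
    · exact h.trans ((D.isConj_ge_gf h2).symm.trans h1.symm)

theorem classes_two_q (h1 : ¬ IsConj D.gw D.ge) (h2 : IsConj D.gi (D.gq 0)) :
    Nat.card {C : ConjClasses G // ∃ t : G, orderOf t = 2 ∧ ConjClasses.mk t = C} = 2 :=
  card_classes_eq_two D.orderOf_gw D.orderOf_ge h1 fun _ ht => by
    rcases D.involution_class ht with h | h | h
    · exact Or.inl h
    · exact Or.inr h
    · exact Or.inr (h.trans (D.isConj_ge_gf h2).symm)

theorem classes_two_base (h1 : IsConj D.gw D.ge) (h2 : ¬ IsConj D.gi (D.gq 0)) :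
    Nat.card {C : ConjClasses G // ∃ t : G, orderOf t = 2 ∧ ConjClasses.mk t = C} = 2 :=
  card_classes_eq_two D.orderOf_gw (D.orderOf_gf 0) (D.not_isConj_gf h2).1 fun _ ht => by
    rcases D.involution_class ht with h | h | h
    · exact Or.inl h
    · exact Or.inl (h.trans h1.symm)
    · exact Or.inr h

theorem classes_three (h1 : ¬ IsConj D.gw D.ge) (h2 : ¬ IsConj D.gi (D.gq 0)) :
    Nat.card {C : ConjClasses G // ∃ t : G, orderOf t = 2 ∧ ConjClasses.mk t = C} = 3 :=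
  card_classes_eq_three D.orderOf_gw D.orderOf_ge (D.orderOf_gf 0) h1 (D.not_isConj_gf h2).1
    (D.not_isConj_gf h2).2 fun _ ht => D.involution_class ht

/-- Parity on the base of a subgroup of index two. -/
theorem index_two_parity {K : Subgroup G} (hK : K.index = 2) (hx : D.gu 1 0 ∉ K) (a b : ℤ) :
    D.gu a b ∈ K ↔ 2 ∣ a + b := by
  haveI := Subgroup.normal_of_index_eq_two hK
  have hy : D.gu 0 1 ∉ K := fun h => hx (by
    have := Subgroup.Normal.conj_mem inferInstance _ h D.gz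
    rwa [D.gz_conj_gu] at this)
  have key : ∀ (g : G), g ∉ K → ∀ t : ℤ, g ^ t ∈ K ↔ 2 ∣ t := by
    intro g hg t
    have hsq : g ^ (2 : ℤ) ∈ K := by
      rw [zpow_two]; exact (Subgroup.mul_mem_iff_of_index_two hK).2 Iff.rfl
    rcases Int.even_or_odd t with ⟨s, rfl⟩ | ⟨s, rfl⟩
    · rw [← two_mul, zpow_mul]
      exact iff_of_true (K.zpow_mem hsq s) ⟨s, rfl⟩
    · rw [zpow_add_one, zpow_mul, K.mul_mem_cancel_left (K.zpow_mem hsq s)]
      exact iff_of_false hg (by omega)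
  have e : D.gu a b = D.gu 1 0 ^ a * D.gu 0 1 ^ b := by
    rw [D.gu_zpow, D.gu_zpow, D.gu_mul]; simp
  rw [e, Subgroup.mul_mem_iff_of_index_two hK, key _ hx, key _ hy]
  omega

theorem base_le_or_parity {K : Subgroup G} (hK : K.index = 2) :
    (∀ v ∈ D.gbase, v ∈ K) ∨ ∀ a b : ℤ, D.gu a b ∈ K ↔ 2 ∣ a + b := by
  haveI := Subgroup.normal_of_index_eq_two hK
  by_cases hx : D.gu 1 0 ∈ K
  · left
    intro v hv
    obtain ⟨a, b, rfl⟩ := D.mem_gbase_iff.1 hv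
    have hy : D.gu 0 1 ∈ K := by
      have := Subgroup.Normal.conj_mem inferInstance _ hx D.gz
      rwa [D.gz_conj_gu] at this
    have e : D.gu a b = D.gu 1 0 ^ a * D.gu 0 1 ^ b := by
      rw [D.gu_zpow, D.gu_zpow, D.gu_mul]; simp
    rw [e]
    exact K.mul_mem (K.zpow_mem hx a) (K.zpow_mem hy b)
  · exact Or.inr (D.index_two_parity hK hx)

theorem exists_index_two_gz (h2 : ¬ IsConj D.gi (D.gq 0)) :
    ∃ K : Subgroup G, K.Normal ∧ K.index = 2 ∧ D.gz ∉ K := by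
  haveI : Fact (Nat.Prime 2) := ⟨Nat.prime_two⟩
  have hrel : D.gbase.relIndex (S : Subgroup G) = 2 := by
    rw [gbase]
    conv_lhs => arg 2; rw [← Subgroup.range_subtype (S : Subgroup G), MonoidHom.range_eq_map]
    rw [Subgroup.relIndex_map_map_of_injective _ _ (S : Subgroup G).subtype_injective,
      Subgroup.relIndex_top_right, D.base_index]
  rw [← D.gf_zero]
  refine exists_index_two_notMem S D.gbase D.gbase_le hrel 1 (fun t ht htM => ?_)
    (D.gf 0) (by rw [D.orderOf_gf, pow_one]) fun g hg => ?_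
  · have : orderOf t ≠ 1 := fun h => htM (by rw [orderOf_eq_one_iff.1 h]; exact one_mem _)
    have := orderOf_pos t
    omega
  have hord : orderOf (g⁻¹ * D.gf 0 * g) = 2 := by
    rw [show g⁻¹ * D.gf 0 * g = g⁻¹ * D.gf 0 * g⁻¹⁻¹ by group, orderOf_conj, D.orderOf_gf]
  have hc : IsConj (D.gf 0) (g⁻¹ * D.gf 0 * g) := isConj_iff.2 ⟨g⁻¹, by group⟩
  rcases D.base_involution_cases hg hord with h | h | h <;> rw [h] at hc
  · exact h2 (D.fusion_q_of_gf (Or.inl hc))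
  · exact h2 (D.fusion_q_of_gf (Or.inr hc))
  · exact h2 (D.fusion_q_of_gf (Or.inr (hc.trans D.isConj_ge'.symm)))

/-- If `gw` is not fused to `ge`, every element of `Z(S)` is weakly closed in `S`. -/
theorem central_weakly_closed (h1 : ¬ IsConj D.gw D.ge) {b : G} (hb : b ∈ D.gcent) {g : G}
    (hg : g * b * g⁻¹ ∈ S) : g * b * g⁻¹ = b := by
  have hbase : ∀ b ∈ D.gcent, ∀ g : G, g * b * g⁻¹ ∈ D.gbase → g * b * g⁻¹ = b := by
    intro b hb g hv
    set v := g * b * g⁻¹ with hvdef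
    obtain ⟨n, hn, hnv⟩ := D.move_base (a := v) (b := b) (g := g⁻¹) (by rw [hvdef]; group)
      (fun u hu => D.gbase_comm hu hv) (fun s hs => (D.gcent_commute hb hs).symm)
    have hw : n * D.gw * n⁻¹ = D.gw := by
      rcases D.conj_base_involution hn D.gw_mem_base D.orderOf_gw with h | h | h
      · exact h
      · exact absurd (isConj_iff.2 ⟨n, h⟩) h1
      · exact absurd ((isConj_iff.2 ⟨n, h⟩ : IsConj D.gw D.ge').trans D.isConj_ge'.symm) h1
    rcases D.normalizer_cases hn hw with h | h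
    · exact (h v hv).symm.trans hnv
    · have h3 := (h v hv).symm.trans hnv
      calc v = D.gz⁻¹ * (D.gz * v * D.gz⁻¹) * D.gz := by group
        _ = b := by rw [h3, mul_assoc, (D.gcent_commute hb D.gz_mem).eq, inv_mul_cancel_left]
  obtain ⟨a, c, h | h⟩ := D.repr_G hg
  · exact hbase b hb g (h ▸ D.gu_mem_base a c)
  exfalso
  obtain ⟨t, rfl⟩ := D.mem_gcent_iff.1 hb
  have hsq : g * (D.gu t t * D.gu t t) * g⁻¹ = D.gu (a + c) (c + a) := by
    rw [← D.guz_mul_guz, ← h]; group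
  have h2t := hbase _ (mul_mem hb hb) g (hsq ▸ D.gu_mem_base _ _)
  rw [hsq, D.gu_mul, D.gu_eq_iff] at h2t
  by_cases h2 : IsConj D.gi (D.gq 0)
  · obtain ⟨n, hc, hn⟩ := D.exists_fuse_gf h2 (a - t)
    have e : g * D.gu t t * g⁻¹ = D.gu t t * D.gf (a - t) := by
      rw [h, gf, ← mul_assoc, D.gu_mul, mul_left_inj, D.gu_eq_iff]
      obtain ⟨⟨r, hr⟩, -⟩ := h2t
      exact ⟨⟨0, by ring⟩, ⟨r, by linarith⟩⟩
    have hmem : (n⁻¹ * g) * D.gu t t * (n⁻¹ * g)⁻¹ = D.gu t t * D.ge := by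
      calc (n⁻¹ * g) * D.gu t t * (n⁻¹ * g)⁻¹ = n⁻¹ * (g * D.gu t t * g⁻¹) * n := by group
        _ = n⁻¹ * (D.gu t t * (n * D.ge * n⁻¹)) * n := by rw [e, hn]
        _ = n⁻¹ * (n * D.gu t t * (D.ge * n⁻¹)) * n := by rw [(hc _ hb).eq]; group
        _ = D.gu t t * D.ge := by group
    have h3 := hbase _ hb (n⁻¹ * g) (hmem ▸ mul_mem (D.gu_mem_base _ _) (D.gu_mem_base _ _))
    rw [hmem, mul_eq_left] at h3
    exact D.ge_ne_one h3
  · obtain ⟨K, hKn, hK, hzK⟩ := D.exists_index_two_gz h2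
    haveI := hKn
    have hac : 2 ∣ a + c := by
      obtain ⟨⟨r, hr⟩, -⟩ := h2t
      exact ⟨(D.h : ℤ) * r + t, by linarith⟩
    have hbK : D.gu t t ∈ K ∧ D.gu a c ∈ K := by
      rcases D.base_le_or_parity hK with hp | hp
      · exact ⟨hp _ (D.gu_mem_base _ _), hp _ (D.gu_mem_base _ _)⟩
      · exact ⟨(hp t t).2 ⟨t, (two_mul t).symm⟩, (hp a c).2 hac⟩
    have hvK := Subgroup.Normal.conj_mem hKn _ hbK.1 g
    rw [h] at hvK
    exact hzK ((K.mul_mem_cancel_left hbK.2).1 hvK)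

theorem weaklyClosed_le_gcent (h1 : ¬ IsConj D.gw D.ge) {Z₀ : Subgroup G} (hZ : Z₀ ≤ D.gcent) :
    IsWeaklyClosed Z₀ (S : Subgroup G) := by
  refine ⟨hZ.trans D.gcent_le, fun g hg => ?_⟩
  have key : ∀ b ∈ Z₀, g * b * g⁻¹ = b := fun b hb =>
    D.central_weakly_closed h1 (hZ hb) (hg ⟨b, hb, rfl⟩)
  ext v
  exact ⟨fun ⟨b, hb, e⟩ => by rw [← e]; show g * b * g⁻¹ ∈ Z₀; rw [key b hb]; exact hb,
    fun hv => ⟨v, hv, key v hv⟩⟩

end WrData

end Cfsg.Agent.Invol
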