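import Cfsg.Agent.Lib.Invol.ZStarCons

/-!
# Automorphisms fixing an abelian Sylow 2-subgroup

In a group with trivial odd core, a 2-power automorphism fixing an abelian Sylow 2-subgroup is
inner: an averaged element of the extended Sylow subgroup is isolated, hence central.
-/

set_option linter.unusedSectionVars false
set_option linter.style.haveILetI false

namespace Cfsg.Agent.Invol

open Cfsg

universe u

variable {G : Type u} [Group G] [Finite G]

/-- In a group with abelian Sylow 2-subgroup `S` and trivial odd core, an element of `S`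
centralized by the normalizer of `S` is central. -/
theorem central_of_normalizer_fixed (hZ : ZStarHyp.{u}) (hO : oddCore G = ⊥) (S : Sylow 2 G)
    [IsMulCommutative (S : Subgroup G)] {a : G} (haS : a ∈ S)
    (hfix : ∀ n ∈ Subgroup.normalizer ((S : Subgroup G) : Set G), n * a * n⁻¹ = a) :
    a ∈ Subgroup.center G := by
  haveI : Fact (Nat.Prime 2) := ⟨Nat.prime_two⟩
  refine central_of_powers_core_free hZ hO S a haS fun b hb g hg => ?_
  obtain ⟨i, rfl⟩ := Subgroup.mem_zpowers_iff.1 hb
  obtain ⟨n, hn, hc⟩ := S.conj_eq_normalizer_conj_of_mem (a ^ i) g⁻¹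
    ((S : Subgroup G).zpow_mem haS i) (by rwa [inv_inv])
  rw [inv_inv] at hc
  rw [hc]
  have h := hfix _ (inv_mem hn)
  rw [inv_inv] at h
  conv_rhs => rw [← h]
  simpa using (conj_zpow (a := n⁻¹) (b := a) (i := i)).symm

open scoped IsMulCommutative in
/-- The product of the normalizer images of an element of an abelian Sylow 2-subgroup is fixed by
the normalizer, and its image in an abelian quotient is an odd power of that of the element. -/
theorem exists_normalizer_fixed {A : Type*} [CommGroup A] (f : G →* A) (S : Sylow 2 G)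
    [IsMulCommutative (S : Subgroup G)] {a : G} (haS : a ∈ S) :
    ∃ b ∈ S, (∀ n ∈ Subgroup.normalizer ((S : Subgroup G) : Set G), n * b * n⁻¹ = b) ∧
      ∃ m : ℕ, Odd m ∧ f b = f a ^ m := by
  classical
  haveI : Fact (Nat.Prime 2) := ⟨Nat.prime_two⟩
  set P : Subgroup G := (S : Subgroup G)
  set ψ := P.normalizerMonoidHom with hψ
  haveI : Fintype ψ.range := Fintype.ofFinite _
  have hf : ∀ (σ : ψ.range) (x : P), f ((σ : MulAut P) x) = f x := by
    rintro ⟨_, n, rfl⟩ x
    show f ((n : G) * x * (n : G)⁻¹) = f x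
    rw [map_mul, map_mul, map_inv, mul_comm (f (n : G)), mul_inv_cancel_right]
  refine ⟨((∏ σ : ψ.range, (σ : MulAut P) ⟨a, haS⟩ : P) : G), SetLike.coe_mem _, fun n hn => ?_,
    Fintype.card ψ.range, ?_, ?_⟩
  · show ((ψ ⟨n, hn⟩ (∏ σ : ψ.range, (σ : MulAut P) ⟨a, haS⟩) : P) : G) = _
    congr 1
    rw [map_prod]
    exact Fintype.prod_equiv (Equiv.mulLeft (⟨_, ⟨n, hn⟩, rfl⟩ : ψ.range)) _ _ fun σ => rfl
  · rw [← Nat.card_eq_fintype_card, ← Nat.not_even_iff_odd, even_iff_two_dvd]
    intro h2
    rw [← Subgroup.index_ker] at h2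
    refine S.not_dvd_index (h2.trans ?_)
    have hle : P.subgroupOf (Subgroup.normalizer (P : Set G)) ≤ ψ.ker := by
      rw [hψ, Subgroup.normalizerMonoidHom_ker]
      exact Subgroup.comap_mono P.le_centralizer
    exact (Subgroup.index_dvd_of_le hle).trans
      (Subgroup.relIndex_dvd_index_of_le Subgroup.le_normalizer)
  · show (f.comp P.subtype) (∏ σ : ψ.range, (σ : MulAut P) ⟨a, haS⟩) = f a ^ Fintype.card ψ.range
    rw [map_prod]
    show ∏ σ : ψ.range, f ((σ : MulAut P) ⟨a, haS⟩) = _
    rw [Finset.prod_congr rfl fun σ _ => hf σ ⟨a, haS⟩, Finset.prod_const, Finset.card_univ]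

open scoped IsMulCommutative in
/-- An automorphism of 2-power order fixing an abelian Sylow 2-subgroup of a core-free group is
inner. -/
theorem inner_of_fix_abelian_sylow (hZ : ZStarHyp.{u}) (hO : oddCore G = ⊥) (S : Sylow 2 G)
    [IsMulCommutative (S : Subgroup G)] (α : MulAut G) {j : ℕ} (h2 : orderOf α = 2 ^ j)
    (hfix : ∀ s ∈ (S : Subgroup G), α s = s) : ∃ g : G, ∀ x : G, α x = g * x * g⁻¹ := by
  haveI : Fact (Nat.Prime 2) := ⟨Nat.prime_two⟩
  let T : Subgroup (MulAut G) := Subgroup.zpowers α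
  let X := G ⋊[T.subtype] T
  haveI : Finite X := Finite.of_equiv _ SemidirectProduct.equivProd.symm
  have hTfix : ∀ τ : T, ∀ s ∈ (S : Subgroup G), T.subtype τ s = s := by
    intro τ s hs
    have h : T ≤ MulAction.stabilizer (MulAut G) s := Subgroup.zpowers_le.2 (hfix s hs)
    exact h τ.2
  let P₀ : Subgroup X :=
    { carrier := {x | x.left ∈ (S : Subgroup G)}
      one_mem' := (S : Subgroup G).one_mem
      mul_mem' := fun {a b} (ha : a.left ∈ (S : Subgroup G)) (hb : b.left ∈ (S : Subgroup G)) => by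
        show (a * b).left ∈ (S : Subgroup G)
        rw [SemidirectProduct.mul_left, hTfix a.right _ hb]
        exact mul_mem ha hb
      inv_mem' := fun {a} (ha : a.left ∈ (S : Subgroup G)) => by
        show a⁻¹.left ∈ (S : Subgroup G)
        rw [SemidirectProduct.inv_left, hTfix a.right⁻¹ _ (inv_mem ha)]
        exact inv_mem ha }
  let e : P₀ ≃ ↥(S : Subgroup G) × T :=
    { toFun := fun x => (⟨x.1.left, x.2⟩, x.1.right)
      invFun := fun p => ⟨⟨p.1, p.2⟩, p.1.2⟩
      left_inv := fun _ => rfl
      right_inv := fun _ => rfl }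
  obtain ⟨n, hn⟩ := S.2.exists_card_eq
  have hTc : Nat.card T = 2 ^ j := by rw [Nat.card_zpowers, h2]
  have hP₀ : IsPGroup 2 P₀ := IsPGroup.of_card (n := n + j) (by
    rw [Nat.card_congr e, Nat.card_prod, hn, hTc, pow_add])
  have hidx : P₀.index = (S : Subgroup G).index := by
    have h := P₀.card_mul_index
    rw [Nat.card_congr e, Nat.card_prod, SemidirectProduct.card,
      ← (S : Subgroup G).card_mul_index] at h
    have hpos : 0 < Nat.card (S : Subgroup G) * Nat.card T := Nat.mul_pos Nat.card_pos Nat.card_pos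
    exact Nat.eq_of_mul_eq_mul_left hpos (h.trans (by ring))
  let P : Sylow 2 X := hP₀.toSylow (by rw [hidx]; exact S.not_dvd_index)
  haveI : IsMulCommutative (P : Subgroup X) := ⟨⟨fun u v => Subtype.ext (by
    obtain ⟨⟨ul, ur⟩, hu : ul ∈ (S : Subgroup G)⟩ := u
    obtain ⟨⟨vl, vr⟩, hv : vl ∈ (S : Subgroup G)⟩ := v
    refine SemidirectProduct.ext ?_ ?_
    · show ul * T.subtype ur vl = vl * T.subtype vr ul
      rw [hTfix ur _ hv, hTfix vr _ hu]
      exact congrArg Subtype.val (mul_comm (⟨ul, hu⟩ : (S : Subgroup G)) ⟨vl, hv⟩)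
    · exact mul_comm ur vr)⟩⟩
  let α' : T := ⟨α, Subgroup.mem_zpowers α⟩
  let a : X := SemidirectProduct.inr α'
  obtain ⟨b, hbP, hbfix, m, hm, hbm⟩ :=
    exists_normalizer_fixed (SemidirectProduct.rightHom (φ := T.subtype)) P
      (a := a) ((S : Subgroup G).one_mem)
  have hOX : oddCore X = ⊥ := by
    refine oddCore_eq_bot_of_forall fun N hN hodd => ?_
    haveI := hN
    have hker : ∀ x ∈ N, x.right = 1 := fun x hx => orderOf_eq_one_iff.1
      (Nat.eq_one_of_dvd_coprimes (Nat.Coprime.pow_left j (Nat.coprime_two_left.2 hodd))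
        (hTc ▸ orderOf_dvd_natCard x.right)
        ((orderOf_map_dvd SemidirectProduct.rightHom x).trans
          (Subgroup.orderOf_dvd_natCard _ hx)))
    let ι : G →* X := SemidirectProduct.inl
    have hle : N.comap ι = ⊥ := by
      refine le_bot_iff.1 (hO ▸ le_oddCore inferInstance ?_)
      refine hodd.of_dvd_nat ?_
      rw [← Subgroup.card_map_of_injective (f := ι) SemidirectProduct.inl_injective]
      exact Subgroup.card_dvd_of_le (Subgroup.map_comap_le _ _)
    rw [eq_bot_iff]
    intro x hx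
    have hxl : ι x.left = x := SemidirectProduct.ext rfl (hker x hx).symm
    have h : x.left ∈ N.comap ι := by rw [Subgroup.mem_comap, hxl]; exact hx
    rw [hle, Subgroup.mem_bot] at h
    rw [Subgroup.mem_bot, ← hxl, h, map_one]
  have hb := central_of_normalizer_fixed hZ hOX P hbP hbfix
  have hbr : b.right = α' ^ m := hbm
  have hinner : α ^ m ∈ (MulAut.conj : G →* MulAut G).range := by
    refine ⟨b.left⁻¹, MulEquiv.ext fun x => ?_⟩
    have h := congrArg SemidirectProduct.left (Subgroup.mem_center_iff.1 hb (SemidirectProduct.inl x))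
    rw [SemidirectProduct.mul_left, SemidirectProduct.mul_left, SemidirectProduct.left_inl,
      SemidirectProduct.right_inl, map_one, MulAut.one_apply, hbr] at h
    have h' : x * b.left = b.left * (α ^ m) x := h
    rw [MulAut.conj_apply, inv_inv, mul_assoc, h', inv_mul_cancel_left]
  have hα : α ∈ (MulAut.conj : G →* MulAut G).range := by
    obtain ⟨k, hk⟩ := exists_pow_eq_self_of_coprime (x := α) (n := m)
      (by rw [h2]; exact (Nat.Coprime.pow_left j (Nat.coprime_two_left.2 hm)).symm)
    rw [← hk]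
    exact Subgroup.pow_mem _ hinner k
  obtain ⟨g, hg⟩ := hα
  exact ⟨g, fun x => by rw [← hg]; rfl⟩

end Cfsg.Agent.Invol
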