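import Cfsg.Agent.Lib.Invol.Basic
import Cfsg.Prelude.Def_Involutions

/-!
# Strongly embedded subgroups: elementary facts
-/

namespace Cfsg.Agent.Invol

variable {G : Type*} [Group G] [Finite G] {H : Subgroup G}

theorem mem_conj_iff (g x : G) (H : Subgroup G) :
    x ∈ H.map (MulAut.conj g).toMonoidHom ↔ g⁻¹ * x * g ∈ H := by
  rw [Subgroup.mem_map_equiv]; simp

/-- An involution of a strongly embedded subgroup fixes only one coset. -/
theorem SE_mem_of_conj (hH : IsStronglyEmbedded H) {t g : G} (ht : orderOf t = 2) (htH : t ∈ H)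
    (hg : g⁻¹ * t * g ∈ H) : g ∈ H := by
  by_contra hgH
  have hodd := hH.2.2 g hgH
  have hmem : t ∈ H ⊓ H.map (MulAut.conj g).toMonoidHom := ⟨htH, (mem_conj_iff g t H).2 hg⟩
  have hdvd := Subgroup.orderOf_dvd_natCard _ hmem
  rw [ht] at hdvd
  exact hodd.not_two_dvd_nat hdvd

theorem SE_centralizer_le (hH : IsStronglyEmbedded H) {t : G} (ht : orderOf t = 2) (htH : t ∈ H) :
    Subgroup.centralizer ({t} : Set G) ≤ H := by
  intro c hc
  rw [Subgroup.mem_centralizer_singleton_iff] at hc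
  refine SE_mem_of_conj hH ht htH ?_
  rw [mul_assoc, ← hc, inv_mul_cancel_left]
  exact htH

theorem SE_mem_of_commute (hH : IsStronglyEmbedded H) {t c : G} (ht : orderOf t = 2) (htH : t ∈ H)
    (hc : Commute c t) : c ∈ H :=
  SE_centralizer_le hH ht htH (Subgroup.mem_centralizer_singleton_iff.2 hc.eq)

theorem SE_exists_involution (hH : IsStronglyEmbedded H) : ∃ t ∈ H, orderOf t = 2 := by
  haveI : Fact (Nat.Prime 2) := ⟨Nat.prime_two⟩
  obtain ⟨t, ht⟩ := exists_prime_orderOf_dvd_card' (G := H) 2 (even_iff_two_dvd.1 hH.2.1)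
  exact ⟨t, t.2, by rw [← Subgroup.orderOf_coe] at ht; exact ht⟩

theorem SE_exists_not_mem (hH : IsStronglyEmbedded H) : ∃ g : G, g ∉ H :=
  not_forall.1 fun h => hH.1 (eq_top_iff.2 fun g _ => h g)

theorem SE_of_mem_of_conj (hH : H ≠ ⊤) (heven : Even (Nat.card H))
    (h : ∀ t ∈ H, orderOf t = 2 → ∀ g : G, g⁻¹ * t * g ∈ H → g ∈ H) : IsStronglyEmbedded H := by
  refine ⟨hH, heven, fun g hg => ?_⟩
  rw [← Nat.not_even_iff_odd]
  intro he
  haveI : Fact (Nat.Prime 2) := ⟨Nat.prime_two⟩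
  obtain ⟨t, ht⟩ := exists_prime_orderOf_dvd_card'
    (G := ↥(H ⊓ H.map (MulAut.conj g).toMonoidHom)) 2 (even_iff_two_dvd.1 he)
  rw [← Subgroup.orderOf_coe] at ht
  exact hg (h t t.2.1 ht g ((mem_conj_iff g (t : G) H).1 t.2.2))

theorem SE_iff_mem_of_conj (hH : H ≠ ⊤) (heven : Even (Nat.card H)) :
    IsStronglyEmbedded H ↔ ∀ t ∈ H, orderOf t = 2 → ∀ g : G, g⁻¹ * t * g ∈ H → g ∈ H :=
  ⟨fun h _ htH ht _ hg => SE_mem_of_conj h ht htH hg, SE_of_mem_of_conj hH heven⟩

theorem SE_iff_fixed_unique (hH : H ≠ ⊤) (heven : Even (Nat.card H)) :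
    IsStronglyEmbedded H ↔
      ∀ t ∈ H, orderOf t = 2 → ∀ c : G ⧸ H, t • c = c → c = QuotientGroup.mk 1 := by
  rw [SE_iff_mem_of_conj hH heven]
  constructor
  · intro h t htH ht c hc
    induction c using QuotientGroup.induction_on with
    | H g =>
      rw [MulAction.Quotient.smul_mk, QuotientGroup.eq, smul_eq_mul, mul_inv_rev,
        inv_of_orderOf_two ht] at hc
      rw [QuotientGroup.eq, mul_one]
      exact inv_mem (h t htH ht g hc)
  · intro h t htH ht g hg
    have h1 := h t htH ht (QuotientGroup.mk g) (by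
      rw [MulAction.Quotient.smul_mk, QuotientGroup.eq, smul_eq_mul, mul_inv_rev,
        inv_of_orderOf_two ht]
      exact hg)
    rw [QuotientGroup.eq, mul_one] at h1
    simpa using inv_mem h1

/-- All involutions are conjugate when a strongly embedded subgroup exists. -/
theorem SE_isConj (hH : IsStronglyEmbedded H) {a b : G} (ha : orderOf a = 2)
    (hb : orderOf b = 2) : IsConj a b := by
  have key : ∀ s u : G, orderOf s = 2 → orderOf u = 2 → s ∈ H → u ∉ H → IsConj s u := by
    intro s u hs hu hsH huH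
    by_contra hnc
    obtain ⟨w, -, hw, hws, hwu⟩ := exists_commuting_involution_of_not_isConj
      (mul_self_of_orderOf_two hs) (mul_self_of_orderOf_two hu) hnc
    exact huH (SE_mem_of_commute hH hw (SE_mem_of_commute hH hs hsH hws) hwu.symm)
  -- some involution lies outside `H`
  obtain ⟨g, hg⟩ := SE_exists_not_mem hH
  obtain ⟨s, hsH, hs⟩ := SE_exists_involution hH
  have hv : g * s * g⁻¹ ∉ H := fun h => hg (by
    have := SE_mem_of_conj hH (t := s) (g := g⁻¹) hs hsH (by simpa using h)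
    simpa using inv_mem this)
  have hv2 : orderOf (g * s * g⁻¹) = 2 := by rw [orderOf_conj, hs]
  suffices h : ∀ x : G, orderOf x = 2 → IsConj s x from (h a ha).symm.trans (h b hb)
  intro x hx
  by_cases hxH : x ∈ H
  · exact (key s _ hs hv2 hsH hv).trans (key x _ hx hv2 hxH hv).symm
  · exact key s x hs hx hsH hxH

end Cfsg.Agent.Invol
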