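import Cfsg.Agent.Lib.Invol.SECount
import Cfsg.Agent.Lib.Invol.StronglyEmbedded

/-!
Abelian centralisers of involutions: the strongly embedded configuration and its geometry when the
fixed-point kernel on the abelian subgroup is central.
-/

set_option autoImplicit false
set_option linter.unusedSectionVars false

namespace Cfsg.Agent.AbCent

open MulAction Invol

universe u

/-- An abelian subgroup containing the centralisers of its involutions, with strongly embedded normaliser. -/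
structure Cfg (G : Type u) [Group G] where
  /-- the abelian subgroup -/
  A : Subgroup G
  comm : ∀ a ∈ A, ∀ b ∈ A, a * b = b * a
  cent : ∀ t ∈ A, orderOf t = 2 → ∀ c : G, Commute c t → c ∈ A
  /-- an involution -/
  t₀ : G
  ht₀ : orderOf t₀ = 2
  ht₀A : t₀ ∈ A
  /-- a second involution -/
  t₁ : G
  ht₁ : orderOf t₁ = 2
  ht₁A : t₁ ∈ A
  hne : t₁ ≠ t₀
  invol : ∀ v : G, orderOf v = 2 → v ∈ Subgroup.normalizer (A : Set G) → v ∈ A
  ne_top : Subgroup.normalizer (A : Set G) ≠ ⊤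

variable {G : Type u} [Group G] [Finite G] (c : Cfg G)

/-- The strongly embedded subgroup. -/
abbrev Cfg.N : Subgroup G := Subgroup.normalizer (c.A : Set G)

/-- The centre. -/
local notation "Z" => Subgroup.center G

theorem conj_two {t : G} (ht : orderOf t = 2) (g : G) : orderOf (g * t * g⁻¹) = 2 := by
  rw [orderOf_conj, ht]

namespace Cfg

theorem A_le : c.A ≤ c.N := Subgroup.le_normalizer

theorem se : IsStronglyEmbedded c.N := by
  refine SE_of_mem_of_conj c.ne_top (even_iff_two_dvd.2 (c.ht₀ ▸ Subgroup.orderOf_dvd_natCard c.N (c.A_le c.ht₀A)))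
    fun t htN ht g hg => ?_
  have htA := c.invol t ht htN
  have hs : orderOf (g⁻¹ * t * g) = 2 := by simpa using conj_two ht g⁻¹
  have hsA := c.invol _ hs hg
  refine Subgroup.mem_normalizer_iff.2 fun x => ⟨fun hx => c.cent t htA ht _ ?_, fun hx => c.cent _ hsA hs _ ?_⟩
  · have e := c.comm x hx _ hsA
    show g * x * g⁻¹ * t = t * (g * x * g⁻¹)
    calc g * x * g⁻¹ * t = g * (x * (g⁻¹ * t * g)) * g⁻¹ := by group
      _ = t * (g * x * g⁻¹) := by rw [e]; group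
  · have e := c.comm _ hx t htA
    show x * (g⁻¹ * t * g) = g⁻¹ * t * g * x
    calc x * (g⁻¹ * t * g) = g⁻¹ * (g * x * g⁻¹ * t) * g := by group
      _ = g⁻¹ * t * g * x := by rw [e]; group

theorem center_le : Z ≤ c.A := fun _ hz =>
  c.cent _ c.ht₀A c.ht₀ _ (Subgroup.mem_center_iff.1 hz c.t₀).symm

theorem smul_center {z : G} (hz : z ∈ Z) (x : G ⧸ c.N) : z • x = x := by
  obtain ⟨g, rfl⟩ := QuotientGroup.mk_surjective x
  rw [MulAction.Quotient.smul_coe, smul_eq_mul, QuotientGroup.eq, ← Subgroup.mem_center_iff.1 hz g, mul_inv_rev,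
    mul_assoc, inv_mul_cancel, mul_one]
  exact inv_mem (c.A_le (c.center_le hz))

include c in
theorem not_central {t : G} (ht : orderOf t = 2) : t ∉ Z := fun hz => by
  have h1 : ∀ g : G, g ∈ c.A := fun g =>
    c.cent t (c.center_le hz) ht g (Subgroup.mem_center_iff.1 hz g)
  exact c.ne_top (eq_top_iff.2 fun g _ => c.A_le (h1 g))

include c in
theorem sq_center {w : G} (hw : w ∈ Z) (h : w * w = 1) : w = 1 := by
  by_contra hne
  exact c.not_central (orderOf_two_of_mul_self h hne) hw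

include c in
theorem odd_center : Odd (Nat.card Z) := by
  by_contra h
  haveI : Fact (Nat.Prime 2) := ⟨Nat.prime_two⟩
  obtain ⟨z, hz⟩ := exists_prime_orderOf_dvd_card' (G := Z) 2 (even_iff_two_dvd.1 (Nat.not_odd_iff_even.1 h))
  exact c.not_central (by rw [Subgroup.orderOf_coe, hz]) z.2

/-- The base point. -/
def base : G ⧸ c.N := ((1 : G) : G ⧸ c.N)

theorem smul_base_iff (g : G) : g • c.base = c.base ↔ g ∈ c.N := by
  rw [base, MulAction.Quotient.smul_coe, smul_eq_mul, mul_one, QuotientGroup.eq, mul_one, inv_mem_iff]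

theorem fix_unique {t : G} (ht : orderOf t = 2) (htN : t ∈ c.N) {x : G ⧸ c.N} (h : t • x = x) : x = c.base :=
  (SE_iff_fixed_unique c.ne_top c.se.2.1).1 c.se t htN ht x h

theorem mem_of_conj {t g : G} (ht : orderOf t = 2) (htN : t ∈ c.N) (hg : g * t * g⁻¹ ∈ c.N) : g ∈ c.N :=
  inv_mem_iff.1 (SE_mem_of_conj c.se ht htN (by simpa using hg))

/-- The involutions of `N`. -/
abbrev T : Type _ := {s : G // orderOf s = 2 ∧ s ∈ c.N}

theorem card_swap {x y : G ⧸ c.N} (hxy : x ≠ y) :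
    Nat.card {i : G // orderOf i = 2 ∧ i • x = y} = Nat.card c.T := SE_card_swap c.se hxy

theorem three_le_T : 3 ≤ Nat.card c.T := by
  classical
  have h0 := mul_self_of_orderOf_two c.ht₀
  have h1 := mul_self_of_orderOf_two c.ht₁
  have hc := c.comm _ c.ht₀A _ c.ht₁A
  have hsq : (c.t₀ * c.t₁) * (c.t₀ * c.t₁) = 1 := by
    calc (c.t₀ * c.t₁) * (c.t₀ * c.t₁) = c.t₀ * (c.t₁ * c.t₀) * c.t₁ := by group
      _ = 1 := by rw [← hc, ← mul_assoc, h0, one_mul, h1]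
  have hne : c.t₀ * c.t₁ ≠ 1 := fun h => c.hne (by
    calc c.t₁ = c.t₀ * (c.t₀ * c.t₁) := by rw [← mul_assoc, h0, one_mul]
      _ = c.t₀ := by rw [h, mul_one])
  have hne0 : c.t₀ * c.t₁ ≠ c.t₀ := fun h => ne_one_of_orderOf_two c.ht₁ (by simpa using h)
  have hne1 : c.t₀ * c.t₁ ≠ c.t₁ := fun h => ne_one_of_orderOf_two c.ht₀ (by simpa using h)
  haveI := Fintype.ofFinite c.T
  rw [Nat.card_eq_fintype_card]
  exact Fintype.two_lt_card_iff.2 ⟨⟨c.t₀, c.ht₀, c.A_le c.ht₀A⟩, ⟨c.t₁, c.ht₁, c.A_le c.ht₁A⟩,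
    ⟨c.t₀ * c.t₁, orderOf_two_of_mul_self hsq hne, c.A_le (mul_mem c.ht₀A c.ht₁A)⟩,
    fun h => c.hne (congrArg Subtype.val h).symm, fun h => hne0 (congrArg Subtype.val h).symm,
    fun h => hne1 (congrArg Subtype.val h).symm⟩

theorem exists_swap {x y : G ⧸ c.N} (hxy : x ≠ y) :
    ∃ i : G, orderOf i = 2 ∧ i • x = y ∧ i • y = x := by
  have h := c.card_swap hxy
  have h2 := c.three_le_T
  obtain ⟨⟨i, hi, hix⟩⟩ : Nonempty {i : G // orderOf i = 2 ∧ i • x = y} :=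
    (Nat.card_pos_iff.1 (show 0 < Nat.card {i : G // orderOf i = 2 ∧ i • x = y} by omega)).1
  exact ⟨i, hi, hix, by rw [← hix, ← mul_smul, mul_self_of_orderOf_two hi, one_smul]⟩

/-- The two-point stabiliser. -/
abbrev D (y : G ⧸ c.N) : Subgroup G := c.N ⊓ stabilizer G y

theorem trans_D {y : G ⧸ c.N} (hy : y ≠ c.base) {s s' : G} (hs : orderOf s = 2) (hsN : s ∈ c.N)
    (hs' : orderOf s' = 2) (hsN' : s' ∈ c.N) : ∃ g ∈ c.D y, g * s * g⁻¹ = s' := by
  obtain ⟨v, hv, hvx, -⟩ := c.exists_swap (Ne.symm hy)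
  have hvN : v ∉ c.N := fun h => hy (hvx.symm.trans ((c.smul_base_iff v).2 h))
  obtain ⟨g, ⟨hgN, n, hn, hgn⟩, hg⟩ := SE_exists_conj_inf c.se hv hvN hs hsN hs' hsN'
  change v * n * v⁻¹ = g at hgn
  refine ⟨g, ⟨hgN, ?_⟩, hg⟩
  show g • y = y
  rw [← hgn, ← hvx, ← mul_smul, inv_mul_cancel_right, mul_smul, (c.smul_base_iff n).2 hn]

/-- A subgroup of `N` transitive on the involutions of `N`. -/
theorem card_trans (L : Subgroup G) (hL : L ≤ c.N)
    (htr : ∀ s : c.T, ∃ g ∈ L, g * c.t₀ * g⁻¹ = s.1) :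
    Nat.card L = Nat.card c.T * Nat.card (c.A ⊓ L : Subgroup G) := by
  choose r hrL hr using htr
  rw [← Nat.card_prod]
  refine (Nat.card_eq_of_bijective (fun p : c.T × (c.A ⊓ L : Subgroup G) =>
    (⟨r p.1 * p.2, mul_mem (hrL _) p.2.2.2⟩ : L)) ⟨?_, ?_⟩).symm
  · rintro ⟨s, a⟩ ⟨s', a'⟩ h
    have e : r s * (a : G) = r s' * a' := congrArg Subtype.val h
    have e1 : ∀ (s : c.T) (a : (c.A ⊓ L : Subgroup G)), (r s * (a : G)) * c.t₀ * (r s * a)⁻¹ = s.1 := fun s a => by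
      calc (r s * (a : G)) * c.t₀ * (r s * a)⁻¹ = r s * ((a : G) * c.t₀ * (a : G)⁻¹) * (r s)⁻¹ := by group
        _ = s.1 := by rw [c.comm _ a.2.1 _ c.ht₀A, mul_inv_cancel_right, hr]
    obtain rfl : s = s' := Subtype.ext (by rw [← e1 s a, e, e1 s' a'])
    exact Prod.ext rfl (Subtype.ext (mul_left_cancel e))
  · intro g
    let s : c.T := ⟨(g : G) * c.t₀ * (g : G)⁻¹, conj_two c.ht₀ _,
      c.N.mul_mem (c.N.mul_mem (hL g.2) (c.A_le c.ht₀A)) (c.N.inv_mem (hL g.2))⟩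
    have hh : (r s)⁻¹ * (g : G) ∈ c.A := c.cent _ c.ht₀A c.ht₀ _ (mul_inv_eq_iff_eq_mul.1 (by
      calc (r s)⁻¹ * g * c.t₀ * ((r s)⁻¹ * g)⁻¹ = (r s)⁻¹ * s.1 * r s := by simp only [s]; group
        _ = (r s)⁻¹ * (r s * c.t₀ * (r s)⁻¹) * r s := by rw [hr]
        _ = c.t₀ := by group))
    exact ⟨(s, ⟨_, hh, L.mul_mem (L.inv_mem (hrL s)) g.2⟩), Subtype.ext (mul_inv_cancel_left _ _)⟩

theorem exists_pt : ∃ y : G ⧸ c.N, y ≠ c.base := by
  obtain ⟨g, hg⟩ := SE_exists_not_mem c.se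
  exact ⟨g • c.base, fun h => hg ((c.smul_base_iff g).1 h)⟩

theorem card_N : Nat.card c.N = Nat.card c.T * Nat.card c.A := by
  obtain ⟨y, hy⟩ := c.exists_pt
  rw [c.card_trans c.N le_rfl fun s => by
    obtain ⟨g, hg, e⟩ := c.trans_D hy c.ht₀ (c.A_le c.ht₀A) s.2.1 s.2.2
    exact ⟨g, hg.1, e⟩, inf_eq_left.2 c.A_le]

theorem odd_D {y : G ⧸ c.N} (hy : y ≠ c.base) {g : G} (hg : g ∈ c.D y) : Odd (orderOf g) := by
  obtain ⟨w, rfl⟩ := QuotientGroup.mk_surjective y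
  have hw : w ∉ c.N := fun h => hy (by rw [base, QuotientGroup.eq, mul_one]; exact inv_mem h)
  refine (c.se.2.2 w hw).of_dvd_nat (Subgroup.orderOf_dvd_natCard _ ⟨hg.1, (mem_conj_iff w g c.N).2 ?_⟩)
  have h : g • ((w : G) : G ⧸ c.N) = (w : G ⧸ c.N) := hg.2
  rw [MulAction.Quotient.smul_coe, smul_eq_mul, QuotientGroup.eq] at h
  rw [← inv_mem_iff]
  simpa [mul_assoc] using h

/-- The kernel hypothesis: elements of `A` fixing a second point are central. -/
def Good : Prop := ∀ y : G ⧸ c.N, y ≠ c.base → ∀ a ∈ c.A, a • y = y → a ∈ Z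

variable {c}

theorem inf_D (hc : c.Good) {y : G ⧸ c.N} (hy : y ≠ c.base) : c.A ⊓ c.D y = Z :=
  le_antisymm (fun a ha => hc y hy a ha.1 ha.2.2)
    fun z hz => ⟨c.center_le hz, c.A_le (c.center_le hz), c.smul_center hz y⟩

theorem card_D (hc : c.Good) {y : G ⧸ c.N} (hy : y ≠ c.base) :
    Nat.card (c.D y) = Nat.card c.T * Nat.card Z := by
  rw [c.card_trans (c.D y) inf_le_left fun s => c.trans_D hy c.ht₀ (c.A_le c.ht₀A) s.2.1 s.2.2, inf_D hc hy]

/-- The quotient map. -/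
abbrev π : G →* G ⧸ Z := QuotientGroup.mk' Z

theorem inverts (hc : c.Good) {y : G ⧸ c.N} (hy : y ≠ c.base) {g v : G} (hg : g ∈ c.D y)
    (hv : orderOf v = 2) (hvx : v • c.base = y) : π v * π g * (π v)⁻¹ = (π g)⁻¹ := by
  have hvv := mul_self_of_orderOf_two hv
  have hvy : v • y = c.base := by rw [← hvx, ← mul_smul, hvv, one_smul]
  let f : {i : G // orderOf i = 2 ∧ i • c.base = y} × Z → c.D y := fun p => ⟨v * p.1.1 * p.2, by
    refine (c.smul_base_iff _).1 ?_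
    rw [mul_smul, c.smul_center p.2.2, mul_smul, p.1.2.2, hvy], by
    show (v * p.1.1 * (p.2 : G)) • y = y
    obtain ⟨⟨i, hi, hix⟩, z⟩ := p
    rw [mul_smul, c.smul_center z.2, mul_smul,
      show i • y = c.base by rw [← hix, ← mul_smul, mul_self_of_orderOf_two hi, one_smul], hvx]⟩
  have hf : Function.Injective f := by
    rintro ⟨⟨i, hi, hix⟩, z⟩ ⟨⟨j, hj, hjx⟩, w⟩ h
    have e : i * (z : G) = j * w := by
      have := congrArg Subtype.val h
      simp only [f, mul_assoc] at this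
      exact mul_left_cancel this
    have hu : j⁻¹ * i = (w : G) * (z : G)⁻¹ := by
      rw [eq_mul_inv_iff_mul_eq, mul_assoc, e, inv_mul_cancel_left]
    have hwz : (w : G) * (z : G)⁻¹ ∈ Z := mul_mem w.2 (inv_mem z.2)
    have hij : i = j * ((w : G) * (z : G)⁻¹) := by rw [← hu, mul_inv_cancel_left]
    have h1 : (w : G) * (z : G)⁻¹ = 1 := by
      refine c.sq_center hwz ?_
      have hii := mul_self_of_orderOf_two hi
      generalize (w : G) * (z : G)⁻¹ = x at hwz hij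
      have hx := Subgroup.mem_center_iff.1 hwz
      subst hij
      calc x * x = (j * j) * (x * x) := by rw [mul_self_of_orderOf_two hj, one_mul]
        _ = j * x * (j * x) := by rw [mul_assoc j x, ← mul_assoc x j, ← hx j]; group
        _ = 1 := hii
    rw [h1, mul_one] at hij
    subst hij
    exact Prod.ext rfl (Subtype.ext (mul_left_cancel e))
  have hb := (Nat.bijective_iff_injective_and_card f).2
    ⟨hf, by rw [Nat.card_prod, c.card_swap (Ne.symm hy), card_D hc hy]⟩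
  obtain ⟨⟨⟨i, hi, _⟩, z⟩, hz⟩ := hb.2 ⟨g, hg⟩
  have hz' : v * i * (z : G) = g := congrArg Subtype.val hz
  have e : π g = π v * π i := by
    rw [← hz', map_mul, map_mul, show π (z : G) = 1 from (QuotientGroup.eq_one_iff _).2 z.2, mul_one]
  rw [e, mul_inv_rev, ← map_inv, ← map_inv, ← map_mul, ← map_mul, ← map_mul, ← map_mul, inv_of_orderOf_two hv,
    inv_of_orderOf_two hi, ← mul_assoc v v, hvv, one_mul]

theorem comm_D (hc : c.Good) {y : G ⧸ c.N} (hy : y ≠ c.base) {g g' : G} (hg : g ∈ c.D y) (hg' : g' ∈ c.D y) :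
    π g * π g' = π g' * π g := by
  obtain ⟨v, hv, hvx, -⟩ := c.exists_swap (Ne.symm hy)
  have h := inverts hc hy (mul_mem hg hg') hv hvx
  rw [map_mul, show π v * (π g * π g') * (π v)⁻¹ = π v * π g * (π v)⁻¹ * (π v * π g' * (π v)⁻¹) by group,
    inverts hc hy hg hv hvx, inverts hc hy hg' hv hvx, ← mul_inv_rev, inv_inj] at h
  exact h.symm

theorem decomp {y : G ⧸ c.N} (hy : y ≠ c.base) {n : G} (hn : n ∈ c.N) : ∃ a ∈ c.A, ∃ g ∈ c.D y, n = a * g := by
  obtain ⟨g, hg, e⟩ := c.trans_D hy c.ht₀ (c.A_le c.ht₀A) (conj_two c.ht₀ n)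
    (mul_mem (mul_mem hn (c.A_le c.ht₀A)) (inv_mem hn))
  have h : g⁻¹ * n ∈ c.A := c.cent _ c.ht₀A c.ht₀ _ (mul_inv_eq_iff_eq_mul.1 (by
    calc g⁻¹ * n * c.t₀ * (g⁻¹ * n)⁻¹ = g⁻¹ * (n * c.t₀ * n⁻¹) * g := by group
      _ = g⁻¹ * (g * c.t₀ * g⁻¹) * g := by rw [e]
      _ = c.t₀ := by group))
  exact ⟨g * (g⁻¹ * n) * g⁻¹, (Subgroup.mem_normalizer_iff.1 hg.1 _).1 h, g, hg, by group⟩

theorem inverts_pair (hc : c.Good) {p r : G ⧸ c.N} (hpr : p ≠ r) {g i : G} (hgp : g • p = p) (hgr : g • r = r)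
    (hi : orderOf i = 2) (hip : i • p = r) : π i * π g * (π i)⁻¹ = (π g)⁻¹ := by
  obtain ⟨w, hw⟩ := exists_smul_eq G p c.base
  have hne : w • r ≠ c.base := fun e => hpr (MulAction.injective w (hw.trans e.symm))
  have hwp : w⁻¹ • c.base = p := inv_smul_eq_iff.2 hw.symm
  have h := inverts hc hne (g := w * g * w⁻¹) (v := w * i * w⁻¹)
    ⟨(c.smul_base_iff _).1 (by rw [mul_smul, mul_smul, hwp, hgp, hw]),
      show (w * g * w⁻¹) • w • r = w • r by rw [mul_smul, mul_smul, inv_smul_smul, hgr]⟩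
    (conj_two hi w) (by rw [mul_smul, mul_smul, hwp, hip])
  simp only [map_mul, map_inv] at h
  calc π i * π g * (π i)⁻¹ = (π w)⁻¹ * (π w * π i * (π w)⁻¹ * (π w * π g * (π w)⁻¹) *
        (π w * π i * (π w)⁻¹)⁻¹) * π w := by group
    _ = (π w)⁻¹ * (π w * π g * (π w)⁻¹)⁻¹ * π w := by rw [h]
    _ = (π g)⁻¹ := by group

theorem fix_three (hc : c.Good) {g : G} {y z : G ⧸ c.N} (hy : y ≠ c.base) (hz : z ≠ c.base) (hyz : y ≠ z)
    (h0 : g • c.base = c.base) (h1 : g • y = y) (h2 : g • z = z) : g ∈ Z := by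
  obtain ⟨i, hi, hix, hiy⟩ := c.exists_swap (Ne.symm hy)
  obtain ⟨v, hv, hvx, hvz⟩ := c.exists_swap (Ne.symm hz)
  obtain ⟨w, hw, hwy, -⟩ := c.exists_swap hyz
  have hn : (i * v * w) • y = y := by rw [mul_smul, mul_smul, hwy, hvz, hix]
  have hinv : π (i * v * w) * π g * (π (i * v * w))⁻¹ = (π g)⁻¹ := by
    have ei := inverts_pair hc (Ne.symm hy) h0 h1 hi hix
    have ev := inverts_pair hc (Ne.symm hz) h0 h2 hv hvx
    have ew := inverts_pair hc hyz h1 h2 hw hwy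
    rw [map_mul, map_mul]
    calc π i * π v * π w * π g * (π i * π v * π w)⁻¹ = π i * (π v * (π w * π g * (π w)⁻¹) * (π v)⁻¹) * (π i)⁻¹ := by group
      _ = π i * (π v * (π g)⁻¹ * (π v)⁻¹) * (π i)⁻¹ := by rw [ew]
      _ = π i * (π v * π g * (π v)⁻¹)⁻¹ * (π i)⁻¹ := by group
      _ = (π g)⁻¹ := by rw [ev, inv_inv, ei]
  obtain ⟨b, hb⟩ := exists_smul_eq G y c.base
  obtain ⟨g', hg'⟩ : ∃ g', g' = b * g * b⁻¹ := ⟨_, rfl⟩
  obtain ⟨n', hn'⟩ : ∃ n', n' = b * (i * v * w) * b⁻¹ := ⟨_, rfl⟩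
  have hby : b⁻¹ • c.base = y := inv_smul_eq_iff.2 hb.symm
  have hy' : b • c.base ≠ c.base := fun e => hy (MulAction.injective b (hb.trans e.symm))
  have hgD : g' ∈ c.D (b • c.base) :=
    ⟨(c.smul_base_iff _).1 (by rw [hg', mul_smul, mul_smul, hby, h1, hb]),
      show g' • b • c.base = b • c.base by rw [hg', mul_smul, mul_smul, inv_smul_smul, h0]⟩
  have hnN : n' ∈ c.N := (c.smul_base_iff _).1 (by rw [hn', mul_smul, mul_smul, hby, hn, hb])
  obtain ⟨a, ha, δ, hδ, hnad⟩ := decomp hy' hnN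
  have hinv' : π n' * π g' * (π n')⁻¹ = (π g')⁻¹ := by
    rw [hn', hg']
    simp only [map_mul _ b, map_mul _ (b * _), map_inv] at hinv ⊢
    calc π b * π (i * v * w) * (π b)⁻¹ * (π b * π g * (π b)⁻¹) * (π b * π (i * v * w) * (π b)⁻¹)⁻¹
        = π b * (π (i * v * w) * π g * (π (i * v * w))⁻¹) * (π b)⁻¹ := by group
      _ = π b * (π g)⁻¹ * (π b)⁻¹ := by rw [hinv]
      _ = _ := by group
  have e : π a * π g' * (π a)⁻¹ = (π g')⁻¹ := by
    rw [← hinv', hnad, map_mul]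
    have := comm_D hc hy' hδ hgD
    calc π a * π g' * (π a)⁻¹ = π a * (π g' * π δ * (π δ)⁻¹) * (π a)⁻¹ := by group
      _ = π a * (π δ * π g' * (π δ)⁻¹) * (π a)⁻¹ := by rw [this]
      _ = _ := by group
  have hz' : g' * (a * g' * a⁻¹) ∈ Z := by
    rw [← QuotientGroup.eq_one_iff]
    show π (g' * (a * g' * a⁻¹)) = 1
    rw [map_mul, map_mul, map_mul, map_inv, e, mul_inv_cancel]
  have hA : g'⁻¹ * (a * g' * a⁻¹) ∈ c.A := by
    rw [show g'⁻¹ * (a * g' * a⁻¹) = g'⁻¹ * a * g' * a⁻¹ by group]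
    refine mul_mem ?_ (inv_mem ha)
    simpa using (Subgroup.mem_normalizer_iff.1 (inv_mem hgD.1) a).1 ha
  have hsq : g' * g' ∈ c.A := by
    rw [show g' * g' = g' * (a * g' * a⁻¹) * (g'⁻¹ * (a * g' * a⁻¹))⁻¹ by group]
    exact mul_mem (c.center_le hz') (inv_mem hA)
  have hsqZ : g' * g' ∈ Z := by rw [← inf_D hc hy']; exact ⟨hsq, mul_mem hgD hgD⟩
  have hgZ : g' ∈ Z := by
    obtain ⟨k, hk⟩ := c.odd_D hy' hgD
    have : (g' * g') ^ (k + 1) = g' := by
      rw [← pow_two, ← pow_mul, show 2 * (k + 1) = orderOf g' + 1 by omega, pow_succ, pow_orderOf_eq_one, one_mul]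
    exact this ▸ pow_mem hsqZ _
  have := (Subgroup.center G).mul_mem ((Subgroup.center G).mul_mem (one_mem _) hgZ) (one_mem _)
  have hconj : b⁻¹ * g' * b = g' := by rw [mul_assoc, ← Subgroup.mem_center_iff.1 hgZ b, inv_mul_cancel_left]
  have : g = g' := by
    rw [← hconj, hg']
    group
  rw [this]
  exact hgZ

theorem card_mem_not_mem {H K : Subgroup G} (h : K ≤ H) :
    Nat.card {g : G // g ∈ H ∧ g ∉ K} = Nat.card H - Nat.card K := by
  rw [show Nat.card {g : G // g ∈ H ∧ g ∉ K} = ((H : Set G) \ K).ncard from Nat.card_coe_set_eq _,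
    Set.ncard_sdiff (by exact h) (Set.toFinite _)]
  rfl

theorem count_fix (hc : c.Good) :
    Nat.card {z : G ⧸ c.N // z ≠ c.base} * Nat.card Z = Nat.card c.A ∧
    (∀ y : G ⧸ c.N, y ≠ c.base → ∀ z : G ⧸ c.N, z ≠ c.base → ∃ a ∈ c.A, a • y = z) ∧
    ∀ n ∈ c.N, n ∉ c.A → ∃ y : G ⧸ c.N, y ≠ c.base ∧ n • y = y := by
  classical
  let W := Σ y : {z : G ⧸ c.N // z ≠ c.base}, {g : G // g ∈ c.D y.1 ∧ g ∉ Z}
  let f : W → {g : G // g ∈ c.N ∧ g ∉ c.A} := fun p => ⟨p.2.1, p.2.2.1.1, fun h => p.2.2.2 (by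
    exact (inf_D hc p.1.2).le ⟨h, p.2.2.1⟩)⟩
  have hf : Function.Injective f := by
    rintro ⟨⟨y, hy⟩, g, hg, hgz⟩ ⟨⟨y', hy'⟩, g', hg', hgz'⟩ h
    obtain rfl : g = g' := congrArg Subtype.val h
    obtain rfl : y = y' := by
      by_contra hne
      exact hgz (fix_three hc hy hy' hne ((c.smul_base_iff g).2 hg.1) hg.2 hg'.2)
    rfl
  haveI := Fintype.ofFinite {z : G ⧸ c.N // z ≠ c.base}
  set P := Nat.card {z : G ⧸ c.N // z ≠ c.base} with hP
  set e := Nat.card Z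
  have hT := c.three_le_T
  have hW : Nat.card W = P * ((Nat.card c.T - 1) * e) := by
    rw [Nat.card_sigma, Finset.sum_congr rfl fun y _ => show _ = (Nat.card c.T - 1) * e by
      rw [card_mem_not_mem (H := c.D y.1) (K := Z) (fun z hz => ((inf_D hc y.2).ge hz).2), card_D hc y.2,
        Nat.sub_one_mul],
      Finset.sum_const, Finset.card_univ, ← Nat.card_eq_fintype_card, smul_eq_mul]
  have hNA : Nat.card {g : G // g ∈ c.N ∧ g ∉ c.A} = (Nat.card c.T - 1) * Nat.card c.A := by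
    rw [card_mem_not_mem c.A_le, c.card_N, Nat.sub_one_mul]
  have hle : P * e ≤ Nat.card c.A := by
    have := Nat.card_le_card_of_injective f hf
    rw [hW, hNA] at this
    have h1 : 0 < Nat.card c.T - 1 := by omega
    refine Nat.le_of_mul_le_mul_left ?_ h1
    calc _ = P * ((Nat.card c.T - 1) * e) := by ring
      _ ≤ _ := this
  have horb : ∀ y, y ≠ c.base → (orbit c.A y).ncard * e = Nat.card c.A ∧
      orbit c.A y ⊆ {z | z ≠ c.base} := by
    intro y hy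
    refine ⟨?_, ?_⟩
    · rw [← MulAction.index_stabilizer, ← (stabilizer c.A y).card_mul_index, mul_comm]
      congr 1
      refine Nat.card_congr
        { toFun := fun z => ⟨⟨z.1, c.center_le z.2⟩, c.smul_center z.2 y⟩
          invFun := fun a => ⟨a.1.1, hc y hy _ a.1.2 a.2⟩
          left_inv := fun _ => rfl
          right_inv := fun _ => rfl }
    · rintro z ⟨a, rfl⟩ h
      exact hy (MulAction.injective (a : G) (h.trans ((c.smul_base_iff (a : G)).2 (c.A_le a.2)).symm))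
  have heq : ∀ y, y ≠ c.base → orbit c.A y = {z | z ≠ c.base} := by
    intro y hy
    obtain ⟨h1, h2⟩ := horb y hy
    refine Set.eq_of_subset_of_ncard_le h2 (Nat.le_of_mul_le_mul_right ?_ (Nat.card_pos : 0 < e)) (Set.toFinite _)
    rw [h1, ← Nat.card_coe_set_eq]
    exact hle
  obtain ⟨y₀, hy₀⟩ := c.exists_pt
  have hPeq : P * e = Nat.card c.A := by
    rw [← (horb y₀ hy₀).1, heq y₀ hy₀, ← Nat.card_coe_set_eq]
    rfl
  refine ⟨hPeq, fun y hy z hz => ?_, fun n hn hnA => ?_⟩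
  · have : z ∈ orbit c.A y := by rw [heq y hy]; exact hz
    obtain ⟨a, ha⟩ := this
    exact ⟨a, a.2, ha⟩
  · have hb := (Nat.bijective_iff_injective_and_card f).2 ⟨hf, by
      rw [hW, hNA, ← hPeq]; ring⟩
    obtain ⟨⟨y, g, hg, _⟩, hw⟩ := hb.2 ⟨n, hn, hnA⟩
    obtain rfl : g = n := congrArg Subtype.val hw
    exact ⟨y.1, y.2, hg.2⟩

end Cfg

end Cfsg.Agent.AbCent
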