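import Cfsg.Agent.Lib.Invol.AbelianCentQuot
import Cfsg.Agent.S1241

/-!
Abelian centralisers of involutions: the kernel hypothesis holds, and the group is `SL(2, 2 ^ f)` times an
abelian group of odd order.
-/

set_option autoImplicit false
set_option linter.unusedSectionVars false

namespace Cfsg.Agent.AbCent

open MulAction Invol

universe u

namespace Cfg

variable {G : Type u} [Group G] [Finite G] (c : Cfg G)

/-- The configuration inside a subgroup containing `A`. -/
def sub (K : Subgroup G) (hA : c.A ≤ K) (hK : ¬ K ≤ c.N) : Cfg K where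
  A := c.A.subgroupOf K
  comm a ha b hb := Subtype.ext (c.comm _ ha _ hb)
  cent t ht h2 w hw := c.cent (t : G) ht ((Subgroup.orderOf_coe t).trans h2) _ (congrArg Subtype.val hw.eq)
  t₀ := ⟨c.t₀, hA c.ht₀A⟩
  ht₀ := by rw [← Subgroup.orderOf_coe, c.ht₀]
  ht₀A := c.ht₀A
  t₁ := ⟨c.t₁, hA c.ht₁A⟩
  ht₁ := by rw [← Subgroup.orderOf_coe, c.ht₁]
  ht₁A := c.ht₁A
  hne h := c.hne (congrArg Subtype.val h)
  invol v hv hvN := c.invol (v : G) ((Subgroup.orderOf_coe v).trans hv) (Subgroup.mem_normalizer_iff.2 fun x => by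
    constructor
    · exact fun hx => (Subgroup.mem_normalizer_iff.1 hvN ⟨x, hA hx⟩).1 hx
    · intro hx
      have hxK : x ∈ K := by
        have := K.mul_mem (K.mul_mem (K.inv_mem v.2) (hA hx)) v.2
        rwa [show (v : G)⁻¹ * ((v : G) * x * (v : G)⁻¹) * v = x by group] at this
      exact (Subgroup.mem_normalizer_iff.1 hvN ⟨x, hxK⟩).2 hx)
  ne_top h := hK fun k hk => by
    have hk' : (⟨k, hk⟩ : K) ∈ Subgroup.normalizer ((c.A.subgroupOf K : Subgroup K) : Set K) := by
      rw [h]; exact Subgroup.mem_top _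
    refine Subgroup.mem_normalizer_iff.2 fun x => ⟨fun hx => (Subgroup.mem_normalizer_iff.1 hk' ⟨x, hA hx⟩).1 hx,
      fun hx => ?_⟩
    have hxK : x ∈ K := by
      have := K.mul_mem (K.mul_mem (K.inv_mem hk) (hA hx)) hk
      rwa [show k⁻¹ * (k * x * k⁻¹) * k = x by group] at this
    exact (Subgroup.mem_normalizer_iff.1 hk' ⟨x, hxK⟩).2 hx

theorem mem_sub_N {K : Subgroup G} {hA : c.A ≤ K} {hK : ¬ K ≤ c.N} {k : K} (hk : k ∈ (c.sub K hA hK).N) :
    (k : G) ∈ c.N := Subgroup.mem_normalizer_iff.2 fun x => by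
  constructor
  · exact fun hx => (Subgroup.mem_normalizer_iff.1 hk ⟨x, hA hx⟩).1 hx
  · intro hx
    have hxK : x ∈ K := by
      have := K.mul_mem (K.mul_mem (K.inv_mem k.2) (hA hx)) k.2
      rwa [show (k : G)⁻¹ * ((k : G) * x * (k : G)⁻¹) * k = x by group] at this
    exact (Subgroup.mem_normalizer_iff.1 hk ⟨x, hxK⟩).2 hx

/-- A prime-power element of `A` fixing a second point is centralised by an element outside `N`. -/
theorem cent_not_le {r : ℕ} [Fact r.Prime] {a : G} (ha : a ∈ c.A) (hr : IsPGroup r (Subgroup.zpowers a))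
    {y : G ⧸ c.N} (hy : y ≠ c.base) (hay : a • y = y) : ¬ Subgroup.centralizer {a} ≤ c.N := by
  intro hle
  have hNfix : ∀ w ∈ Subgroup.zpowers a, w • y = y := fun w hw =>
    (Subgroup.zpowers_le.2 (show a ∈ stabilizer G y from hay) hw : w ∈ stabilizer G y)
  have hA : ∀ w ∈ Subgroup.zpowers a, w ∈ c.A := fun w hw => Subgroup.zpowers_le.2 ha hw
  have hbase : ∀ w ∈ Subgroup.zpowers a, w • c.base = c.base := fun w hw =>
    (c.smul_base_iff w).2 (c.A_le (hA w hw))
  set z := c.t₀ • y with hzdef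
  have hzy : z ≠ y := fun h => hy (c.fix_unique c.ht₀ (c.A_le c.ht₀A) h)
  have hz : ∀ w ∈ Subgroup.zpowers a, w • z = z := fun w hw => by
    rw [hzdef, ← mul_smul, c.comm w (hA w hw) _ c.ht₀A, mul_smul, hNfix w hw]
  have key : ∀ p q : G ⧸ c.N, p ≠ q → (∀ w ∈ Subgroup.zpowers a, w • p = p) →
      (∀ w ∈ Subgroup.zpowers a, w • q = q) →
      Nat.ModEq r (Nat.card c.T) (Nat.card {i : G // (orderOf i = 2 ∧ i • p = q) ∧ a * i = i * a}) := by
    intro p q hpq hp hq
    letI : MulAction (Subgroup.zpowers a) {i : G // orderOf i = 2 ∧ i • p = q} :=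
      { smul := fun w i => ⟨(w : G) * i.1 * (w : G)⁻¹, conj_two i.2.1 _, by
          rw [mul_smul, mul_smul, inv_smul_eq_iff.2 (hp w w.2).symm, i.2.2, hq w w.2]⟩
        one_smul := fun i => Subtype.ext (show ((1 : Subgroup.zpowers a) : G) * i.1 * _ = _ by simp)
        mul_smul := fun v w i => Subtype.ext (show (((v * w : Subgroup.zpowers a) : G)) * i.1 *
          (((v * w : Subgroup.zpowers a) : G))⁻¹ = (v : G) * ((w : G) * i.1 * (w : G)⁻¹) * (v : G)⁻¹ by
            rw [Subgroup.coe_mul]; group) }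
    have h := hr.card_modEq_card_fixedPoints {i : G // orderOf i = 2 ∧ i • p = q}
    rw [c.card_swap hpq] at h
    have hM : ∀ {p q : ℕ}, p = q → Nat.ModEq r p q := fun e => e ▸ Nat.ModEq.refl _
    refine h.trans (hM ?_)
    refine Nat.card_congr
      { toFun := fun i => ⟨i.1.1, i.1.2, mul_inv_eq_iff_eq_mul.1
          (congrArg Subtype.val (i.2 ⟨a, Subgroup.mem_zpowers a⟩))⟩
        invFun := fun i => ⟨⟨i.1, i.2.1⟩, fun w => Subtype.ext (by
          obtain ⟨n, hn⟩ := Subgroup.mem_zpowers_iff.1 w.2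
          show (w : G) * i.1 * (w : G)⁻¹ = i.1
          rw [← hn, ((show Commute a i.1 from i.2.2).zpow_left n).eq, mul_inv_cancel_right])⟩
        left_inv := fun _ => rfl
        right_inv := fun _ => rfl }
  have h0 : Nat.card {i : G // (orderOf i = 2 ∧ i • c.base = y) ∧ a * i = i * a} = 0 := by
    refine Nat.card_eq_zero.2 (Or.inl ⟨fun ⟨i, ⟨_, hiy⟩, hcm⟩ => hy ?_⟩)
    rw [← hiy, c.smul_base_iff]
    exact hle (Subgroup.mem_centralizer_singleton_iff.2 hcm.symm)
  have h1 : Nat.card {i : G // (orderOf i = 2 ∧ i • y = z) ∧ a * i = i * a} = 1 := by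
    refine Nat.card_eq_one_iff_exists.2 ⟨⟨c.t₀, ⟨c.ht₀, rfl⟩, c.comm a ha _ c.ht₀A⟩, ?_⟩
    rintro ⟨i, ⟨hi, hiy⟩, hcm⟩
    have hiN : i ∈ c.N := hle (Subgroup.mem_centralizer_singleton_iff.2 hcm.symm)
    have hiA := c.invol i hi hiN
    have hD : c.t₀ * i ∈ c.D y := ⟨mul_mem (c.A_le c.ht₀A) hiN, show (c.t₀ * i) • y = y by
      rw [mul_smul, hiy, hzdef, ← mul_smul, mul_self_of_orderOf_two c.ht₀, one_smul]⟩
    obtain ⟨k, hk⟩ := c.odd_D hy hD
    have hsq : (c.t₀ * i) * (c.t₀ * i) = 1 := by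
      calc c.t₀ * i * (c.t₀ * i) = c.t₀ * (i * c.t₀) * i := by group
        _ = 1 := by rw [← c.comm _ c.ht₀A _ hiA, ← mul_assoc, mul_self_of_orderOf_two c.ht₀, one_mul,
              mul_self_of_orderOf_two hi]
    have hd : orderOf (c.t₀ * i) ∣ 2 := orderOf_dvd_of_pow_eq_one (by rw [pow_two, hsq])
    have hone : orderOf (c.t₀ * i) = 1 := by
      rcases (Nat.dvd_prime Nat.prime_two).1 hd with h | h
      · exact h
      · omega
    exact Subtype.ext (by
      show i = c.t₀
      rw [eq_inv_of_mul_eq_one_right (orderOf_eq_one_iff.1 hone), inv_of_orderOf_two c.ht₀])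
  have k0 := key _ _ (Ne.symm hy) hbase hNfix
  have k1 := key _ _ (Ne.symm hzy) hNfix hz
  rw [h0] at k0
  rw [h1] at k1
  exact (Fact.out : r.Prime).ne_one (Nat.dvd_one.1 ((Nat.modEq_zero_iff_dvd).1 (k1.symm.trans k0)))

end Cfg

/-- In every configuration, elements of `A` fixing a second point are central. -/
theorem good {G : Type u} [Group G] [Finite G] (c : Cfg G) : c.Good := by
  induction hn : Nat.card G using Nat.strong_induction_on generalizing G with
  | _ n ih =>
  subst hn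
  -- prime power elements
  have hpp : ∀ (r : ℕ) [Fact r.Prime], ∀ a ∈ c.A, IsPGroup r (Subgroup.zpowers a) →
      ∀ y : G ⧸ c.N, y ≠ c.base → a • y = y → a ∈ Subgroup.center G := by
    intro r _ a ha hr y hy hay
    set K := Subgroup.centralizer ({a} : Set G) with hKdef
    have hA : c.A ≤ K := fun x hx => Subgroup.mem_centralizer_singleton_iff.2 (c.comm x hx a ha)
    have hKN := c.cent_not_le ha hr hy hay
    let d := c.sub K hA hKN
    have hconj : ∀ k : K, orderOf k = 2 → ∃ g : K, (g : G) * c.t₀ * (g : G)⁻¹ = k := fun k hk => by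
      obtain ⟨g, hg⟩ := isConj_iff.1 (SE_isConj d.se d.ht₀ hk)
      exact ⟨g, congrArg Subtype.val hg⟩
    by_cases htop : K = ⊤
    · refine Subgroup.mem_center_iff.2 fun g => ?_
      exact Subgroup.mem_centralizer_singleton_iff.1 (show g ∈ K by rw [htop]; exact Subgroup.mem_top g)
    exfalso
    have hse : IsStronglyEmbedded K := by
      refine SE_of_mem_of_conj htop (even_iff_two_dvd.2 (c.ht₀ ▸ Subgroup.orderOf_dvd_natCard K (hA c.ht₀A)))
        fun t htK ht g hg => ?_
      have hs : orderOf (g⁻¹ * t * g) = 2 := by simpa using conj_two ht g⁻¹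
      obtain ⟨k, hk⟩ := hconj ⟨t, htK⟩ (by rw [← Subgroup.orderOf_coe]; exact ht)
      obtain ⟨l, hl⟩ := hconj ⟨g⁻¹ * t * g, hg⟩ (by rw [← Subgroup.orderOf_coe]; exact hs)
      have hm : (k : G)⁻¹ * g * l ∈ c.A := c.cent _ c.ht₀A c.ht₀ _ (mul_inv_eq_iff_eq_mul.1 (by
        calc (k : G)⁻¹ * g * l * c.t₀ * ((k : G)⁻¹ * g * l)⁻¹ =
              (k : G)⁻¹ * (g * ((l : G) * c.t₀ * (l : G)⁻¹) * g⁻¹) * k := by group
          _ = (k : G)⁻¹ * ((k : G) * c.t₀ * (k : G)⁻¹) * k := by rw [hl, hk]; group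
          _ = c.t₀ := by group))
      have := K.mul_mem (K.mul_mem k.2 (hA hm)) (K.inv_mem l.2)
      rwa [show (k : G) * ((k : G)⁻¹ * g * l) * (l : G)⁻¹ = g by group] at this
    obtain ⟨u, hu, huK⟩ : ∃ u : G, orderOf u = 2 ∧ u ∉ K := by
      obtain ⟨g, hg⟩ := SE_exists_not_mem hse
      refine ⟨g * c.t₀ * g⁻¹, conj_two c.ht₀ g, fun h => hg ?_⟩
      exact inv_mem_iff.1 (SE_mem_of_conj hse c.ht₀ (hA c.ht₀A) (by simpa using h))
    let H : Subgroup K := (K ⊓ K.map (MulAut.conj u).toMonoidHom).subgroupOf K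
    have hH : Odd (Nat.card H) := by
      rw [Nat.card_congr (Subgroup.subgroupOfEquivOfLe inf_le_left).toEquiv]
      exact hse.2.2 u huK
    refine Cfg.no_odd_transitive (ih _ (Nat.lt_of_le_of_ne (Subgroup.card_le_card_group K)
      fun h => htop (Subgroup.eq_top_of_card_eq K h)) d rfl) H hH fun s t hs ht => ?_
    obtain ⟨g, hg, e⟩ := SE_exists_conj_inf hse hu huK (show orderOf (s : G) = 2 by rw [Subgroup.orderOf_coe, hs])
      s.2 (show orderOf (t : G) = 2 by rw [Subgroup.orderOf_coe, ht]) t.2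
    exact ⟨⟨g, hg.1⟩, hg, Subtype.ext e⟩
  intro y hy a ha hay
  let S : Subgroup G := c.A ⊓ stabilizer G y
  have haS : a ∈ S := ⟨ha, hay⟩
  have hidx : ((Subgroup.center G).subgroupOf S).index = 1 := by
    by_contra hne
    obtain ⟨p, hp, hpd⟩ := Nat.exists_prime_and_dvd hne
    haveI : Fact p.Prime := ⟨hp⟩
    obtain ⟨P⟩ : Nonempty (Sylow p S) := inferInstance
    refine P.not_dvd_index (hpd.trans (Subgroup.index_dvd_of_le fun x hx => ?_))
    refine hpp p (x : G) x.2.1 ?_ y hy x.2.2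
    have hx' : IsPGroup p (Subgroup.zpowers x) := P.2.to_le (Subgroup.zpowers_le.2 hx)
    have := hx'.map S.subtype
    rwa [MonoidHom.map_zpowers] at this
  exact (Subgroup.index_eq_one.1 hidx).ge (Subgroup.mem_top ⟨a, haS⟩)

/-- An odd order `r`-subgroup of `SL(2, 2 ^ f)` is cyclic. -/
theorem isCyclic_odd_SL2 {F : Type*} [Field F] [Finite F] [CharP F 2] {r : ℕ} [Fact r.Prime] (hr2 : r ≠ 2)
    (Q : Subgroup (Matrix.SpecialLinearGroup (Fin 2) F)) (hQ : IsPGroup r Q) : IsCyclic Q := by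
  rcases subsingleton_or_nontrivial Q with h | h
  · exact isCyclic_of_subsingleton
  haveI := hQ.center_nontrivial
  obtain ⟨n, hn⟩ := (hQ.to_subgroup (Subgroup.center Q)).exists_card_eq
  obtain ⟨x, hx⟩ := exists_prime_orderOf_dvd_card' (G := Subgroup.center Q) r (by
    rw [hn]
    refine dvd_pow_self r fun h0 => ?_
    rw [h0, pow_zero] at hn
    exact absurd hn (Finite.one_lt_card_iff_nontrivial.2 inferInstance).ne')
  have hxo : orderOf ((x : Q) : Matrix.SpecialLinearGroup (Fin 2) F) = r := by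
    rw [Subgroup.orderOf_coe, Subgroup.orderOf_coe, hx]
  have h2 : (2 : F) = 0 := CharTwo.two_eq_zero
  have ht : SL2.tr ((x : Q) : Matrix.SpecialLinearGroup (Fin 2) F) ^ 2 ≠ 4 := fun e => by
    have ht0 : SL2.tr ((x : Q) : Matrix.SpecialLinearGroup (Fin 2) F) = 0 :=
      pow_eq_zero_iff two_ne_zero |>.1 (by linear_combination e + 2 * h2)
    have hsq : ((x : Q) : Matrix.SpecialLinearGroup (Fin 2) F) ^ 2 = 1 := by
      apply Subtype.ext
      rw [pow_two, Matrix.SpecialLinearGroup.coe_mul, SL2.mul_self, ht0, zero_smul, zero_sub,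
        Matrix.SpecialLinearGroup.coe_one]
      apply SL2.mext <;> simp [CharTwo.neg_eq]
    have hd := orderOf_dvd_of_pow_eq_one hsq
    rw [hxo] at hd
    exact hr2 ((Nat.prime_dvd_prime_iff_eq Fact.out Nat.prime_two).1 hd)
  haveI := SL2.isCyclic_cent ht
  exact Subgroup.isCyclic_of_le (show Q ≤ SL2.cent _ from fun q hq => SL2.mem_cent.2
    (congrArg Subtype.val (Subgroup.mem_center_iff.1 x.2 ⟨q, hq⟩)).symm)

/-- In characteristic two `SL(2, F)` is isomorphic to `PSL(2, F)`. -/
theorem sl_equiv_psl {F : Type*} [Field F] [Finite F] [CharP F 2] :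
    Nonempty (Matrix.SpecialLinearGroup (Fin 2) F ≃* Matrix.ProjectiveSpecialLinearGroup (Fin 2) F) := by
  refine ⟨MulEquiv.ofBijective (SL2.π : Matrix.SpecialLinearGroup (Fin 2) F →* _)
    ⟨(injective_iff_map_eq_one _).2 fun s hs => ?_, SL2.π_surjective⟩⟩
  obtain ⟨h01, h10, h00⟩ := SL2.π_eq_one.1 hs
  have hdet := s.det_coe
  rw [Matrix.det_fin_two, h01, h10, h00] at hdet
  have h1 : (s : Matrix (Fin 2) (Fin 2) F) 1 1 = 1 := by
    have h2 : (2 : F) = 0 := CharTwo.two_eq_zero
    have : ((s : Matrix (Fin 2) (Fin 2) F) 1 1 - 1) * ((s : Matrix (Fin 2) (Fin 2) F) 1 1 - 1) = 0 := by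
      linear_combination hdet - ((s : Matrix (Fin 2) (Fin 2) F) 1 1 - 1) * h2
    exact sub_eq_zero.1 (mul_self_eq_zero.1 this)
  apply SL2.ext4 <;> simp [h01, h10, h00, h1]

theorem SL2_not_comm {F : Type*} [Field F] : ¬ IsMulCommutative (Matrix.SpecialLinearGroup (Fin 2) F) := fun h => by
  let U : Matrix.SpecialLinearGroup (Fin 2) F := ⟨!![1, 1; 0, 1], by simp [Matrix.det_fin_two]⟩
  let L : Matrix.SpecialLinearGroup (Fin 2) F := ⟨!![1, 0; 1, 1], by simp [Matrix.det_fin_two]⟩
  have e := isMulCommutative_iff.1 h U L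
  have e' : ((U : Matrix (Fin 2) (Fin 2) F) * (L : Matrix (Fin 2) (Fin 2) F)) 0 0 =
      ((L : Matrix (Fin 2) (Fin 2) F) * (U : Matrix (Fin 2) (Fin 2) F)) 0 0 := by
    rw [← Matrix.SpecialLinearGroup.coe_mul, e, Matrix.SpecialLinearGroup.coe_mul]
  simp [U, L, Matrix.mul_apply, Fin.sum_univ_two] at e'

/-- A group with odd centre whose central quotient is `SL(2, 2 ^ f)`, `f ≥ 2`, is a direct product. -/
theorem split {G : Type u} [Group G] [Finite G] {F : Type} [Field F] [Fintype F] [CharP F 2]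
    [IsSimpleGroup (Matrix.SpecialLinearGroup (Fin 2) F)]
    (hnc : ¬ IsMulCommutative (Matrix.SpecialLinearGroup (Fin 2) F))
    (hodd : Odd (Nat.card (Subgroup.center G)))
    (e : G ⧸ Subgroup.center G ≃* Matrix.SpecialLinearGroup (Fin 2) F) :
    ∃ (A : Type) (_ : CommGroup A) (_ : Finite A), Odd (Nat.card A) ∧
      Nonempty (G ≃* Matrix.SpecialLinearGroup (Fin 2) F × A) := by
  set f : G →* Matrix.SpecialLinearGroup (Fin 2) F := e.toMonoidHom.comp (QuotientGroup.mk' _) with hfdef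
  have hker : ∀ g, f g = 1 → g ∈ Subgroup.center G := fun g h =>
    (QuotientGroup.eq_one_iff g).1 (e.map_eq_one_iff.1 h)
  have hker' : ∀ g ∈ Subgroup.center G, f g = 1 := fun g h => by
    show e (g : G ⧸ Subgroup.center G) = 1
    rw [(QuotientGroup.eq_one_iff g).2 h, map_one]
  have hfsurj : Function.Surjective f := e.surjective.comp (QuotientGroup.mk'_surjective _)
  have htop : (commutator G).map f = ⊤ := by
    rw [commutator_def, Subgroup.map_commutator, Subgroup.map_top_of_surjective f hfsurj, ← commutator_def]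
    rcases (Subgroup.Normal.eq_bot_or_eq_top (inferInstance : (commutator (Matrix.SpecialLinearGroup (Fin 2) F)).Normal)) with h | h
    · exfalso
      refine hnc ⟨⟨fun a b => ?_⟩⟩
      open scoped commutatorElement in
      have hab : ⁅a, b⁆ ∈ (⊥ : Subgroup (Matrix.SpecialLinearGroup (Fin 2) F)) := by
        rw [← h, commutator_def]
        exact Subgroup.commutator_mem_commutator (Subgroup.mem_top a) (Subgroup.mem_top b)
      exact (commutatorElement_eq_one_iff_mul_comm.1 (Subgroup.mem_bot.1 hab))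
    · exact h
  have hinf : ∀ g ∈ commutator G, f g = 1 → g = 1 := by
    intro g hg hfg
    by_contra hne
    obtain ⟨r, hr, hrd⟩ := Nat.exists_prime_and_dvd (n := orderOf g) (by rwa [Ne, orderOf_eq_one_iff])
    haveI : Fact r.Prime := ⟨hr⟩
    have hwo : orderOf (g ^ (orderOf g / r)) = r := orderOf_pow_orderOf_div (orderOf_pos g).ne' hrd
    have hwZ : g ^ (orderOf g / r) ∈ Subgroup.center G := pow_mem (hker g hfg) _
    have hwc : g ^ (orderOf g / r) ∈ commutator G := pow_mem hg _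
    generalize g ^ (orderOf g / r) = w at hwo hwZ hwc
    have hr2 : r ≠ 2 := by
      rintro rfl
      have := hodd.of_dvd_nat (Subgroup.orderOf_dvd_natCard _ hwZ)
      rw [hwo] at this
      exact absurd this (by decide)
    obtain ⟨P, hP⟩ := (IsPGroup.of_card (n := 1) (by rw [Nat.card_zpowers, hwo, pow_one]) :
      IsPGroup r (Subgroup.zpowers w)).exists_le_sylow
    have hwP : w ∈ (P : Subgroup G) := hP (Subgroup.mem_zpowers w)
    have hab : ∀ x ∈ (P : Subgroup G), ∀ y ∈ (P : Subgroup G), x * y = y * x := by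
      let φ : (P : Subgroup G) →* Subgroup.map f P := f.subgroupMap P
      haveI := isCyclic_odd_SL2 hr2 (Subgroup.map f P) (P.2.map f)
      intro x hx y hy
      exact congrArg Subtype.val (commutative_of_cyclic_center_quotient φ (fun u hu => by
        refine Subgroup.mem_center_iff.2 fun v => Subtype.ext ?_
        exact Subgroup.mem_center_iff.1 (hker u (congrArg Subtype.val (MonoidHom.mem_ker.1 hu))) v)
        ⟨x, hx⟩ ⟨y, hy⟩)
    refine Cfsg.Agent.S1241.result (p := r) (P : Subgroup G) ⊥ bot_le inferInstance (fun x hx y hy => by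
      rw [Subgroup.mem_bot, hab x hx y hy, mul_inv_cancel_right, mul_inv_cancel]) (hr.coprime_iff_not_dvd.2 P.not_dvd_index)
      w hwP (fun h => by
        rw [Subgroup.mem_bot] at h
        rw [h, orderOf_one] at hwo
        exact hr.one_lt.ne hwo) ⟨1, by rw [pow_one, hwo]⟩ (fun m a _ => ?_) hwc
    rw [Subgroup.mem_bot, Subgroup.mem_center_iff.1 (zpow_mem hwZ m) a, mul_inv_cancel_right, mul_inv_cancel]
  let iC : commutator G ≃* Matrix.SpecialLinearGroup (Fin 2) F :=
    MulEquiv.ofBijective (f.comp (commutator G).subtype) ⟨(injective_iff_map_eq_one _).2 fun g hg =>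
      Subtype.ext (hinf g g.2 hg), fun s => by
        obtain ⟨g, hg, rfl⟩ := (htop ▸ Subgroup.mem_top s : s ∈ (commutator G).map f)
        exact ⟨⟨g, hg⟩, rfl⟩⟩
  let μ : (commutator G) × Subgroup.center G →* G :=
    (commutator G).subtype.noncommCoprod (Subgroup.center G).subtype fun x z =>
      (Subgroup.mem_center_iff.1 z.2 x)
  have hμ : Function.Bijective μ := by
    refine ⟨(injective_iff_map_eq_one μ).2 ?_, fun g => ?_⟩
    · rintro ⟨x, z⟩ h
      have h' : (x : G) * z = 1 := h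
      have hx : (x : G) = (z : G)⁻¹ := eq_inv_of_mul_eq_one_left h'
      have hx1 : (x : G) = 1 := hinf x x.2 (by rw [hx, map_inv, hker' z z.2, inv_one])
      exact Prod.ext (Subtype.ext hx1) (Subtype.ext (by rw [hx1] at h'; simpa using h'))
    · obtain ⟨x, hx⟩ := iC.surjective (f g)
      refine ⟨(x, ⟨(x : G)⁻¹ * g, hker _ ?_⟩), mul_inv_cancel_left _ _⟩
      rw [map_mul, map_inv, show f (x : G) = f g from hx, inv_mul_cancel]
  letI : CommGroup (Subgroup.center G) :=
    { (inferInstance : Group (Subgroup.center G)) with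
      mul_comm := fun a b => Subtype.ext (Subgroup.mem_center_iff.1 b.2 a) }
  refine ⟨Shrink.{0} (Subgroup.center G), inferInstance, inferInstance, ?_,
    ⟨(MulEquiv.ofBijective μ hμ).symm.trans (MulEquiv.prodCongr iC Shrink.mulEquiv.symm)⟩⟩
  rwa [Nat.card_congr (equivShrink.{0} (Subgroup.center G)).symm]

/-- An abelian `2`-group with one involution is cyclic. -/
theorem isCyclic_of_unique_invol {Q : Type*} [CommGroup Q] [Finite Q] (h2 : IsPGroup 2 Q)
    (hu : ∀ a b : Q, orderOf a = 2 → orderOf b = 2 → a = b) : IsCyclic Q := by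
  classical
  have hk : ∀ k, Nat.card (powMonoidHom (2 ^ k) : Q →* Q).ker ≤ 2 ^ k := by
    intro k
    induction k with
    | zero => simp
    | succ k ih =>
      let φ : (powMonoidHom (2 ^ (k + 1)) : Q →* Q).ker →* (powMonoidHom (2 ^ k) : Q →* Q).ker :=
        { toFun := fun x => ⟨(x : Q) ^ 2, by
            rw [MonoidHom.mem_ker, powMonoidHom_apply, ← pow_mul, ← pow_succ']
            exact x.2⟩
          map_one' := Subtype.ext (one_pow 2)
          map_mul' := fun x y => Subtype.ext (mul_pow _ _ 2) }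
      have hker : Nat.card φ.ker ≤ 2 := by
        haveI := Fintype.ofFinite φ.ker
        rw [Nat.card_eq_fintype_card]
        by_contra hlt
        obtain ⟨a, ha⟩ := Fintype.exists_ne_map_eq_of_card_lt
          (fun x : φ.ker => decide (((x.1 : (powMonoidHom (2 ^ (k + 1)) : Q →* Q).ker) : Q) = 1))
          (by rw [Fintype.card_bool]; omega)
        obtain ⟨b, hab, e⟩ := ha
        have hsq : ∀ x : φ.ker, ((x.1 : (powMonoidHom (2 ^ (k + 1)) : Q →* Q).ker) : Q) ^ 2 = 1 := fun x =>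
          congrArg Subtype.val (MonoidHom.mem_ker.1 x.2)
        rw [decide_eq_decide] at e
        apply hab
        apply Subtype.ext; apply Subtype.ext
        by_cases h1 : ((a.1 : (powMonoidHom (2 ^ (k + 1)) : Q →* Q).ker) : Q) = 1
        · rw [h1, e.1 h1]
        · exact hu _ _ (orderOf_eq_prime (hsq a) h1) (orderOf_eq_prime (hsq b) fun h => h1 (e.2 h))
      calc Nat.card (powMonoidHom (2 ^ (k + 1)) : Q →* Q).ker = Nat.card φ.range * Nat.card φ.ker := by
            rw [Subgroup.card_eq_card_quotient_mul_card_subgroup φ.ker,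
              Nat.card_congr (QuotientGroup.quotientKerEquivRange φ).toEquiv]
        _ ≤ 2 ^ k * 2 := Nat.mul_le_mul ((Subgroup.card_le_card_group _).trans ih) hker
        _ = 2 ^ (k + 1) := (pow_succ 2 k).symm
  haveI := Fintype.ofFinite Q
  refine isCyclic_of_card_pow_eq_one_le fun n hn => ?_
  haveI : Fact (Nat.Prime 2) := ⟨Nat.prime_two⟩
  obtain ⟨m, hm⟩ := h2.exists_card_eq
  obtain ⟨k, -, hk2⟩ := (Nat.dvd_prime_pow Nat.prime_two).1 (hm ▸ Nat.gcd_dvd_right n (Nat.card Q))
  calc _ ≤ Nat.card (powMonoidHom (2 ^ k) : Q →* Q).ker := by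
          rw [Nat.card_eq_fintype_card, Fintype.card_subtype]
          refine Finset.card_le_card fun x hx => ?_
          rw [Finset.mem_filter] at hx ⊢
          refine ⟨Finset.mem_univ _, ?_⟩
          rw [MonoidHom.mem_ker, powMonoidHom_apply, ← hk2, pow_gcd_eq_one]
          exact ⟨hx.2, by rw [← hm]; exact pow_card_eq_one'⟩
    _ ≤ 2 ^ k := hk k
    _ ≤ n := hk2 ▸ Nat.gcd_le_left _ hn

end Cfsg.Agent.AbCent
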