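import Cfsg.Agent.Lib.Invol.AbelianCentConfig
import Cfsg.Agent.S0727
import Cfsg.Agent.S0731
import Cfsg.Agent.Lib.SL2.Dickson
import Cfsg.Agent.Lib.SL2.DicksonTorus
import Cfsg.Agent.Lib.SmallSimple.Alternating

/-!
Abelian centralisers of involutions: when the kernel hypothesis holds, the group modulo its centre is
`PSL(2, 2 ^ f)`, and no subgroup of odd order is transitive on the involutions.
-/

set_option autoImplicit false
set_option linter.unusedSectionVars false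

namespace Cfsg.Agent.AbCent

open MulAction Invol

universe u

/-- In a dihedral group of order `2n`, `n` even and at least `4`, an involution has a non-abelian centraliser. -/
theorem dihedral_cent {n : ℕ} (hn : Even n) (h4 : 4 ≤ n) :
    ∃ u a b : DihedralGroup n, u ≠ 1 ∧ u * u = 1 ∧ Commute a u ∧ Commute b u ∧ a * b ≠ b * a := by
  obtain ⟨m, rfl⟩ := hn
  haveI : NeZero (m + m) := ⟨by omega⟩
  have hm : ((m : ℕ) : ZMod (m + m)) ≠ 0 := by
    rw [Ne, ZMod.natCast_eq_zero_iff]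
    intro hd
    have := Nat.le_of_dvd (by omega) hd
    omega
  have h2 : (2 : ZMod (m + m)) ≠ 0 := by
    rw [← Nat.cast_two, Ne, ZMod.natCast_eq_zero_iff]
    intro hd
    have := Nat.le_of_dvd (by omega) hd
    omega
  have hmm : ((m : ℕ) : ZMod (m + m)) + (m : ℕ) = 0 := by rw [← Nat.cast_add, ZMod.natCast_self]
  refine ⟨DihedralGroup.r ((m : ℕ) : ZMod (m + m)), DihedralGroup.r 1, DihedralGroup.sr 0,
    fun e => hm (DihedralGroup.r.inj (e.trans DihedralGroup.r_zero.symm)), ?_, ?_, ?_, fun e => ?_⟩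
  · rw [DihedralGroup.r_mul_r, hmm, DihedralGroup.r_zero]
  · show _ = _
    rw [DihedralGroup.r_mul_r, DihedralGroup.r_mul_r]
    exact congrArg DihedralGroup.r (add_comm _ _)
  · show _ = _
    rw [DihedralGroup.r_mul_sr, DihedralGroup.sr_mul_r]
    exact congrArg DihedralGroup.sr (by linear_combination hmm)
  · simp at e
    exact h2 (by linear_combination -e)

/-- `PSL(2, q)`, `q` odd and at least `7`, has an involution with non-abelian centraliser. -/
theorem PSL_cent {K : Type*} [Field K] [Fintype K] (h2 : ringChar K ≠ 2) (h7 : 7 ≤ Fintype.card K) :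
    ∃ u a b : Matrix.ProjectiveSpecialLinearGroup (Fin 2) K,
      u ≠ 1 ∧ u * u = 1 ∧ Commute a u ∧ Commute b u ∧ a * b ≠ b * a := by
  classical
  have hodd : Fintype.card K % 2 = 1 := FiniteField.odd_card_of_char_ne_two h2
  have hgcd : Nat.gcd 2 (Fintype.card K - 1) = 2 := Nat.gcd_eq_left (by omega)
  obtain ⟨r, ht, he, h4⟩ : ∃ r : Matrix.SpecialLinearGroup (Fin 2) K, SL2.tr r ^ 2 ≠ 4 ∧
      Even (Nat.card (SL2.torus r)) ∧ 4 ≤ Nat.card (SL2.torus r) := by
    rcases Nat.even_or_odd ((Fintype.card K + 1) / 2) with he | ho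
    · obtain ⟨r, hr⟩ := SL2.exists_noEig (F := K)
      refine ⟨r, hr.tr_sq, ?_⟩
      rcases SL2.card_torus_cases hr.tr_sq with ⟨-, hc⟩ | ⟨⟨a, ha⟩, -⟩
      · rw [hgcd] at hc
        rw [hc]
        exact ⟨he, by omega⟩
      · exact absurd ha ((SL2.noEig_iff r).1 hr a)
    · obtain ⟨a, ha⟩ := IsCyclic.exists_ofOrder_eq_natCard (α := Kˣ)
      rw [Nat.card_units, Nat.card_eq_fintype_card] at ha
      have ha2 : (a : K) ^ 2 ≠ 1 := fun e => by
        have hd : orderOf a ∣ 2 := orderOf_dvd_of_pow_eq_one (Units.ext (by simpa using e))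
        have := Nat.le_of_dvd two_pos hd
        omega
      refine ⟨SL2.dd a, SL2.tr_sq_dd ha2, ?_⟩
      rcases SL2.card_torus_cases (SL2.tr_sq_dd ha2) with ⟨hne, -⟩ | ⟨-, hc⟩
      · exfalso
        refine hne (a : K) ?_
        rw [SL2.tr_dd, add_sub_cancel_left, mul_inv_cancel₀ a.ne_zero]
      · rw [hgcd] at hc
        rw [hc]
        obtain ⟨j, hj⟩ := ho
        exact ⟨⟨j / 1, by omega⟩, by omega⟩
  obtain ⟨e⟩ := SL2.NT_equiv_dihedral ht
  obtain ⟨u, a, b, hu1, huu, hau, hbu, hne⟩ := dihedral_cent he h4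
  let f : DihedralGroup (Nat.card (SL2.torus r)) →* Matrix.ProjectiveSpecialLinearGroup (Fin 2) K :=
    (Subgroup.subtype _).comp e.symm.toMonoidHom
  have hf : Function.Injective f := Subtype.val_injective.comp e.symm.injective
  exact ⟨f u, f a, f b, fun h => hu1 (hf (h.trans (map_one f).symm)), by rw [← map_mul, huu, map_one],
    hau.map f, hbu.map f, fun h => hne (hf (by rw [map_mul, map_mul, h]))⟩

namespace Cfg

variable {G : Type u} [Group G] [Finite G] (c : Cfg G)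

local notation "Z" => Subgroup.center G

theorem center_le_ker : Z ≤ (toPermHom G (G ⧸ c.N)).ker := fun _ hz =>
  MonoidHom.mem_ker.2 (Equiv.ext fun x => c.smul_center hz x)

/-- The action of the quotient by the centre. -/
@[reducible] def act : MulAction (G ⧸ Z) (G ⧸ c.N) :=
  MulAction.compHom (G ⧸ c.N) (QuotientGroup.lift Z (toPermHom G (G ⧸ c.N)) c.center_le_ker)

include c in
theorem cent_comm {x a b : G} (hx : orderOf x = 2) (ha : Commute a x) (hb : Commute b x) : a * b = b * a := by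
  obtain ⟨g, hgx⟩ := isConj_iff.1 (SE_isConj c.se hx c.ht₀)
  have hm : ∀ w : G, Commute w x → g * w * g⁻¹ ∈ c.A := fun w hw => by
    refine c.cent _ c.ht₀A c.ht₀ _ ?_
    rw [← hgx]
    exact Commute.map hw (MulAut.conj g).toMonoidHom
  have e := c.comm _ (hm a ha) _ (hm b hb)
  calc a * b = g⁻¹ * ((g * a * g⁻¹) * (g * b * g⁻¹)) * g := by group
    _ = b * a := by rw [e]; group

include c in
/-- Centralisers of involutions modulo the centre are abelian. -/
theorem cent_comm_quot {g : G} (hg : g ∉ Z) (hgg : g * g ∈ Z) {a b : G} (ha : π a * π g = π g * π a)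
    (hb : π b * π g = π g * π b) : a * b = b * a := by
  obtain ⟨k, hk⟩ := c.odd_center
  have hx1 : g ^ Nat.card Z ≠ 1 := fun h => hg (by
    have : g = (g * g)⁻¹ ^ k := by
      rw [hk, pow_succ] at h
      rw [inv_pow, ← pow_two, ← pow_mul]
      exact (inv_eq_of_mul_eq_one_right h).symm
    rw [this]
    exact pow_mem (inv_mem hgg) k)
  have hxx : g ^ Nat.card Z * g ^ Nat.card Z = 1 := by
    rw [← (Commute.refl g).mul_pow]
    exact congrArg Subtype.val (pow_card_eq_one' (x := (⟨g * g, hgg⟩ : Z)))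
  have hx := orderOf_two_of_mul_self hxx hx1
  have hzz : g ^ Nat.card Z = g * (g * g) ^ k := by rw [hk, pow_succ', ← pow_two, ← pow_mul]
  have hπx : π (g ^ Nat.card Z) = π g := by
    rw [hzz, map_mul, show π ((g * g) ^ k) = 1 from (QuotientGroup.eq_one_iff _).2 (pow_mem hgg k), mul_one]
  have key : ∀ w : G, π w * π g = π g * π w → Commute w (g ^ Nat.card Z) := fun w hw => by
    obtain ⟨z, hz, e⟩ : ∃ z ∈ Z, w * g ^ Nat.card Z * w⁻¹ = g ^ Nat.card Z * z :=
      ⟨(g ^ Nat.card Z)⁻¹ * (w * g ^ Nat.card Z * w⁻¹), (QuotientGroup.eq_one_iff _).1 (by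
        show π ((g ^ Nat.card Z)⁻¹ * (w * g ^ Nat.card Z * w⁻¹)) = 1
        simp only [map_mul, map_inv, hπx, hw]
        group), (mul_inv_cancel_left _ _).symm⟩
    have h1 : z = 1 := c.sq_center hz (by
      have e2 : (g ^ Nat.card Z * z) * (g ^ Nat.card Z * z) = 1 := by
        rw [← e]
        calc (w * g ^ Nat.card Z * w⁻¹) * (w * g ^ Nat.card Z * w⁻¹) =
              w * (g ^ Nat.card Z * g ^ Nat.card Z) * w⁻¹ := by group
          _ = 1 := by rw [hxx, mul_one, mul_inv_cancel]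
      rw [Commute.mul_mul_mul_comm (Subgroup.mem_center_iff.1 hz (g ^ Nat.card Z)).symm, hxx, one_mul] at e2
      exact e2)
    rw [h1, mul_one] at e
    exact mul_inv_eq_iff_eq_mul.1 e
  exact c.cent_comm hx (key a ha) (key b hb)

variable {c}

theorem smul_ne_base {a : G} (ha : a ∈ c.N) {y : G ⧸ c.N} (hy : y ≠ c.base) : a • y ≠ c.base := fun e =>
  hy (MulAction.injective a (e.trans ((c.smul_base_iff a).2 ha).symm))

theorem zassenhaus (hc : c.Good) :
    letI := c.act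
    Cfsg.IsZassenhausGroup (G ⧸ Z) (G ⧸ c.N) := by
  letI := c.act
  have hsmul : ∀ (g : G) (x : G ⧸ c.N), (π g) • x = g • x := fun _ _ => rfl
  obtain ⟨hP, htrans, -⟩ := count_fix hc
  obtain ⟨y₀, hy₀⟩ := c.exists_pt
  have hfix : ∀ g : G, ∀ a b e : G ⧸ c.N, a ≠ b → b ≠ e → a ≠ e → g • a = a → g • b = b → g • e = e → g ∈ Z := by
    intro g a b e hab hbe hae ha hb he
    obtain ⟨w, hw⟩ := exists_smul_eq G a c.base
    have hwa : w⁻¹ • c.base = a := inv_smul_eq_iff.2 hw.symm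
    have h := fix_three hc (g := w * g * w⁻¹) (y := w • b) (z := w • e)
      (fun h => hab (MulAction.injective w (hw.trans h.symm)))
      (fun h => hae (MulAction.injective w (hw.trans h.symm)))
      (fun h => hbe (MulAction.injective w h))
      (by rw [mul_smul, mul_smul, hwa, ha, hw]) (by rw [mul_smul, mul_smul, inv_smul_smul, hb])
      (by rw [mul_smul, mul_smul, inv_smul_smul, he])
    have := Subgroup.Normal.conj_mem inferInstance _ h w⁻¹
    rwa [show w⁻¹ * (w * g * w⁻¹) * w⁻¹⁻¹ = g by group] at this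
  have hmove : c.t₀ • y₀ ≠ y₀ := fun h => hy₀ (c.fix_unique c.ht₀ (c.A_le c.ht₀A) h)
  have hbne := smul_ne_base (c.A_le c.ht₀A) hy₀
  refine ⟨⟨fun {g h} e => ?_⟩, ?_, fun g a b e hab hbe hae ha hb he => ?_, ?_, fun (M : Subgroup (G ⧸ Z)) hM htr => ?_⟩
  · obtain ⟨g, rfl⟩ := QuotientGroup.mk_surjective g
    obtain ⟨h, rfl⟩ := QuotientGroup.mk_surjective h
    rw [QuotientGroup.eq]
    have hx : ∀ x : G ⧸ c.N, (g⁻¹ * h) • x = x := fun x => by
      rw [mul_smul, inv_smul_eq_iff]; exact (e x).symm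
    exact hfix _ c.base y₀ (c.t₀ • y₀) (Ne.symm hy₀) (Ne.symm hmove) (Ne.symm hbne) (hx _) (hx _) (hx _)
  · rw [is_two_pretransitive_iff]
    intro a b a' b' hab hab'
    obtain ⟨g, hg⟩ := exists_smul_eq G a c.base
    obtain ⟨g', hg'⟩ := exists_smul_eq G a' c.base
    obtain ⟨x, hxA, hx⟩ := htrans (g • b) (fun h => hab (MulAction.injective g (hg.trans h.symm))) (g' • b')
      (fun h => hab' (MulAction.injective g' (hg'.trans h.symm)))
    refine ⟨π (g'⁻¹ * x * g), ?_, ?_⟩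
    · rw [hsmul, mul_smul, mul_smul, hg, (c.smul_base_iff x).2 (c.A_le hxA), inv_smul_eq_iff, hg']
    · rw [hsmul, mul_smul, mul_smul, hx, inv_smul_smul]
  · obtain ⟨g, rfl⟩ := QuotientGroup.mk_surjective g
    exact (QuotientGroup.eq_one_iff g).2 (hfix g a b e hab hbe hae ha hb he)
  · obtain ⟨g, hgD, hgZ⟩ : ∃ g ∈ c.D y₀, g ∉ Z := by
      by_contra h
      push Not at h
      have := Subgroup.card_le_of_le h
      rw [card_D hc hy₀] at this
      have := c.three_le_T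
      have := Nat.card_pos (α := Z)
      nlinarith
    exact ⟨π g, fun h => hgZ ((QuotientGroup.eq_one_iff g).1 h), c.base, y₀, Ne.symm hy₀,
      (c.smul_base_iff g).2 hgD.1, hgD.2⟩
  · by_contra hreg
    push Not at hreg
    have hinj : ∀ m : G ⧸ Z, m ∈ M → m • c.base = c.base → m = 1 := fun m hm h => by
      have h' : (⟨m, hm⟩ : M) ∈ stabilizer M c.base := h
      rw [hreg c.base, Subgroup.mem_bot] at h'
      exact congrArg Subtype.val h'
    have hinv : ∀ t : G, orderOf t = 2 → t ∈ c.N → ∀ m ∈ M, π t * m * (π t)⁻¹ = m⁻¹ := by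
      intro t ht htN
      have htt : π t * π t = 1 := by rw [← map_mul, mul_self_of_orderOf_two ht, map_one]
      have htb : (π t) • c.base = c.base := (c.smul_base_iff t).2 htN
      have hfree : ∀ m ∈ M, π t * m * (π t)⁻¹ = m → m = 1 := fun m hm h => by
        refine hinj m hm (c.fix_unique ht htN ?_)
        rw [← hsmul, smul_smul, mul_inv_eq_iff_eq_mul.1 h, mul_smul, htb]
      let φ : M → M := fun m => ⟨(m : G ⧸ Z)⁻¹ * (π t * m * (π t)⁻¹), mul_mem (inv_mem m.2) (hM.conj_mem _ m.2 _)⟩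
      have hφ : Function.Injective φ := fun m n h => by
        have e : (m : G ⧸ Z)⁻¹ * (π t * m * (π t)⁻¹) = (n : G ⧸ Z)⁻¹ * (π t * n * (π t)⁻¹) :=
          congrArg Subtype.val h
        refine Subtype.ext (mul_inv_eq_one.1 (hfree _ (mul_mem m.2 (inv_mem n.2)) ?_))
        calc π t * ((m : G ⧸ Z) * (n : G ⧸ Z)⁻¹) * (π t)⁻¹ = (m : G ⧸ Z) * ((m : G ⧸ Z)⁻¹ *
              (π t * m * (π t)⁻¹)) * (π t * (n : G ⧸ Z)⁻¹ * (π t)⁻¹) := by group
          _ = _ := by rw [e]; group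
      intro m hm
      obtain ⟨n, hn⟩ := (Finite.injective_iff_surjective.1 hφ) ⟨m, hm⟩
      have e : (n : G ⧸ Z)⁻¹ * (π t * n * (π t)⁻¹) = m := congrArg Subtype.val hn
      rw [← e]
      calc π t * ((n : G ⧸ Z)⁻¹ * (π t * n * (π t)⁻¹)) * (π t)⁻¹ =
            π t * (n : G ⧸ Z)⁻¹ * (π t)⁻¹ * (π t * π t) * n * (π t * π t)⁻¹ := by group
        _ = _ := by rw [htt]; group
    have hfixall : ∀ x : G ⧸ c.N, (c.t₀ * c.t₁) • x = x := by
      intro x
      obtain ⟨m, rfl⟩ := htr.exists_smul_eq c.base x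
      have hb : (π (c.t₀ * c.t₁)) • c.base = c.base :=
        (c.smul_base_iff _).2 (c.A_le (mul_mem c.ht₀A c.ht₁A))
      have e : π (c.t₀ * c.t₁) * (m : G ⧸ Z) = m * π (c.t₀ * c.t₁) := mul_inv_eq_iff_eq_mul.1 (by
        rw [map_mul, show π c.t₀ * π c.t₁ * (m : G ⧸ Z) * (π c.t₀ * π c.t₁)⁻¹ =
          π c.t₀ * (π c.t₁ * m * (π c.t₁)⁻¹) * (π c.t₀)⁻¹ by group,
          hinv _ c.ht₁ (c.A_le c.ht₁A) _ m.2, hinv _ c.ht₀ (c.A_le c.ht₀A) _ (inv_mem m.2), inv_inv])
      rw [← hsmul, Subgroup.smul_def, smul_smul, e, mul_smul, hb]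
    have h2 := mul_self_of_orderOf_two c.ht₁
    have hz : c.t₀ * c.t₁ ∈ Z := hc y₀ hy₀ _ (mul_mem c.ht₀A c.ht₁A) (hfixall y₀)
    have h1 := c.sq_center hz (by
      calc c.t₀ * c.t₁ * (c.t₀ * c.t₁) = c.t₀ * (c.t₁ * c.t₀) * c.t₁ := by group
        _ = 1 := by rw [← c.comm _ c.ht₀A _ c.ht₁A, ← mul_assoc, mul_self_of_orderOf_two c.ht₀, one_mul, h2])
    exact c.hne ((eq_inv_of_mul_eq_one_right h1).trans (inv_of_orderOf_two c.ht₀))

theorem classify (hc : c.Good) :
    (∀ a ∈ c.A, a * a ∈ Z) ∧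
    (∃ P, Even P ∧ Nat.card (G ⧸ c.N) = P + 1) ∧
    ∃ (F : Type) (_ : Field F) (_ : Fintype F) (f : ℕ), 2 ≤ f ∧ Fintype.card F = 2 ^ f ∧
      Nonempty (G ⧸ Z ≃* Matrix.ProjectiveSpecialLinearGroup (Fin 2) F) := by
  classical
  letI := c.act
  have hsmul : ∀ (g : G) (x : G ⧸ c.N), (π g) • x = g • x := fun _ _ => rfl
  have hzas := zassenhaus hc
  obtain ⟨hP, htrans, -⟩ := count_fix hc
  obtain ⟨y₀, hy₀⟩ := c.exists_pt
  haveI := Fintype.ofFinite (G ⧸ c.N)
  have hpts : Nat.card (G ⧸ c.N) = Nat.card {z : G ⧸ c.N // z ≠ c.base} + 1 := by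
    rw [Nat.card_eq_fintype_card, Nat.card_eq_fintype_card, Fintype.card_subtype_compl, Fintype.card_subtype_eq]
    have : 0 < Fintype.card (G ⧸ c.N) := Fintype.card_pos
    omega
  set P := Nat.card {z : G ⧸ c.N // z ≠ c.base} with hPdef
  have hPeven : Even P := by
    have h : 2 ∣ P * Nat.card Z := by rw [hP, ← c.ht₀]; exact Subgroup.orderOf_dvd_natCard _ c.ht₀A
    exact (Nat.even_mul.1 (even_iff_two_dvd.2 h)).resolve_right (Nat.not_even_iff_odd.2 c.odd_center)
  set F : Subgroup (G ⧸ Z) := c.A.map π with hF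
  have hFle : F ≤ stabilizer (G ⧸ Z) c.base := by
    rintro _ ⟨a, ha, rfl⟩
    exact (c.smul_base_iff a).2 (c.A_le ha)
  have hFn : (F.subgroupOf (stabilizer (G ⧸ Z) c.base)).Normal := ⟨by
    rintro ⟨x, hx'⟩ ⟨a, ha, hax⟩ ⟨g, hg⟩
    obtain ⟨g, rfl⟩ := QuotientGroup.mk_surjective g
    refine ⟨g * a * g⁻¹, (Subgroup.mem_normalizer_iff.1 ((c.smul_base_iff g).1 hg) a).1 ha, ?_⟩
    show π (g * a * g⁻¹) = π g * x * (π g)⁻¹
    rw [map_mul, map_mul, map_inv, show π a = x from hax]⟩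
  have hFab : IsMulCommutative F := ⟨⟨by
    rintro ⟨_, a, ha, rfl⟩ ⟨_, b, hb, rfl⟩
    exact Subtype.ext (show π a * π b = π b * π a by rw [← map_mul, c.comm a ha b hb, map_mul])⟩⟩
  have huniq : ∀ y : G ⧸ c.N, y ≠ c.base → ∀ a ∈ c.A, ∀ b ∈ c.A, a • y = b • y → π a = π b := by
    intro y hy a ha b hb h
    have := hc y hy (b⁻¹ * a) (mul_mem (inv_mem hb) ha) (by rw [mul_smul, h, inv_smul_smul])
    exact ((QuotientGroup.eq (s := Z)).2 this).symm
  have hreg : ∀ y z : G ⧸ c.N, y ≠ c.base → z ≠ c.base → ∃! u : F, (u : G ⧸ Z) • y = z := by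
    intro y z hy hz
    obtain ⟨a, ha, haz⟩ := htrans y hy z hz
    refine ⟨⟨π a, a, ha, rfl⟩, haz, ?_⟩
    rintro ⟨_, b, hb, rfl⟩ hu
    exact Subtype.ext (huniq y hy b hb a ha ((show b • y = z from hu).trans haz.symm))
  have hcF : Nat.card F = P := by
    refine Nat.card_eq_of_bijective (fun u : F => (⟨(u : G ⧸ Z) • y₀, fun h => hy₀ (MulAction.injective
      (u : G ⧸ Z) (h.trans (hFle u.2).symm))⟩ : {z : G ⧸ c.N // z ≠ c.base})) ⟨fun u v h => ?_, fun z => ?_⟩
    · have h' : (u : G ⧸ Z) • y₀ = (v : G ⧸ Z) • y₀ := congrArg Subtype.val h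
      have hne : (v : G ⧸ Z) • y₀ ≠ c.base := fun h => hy₀ (MulAction.injective (v : G ⧸ Z) (h.trans (hFle v.2).symm))
      exact (hreg y₀ _ hy₀ hne).unique h' rfl
    · obtain ⟨u, hu, -⟩ := hreg y₀ z hy₀ z.2
      exact ⟨u, Subtype.ext hu⟩
  have hne0 : π c.t₀ ≠ 1 := fun h => c.not_central c.ht₀ ((QuotientGroup.eq_one_iff _).1 h)
  have hne1 : π c.t₁ ≠ 1 := fun h => c.not_central c.ht₁ ((QuotientGroup.eq_one_iff _).1 h)
  have hne01 : π c.t₀ ≠ π c.t₁ := fun h => by
    have hz : c.t₀⁻¹ * c.t₁ ∈ Z := QuotientGroup.eq.1 h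
    rw [inv_of_orderOf_two c.ht₀] at hz
    have h1 := c.sq_center hz (by
      calc c.t₀ * c.t₁ * (c.t₀ * c.t₁) = c.t₀ * (c.t₁ * c.t₀) * c.t₁ := by group
        _ = 1 := by rw [← c.comm _ c.ht₀A _ c.ht₁A, ← mul_assoc, mul_self_of_orderOf_two c.ht₀, one_mul,
              mul_self_of_orderOf_two c.ht₁])
    exact c.hne ((eq_inv_of_mul_eq_one_right h1).trans (inv_of_orderOf_two c.ht₀))
  have hP3 : 3 ≤ P := by
    haveI := Fintype.ofFinite F
    rw [← hcF, Nat.card_eq_fintype_card]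
    exact Fintype.two_lt_card_iff.2 ⟨⟨π c.t₀, c.t₀, c.ht₀A, rfl⟩, ⟨π c.t₁, c.t₁, c.ht₁A, rfl⟩, 1,
      fun h => hne01 (congrArg Subtype.val h), fun h => hne0 (congrArg Subtype.val h),
      fun h => hne1 (congrArg Subtype.val h)⟩
  suffices hh : (∀ a ∈ c.A, a * a ∈ Z) ∧ ∃ (F : Type) (_ : Field F) (_ : Fintype F) (f : ℕ),
      2 ≤ f ∧ Fintype.card F = 2 ^ f ∧ Nonempty (G ⧸ Z ≃* Matrix.ProjectiveSpecialLinearGroup (Fin 2) F) from
    ⟨hh.1, ⟨P, hPeven, hpts⟩, hh.2⟩
  rcases Cfsg.Agent.S0731.result hzas c.base F hFle hFn hFab hreg with ⟨h3, hsharp⟩ | ⟨K, iK, iF, hK2, ⟨e⟩⟩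
  · have hsq : ∀ a ∈ c.A, a * a ∈ Z := by
      intro a ha
      by_cases haZ : a ∈ Z
      · exact mul_mem haZ haZ
      have hd1 : c.t₀ • y₀ ≠ y₀ := fun h => hy₀ (c.fix_unique c.ht₀ (c.A_le c.ht₀A) h)
      have hd2 : a • y₀ ≠ y₀ := fun h => haZ (hc y₀ hy₀ a ha h)
      have hd3 := smul_ne_base (c.A_le c.ht₀A) hy₀
      have hd4 := smul_ne_base (c.A_le ha) hy₀
      have hi : ∀ w : G ⧸ c.N, w ≠ c.base → w ≠ y₀ → Function.Injective ![c.base, y₀, w] := by
        intro w h1 h2 i j hij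
        fin_cases i <;> fin_cases j <;>
          first
            | rfl
            | exact absurd hij (Ne.symm hy₀)
            | exact absurd hij hy₀
            | exact absurd hij (Ne.symm h1)
            | exact absurd hij h1
            | exact absurd hij (Ne.symm h2)
            | exact absurd hij h2
      obtain ⟨g, hg⟩ := @exists_smul_eq (G ⧸ Z) (Fin 3 ↪ G ⧸ c.N) _ h3 ⟨_, hi _ hd3 hd1⟩ ⟨_, hi _ hd4 hd2⟩
      obtain ⟨g, rfl⟩ := QuotientGroup.mk_surjective g
      have e0 : g • c.base = c.base := DFunLike.congr_fun hg 0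
      have e1 : g • y₀ = y₀ := DFunLike.congr_fun hg 1
      have e2 : g • c.t₀ • y₀ = a • y₀ := DFunLike.congr_fun hg 2
      have hgN := (c.smul_base_iff g).1 e0
      have hs : orderOf (g * c.t₀ * g⁻¹) = 2 := conj_two c.ht₀ g
      have hsA := c.invol _ hs (mul_mem (mul_mem hgN (c.A_le c.ht₀A)) (inv_mem hgN))
      have hgy : g⁻¹ • y₀ = y₀ := inv_smul_eq_iff.2 e1.symm
      have hz := hc y₀ hy₀ ((g * c.t₀ * g⁻¹)⁻¹ * a) (mul_mem (inv_mem hsA) ha) (by
        rw [mul_smul, inv_smul_eq_iff, mul_smul, mul_smul, hgy, e2])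
      obtain ⟨z, hzZ, rfl⟩ : ∃ z ∈ Z, a = g * c.t₀ * g⁻¹ * z := ⟨_, hz, (mul_inv_cancel_left _ _).symm⟩
      rw [Commute.mul_mul_mul_comm (show Commute z (g * c.t₀ * g⁻¹) from (Subgroup.mem_center_iff.1 hzZ _).symm),
        mul_self_of_orderOf_two hs, one_mul]
      exact mul_mem hzZ hzZ
    have hp : IsPGroup 2 F := by
      rintro ⟨_, a, ha, rfl⟩
      exact ⟨1, Subtype.ext (show π a ^ (2 ^ 1) = 1 by
        rw [pow_one, pow_two, ← map_mul]; exact (QuotientGroup.eq_one_iff _).2 (hsq a ha))⟩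
    obtain ⟨f, hf⟩ := hp.exists_card_eq
    have hf2 : 2 ≤ f := by
      by_contra h
      have := Nat.pow_le_pow_right (show 0 < 2 by norm_num) (show f ≤ 1 by omega)
      omega
    refine ⟨hsq, ?_⟩
    haveI hfa := hzas.1
    let φ := toPermHom (G ⧸ Z) (G ⧸ c.N)
    have hφ : Function.Injective φ := MulAction.toPerm_injective
    have h3' : IsMultiplyPretransitive φ.range (G ⧸ c.N) 3 := ⟨fun u v => by
      obtain ⟨g, hg⟩ := @exists_smul_eq (G ⧸ Z) (Fin 3 ↪ G ⧸ c.N) _ h3 u v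
      exact ⟨⟨φ g, g, rfl⟩, by ext i; exact DFunLike.congr_fun hg i⟩⟩
    have hsharp' : ∀ u : Fin 3 ↪ (G ⧸ c.N), stabilizer φ.range u = ⊥ := fun u => by
      refine eq_bot_iff.2 fun x hx => ?_
      obtain ⟨x, g, rfl⟩ := x
      have hg : g ∈ stabilizer (G ⧸ Z) u := by
        rw [mem_stabilizer_iff]; ext i; exact DFunLike.congr_fun (mem_stabilizer_iff.1 hx) i
      rw [hsharp u, Subgroup.mem_bot] at hg
      rw [Subgroup.mem_bot]
      exact Subtype.ext (by simp [hg])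
    obtain ⟨F', iF', iFF', hF', ⟨e⟩⟩ := Cfsg.Agent.S0727.result (show 1 ≤ f by omega)
      (by rw [← Nat.card_eq_fintype_card, hpts, ← hcF, hf]) φ.range h3' hsharp'
    haveI : CharP F' 2 := by
      obtain ⟨r, hr⟩ := CharP.exists F'
      obtain ⟨m, hrp, hm⟩ := FiniteField.card F' r
      have h2 : 2 ∣ r := Nat.prime_two.dvd_of_dvd_pow
        ((dvd_pow_self 2 (by omega : f ≠ 0)).trans (dvd_of_eq (hF'.symm.trans hm)))
      rwa [← (Nat.prime_dvd_prime_iff_eq Nat.prime_two hrp).1 h2] at hr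
    have hroots : ∀ r : F'ˣ, ∃ k : F'ˣ, k ^ Fintype.card (Fin 2) = r := fun r => by
      obtain ⟨k, hk⟩ := (Finite.injective_iff_surjective.1 (frobenius_inj F' 2)) (r : F')
      change k ^ 2 = (r : F') at hk
      have hk0 : k ≠ 0 := fun h => r.ne_zero (by rw [← hk, h, zero_pow two_ne_zero])
      exact ⟨Units.mk0 k hk0, Units.ext (by rw [Fintype.card_fin]; simpa using hk)⟩
    let iso := MulEquiv.ofBijective (Matrix.ProjectiveSpecialLinearGroup.toPGL (n := Fin 2) (R := F'))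
      ⟨Matrix.ProjectiveSpecialLinearGroup.toPGL_injective,
        Matrix.ProjectiveSpecialLinearGroup.toPGL_surj_of_roots hroots⟩
    exact ⟨F', iF', iFF', f, hf2, hF', ⟨(MonoidHom.ofInjective hφ).trans (e.trans iso.symm)⟩⟩
  · have hodd : Fintype.card K % 2 = 1 := FiniteField.odd_card_of_char_ne_two hK2
    have hlt : Fintype.card K < 7 := by
      by_contra h
      obtain ⟨u, a, b, hu1, huu, hau, hbu, hne⟩ := PSL_cent hK2 (by omega)
      obtain ⟨u', hu'⟩ := QuotientGroup.mk'_surjective Z (e.symm u)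
      obtain ⟨a', ha'⟩ := QuotientGroup.mk'_surjective Z (e.symm a)
      obtain ⟨b', hb'⟩ := QuotientGroup.mk'_surjective Z (e.symm b)
      have := c.cent_comm_quot (g := u') (a := a') (b := b')
        (fun hz => hu1 (e.symm.map_eq_one_iff.1 (hu'.symm.trans ((QuotientGroup.eq_one_iff _).2 hz))))
        ((QuotientGroup.eq_one_iff _).1 (show π (u' * u') = 1 by rw [map_mul, hu', ← map_mul, huu, map_one]))
        (by rw [ha', hu', ← map_mul, hau.eq, map_mul]) (by rw [hb', hu', ← map_mul, hbu.eq, map_mul])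
      apply hne
      apply e.symm.injective
      rw [map_mul, map_mul, ← ha', ← hb', ← map_mul, this, map_mul]
    have hcard : Nat.card (G ⧸ Z) = (P + 1) * (Nat.card c.T * P) := by
      refine Nat.eq_of_mul_eq_mul_right (Nat.card_pos : 0 < Nat.card Z) ?_
      rw [← Subgroup.card_eq_card_quotient_mul_card_subgroup, Subgroup.card_eq_card_quotient_mul_card_subgroup c.N,
        c.card_N, hpts, ← hP]
      ring
    have hc2 := Nat.card_congr e.toEquiv
    have hps := SL2.card_psl (F := K)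
    have h1 : 1 < Fintype.card K := Fintype.one_lt_card
    rw [Nat.gcd_eq_left (show 2 ∣ Fintype.card K - 1 by omega)] at hps
    have hT := c.three_le_T
    obtain ⟨j, hj⟩ := hPeven
    have hP4 : 4 ≤ P := by omega
    have hge : 5 * (3 * 4) ≤ (P + 1) * (Nat.card c.T * P) :=
      Nat.mul_le_mul (by omega) (Nat.mul_le_mul hT hP4)
    rcases (show Fintype.card K = 3 ∨ Fintype.card K = 5 by omega) with hq | hq <;> rw [hq] at hps
    · exfalso
      omega
    · have h60 : Nat.card (G ⧸ Z) = 60 := by rw [hc2]; omega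
      have hPle : P ≤ 4 := by
        by_contra h
        have := Nat.mul_le_mul (show 6 ≤ P + 1 by omega) (Nat.mul_le_mul hT (show 5 ≤ P by omega))
        omega
      have hsq : ∀ a ∈ c.A, a * a ∈ Z := by
        intro a ha
        haveI := Fintype.ofFinite F
        rw [← QuotientGroup.eq_one_iff]
        show π (a * a) = 1
        have e01 : π c.t₀ * π c.t₁ = π c.t₁ * π c.t₀ := by rw [← map_mul, c.comm _ c.ht₀A _ c.ht₁A, map_mul]
        have q0 : π c.t₀ * π c.t₀ = 1 := by rw [← map_mul, mul_self_of_orderOf_two c.ht₀, map_one]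
        have q1 : π c.t₁ * π c.t₁ = 1 := by rw [← map_mul, mul_self_of_orderOf_two c.ht₁, map_one]
        have hn3 : π c.t₀ * π c.t₁ ≠ 1 := fun h => hne01 (mul_left_cancel (q0.trans h.symm))
        by_contra hne
        have hd : ∀ w : G ⧸ Z, w * w = 1 → π a ≠ w := fun w hw h => hne (by rw [map_mul, h, hw])
        have d1 : π c.t₀ * π c.t₁ ≠ π c.t₀ := fun h => hne1 (mul_left_cancel (h.trans (mul_one _).symm))
        have d2 : π c.t₀ * π c.t₁ ≠ π c.t₁ := fun h => hne0 (mul_right_cancel (h.trans (one_mul _).symm))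
        have d3 : π a ≠ π c.t₀ * π c.t₁ := hd _ (by
          rw [mul_assoc, ← mul_assoc (π c.t₁), ← e01, mul_assoc (π c.t₀) (π c.t₁), q1, mul_one, q0])
        let v : Fin 5 → F := ![⟨1, one_mem _⟩, ⟨π c.t₀, c.t₀, c.ht₀A, rfl⟩, ⟨π c.t₁, c.t₁, c.ht₁A, rfl⟩,
            ⟨π c.t₀ * π c.t₁, c.t₀ * c.t₁, mul_mem c.ht₀A c.ht₁A, map_mul _ _ _⟩, ⟨π a, a, ha, rfl⟩]
        have hv : Function.Injective v := by
          intro i j hij
          have hij' : (v i : G ⧸ Z) = v j := congrArg Subtype.val hij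
          fin_cases i <;> fin_cases j <;> first
            | rfl
            | (exfalso; simp only [v] at hij'; first
                | exact hne0 hij' | exact hne0 hij'.symm | exact hne1 hij' | exact hne1 hij'.symm
                | exact hne01 hij' | exact hne01 hij'.symm | exact hn3 hij' | exact hn3 hij'.symm
                | exact d1 hij' | exact d1 hij'.symm | exact d2 hij' | exact d2 hij'.symm
                | exact d3 hij' | exact d3 hij'.symm | exact hd _ (one_mul 1) hij' | exact hd _ (one_mul 1) hij'.symm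
                | exact hd _ q0 hij' | exact hd _ q0 hij'.symm | exact hd _ q1 hij' | exact hd _ q1 hij'.symm)
        have hle := Fintype.card_le_of_injective v hv
        rw [Fintype.card_fin, ← Nat.card_eq_fintype_card, hcF] at hle
        omega
      let F' := GaloisField 2 2
      haveI := Fintype.ofFinite F'
      have hF' : Fintype.card F' = 2 ^ 2 := by
        rw [← Nat.card_eq_fintype_card]; exact GaloisField.card 2 2 (by norm_num)
      haveI : IsSimpleGroup (Matrix.ProjectiveSpecialLinearGroup (Fin 2) F') :=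
        Matrix.ProjectiveSpecialLinearGroup.rank_two_simple (by rw [Nat.card_eq_fintype_card, hF']; norm_num)
      haveI : IsSimpleGroup (Matrix.ProjectiveSpecialLinearGroup (Fin 2) K) :=
        Matrix.ProjectiveSpecialLinearGroup.rank_two_simple (by rw [Nat.card_eq_fintype_card, hq]; norm_num)
      have h60K : Nat.card (Matrix.ProjectiveSpecialLinearGroup (Fin 2) K) = 60 := by rw [← hc2, h60]
      have h60' : Nat.card (Matrix.ProjectiveSpecialLinearGroup (Fin 2) F') = 60 := by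
        have := SL2.card_psl (F := F')
        rw [hF', show Nat.gcd 2 (2 ^ 2 - 1) = 1 from rfl, one_mul] at this
        omega
      obtain ⟨e1⟩ := SmallSimple.mulEquiv_alternating_five h60K
      obtain ⟨e2⟩ := SmallSimple.mulEquiv_alternating_five h60'
      exact ⟨hsq, F', inferInstance, inferInstance, 2, le_rfl, hF', ⟨e.trans (e1.trans e2.symm)⟩⟩

/-- No subgroup of odd order is transitive on the involutions. -/
theorem no_odd_transitive (hc : c.Good) (H : Subgroup G) (hodd : Odd (Nat.card H))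
    (htr : ∀ s s' : G, orderOf s = 2 → orderOf s' = 2 → ∃ h ∈ H, h * s * h⁻¹ = s') : False := by
  classical
  obtain ⟨hsq, ⟨P, hPe, hpts⟩, -⟩ := classify hc
  obtain ⟨-, -, hex⟩ := count_fix hc
  -- odd elements of `A` are central
  have hAH : ∀ g ∈ H, g ∈ c.A → g ∈ Z := fun g hg hgA => by
    obtain ⟨k, hk⟩ := hodd.of_dvd_nat (Subgroup.orderOf_dvd_natCard H hg)
    have : (g * g) ^ (k + 1) = g := by
      rw [← pow_two, ← pow_mul, show 2 * (k + 1) = orderOf g + 1 by omega, pow_succ, pow_orderOf_eq_one, one_mul]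
    exact this ▸ pow_mem (hsq g hgA) _
  have horb : ∀ x : G ⧸ c.N, ∃ h ∈ H, h • c.base = x := fun x => by
    obtain ⟨g, rfl⟩ := QuotientGroup.mk_surjective x
    obtain ⟨h, hh, e⟩ := htr c.t₀ _ c.ht₀ (conj_two c.ht₀ g)
    have hm : g⁻¹ * h ∈ c.N := c.mem_of_conj c.ht₀ (c.A_le c.ht₀A) (by
      rw [show g⁻¹ * h * c.t₀ * (g⁻¹ * h)⁻¹ = g⁻¹ * (h * c.t₀ * h⁻¹) * g by group, e,
        show g⁻¹ * (g * c.t₀ * g⁻¹) * g = c.t₀ by group]
      exact c.A_le c.ht₀A)
    refine ⟨h, hh, ?_⟩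
    rw [base, MulAction.Quotient.smul_coe, smul_eq_mul, mul_one, QuotientGroup.eq]
    have := c.N.inv_mem hm
    rwa [mul_inv_rev, inv_inv] at this
  -- an element of `H` fixing the base point outside the centre
  obtain ⟨g, hgH, hgN, hgA⟩ : ∃ g ∈ H, g ∈ c.N ∧ g ∉ c.A := by
    obtain ⟨h, hh, e⟩ := htr c.t₀ c.t₁ c.ht₀ c.ht₁
    refine ⟨h, hh, c.mem_of_conj c.ht₀ (c.A_le c.ht₀A) (e ▸ c.A_le c.ht₁A), fun hA => c.hne ?_⟩
    rw [← e, c.comm h hA _ c.ht₀A, mul_inv_cancel_right]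
  obtain ⟨y₁, hy₁, hgy⟩ := hex g hgN hgA
  -- `H ⊓ N` fixes `y₁`
  have hfixy : ∀ h ∈ H, h ∈ c.N → h • y₁ = y₁ := by
    intro h hh hN
    by_cases hA : h ∈ c.A
    · exact c.smul_center (hAH h hh hA) _
    obtain ⟨w, hw, hwh⟩ := hex h hN hA
    by_contra hne
    -- the commutator of `g` and `h` is central
    have hcom : π h * π g = π g * π h := by
      obtain ⟨a, ha, γ, hγ, rfl⟩ := decomp hy₁ hgN
      obtain ⟨b, hb, δ, hδ, rfl⟩ := decomp hy₁ hN
      have hcA : (b * δ)⁻¹ * (a * γ)⁻¹ * (b * δ) * (a * γ) ∈ c.A := by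
        have h1 := comm_D hc hy₁ hδ hγ
        have hzz : δ⁻¹ * γ⁻¹ * δ * γ ∈ Z := (QuotientGroup.eq_one_iff _).1 (by
          show π (δ⁻¹ * γ⁻¹ * δ * γ) = 1
          rw [map_mul, map_mul, map_mul, map_inv, map_inv, mul_assoc _ (π δ), h1]
          group)
        have hn : ∀ n ∈ c.N, ∀ x ∈ c.A, n⁻¹ * x * n ∈ c.A := fun n hn x hx => by
          simpa using (Subgroup.mem_normalizer_iff.1 (inv_mem hn) x).1 hx
        rw [show (b * δ)⁻¹ * (a * γ)⁻¹ * (b * δ) * (a * γ) = (δ⁻¹ * b⁻¹ * δ) *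
          ((γ * δ)⁻¹ * a⁻¹ * (γ * δ)) * ((γ * δ)⁻¹ * b * (γ * δ)) * (δ⁻¹ * γ⁻¹ * δ * γ) * (γ⁻¹ * a * γ) by group]
        exact mul_mem (mul_mem (mul_mem (mul_mem (hn δ hδ.1 _ (inv_mem hb))
          (hn _ (mul_mem hγ.1 hδ.1) _ (inv_mem ha))) (hn _ (mul_mem hγ.1 hδ.1) _ hb)) (c.center_le hzz))
          (hn γ hγ.1 _ ha)
      have hz := hAH _ (mul_mem (mul_mem (mul_mem (inv_mem hh) (inv_mem hgH)) hh) hgH) hcA
      have h1 : π ((b * δ)⁻¹ * (a * γ)⁻¹ * (b * δ) * (a * γ)) = 1 := (QuotientGroup.eq_one_iff _).2 hz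
      simp only [map_mul, map_inv] at h1
      rw [map_mul π b δ, map_mul π a γ]
      calc π b * π δ * (π a * π γ) = (π a * π γ) * (π b * π δ) *
            ((π b * π δ)⁻¹ * (π a * π γ)⁻¹ * (π b * π δ) * (π a * π γ)) := by group
        _ = _ := by rw [h1, mul_one]
    -- so `g` fixes three points
    have hz : (g * h)⁻¹ * (h * g) ∈ Z := QuotientGroup.eq.1 (show π (g * h) = π (h * g) by rw [map_mul, map_mul, hcom])
    have e : g • h • y₁ = h • y₁ := by
      rw [show h • y₁ = (h * g) • y₁ by rw [mul_smul, hgy],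
        show g • (h * g) • y₁ = (g * (h * g)) • y₁ by rw [← mul_smul]]
      have hhg : h * g = g * h * ((g * h)⁻¹ * (h * g)) := (mul_inv_cancel_left _ _).symm
      conv_rhs => rw [hhg, mul_smul, c.smul_center hz, mul_smul]
      rw [mul_smul, mul_smul, hgy]
    exact hgA (c.center_le (fix_three hc hy₁ (smul_ne_base hN hy₁) (Ne.symm hne) ((c.smul_base_iff g).2 hgN) hgy e))
  -- the stabilisers of `base` and `y₁` in `H` agree
  obtain ⟨h₁, hh₁, e₁⟩ := horb y₁
  have hstab : ∀ h ∈ H, (h • c.base = c.base ↔ h • y₁ = y₁) := by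
    haveI := Fintype.ofFinite H
    let f : {h : H // (h : G) • c.base = c.base} → {h : H // (h : G) • y₁ = y₁} := fun h =>
      ⟨h.1, hfixy _ h.1.2 ((c.smul_base_iff _).1 h.2)⟩
    have hf : Function.Injective f := fun a b e => Subtype.ext (congrArg (fun x => x.1) e)
    have hb := (Nat.bijective_iff_injective_and_card f).2 ⟨hf, by
      refine Nat.card_congr ((MulAut.conj (⟨h₁, hh₁⟩ : H)).toEquiv.subtypeEquiv fun a => ?_)
      show (a : G) • c.base = c.base ↔ (h₁ * (a : G) * h₁⁻¹) • y₁ = y₁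
      rw [mul_smul, mul_smul, show h₁⁻¹ • y₁ = c.base from inv_smul_eq_iff.2 e₁.symm]
      exact ⟨fun h => by rw [h, e₁], fun h => MulAction.injective h₁ (h.trans e₁.symm)⟩⟩
    intro h hh
    refine ⟨fun e => hfixy h hh ((c.smul_base_iff h).1 e), fun e => ?_⟩
    obtain ⟨a, ha⟩ := hb.2 ⟨⟨h, hh⟩, e⟩
    have : (a.1 : G) = h := congrArg (fun x => (x.1 : G)) ha
    exact this ▸ a.2
  choose r hr hre using horb
  let σ : G ⧸ c.N → G ⧸ c.N := fun x => r x • y₁
  have hσ : ∀ h ∈ H, σ (h • c.base) = h • y₁ := fun h hh => by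
    have := (hstab (h⁻¹ * r (h • c.base)) (mul_mem (inv_mem hh) (hr _))).1 (by
      rw [mul_smul, hre, inv_smul_smul])
    rwa [mul_smul, inv_smul_eq_iff] at this
  -- `σ` is a fixed-point-free involution
  have hσσ : Function.Involutive σ := fun x => by
    have e0 : σ y₁ = c.base := by
      rw [← e₁, hσ h₁ hh₁]
      by_contra hne
      have hne' : h₁ • y₁ ≠ y₁ := fun h => hy₁ (MulAction.injective h₁ (h.trans e₁.symm))
      refine hgA (c.center_le (fix_three hc hy₁ hne (Ne.symm hne') ((c.smul_base_iff g).2 hgN) hgy ?_))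
      have h2 := hfixy _ (mul_mem (mul_mem (inv_mem hh₁) hgH) hh₁) ((c.smul_base_iff _).1 (by
        rw [mul_smul, mul_smul, e₁, hgy, inv_smul_eq_iff, e₁]))
      rwa [mul_smul, mul_smul, inv_smul_eq_iff] at h2
    show σ (r x • y₁) = x
    rw [← e₁, ← mul_smul, hσ _ (mul_mem (hr x) hh₁), mul_smul, ← hσ h₁ hh₁, e₁, e0, hre]
  haveI := Fintype.ofFinite (G ⧸ c.N)
  haveI : Fact (Nat.Prime 2) := ⟨Nat.prime_two⟩
  obtain ⟨x, hx⟩ := Equiv.Perm.exists_fixed_point_of_prime (p := 2) (n := 1)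
    (σ := hσσ.toPerm) (by
      rw [← Nat.card_eq_fintype_card, hpts]
      obtain ⟨j, rfl⟩ := hPe
      omega)
    (Equiv.ext fun x => by rw [pow_one, pow_two]; exact hσσ x)
  have hx' : r x • y₁ = x := hx
  exact hy₁ (MulAction.injective (r x) (hx'.trans (hre x).symm))

end Cfg

end Cfsg.Agent.AbCent
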