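import Cfsg.Agent.Lib.Invol.IndexTwo

/-!
# Abelian Sylow 2-subgroups and subgroups of index two
-/

namespace Cfsg.Agent.Invol

variable {G : Type*} [Group G] [Finite G]

open scoped IsMulCommutative in
/-- In a group without subgroup of index two, the normalizer of an abelian Sylow 2-subgroup fixes
no nontrivial element of it. -/
theorem eq_one_of_fixed_by_normalizer (hno : ∀ H : Subgroup G, H.index ≠ 2) (S : Sylow 2 G)
    [IsMulCommutative (S : Subgroup G)] {s : G} (hs : s ∈ S)
    (hfix : ∀ n ∈ Subgroup.normalizer ((S : Subgroup G) : Set G), n * s * n⁻¹ = s) : s = 1 := by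
  haveI : Fact (Nat.Prime 2) := ⟨Nat.prime_two⟩
  let τ : G →* (S : Subgroup G) := MonoidHom.transfer (MonoidHom.id (S : Subgroup G))
  have key : ∀ (k : ℕ) (g₀ : G), g₀⁻¹ * s ^ k * g₀ ∈ (S : Subgroup G) →
      g₀⁻¹ * s ^ k * g₀ = s ^ k := by
    intro k g₀ h
    obtain ⟨n, hn, hc⟩ := S.conj_eq_normalizer_conj_of_mem (s ^ k) g₀ (Subgroup.pow_mem _ hs k) h
    have h1 := hfix _ (inv_mem hn)
    rw [inv_inv] at h1
    rw [hc]
    conv_rhs => rw [← h1]
    simpa using (conj_pow (a := n⁻¹) (b := s) (i := k)).symm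
  have hτ : τ s = ⟨s ^ (S : Subgroup G).index, MonoidHom.transfer_eq_pow_aux s key⟩ :=
    MonoidHom.transfer_eq_pow _ s key
  have htriv : τ s = 1 := by
    by_contra hne
    have hnt : Nontrivial τ.range :=
      ⟨⟨⟨τ s, s, rfl⟩, 1, fun h => hne (congrArg Subtype.val h)⟩⟩
    obtain ⟨H, hH⟩ := exists_index_two_of_surjective (S.2.to_subgroup τ.range) hnt
      τ.rangeRestrict τ.rangeRestrict_surjective
    exact hno H hH
  rw [hτ] at htriv
  have hpow : s ^ (S : Subgroup G).index = 1 := congrArg Subtype.val htriv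
  have h2 : orderOf s ∣ Nat.card (S : Subgroup G) := Subgroup.orderOf_dvd_natCard _ hs
  exact orderOf_eq_one_iff.1
    (Nat.eq_one_of_dvd_coprimes S.card_coprime_index h2 (orderOf_dvd_of_pow_eq_one hpow))

end Cfsg.Agent.Invol
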