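import Cfsg.Agent.Lib.Invol.ZStarCons
import Cfsg.Agent.Lib.ConjFunctor.Family
import Cfsg.Agent.Lib.Invol.ThreePoint

/-!
# Automorphisms centralising a Sylow 2-subgroup of a core-free group

For `R` centric in `S` the `2`-part map `c ↦ c ^ M` of `C_G(R)` turns `τ ↦ g * τ g⁻¹`, `g` in
`N_G(R)`, into a homomorphism with abelian image. An involution killed by all these homomorphisms
gives an isolated involution of `G ⋊ ⟨t⟩`, so by the Z* theorem the commutator subgroup of the
group of automorphisms fixing `S` has odd order.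
-/

set_option linter.unusedSectionVars false
set_option linter.style.haveILetI false

namespace Cfsg.Agent.Invol

open Cfsg

universe u

variable {G : Type u} [Group G] [Finite G]

/-- A subgroup of `S` containing every 2-element centralising it. -/
def IsCentricIn (S R : Subgroup G) : Prop :=
  R ≤ S ∧ ∀ c ∈ Subgroup.centralizer (R : Set G), (∃ k : ℕ, orderOf c = 2 ^ k) → c ∈ R

/-- The index of `Z(R)` in `C_G(R)`. -/
noncomputable def cIdx (R : Subgroup G) : ℕ :=
  (R.subgroupOf (Subgroup.centralizer (R : Set G))).index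

theorem centric_subgroupOf_normal (R : Subgroup G) :
    (R.subgroupOf (Subgroup.centralizer (R : Set G))).Normal :=
  ⟨fun z hz c => by
    rw [Subgroup.mem_subgroupOf] at hz ⊢
    show (c : G) * z * (c : G)⁻¹ ∈ R
    rwa [← Subgroup.mem_centralizer_iff.1 c.2 z hz, mul_inv_cancel_right]⟩

theorem pow_cIdx_mem {R : Subgroup G} {c : G} (hc : c ∈ Subgroup.centralizer (R : Set G)) :
    c ^ cIdx R ∈ R := by
  haveI := centric_subgroupOf_normal R
  exact Subgroup.pow_index_mem (R.subgroupOf (Subgroup.centralizer (R : Set G))) ⟨c, hc⟩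

theorem odd_cIdx {S R : Subgroup G} (hR : IsCentricIn S R) : Odd (cIdx R) := by
  haveI : Fact (Nat.Prime 2) := ⟨Nat.prime_two⟩
  obtain ⟨P⟩ : Nonempty (Sylow 2 (Subgroup.centralizer (R : Set G))) := inferInstance
  have hle : (P : Subgroup _) ≤ R.subgroupOf (Subgroup.centralizer (R : Set G)) := by
    intro c hc
    obtain ⟨k, hk⟩ := (IsPGroup.iff_orderOf.1 P.2) ⟨c, hc⟩
    rw [Subgroup.orderOf_mk, ← Subgroup.orderOf_coe] at hk
    exact Subgroup.mem_subgroupOf.2 (hR.2 _ c.2 ⟨k, hk⟩)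
  exact Nat.not_even_iff_odd.1 fun h =>
    P.not_dvd_index (h.two_dvd.trans (Subgroup.index_dvd_of_le hle))

/-- `c ↦ c ^ M` is multiplicative on `C_G(R)`. -/
theorem pow_cIdx_mul {S R : Subgroup G} (hR : IsCentricIn S R) (hS : IsPGroup 2 S) {a b : G}
    (ha : a ∈ Subgroup.centralizer (R : Set G)) (hb : b ∈ Subgroup.centralizer (R : Set G)) :
    (a * b) ^ cIdx R = a ^ cIdx R * b ^ cIdx R := by
  set C := Subgroup.centralizer (R : Set G) with hC
  set Z := R.subgroupOf C with hZ
  have hcen : Z ≤ Subgroup.center C := fun z hz => Subgroup.mem_center_iff.2 fun c =>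
    Subtype.ext (Subgroup.mem_centralizer_iff.1 c.2 z hz).symm
  have hdvd : (Subgroup.center C).index ∣ Z.index := Subgroup.index_dvd_of_le hcen
  obtain ⟨j, hj⟩ := hdvd
  have h := congrArg (fun c : Subgroup.center C => ((c : C) : G) ^ j)
    (map_mul (MonoidHom.transferCenterPow C) ⟨a, ha⟩ ⟨b, hb⟩)
  simp only [MonoidHom.transferCenterPow_apply, Subgroup.coe_mul, SubmonoidClass.coe_pow] at h
  have hcomm : Commute (a ^ (Subgroup.center C).index) (b ^ (Subgroup.center C).index) := by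
    have h1 : (⟨a, ha⟩ : C) ^ (Subgroup.center C).index ∈ Subgroup.center C :=
      Subgroup.pow_index_mem _ _
    have := congrArg Subtype.val
      (Subgroup.mem_center_iff.1 h1 ((⟨b, hb⟩ : C) ^ (Subgroup.center C).index))
    simp only [Subgroup.coe_mul, SubmonoidClass.coe_pow] at this
    exact this.symm
  rw [hcomm.mul_pow, ← pow_mul, ← pow_mul, ← pow_mul, ← hj] at h
  exact h

section control

variable (S : Sylow 2 G) (t : MulAut G)

/-- An element of odd order inverted by `t` is removed by a power of itself. -/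
theorem exists_fixed_translate {x : G} (hy : Odd (orderOf (x * (t x)⁻¹))) (ht : ∀ v, t (t v) = v) :
    ∃ j : ℕ, t ((x * (t x)⁻¹) ^ j * x) = (x * (t x)⁻¹) ^ j * x := by
  set y := x * (t x)⁻¹ with hy'
  obtain ⟨j, hj⟩ := hy
  refine ⟨j, ?_⟩
  have hinv : t y = y⁻¹ := by rw [hy', map_mul, map_inv, ht]; group
  have hx : t x = y⁻¹ * x := by rw [hy']; group
  rw [map_mul, map_pow, hinv, hx, ← mul_assoc]
  congr 1
  rw [inv_pow, ← mul_inv_rev, ← pow_succ', inv_eq_iff_mul_eq_one, ← pow_add,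
    show j + 1 + j = 2 * j + 1 by ring, ← hj, pow_orderOf_eq_one]

/-- The condition: all local homomorphisms kill `t`. -/
def LocallyTrivial : Prop :=
  ∀ R : Subgroup G, IsCentricIn (S : Subgroup G) R →
    ∀ g ∈ Subgroup.normalizer (R : Set G), (g * (t g)⁻¹) ^ cIdx R = 1

variable {S t}

theorem mul_inv_mem_centralizer (hfix : ∀ s ∈ (S : Subgroup G), t s = s) {R : Subgroup G}
    (hRS : R ≤ S) {g : G} (hg : g ∈ Subgroup.normalizer (R : Set G)) :
    g * (t g)⁻¹ ∈ Subgroup.centralizer (R : Set G) := by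
  intro r hr
  have hr' : g⁻¹ * r * g ∈ R := (Subgroup.mem_normalizer_iff''.1 hg r).1 hr
  have h : (t g)⁻¹ * r * t g = g⁻¹ * r * g := by
    conv_rhs => rw [← hfix _ (hRS hr')]
    rw [map_mul, map_mul, map_inv, hfix r (hRS hr)]
  calc r * (g * (t g)⁻¹) = g * (g⁻¹ * r * g) * (t g)⁻¹ := by group
    _ = g * (t g)⁻¹ * r := by rw [← h]; group

/-- Inside a fully normalised subgroup a conjugation can be realised by a fixed element. -/
theorem exists_fixed_in_normalizer (ht : ∀ v, t (t v) = v)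
    (hfix : ∀ s ∈ (S : Subgroup G), t s = s) (hloc : LocallyTrivial S t) {U : Subgroup G}
    (hU : ConjFunctor.IsFN 2 (S : Subgroup G) U) {x : G}
    (hx : x ∈ Subgroup.normalizer (U : Set G)) :
    ∃ x' : G, t x' = x' ∧ ∀ u ∈ U, x' * u * x'⁻¹ = x * u * x⁻¹ := by
  haveI : Fact (Nat.Prime 2) := ⟨Nat.prime_two⟩
  set C := Subgroup.centralizer (U : Set G) with hC
  set D := (S : Subgroup G) ⊓ C with hD
  set R := U ⊔ D with hR
  have hCN : C ≤ Subgroup.normalizer (U : Set G) := Subgroup.centralizer_le_normalizer _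
  have hmax : ∀ W : Subgroup G, IsPGroup 2 W → W ≤ C → Nat.card W ≤ Nat.card D := by
    intro W hW hWC
    obtain ⟨n, hn, hle⟩ :=
      ConjFunctor.exists_conj_le_of_isSylIn (hU.sylIn S.2) (hWC.trans hCN) hW
    rw [← ConjFunctor.cj_card n W]
    refine Subgroup.card_le_of_le (le_inf (hle.trans inf_le_left) ?_)
    rintro _ ⟨w, hw, rfl⟩
    intro v hv
    have hv' : n⁻¹ * v * n ∈ U := (Subgroup.mem_normalizer_iff''.1 hn v).1 hv
    have h := (show Commute (n⁻¹ * v * n) w from hWC hw _ hv').map (MulAut.conj n).toMonoidHom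
    simpa [mul_assoc] using h.eq
  have hRC : IsCentricIn (S : Subgroup G) R := by
    refine ⟨sup_le hU.1 inf_le_left, fun c hc hk => ?_⟩
    obtain ⟨k, hk⟩ := hk
    have hcC : c ∈ C := fun v hv => hc v (Subgroup.mem_sup_left hv)
    have hcN : Subgroup.zpowers c ≤ Subgroup.normalizer (D : Set G) := by
      rw [Subgroup.zpowers_le, Subgroup.mem_normalizer_iff]
      intro v
      constructor
      · intro hv
        rwa [← hc v (Subgroup.mem_sup_right hv), mul_inv_cancel_right]
      · intro hv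
        have h := hc _ (Subgroup.mem_sup_right hv)
        have : c * v * c⁻¹ = v := by
          calc c * v * c⁻¹ = c⁻¹ * (c * v * c⁻¹ * c) := by rw [h]; group
            _ = v := by group
        rwa [← this]
    have hW : IsPGroup 2 ↥(Subgroup.zpowers c ⊔ D) :=
      (IsPGroup.of_card (n := k) (G := Subgroup.zpowers c)
        (by rw [Nat.card_zpowers, hk])).to_sup_of_normal_right' S.2.to_inf_left hcN
    have := Subgroup.eq_of_le_of_card_ge (le_sup_right : D ≤ Subgroup.zpowers c ⊔ D)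
      (hmax _ hW (sup_le (Subgroup.zpowers_le.2 hcC) inf_le_right))
    refine Subgroup.mem_sup_right ?_
    rw [this]
    exact Subgroup.mem_sup_left (Subgroup.mem_zpowers c)
  have hsyl : ConjFunctor.IsSylIn 2 D C := by
    refine ⟨inf_le_right, S.2.to_inf_left, ?_⟩
    have hDp : IsPGroup 2 (D.subgroupOf C) := S.2.to_inf_left.comap_subtype
    obtain ⟨Q, hQ⟩ := hDp.exists_le_sylow
    have hQD : D.subgroupOf C = (Q : Subgroup C) := by
      refine Subgroup.eq_of_le_of_card_ge hQ ?_
      rw [Nat.card_congr (Subgroup.subgroupOfEquivOfLe (inf_le_right : D ≤ C)).toEquiv,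
        ← Subgroup.card_map_of_injective (f := C.subtype) C.subtype_injective]
      exact hmax _ (Q.2.map _) (Subgroup.map_subtype_le _)
    rw [Subgroup.relIndex, hQD]
    exact Q.not_dvd_index
  have hxD : ConjFunctor.cj x D ≤ C := by
    rintro _ ⟨w, hw, rfl⟩
    intro v hv
    have hv' : x⁻¹ * v * x ∈ U := (Subgroup.mem_normalizer_iff''.1 hx v).1 hv
    have h := (show Commute (x⁻¹ * v * x) w from hw.2 _ hv').map (MulAut.conj x).toMonoidHom
    simpa [mul_assoc] using h.eq
  obtain ⟨c, hc, hcD⟩ := ConjFunctor.exists_conj_le_of_isSylIn hsyl hxD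
    (ConjFunctor.cj_isPGroup x S.2.to_inf_left)
  rw [← ConjFunctor.cj_mul] at hcD
  set g := c * x with hg
  have hgN : g ∈ Subgroup.normalizer (R : Set G) := by
    rw [← ConjFunctor.cj_eq_iff, hR, ConjFunctor.cj, Subgroup.map_sup]
    congr 1
    · exact ConjFunctor.cj_eq_iff.2 (mul_mem (hCN hc) hx)
    · exact Subgroup.eq_of_le_of_card_ge hcD (le_of_eq (ConjFunctor.cj_card g D).symm)
  set y := g * (t g)⁻¹ with hy
  have hyC : y ∈ Subgroup.centralizer (R : Set G) := mul_inv_mem_centralizer hfix hRC.1 hgN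
  obtain ⟨j, hj⟩ := exists_fixed_translate t
    ((odd_cIdx hRC).of_dvd_nat (orderOf_dvd_of_pow_eq_one (hloc R hRC g hgN))) ht
  refine ⟨y ^ j * g, hj, fun v hv => ?_⟩
  have hcomm : ∀ a ∈ C, ∀ b ∈ U, a * b * a⁻¹ = b := fun a ha b hb => by
    rw [← ha b hb, mul_inv_cancel_right]
  have hv' : x * v * x⁻¹ ∈ U := (Subgroup.mem_normalizer_iff.1 hx v).1 hv
  rw [hg, show y ^ j * (c * x) * v * (y ^ j * (c * x))⁻¹ =
    y ^ j * (c * (x * v * x⁻¹) * c⁻¹) * (y ^ j)⁻¹ by group, hcomm c hc _ hv']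
  exact hcomm _ (C.pow_mem (fun w hw => hyC w (Subgroup.mem_sup_left hw)) j) _ hv'

/-- A locally trivial automorphism has a centraliser controlling fusion in `S`. -/
theorem exists_fixed_realising (ht : ∀ v, t (t v) = v) (hfix : ∀ s ∈ (S : Subgroup G), t s = s)
    (hloc : LocallyTrivial S t) {A : Set G} {g : G} (hA : A ⊆ (S : Subgroup G))
    (hg : ∀ a ∈ A, g * a * g⁻¹ ∈ (S : Subgroup G)) :
    ∃ g' : G, t g' = g' ∧ ∀ a ∈ A, g' * a * g'⁻¹ = g * a * g⁻¹ := by
  haveI : Fact (Nat.Prime 2) := ⟨Nat.prime_two⟩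
  have hsteps := ConjFunctor.alperin_fn S A g hA (by rintro _ ⟨a, ha, rfl⟩; exact hg a ha)
  clear hA hg
  induction hsteps with
  | one => exact ⟨1, map_one t, fun a _ => rfl⟩
  | @step c x T _ hT hc hx ih =>
    obtain ⟨c', hc', hcc⟩ := ih
    obtain ⟨x', hx', hxx⟩ := exists_fixed_in_normalizer ht hfix hloc hT hx
    refine ⟨x' * c', by rw [map_mul, hx', hc'], fun a ha => ?_⟩
    rw [show x' * c' * a * (x' * c')⁻¹ = x' * (c' * a * c'⁻¹) * x'⁻¹ by group, hcc a ha,
      hxx _ (hc ⟨a, ha, rfl⟩)]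
    group

theorem exists_conj_le_of_fixed (S : Sylow 2 G) (F : Subgroup G)
    (hSF : ∀ v ∈ (S : Subgroup G), v ∈ F) {W : Subgroup G} (hW : IsPGroup 2 W) (hWF : W ≤ F) :
    ∃ k ∈ F, ∀ w ∈ W, k * w * k⁻¹ ∈ (S : Subgroup G) := by
  haveI : Fact (Nat.Prime 2) := ⟨Nat.prime_two⟩
  exact exists_conj_le_sylow S F hSF hW hWF

/-- A locally trivial involution fuses nothing to itself in `G ⋊ ⟨t⟩`. -/
theorem eq_one_of_twist_mem (ht : ∀ v, t (t v) = v) (hfix : ∀ s ∈ (S : Subgroup G), t s = s)
    (hloc : LocallyTrivial S t) {g : G} (hg : g * (t g)⁻¹ ∈ (S : Subgroup G)) :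
    g * (t g)⁻¹ = 1 := by
  haveI : Fact (Nat.Prime 2) := ⟨Nat.prime_two⟩
  classical
  haveI := Fintype.ofFinite G
  by_contra hne
  let cent : G → Subgroup G := fun s => (S : Subgroup G) ⊓ Subgroup.centralizer ({s} : Set G)
  let Fused : Finset G := Finset.univ.filter
    (fun s => s ∈ (S : Subgroup G) ∧ s ≠ 1 ∧ ∃ g, g * (t g)⁻¹ = s)
  obtain ⟨s, hs, hmax⟩ := Finset.exists_max_image Fused (fun s => Nat.card (cent s))
    ⟨_, Finset.mem_filter.2 ⟨Finset.mem_univ _, hg, hne, g, rfl⟩⟩
  obtain ⟨-, hsS, hs1, g0, hg0⟩ := Finset.mem_filter.1 hs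
  have hinv : ∀ v w : G, v * (t v)⁻¹ = w → w ∈ (S : Subgroup G) → w⁻¹ = w := by
    intro v w hvw hw
    have h := hfix w hw
    conv_lhs at h => rw [← hvw, map_mul, map_inv, ht]
    rw [← hvw, mul_inv_rev, inv_inv, h, hvw]
  have hRle : cent s ≤ (S : Subgroup G) := inf_le_left
  -- move `C_S(s)` into the centraliser of `t`
  let Fx : Subgroup G :=
    { carrier := {v | t v = v}
      one_mem' := map_one t
      mul_mem' := fun {a b} (ha : t a = a) (hb : t b = b) => show t (a * b) = a * b by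
        rw [map_mul, ha, hb]
      inv_mem' := fun {a} (ha : t a = a) => show t a⁻¹ = a⁻¹ by rw [map_inv, ha] }
  have htg0 : t g0 = s⁻¹ * g0 := by rw [← hg0]; group
  have hRF : (cent s).map (MulAut.conj g0⁻¹).toMonoidHom ≤ Fx := by
    rintro _ ⟨r, hr, rfl⟩
    show t (g0⁻¹ * r * g0⁻¹⁻¹) = g0⁻¹ * r * g0⁻¹⁻¹
    rw [map_mul, map_mul, map_inv, map_inv, map_inv, inv_inv, inv_inv, hfix r hr.1, htg0]
    calc (s⁻¹ * g0)⁻¹ * r * (s⁻¹ * g0) = g0⁻¹ * (s * r) * s⁻¹ * g0 := by group
      _ = g0⁻¹ * r * g0 := by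
        rw [← Subgroup.mem_centralizer_singleton_iff.1 hr.2]; group
  obtain ⟨k, hk, hkS⟩ := exists_conj_le_of_fixed S Fx (fun v hv => hfix v hv)
    ((S.2.to_le hRle).map _) hRF
  set h := k * g0⁻¹ with hh
  have hhR : ∀ r ∈ cent s, h * r * h⁻¹ ∈ (S : Subgroup G) := by
    intro r hr
    rw [hh, show k * g0⁻¹ * r * (k * g0⁻¹)⁻¹ = k * (g0⁻¹ * r * g0⁻¹⁻¹) * k⁻¹ by group]
    exact hkS _ ⟨r, hr, rfl⟩
  have hsR : s ∈ cent s := ⟨hsS, Subgroup.mem_centralizer_singleton_iff.2 rfl⟩
  set s' := h * s * h⁻¹ with hs'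
  have hs'S : s' ∈ (S : Subgroup G) := hhR s hsR
  have hts : h * (t h)⁻¹ = s'⁻¹ := by
    rw [hs', hh, map_mul, map_inv, show t k = k from hk, htg0]; group
  obtain ⟨g', hg', hgg⟩ := exists_fixed_realising ht hfix hloc (A := (cent s : Set G)) hRle hhR
  set c := h * g'⁻¹ with hc
  have hcs : c * (t c)⁻¹ = s'⁻¹ := by rw [← hts, hc, map_mul, map_inv, hg']; group
  have hcC : ∀ r ∈ cent s, Commute c (h * r * h⁻¹) := by
    intro r hr
    have e : c * (h * r * h⁻¹) * c⁻¹ = h * r * h⁻¹ := by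
      conv_lhs => rw [← hgg r hr]
      rw [hc]; group
    exact mul_inv_eq_iff_eq_mul.1 e
  -- replace `h (C_S(s)) h⁻¹` by a fully normalised conjugate
  set R' := (cent s).map (MulAut.conj h).toMonoidHom with hR'
  have hR'S : R' ≤ (S : Subgroup G) := by rintro _ ⟨r, hr, rfl⟩; exact hhR r hr
  obtain ⟨a, ha⟩ := ConjFunctor.exists_isFN S hR'S
  obtain ⟨a', ha', haa⟩ := exists_fixed_realising ht hfix hloc (A := (R' : Set G)) (g := a) hR'S
    (fun r hr => ha.1 (ConjFunctor.conj_mem_cj hr))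
  set c2 := a' * c * a'⁻¹ with hc2
  set s2 := a' * s' * a'⁻¹ with hs2
  have hs'R' : s' ∈ R' := ⟨s, hsR, rfl⟩
  have hs2S : s2 ∈ (S : Subgroup G) := by
    rw [hs2, haa s' hs'R']; exact ha.1 (ConjFunctor.conj_mem_cj hs'R')
  have hc2s : c2 * (t c2)⁻¹ = s2⁻¹ := by
    rw [hc2, map_mul, map_mul, map_inv, ha', hs2,
      show a' * c * a'⁻¹ * (a' * t c * a'⁻¹)⁻¹ = a' * (c * (t c)⁻¹) * a'⁻¹ by group, hcs]
    group
  have hs2i : s2⁻¹ = s2 := by
    have := hinv c2 _ hc2s (inv_mem hs2S)
    rwa [inv_inv, eq_comm] at this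
  have hs21 : s2 ≠ 1 := by
    intro h1
    refine hs1 ?_
    rw [hs2, hs'] at h1
    rwa [conj_eq_one_iff, conj_eq_one_iff] at h1
  set R2 := ConjFunctor.cj a R' with hR2
  have hR2le : R2 ≤ cent s2 := by
    refine le_inf ha.1 ?_
    rintro _ ⟨r, hr, rfl⟩
    show a * r * a⁻¹ ∈ Subgroup.centralizer ({s2} : Set G)
    rw [Subgroup.mem_centralizer_singleton_iff, ← haa r hr, hs2]
    obtain ⟨r0, hr0, rfl⟩ := hr
    have hrs : Commute (h * r0 * h⁻¹) (h * s * h⁻¹) :=
      (show Commute r0 s from Subgroup.mem_centralizer_singleton_iff.1 hr0.2).map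
        (MulAut.conj h).toMonoidHom
    exact (hrs.map (MulAut.conj a').toMonoidHom).eq
  have hR2eq : R2 = cent s2 := by
    refine Subgroup.eq_of_le_of_card_ge hR2le ?_
    rw [hR2, ConjFunctor.cj_card, hR',
      Subgroup.card_map_of_injective (MulAut.conj h).injective]
    exact hmax s2 (Finset.mem_filter.2 ⟨Finset.mem_univ _, hs2S, hs21, c2, hc2s.trans hs2i⟩)
  have hs2R2 : s2 ∈ R2 := by rw [hs2, haa s' hs'R']; exact ConjFunctor.conj_mem_cj hs'R'
  have hRC : IsCentricIn (S : Subgroup G) R2 := by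
    refine ⟨ha.1, fun v hv hk => ?_⟩
    obtain ⟨e, he⟩ := hk
    -- `C_S(R2)` is a Sylow subgroup of `C_G(R2)` contained in `R2`
    set D := (S : Subgroup G) ⊓ Subgroup.centralizer (R2 : Set G) with hD
    have hDR : D ≤ R2 := by
      rw [hR2eq]
      intro d hd
      refine ⟨hd.1, Subgroup.mem_centralizer_singleton_iff.2 ?_⟩
      exact (hd.2 s2 hs2R2).symm
    have hvN : Subgroup.zpowers v ≤ Subgroup.normalizer (D : Set G) := by
      rw [Subgroup.zpowers_le, Subgroup.mem_normalizer_iff]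
      intro d
      constructor
      · intro hd
        rwa [← hv d (hDR hd), mul_inv_cancel_right]
      · intro hd
        have h := hv _ (hDR hd)
        have : v * d * v⁻¹ = d := by
          calc v * d * v⁻¹ = v⁻¹ * (v * d * v⁻¹ * v) := by rw [h]; group
            _ = d := by group
        rwa [← this]
    have hW : IsPGroup 2 ↥(Subgroup.zpowers v ⊔ D) :=
      (IsPGroup.of_card (n := e) (G := Subgroup.zpowers v)
        (by rw [Nat.card_zpowers, he])).to_sup_of_normal_right' S.2.to_inf_left hvN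
    have hWC : Subgroup.zpowers v ⊔ D ≤ Subgroup.centralizer (R2 : Set G) :=
      sup_le (Subgroup.zpowers_le.2 hv) inf_le_right
    obtain ⟨n, hn, hle⟩ := ConjFunctor.exists_conj_le_of_isSylIn (ha.sylIn S.2)
      (hWC.trans (Subgroup.centralizer_le_normalizer _)) hW
    have hcard : Nat.card ↥(Subgroup.zpowers v ⊔ D) ≤ Nat.card D := by
      rw [← ConjFunctor.cj_card n]
      refine Subgroup.card_le_of_le (le_inf (hle.trans inf_le_left) ?_)
      rintro _ ⟨w, hw, rfl⟩
      intro r hr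
      have hr' : n⁻¹ * r * n ∈ R2 := (Subgroup.mem_normalizer_iff''.1 hn r).1 hr
      have h := (show Commute (n⁻¹ * r * n) w from hWC hw _ hr').map (MulAut.conj n).toMonoidHom
      simpa [mul_assoc] using h.eq
    refine hDR ?_
    rw [Subgroup.eq_of_le_of_card_ge (le_sup_right : D ≤ Subgroup.zpowers v ⊔ D) hcard]
    exact Subgroup.mem_sup_left (Subgroup.mem_zpowers v)
  have hc2C : c2 ∈ Subgroup.centralizer (R2 : Set G) := by
    rintro _ ⟨r, hr, rfl⟩
    show a * r * a⁻¹ * c2 = c2 * (a * r * a⁻¹)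
    rw [← haa r hr, hc2]
    obtain ⟨r0, hr0, rfl⟩ := hr
    exact ((hcC r0 hr0).map (MulAut.conj a').toMonoidHom).eq.symm
  have hs2C : s2 ∈ Subgroup.centralizer (R2 : Set G) := fun r hr =>
    Subgroup.mem_centralizer_singleton_iff.1 (hR2le hr).2
  have htc2 : t c2 = s2 * c2 := by
    calc t c2 = (c2 * (t c2)⁻¹)⁻¹ * c2 := by group
      _ = s2 * c2 := by rw [hc2s, inv_inv]
  -- apply `c ↦ c ^ M`
  have hpow : s2 ^ cIdx R2 = 1 := by
    have h1 : t (c2 ^ cIdx R2) = c2 ^ cIdx R2 := hfix _ (ha.1 (pow_cIdx_mem hc2C))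
    rw [map_pow, htc2, pow_cIdx_mul hRC S.2 hs2C hc2C, mul_eq_right] at h1
    exact h1
  have hord : orderOf s2 ∣ 2 := orderOf_dvd_of_pow_eq_one (by
    rw [sq]; nth_rw 1 [← hs2i]; exact inv_mul_cancel s2)
  have h1 : orderOf s2 = 1 :=
    Nat.eq_one_of_dvd_coprimes (Nat.coprime_two_left.2 (odd_cIdx hRC)) hord
      (orderOf_dvd_of_pow_eq_one hpow)
  exact hs21 (orderOf_eq_one_iff.1 h1)
/-- An involutory automorphism fixing `S`, killed by all local homomorphisms, is trivial. -/
theorem eq_one_of_locallyTrivial (hZ : ZStarHyp.{u}) (hO : oddCore G = ⊥)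
    (ht : ∀ v, t (t v) = v) (hfix : ∀ s ∈ (S : Subgroup G), t s = s)
    (hloc : LocallyTrivial S t) : t = 1 := by
  haveI : Fact (Nat.Prime 2) := ⟨Nat.prime_two⟩
  by_contra h1
  have htt : t * t = 1 := MulEquiv.ext ht
  have hord : orderOf t = 2 := orderOf_two_of_mul_self htt h1
  let T : Subgroup (MulAut G) := Subgroup.zpowers t
  let X := G ⋊[T.subtype] T
  haveI : Finite X := Finite.of_equiv _ SemidirectProduct.equivProd.symm
  have hT : ∀ τ : T, (τ : MulAut G) = 1 ∨ (τ : MulAut G) = t := by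
    intro τ
    obtain ⟨i, hi⟩ := Subgroup.mem_zpowers_iff.1 τ.2
    rw [← hi]
    rcases Int.even_or_odd i with ⟨j, rfl⟩ | ⟨j, rfl⟩
    · left; rw [← two_mul, zpow_mul, zpow_two, htt, one_zpow]
    · right; rw [zpow_add_one, zpow_mul, zpow_two, htt, one_zpow, one_mul]
  have hTfix : ∀ τ : T, ∀ s ∈ (S : Subgroup G), (τ : MulAut G) s = s := by
    intro τ s hs
    rcases hT τ with h | h <;> rw [h]
    · rfl
    · exact hfix s hs
  let P₀ : Subgroup X :=
    { carrier := {x | x.left ∈ (S : Subgroup G)}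
      one_mem' := (S : Subgroup G).one_mem
      mul_mem' := fun {a b} (ha : a.left ∈ (S : Subgroup G)) (hb : b.left ∈ (S : Subgroup G)) => by
        show (a * b).left ∈ (S : Subgroup G)
        rw [SemidirectProduct.mul_left]
        have : T.subtype a.right b.left = b.left := hTfix a.right _ hb
        rw [this]
        exact mul_mem ha hb
      inv_mem' := fun {a} (ha : a.left ∈ (S : Subgroup G)) => by
        show a⁻¹.left ∈ (S : Subgroup G)
        rw [SemidirectProduct.inv_left]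
        have : T.subtype a.right⁻¹ a.left⁻¹ = a.left⁻¹ := hTfix a.right⁻¹ _ (inv_mem ha)
        rw [this]
        exact inv_mem ha }
  let e : P₀ ≃ ↥(S : Subgroup G) × T :=
    { toFun := fun x => (⟨x.1.left, x.2⟩, x.1.right)
      invFun := fun p => ⟨⟨p.1, p.2⟩, p.1.2⟩
      left_inv := fun _ => rfl
      right_inv := fun _ => rfl }
  obtain ⟨n, hn⟩ := S.2.exists_card_eq
  have hTc : Nat.card T = 2 := by rw [Nat.card_zpowers, hord]
  have hP₀ : IsPGroup 2 P₀ := IsPGroup.of_card (n := n + 1) (by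
    rw [Nat.card_congr e, Nat.card_prod, hn, hTc, pow_succ])
  have hidx : P₀.index = (S : Subgroup G).index := by
    have h := P₀.card_mul_index
    rw [Nat.card_congr e, Nat.card_prod, hTc, SemidirectProduct.card, hTc,
      ← (S : Subgroup G).card_mul_index] at h
    have hpos : 0 < Nat.card (S : Subgroup G) * 2 := Nat.mul_pos Nat.card_pos two_pos
    exact Nat.eq_of_mul_eq_mul_left hpos (h.trans (by ring))
  let P : Sylow 2 X := hP₀.toSylow (by rw [hidx]; exact S.not_dvd_index)
  let z : X := SemidirectProduct.inr ⟨t, Subgroup.mem_zpowers t⟩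
  have hzord : orderOf z = 2 := by
    rw [orderOf_injective _ SemidirectProduct.inr_injective, ← Subgroup.orderOf_coe, hord]
  have hzP : z ∈ P := (S : Subgroup G).one_mem
  have hiso : IsIsolatedInvolution z := by
    refine isolated_of_sylow P hzord hzP fun x hx => ?_
    have hx' : (x * z * x⁻¹).left ∈ (S : Subgroup G) := hx
    have hl : (x * z * x⁻¹).left = x.left * (t x.left)⁻¹ := by
      have hcomm : x.right * ⟨t, Subgroup.mem_zpowers t⟩ * x.right⁻¹ =
          (⟨t, Subgroup.mem_zpowers t⟩ : T) := by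
        rcases hT x.right with h | h
        · rw [show x.right = 1 from Subtype.ext h, one_mul, inv_one, mul_one]
        · rw [show x.right = ⟨t, Subgroup.mem_zpowers t⟩ from Subtype.ext h, mul_inv_cancel_right]
      rw [SemidirectProduct.mul_left, SemidirectProduct.inv_left]
      show (x.left * T.subtype x.right 1) * T.subtype (x.right * ⟨t, _⟩) (T.subtype x.right⁻¹ x.left⁻¹) = _
      rw [map_one, mul_one, ← MulAut.mul_apply, ← map_mul, hcomm, map_inv]
      rfl
    refine SemidirectProduct.ext ?_ ?_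
    · rw [hl] at hx' ⊢
      exact eq_one_of_twist_mem ht hfix hloc hx'
    · show x.right * ⟨t, Subgroup.mem_zpowers t⟩ * x.right⁻¹ = ⟨t, Subgroup.mem_zpowers t⟩
      rcases hT x.right with h | h
      · rw [show x.right = 1 from Subtype.ext h, one_mul, inv_one, mul_one]
      · rw [show x.right = ⟨t, Subgroup.mem_zpowers t⟩ from Subtype.ext h, mul_inv_cancel_right]
  have hOX : oddCore X = ⊥ := by
    refine oddCore_eq_bot_of_forall fun N hN hodd => ?_
    haveI := hN
    have hker : ∀ x ∈ N, x.right = 1 := by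
      intro x hx
      have h2 : orderOf x.right ∣ 2 := hTc ▸ orderOf_dvd_natCard x.right
      have h3 : orderOf x.right ∣ Nat.card N :=
        (orderOf_map_dvd SemidirectProduct.rightHom x).trans
          (Subgroup.orderOf_dvd_natCard _ hx)
      exact orderOf_eq_one_iff.1
        (Nat.eq_one_of_dvd_coprimes (Nat.coprime_two_left.2 hodd) h2 h3)
    let ι : G →* X := SemidirectProduct.inl
    have hle : N.comap ι = ⊥ := by
      have hdvd : Nat.card (N.comap ι) ∣ Nat.card N :=
        Subgroup.card_comap_dvd_of_injective N ι SemidirectProduct.inl_injective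
      have h : N.comap ι ≤ oddCore G := le_oddCore inferInstance (hodd.of_dvd_nat hdvd)
      rwa [hO, le_bot_iff] at h
    rw [Subgroup.eq_bot_iff_forall]
    intro x hx
    have hx' : x = ι x.left := SemidirectProduct.ext rfl (hker x hx)
    have : x.left ∈ N.comap ι := by rw [Subgroup.mem_comap, ← hx']; exact hx
    rw [hle, Subgroup.mem_bot] at this
    rw [hx', this, map_one]
  have hc := isolated_central_of_core_free hZ hOX hiso
  refine h1 (MulEquiv.ext fun v => ?_)
  have h := congrArg SemidirectProduct.left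
    (Subgroup.mem_center_iff.1 hc (SemidirectProduct.inl v))
  have h3 : v * (T.subtype 1) 1 = 1 * t v := h
  simpa using h3.symm

end control

/-- The commutator subgroup of a group of automorphisms fixing a Sylow 2-subgroup of a core-free
group has odd order. -/
theorem odd_commutator_fixing (hZ : ZStarHyp.{u}) (hO : oddCore G = ⊥) (S : Sylow 2 G)
    (C : Subgroup (MulAut G)) (hC : ∀ φ ∈ C, ∀ s ∈ (S : Subgroup G), φ s = s) :
    Odd (Nat.card (commutator C)) := by
  haveI : Fact (Nat.Prime 2) := ⟨Nat.prime_two⟩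
  haveI : Finite (MulAut G) := Finite.of_injective _ MulEquiv.toEquiv_injective
  rw [← Nat.not_even_iff_odd]
  intro heven
  obtain ⟨t, ht⟩ := exists_prime_orderOf_dvd_card' (G := commutator C) 2 heven.two_dvd
  set t' : MulAut G := ((t : C) : MulAut G) with ht'
  have hord : orderOf t' = 2 := by rw [ht', Subgroup.orderOf_coe, Subgroup.orderOf_coe, ht]
  have htC : t' ∈ C := (t : C).2
  have htt : ∀ v, t' (t' v) = v := fun v => by
    rw [← MulAut.mul_apply, mul_self_of_orderOf_two hord]; rfl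
  refine ne_one_of_orderOf_two hord (eq_one_of_locallyTrivial hZ hO htt (hC t' htC) fun R hR g hg => ?_)
  have hmem : ∀ φ : C, g * ((φ : MulAut G) g)⁻¹ ∈ Subgroup.centralizer (R : Set G) := fun φ =>
    mul_inv_mem_centralizer (hC _ φ.2) hR.1 hg
  let W : Subgroup G := R ⊓ Subgroup.centralizer (R : Set G)
  haveI : IsMulCommutative W :=
    ⟨⟨fun a b => Subtype.ext (b.2.2 _ a.2.1)⟩⟩
  letI : CommGroup W := { (inferInstance : Group W) with mul_comm := fun a b => IsMulCommutative.is_comm.comm a b }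
  let f : C →* W := MonoidHom.mk' (fun φ => ⟨(g * ((φ : MulAut G) g)⁻¹) ^ cIdx R,
      pow_cIdx_mem (hmem φ), Subgroup.pow_mem _ (hmem φ) _⟩) (fun φ ψ => by
    refine Subtype.ext ?_
    show (g * (((φ * ψ : C) : MulAut G) g)⁻¹) ^ cIdx R =
      (g * ((φ : MulAut G) g)⁻¹) ^ cIdx R * (g * ((ψ : MulAut G) g)⁻¹) ^ cIdx R
    have hφc : (φ : MulAut G) (g * ((ψ : MulAut G) g)⁻¹) ∈ Subgroup.centralizer (R : Set G) := by
      intro r hr
      have h := congrArg (φ : MulAut G) (hmem ψ r hr)
      rwa [map_mul (φ : MulAut G) r, map_mul (φ : MulAut G) _ r, hC _ φ.2 r (hR.1 hr)] at h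
    have e : g * (((φ * ψ : C) : MulAut G) g)⁻¹ =
        g * ((φ : MulAut G) g)⁻¹ * (φ : MulAut G) (g * ((ψ : MulAut G) g)⁻¹) := by
      rw [Subgroup.coe_mul, MulAut.mul_apply, map_mul, map_inv]; group
    rw [e, pow_cIdx_mul hR S.2 (hmem φ) hφc, ← map_pow,
      hC _ φ.2 _ (hR.1 (pow_cIdx_mem (hmem ψ)))])
  have hker : (t : C) ∈ f.ker := Abelianization.commutator_subset_ker f t.2
  exact congrArg Subtype.val hker

/-- The group of automorphisms fixing a Sylow 2-subgroup of a core-free group has abelian Sylow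
2-subgroups and a normal 2-complement. -/
theorem fixing_complement (hZ : ZStarHyp.{u}) (hO : oddCore G = ⊥) (S : Sylow 2 G)
    (C : Subgroup (MulAut G)) (hC : ∀ φ ∈ C, ∀ s ∈ (S : Subgroup G), φ s = s) (T : Sylow 2 C) :
    (∀ a b : T, a * b = b * a) ∧
      ∃ N : Subgroup C, N.Normal ∧ Odd (Nat.card N) ∧
        Subgroup.IsComplement' N (T : Subgroup C) := by
  haveI : Fact (Nat.Prime 2) := ⟨Nat.prime_two⟩
  haveI : Finite (MulAut G) := Finite.of_injective _ MulEquiv.toEquiv_injective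
  have hodd := odd_commutator_fixing hZ hO S C hC
  refine ⟨fun a b => ?_, ?_⟩
  · refine Subtype.ext ?_
    have hmem : (a : C) * b * (a : C)⁻¹ * (b : C)⁻¹ ∈ commutator C :=
      Subgroup.commutator_mem_commutator (Subgroup.mem_top _) (Subgroup.mem_top _)
    obtain ⟨k, hk⟩ := (IsPGroup.iff_orderOf.1 T.2)
      (⟨_, mul_mem (mul_mem (mul_mem a.2 b.2) (inv_mem a.2)) (inv_mem b.2)⟩ : (T : Subgroup C))
    rw [Subgroup.orderOf_mk] at hk
    have h1 := Nat.eq_one_of_dvd_coprimes
      (Nat.Coprime.pow_left k (Nat.coprime_two_left.2 hodd)) hk.dvd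
      (Subgroup.orderOf_dvd_natCard _ hmem)
    have h := orderOf_eq_one_iff.1 h1
    rw [mul_inv_eq_one, mul_inv_eq_iff_eq_mul] at h
    exact h
  · set M := Nat.card C / 2 ^ (Nat.card C).factorization 2 with hM
    have hMdvd : 2 ^ (Nat.card C).factorization 2 * M = Nat.card C :=
      Nat.ordProj_mul_ordCompl_eq_self _ 2
    let f : C →* Abelianization C := (powMonoidHom M).comp Abelianization.of
    have hker : Odd (Nat.card f.ker) := by
      rw [← Nat.not_even_iff_odd]
      intro heven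
      obtain ⟨v, hv⟩ := exists_prime_orderOf_dvd_card' (G := f.ker) 2 heven.two_dvd
      have hv2 : orderOf (v : C) = 2 := by rw [Subgroup.orderOf_coe, hv]
      have h1 : Abelianization.of (v : C) ^ M = 1 := v.2
      have h2 : orderOf (Abelianization.of (v : C)) = 1 :=
        Nat.eq_one_of_dvd_coprimes (Nat.coprime_ordCompl Nat.prime_two Nat.card_pos.ne')
          (hv2 ▸ orderOf_map_dvd Abelianization.of (v : C)) (orderOf_dvd_of_pow_eq_one h1)
      have h3 : (v : C) ∈ commutator C := by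
        rw [← Abelianization.ker_of]; exact orderOf_eq_one_iff.1 h2
      have h4 := Nat.eq_one_of_dvd_coprimes (Nat.coprime_two_left.2 hodd) hv2.dvd
        (Subgroup.orderOf_dvd_natCard _ h3)
      omega
    refine ⟨f.ker, inferInstance, hker, ?_⟩
    have hq : IsPGroup 2 (C ⧸ f.ker) := by
      intro q
      obtain ⟨c, rfl⟩ := QuotientGroup.mk_surjective q
      refine ⟨(Nat.card C).factorization 2, ?_⟩
      rw [← QuotientGroup.mk_pow, QuotientGroup.eq_one_iff, MonoidHom.mem_ker, map_pow]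
      show (Abelianization.of c ^ M) ^ _ = 1
      rw [← pow_mul, mul_comm M, hMdvd, ← map_pow, pow_card_eq_one', map_one]
    obtain ⟨a, ha⟩ := hq.exists_card_eq
    rw [← Subgroup.index_eq_card] at ha
    have hprod := f.ker.card_mul_index
    rw [ha] at hprod
    obtain ⟨b, hb⟩ := T.2.exists_card_eq
    have hT := T.card_mul_index
    have hTa : Nat.card (T : Subgroup C) = 2 ^ a := by
      rw [Sylow.card_eq_multiplicity, ← hprod,
        Nat.factorization_mul Nat.card_pos.ne' (pow_ne_zero a two_ne_zero), Finsupp.add_apply,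
        Nat.factorization_eq_zero_of_not_dvd (fun h => by
          obtain ⟨r, hr⟩ := hker; omega),
        Nat.prime_two.factorization_pow, Finsupp.single_eq_same, zero_add]
    refine Subgroup.isComplement'_of_coprime (by rw [hTa]; exact hprod) ?_
    rw [hTa]
    exact Nat.Coprime.pow_right a (Nat.coprime_two_right.2 hker)

end Cfsg.Agent.Invol
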