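import Cfsg.Agent.Lib.Invol.QDFusionQ8

/-!
# The three axes of a quaternion group of order 8

`a, b` of order 4 with `b * b = a * a` and `b a b⁻¹ = a⁻¹`.
-/

set_option linter.unusedSectionVars false
set_option linter.style.haveILetI false

namespace Cfsg.Agent.Invol

variable {G : Type*} [Group G] [Finite G]

/-- Quaternion relations on a pair of elements. -/
structure Axes (a b : G) : Prop where
  orda : orderOf a = 4
  sqb : b * b = a * a
  rel : b * a * b⁻¹ = a⁻¹
  not_mem : b ∉ Subgroup.zpowers a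

namespace Axes

variable {a b : G} (A : Axes a b)

include A in
theorem sq_order : orderOf (a * a) = 2 := by
  rw [← sq, orderOf_pow, A.orda]; rfl

include A in
theorem ordb : orderOf b = 4 := by
  haveI : Fact (Nat.Prime 2) := ⟨Nat.prime_two⟩
  refine orderOf_eq_prime_pow (p := 2) (n := 1) ?_ ?_
  · rw [pow_one, sq, A.sqb]
    exact ne_one_of_orderOf_two A.sq_order
  · rw [show (2 : ℕ) ^ (1 + 1) = 2 * 2 from rfl, pow_mul, sq, sq, A.sqb,
      mul_self_of_orderOf_two A.sq_order]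

include A in
theorem ab_conj : a * b * a⁻¹ = b⁻¹ := by
  have hswap : a * b = b * a⁻¹ := by
    have h : a = (b * a * b⁻¹)⁻¹ := by rw [A.rel, inv_inv]
    calc a * b = (b * a * b⁻¹)⁻¹ * b := by rw [← h]
      _ = _ := by group
  have hz := inv_of_orderOf_two A.sq_order
  rw [hswap, mul_assoc, ← mul_inv_rev, hz]
  refine (inv_eq_of_mul_eq_one_right ?_).symm
  rw [← mul_assoc, A.sqb, mul_self_of_orderOf_two A.sq_order]

include A in
theorem ordab : orderOf (a * b) = 4 := by
  haveI : Fact (Nat.Prime 2) := ⟨Nat.prime_two⟩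
  have hsq : a * b * (a * b) = a * a := by
    calc a * b * (a * b) = a * (b * a * b⁻¹) * (b * b) := by group
      _ = a * a := by rw [A.rel, A.sqb, mul_inv_cancel, one_mul]
  refine orderOf_eq_prime_pow (p := 2) (n := 1) ?_ ?_
  · rw [pow_one, sq, hsq]
    exact ne_one_of_orderOf_two A.sq_order
  · rw [show (2 : ℕ) ^ (1 + 1) = 2 * 2 from rfl, pow_mul, sq, sq, hsq,
      mul_self_of_orderOf_two A.sq_order]

include A in
theorem ab_mem_not : a * b ∉ Subgroup.zpowers a := fun h =>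
  A.not_mem (by simpa using mul_mem (inv_mem (Subgroup.mem_zpowers a)) h)

include A in
theorem ab_rel : a * b * a * (a * b)⁻¹ = a⁻¹ := by
  rw [show a * b * a * (a * b)⁻¹ = a * (b * a * b⁻¹) * a⁻¹ by group, A.rel]; group

include A in
theorem distinct :
    Subgroup.zpowers a ≠ Subgroup.zpowers b ∧ Subgroup.zpowers a ≠ Subgroup.zpowers (a * b) ∧
      Subgroup.zpowers b ≠ Subgroup.zpowers (a * b) := by
  refine ⟨fun h => A.not_mem (h ▸ Subgroup.mem_zpowers b),
    fun h => A.ab_mem_not (h ▸ Subgroup.mem_zpowers (a * b)), fun h => ?_⟩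
  have hmem : a ∈ Subgroup.zpowers b := by
    have := mul_mem (h ▸ Subgroup.mem_zpowers (a * b)) (inv_mem (Subgroup.mem_zpowers b))
    rwa [mul_inv_cancel_right] at this
  rcases mem_zpowers_of_orderOf_four A.ordb A.orda hmem with h1 | h1
  · exact A.not_mem (h1 ▸ Subgroup.mem_zpowers a)
  · refine A.not_mem ?_
    rw [← inv_inv b, ← h1]
    exact inv_mem (Subgroup.mem_zpowers a)

include A in
/-- Elements of order 4 of `⟨a, b⟩` generate one of the three axes. -/
theorem axis_cases {Q : Subgroup G} (hQ : ∀ g ∈ Q, ∃ t : ℤ, g = a ^ t ∨ g = a ^ t * b) {q : G}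
    (hq : q ∈ Q) (hq4 : orderOf q = 4) :
    Subgroup.zpowers q = Subgroup.zpowers a ∨ Subgroup.zpowers q = Subgroup.zpowers b ∨
      Subgroup.zpowers q = Subgroup.zpowers (a * b) := by
  have key : ∀ r, orderOf r = 4 → q ∈ Subgroup.zpowers r →
      Subgroup.zpowers q = Subgroup.zpowers r := by
    intro r hr hqr
    rcases mem_zpowers_of_orderOf_four hr hq4 hqr with h | h
    · rw [h]
    · rw [h, Subgroup.zpowers_inv]
  obtain ⟨t, rfl | rfl⟩ := hQ q hq
  · exact Or.inl (key a A.orda (Subgroup.zpow_mem _ (Subgroup.mem_zpowers _) t))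
  · refine Or.inr ?_
    rcases Int.even_or_odd t with ⟨k, rfl⟩ | ⟨k, rfl⟩
    · refine Or.inl (key b A.ordb ?_)
      rw [← two_mul, zpow_mul, zpow_two, ← A.sqb]
      exact mul_mem (Subgroup.zpow_mem _ (mul_mem (Subgroup.mem_zpowers b) (Subgroup.mem_zpowers b)) k)
        (Subgroup.mem_zpowers b)
    · refine Or.inr (key (a * b) A.ordab ?_)
      have hsq : a * b * (a * b) = a * a := by
        calc a * b * (a * b) = a * (b * a * b⁻¹) * (b * b) := by group
          _ = a * a := by rw [A.rel, A.sqb, mul_inv_cancel, one_mul]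
      rw [zpow_add_one, zpow_mul, zpow_two, ← hsq, mul_assoc]
      exact mul_mem (Subgroup.zpow_mem _
        (mul_mem (Subgroup.mem_zpowers (a * b)) (Subgroup.mem_zpowers (a * b))) k)
        (Subgroup.mem_zpowers (a * b))

include A in
/-- Up to an element of `⟨a, b⟩`, an element inverting or fixing each generator centralises. -/
theorem mem_sup_centralizer {Q : Subgroup G} (ha : a ∈ Q) (hb : b ∈ Q)
    (hQ : ∀ g ∈ Q, ∃ t : ℤ, g = a ^ t ∨ g = a ^ t * b) {n : G}
    (h1 : n * a * n⁻¹ = a ∨ n * a * n⁻¹ = a⁻¹) (h2 : n * b * n⁻¹ = b ∨ n * b * n⁻¹ = b⁻¹) :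
    ∃ q ∈ Q, q * n ∈ Subgroup.centralizer (Q : Set G) := by
  have hfin : ∀ v : G, v * a * v⁻¹ = a → v * b * v⁻¹ = b →
      v ∈ Subgroup.centralizer (Q : Set G) := by
    intro v hv1 hv2
    rw [Subgroup.mem_centralizer_iff]
    intro q hqQ
    have c1 : Commute v a := mul_inv_eq_iff_eq_mul.1 hv1
    have c2 : Commute v b := mul_inv_eq_iff_eq_mul.1 hv2
    obtain ⟨t, rfl | rfl⟩ := hQ q hqQ
    · exact (c1.zpow_right t).eq.symm
    · exact ((c1.zpow_right t).mul_right c2).eq.symm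
  have hconj : ∀ r v : G, r * n * v * (r * n)⁻¹ = r * (n * v * n⁻¹) * r⁻¹ := fun r v => by group
  have hab : a * b⁻¹ * a⁻¹ = b := by rw [← conj_inv, A.ab_conj, inv_inv]
  have hba : b * a⁻¹ * b⁻¹ = a := by rw [← conj_inv, A.rel, inv_inv]
  rcases h1 with h1 | h1 <;> rcases h2 with h2 | h2
  · exact ⟨1, one_mem _, by rw [one_mul]; exact hfin n h1 h2⟩
  · exact ⟨a, ha, hfin _ (by rw [hconj, h1]; group) (by rw [hconj, h2, hab])⟩
  · exact ⟨b, hb, hfin _ (by rw [hconj, h1, hba]) (by rw [hconj, h2]; group)⟩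
  · refine ⟨b * a, mul_mem hb ha, hfin _ ?_ ?_⟩
    · rw [hconj, h1, show b * a * a⁻¹ * (b * a)⁻¹ = b * a⁻¹ * b⁻¹ by group, hba]
    · rw [hconj, h2, show b * a * b⁻¹ * (b * a)⁻¹ = b * (a * b⁻¹ * a⁻¹) * b⁻¹ by group, hab]
      group

end Axes

end Cfsg.Agent.Invol
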