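import Cfsg.Agent.Lib.Invol.Basic
import Mathlib.GroupTheory.Index
import Mathlib.Algebra.BigOperators.Group.Finset.Basic
import Mathlib.Tactic.Linarith

/-!
# The Brauer–Fowler counting argument
-/

namespace Cfsg.Agent.Invol.BrauerFowler

variable {G : Type*} [Group G]

/-- The elements conjugating `x` to itself or to its inverse. -/
def centStar (x : G) : Subgroup G where
  carrier := {g | g * x * g⁻¹ = x ∨ g * x * g⁻¹ = x⁻¹}
  one_mem' := Or.inl (by simp)
  mul_mem' := fun {a b} ha hb => by
    have e : a * b * x * (a * b)⁻¹ = a * (b * x * b⁻¹) * a⁻¹ := by group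
    have e' : a * x⁻¹ * a⁻¹ = (a * x * a⁻¹)⁻¹ := by group
    simp only [Set.mem_setOf_eq] at ha hb ⊢
    rcases hb with hb | hb <;> rw [e, hb]
    · exact ha
    · rw [e']
      rcases ha with ha | ha <;> rw [ha]
      · exact Or.inr rfl
      · exact Or.inl (inv_inv x)
  inv_mem' := fun {a} ha => by
    simp only [Set.mem_setOf_eq] at ha ⊢
    rcases ha with ha | ha
    · refine Or.inl ?_
      conv_lhs => rw [← ha]
      group
    · refine Or.inr ?_
      have h : x = (a * x * a⁻¹)⁻¹ := by rw [ha, inv_inv]
      conv_lhs => rw [h]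
      group

theorem mem_centralizer_iff_conj (x g : G) :
    g ∈ Subgroup.centralizer ({x} : Set G) ↔ g * x * g⁻¹ = x := by
  rw [Subgroup.mem_centralizer_singleton_iff, mul_inv_eq_iff_eq_mul]

variable [Finite G]

open scoped Classical in
/-- Bound on `|G|`-weighted fibres: if every proper subgroup avoids the bound, then the number of
involution pairs with product `x` is small. -/
theorem fibre_bound {n : ℕ} {x : G} (hx : x ≠ 1)
    (hZ : x * x = 1 → x ∉ Subgroup.center G)
    (hH : ∀ H : Subgroup G, H ≠ ⊤ →
      H.index ≠ 2 ∧ Nat.card G * (Nat.card G + n) ≤ 2 * H.index * n ^ 2) :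
    (Nat.card {s : G // orderOf s = 2 ∧ orderOf (s * x) = 2} + (if x * x = 1 then 2 else 0)) *
      (Nat.card G + n) ≤ (if x * x = 1 then 2 else 1) * n ^ 2 := by
  classical
  set C := Subgroup.centralizer ({x} : Set G)
  set F := {s : G // orderOf s = 2 ∧ orderOf (s * x) = 2}
  have hinv : ∀ s : F, (s : G) * x * (s : G)⁻¹ = x⁻¹ := by
    rintro ⟨s, hs, hsx⟩
    have h1 := mul_self_of_orderOf_two hs
    have h2 := mul_self_of_orderOf_two hsx
    have h3 := conj_mul_eq_inv h1 h2
    rwa [show s * (s * x) = x by rw [← mul_assoc, h1, one_mul]] at h3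
  have hkey : ∀ (H : Subgroup G) (c : ℕ), H ≠ ⊤ → c ≤ Nat.card H →
      c * (Nat.card G + n) ≤ 2 * n ^ 2 := by
    intro H c hne hc
    refine Nat.le_of_mul_le_mul_left ?_ (Nat.card_pos (α := G))
    calc Nat.card G * (c * (Nat.card G + n)) = c * (Nat.card G * (Nat.card G + n)) := by ring
      _ ≤ Nat.card H * (2 * H.index * n ^ 2) := Nat.mul_le_mul hc (hH H hne).2
      _ = (H.index * Nat.card H) * (2 * n ^ 2) := by ring
      _ = _ := by rw [H.index_mul_card]
  by_cases h2 : x * x = 1
  · rw [if_pos h2, if_pos h2]
    have hxi : x⁻¹ = x := inv_eq_of_mul_eq_one_right h2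
    refine hkey C _ (fun h => hZ h2 (Subgroup.mem_center_iff.mpr fun g => ?_)) ?_
    · exact Subgroup.mem_centralizer_singleton_iff.mp (h ▸ Subgroup.mem_top g : g ∈ C)
    · have h1 : (1 : G) ∈ C := C.one_mem
      have hxC : x ∈ C := Subgroup.mem_centralizer_singleton_iff.mpr rfl
      let f : F ⊕ Bool → C := fun z => match z with
        | Sum.inl s => ⟨s, (mem_centralizer_iff_conj x s).mpr ((hinv s).trans hxi)⟩
        | Sum.inr b => if b then ⟨1, h1⟩ else ⟨x, hxC⟩
      have hb : ∀ b : Bool, ((if b then (⟨1, h1⟩ : C) else ⟨x, hxC⟩ : C) : G) =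
          if b then 1 else x := fun b => by split <;> rfl
      refine le_of_eq_of_le ?_ (Nat.card_le_card_of_injective f ?_)
      · rw [Nat.card_sum, Nat.card_eq_fintype_card (α := Bool), Fintype.card_bool]
      · intro a b hab
        have h := congrArg Subtype.val hab
        rcases a with s | a <;> rcases b with t | b <;> simp only [f, hb] at h
        · exact congrArg Sum.inl (Subtype.ext h)
        · exfalso
          cases b
          · simp only [Bool.false_eq_true, if_false] at h
            have := s.2.2
            rw [h, h2, orderOf_one] at this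
            omega
          · simp only [if_true] at h
            have := s.2.1
            rw [h, orderOf_one] at this
            omega
        · exfalso
          cases a
          · simp only [Bool.false_eq_true, if_false] at h
            have := t.2.2
            rw [← h, h2, orderOf_one] at this
            omega
          · simp only [if_true] at h
            have := t.2.1
            rw [← h, orderOf_one] at this
            omega
        · cases a <;> cases b <;> simp_all
  · rw [if_neg h2, if_neg h2, add_zero, one_mul]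
    rcases isEmpty_or_nonempty F with hF | ⟨⟨s₀⟩⟩
    · simp
    have hne : x ≠ x⁻¹ := fun h => h2 (by nth_rewrite 2 [h]; exact mul_inv_cancel x)
    have hle : Nat.card F ≤ Nat.card C := by
      refine Nat.card_le_card_of_injective
        (fun s => ⟨(s₀ : G) * s, (mem_centralizer_iff_conj _ _).mpr ?_⟩) fun a b h =>
        Subtype.ext (mul_left_cancel (congrArg Subtype.val h))
      rw [show (s₀ : G) * s * x * ((s₀ : G) * s)⁻¹ = s₀ * ((s : G) * x * (s : G)⁻¹) * (s₀ : G)⁻¹ by group,
        hinv s, show (s₀ : G) * x⁻¹ * (s₀ : G)⁻¹ = ((s₀ : G) * x * (s₀ : G)⁻¹)⁻¹ by group, hinv s₀,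
        inv_inv]
    by_cases htop : centStar x = ⊤
    · exfalso
      refine (hH C fun h => ?_).1 ?_
      · have := (mem_centralizer_iff_conj x (s₀ : G)).mp (h ▸ Subgroup.mem_top _ : (s₀ : G) ∈ C)
        exact hne (this.symm.trans (hinv s₀))
      · refine Subgroup.index_eq_two_iff.mpr ⟨s₀, fun b => ?_⟩
        have hb : b ∈ centStar x := htop ▸ Subgroup.mem_top b
        rw [mem_centralizer_iff_conj, mem_centralizer_iff_conj,
          show b * (s₀ : G) * x * (b * (s₀ : G))⁻¹ = (b * x * b⁻¹)⁻¹ by
            rw [show b * (s₀ : G) * x * (b * (s₀ : G))⁻¹ = b * ((s₀ : G) * x * (s₀ : G)⁻¹) * b⁻¹ by group,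
              hinv s₀]
            group]
        rcases hb with hb | hb <;> rw [hb]
        · exact Or.inr ⟨rfl, fun h => hne h.symm⟩
        · exact Or.inl ⟨inv_inv x, fun h => hne h.symm⟩
    · have hdouble : 2 * Nat.card C ≤ Nat.card (centStar x) := by
        let f : C × Bool → centStar x := fun z => ⟨if z.2 then (z.1 : G) * s₀ else z.1, by
          have h1 := (mem_centralizer_iff_conj x (z.1 : G)).mp z.1.2
          split
          · refine (centStar x).mul_mem (Or.inl h1) (Or.inr (hinv s₀))
          · exact Or.inl h1⟩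
        refine le_of_eq_of_le ?_ (Nat.card_le_card_of_injective f ?_)
        · rw [Nat.card_prod, Nat.card_eq_fintype_card (α := Bool), Fintype.card_bool, mul_comm]
        · rintro ⟨a, i⟩ ⟨b, j⟩ h
          have h := congrArg Subtype.val h
          have hs : (s₀ : G) ∉ C := fun hs =>
            hne (((mem_centralizer_iff_conj x _).mp hs).symm.trans (hinv s₀))
          cases i <;> cases j <;> simp only [f, Bool.false_eq_true, if_false, if_true] at h
          · exact Prod.ext (Subtype.ext h) rfl
          · exfalso
            apply hs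
            rw [show (s₀ : G) = (b : G)⁻¹ * (a : G) by rw [h]; group]
            exact C.mul_mem (C.inv_mem b.2) a.2
          · exfalso
            apply hs
            rw [show (s₀ : G) = (a : G)⁻¹ * (b : G) by rw [← h]; group]
            exact C.mul_mem (C.inv_mem a.2) b.2
          · exact Prod.ext (Subtype.ext (mul_right_cancel h)) rfl
      have := hkey (centStar x) (2 * Nat.card F) htop ((Nat.mul_le_mul_left 2 hle).trans hdouble)
      linarith

/-- The Brauer–Fowler index bound with the number of involutions. -/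
theorem index_bound (heven : Even (Nat.card G)) (hZ : Odd (Nat.card (Subgroup.center G))) :
    ∃ H : Subgroup G, H ≠ ⊤ ∧ (H.index = 2 ∨
      2 * H.index * (Nat.card {t : G // orderOf t = 2}) ^ 2 <
        Nat.card G * (Nat.card G + Nat.card {t : G // orderOf t = 2})) := by
  classical
  haveI := Fintype.ofFinite G
  set n := Nat.card {t : G // orderOf t = 2} with hn
  by_contra hcon
  push Not at hcon
  set g := Nat.card G with hg
  haveI : Fact (Nat.Prime 2) := ⟨Nat.prime_two⟩
  obtain ⟨u, hu⟩ := exists_prime_orderOf_dvd_card' (G := G) 2 (even_iff_two_dvd.mp heven)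
  have hn0 : 0 < n := by
    haveI : Nonempty {t : G // orderOf t = 2} := ⟨⟨u, hu⟩⟩
    exact Nat.card_pos
  have hcen : ∀ x : G, x ≠ 1 → x * x = 1 → x ∉ Subgroup.center G := fun x hx hxx hxc => by
    have h := Subgroup.orderOf_dvd_natCard _ hxc
    rw [orderOf_two_of_mul_self hxx hx] at h
    exact absurd (even_iff_two_dvd.mpr h) (Nat.not_even_iff_odd.mpr hZ)
  let T := {t : G // orderOf t = 2}
  let β : G → ℕ := fun x => Nat.card {s : G // orderOf s = 2 ∧ orderOf (s * x) = 2}
  have hsum : ∑ x : G, β x = n * n := by
    rw [← Nat.card_sigma, ← Nat.card_prod]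
    exact Nat.card_congr
      { toFun := fun z => (⟨z.2.1, z.2.2.1⟩, ⟨z.2.1 * z.1, z.2.2.2⟩)
        invFun := fun p => ⟨(p.1 : G)⁻¹ * p.2, ⟨p.1, p.1.2, by
          rw [mul_inv_cancel_left]; exact p.2.2⟩⟩
        left_inv := fun z => by
          obtain ⟨x, s, hs⟩ := z
          refine Sigma.subtype_ext ?_ ?_
          · simp
          · rfl
        right_inv := fun p => by simp }
  have hone : β 1 = n := Nat.card_congr (Equiv.subtypeEquivRight fun s => by simp)
  let w : G → ℕ := fun x => if x = 1 then 0 else if x * x = 1 then 2 else 0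
  let v : G → ℕ := fun x => if x = 1 then 0 else if x * x = 1 then 2 else 1
  have hle : ∀ x : G, ((if x = 1 then 0 else β x) + w x) * (g + n) ≤ v x * n ^ 2 := by
    intro x
    by_cases hx : x = 1
    · simp [w, hx]
    · simp only [w, v, hx, if_false]
      exact fibre_bound hx (hcen x hx) hcon
  have hinv : (Finset.univ.filter fun x : G => x ≠ 1 ∧ x * x = 1).card = n := by
    rw [hn, Nat.card_eq_fintype_card, Fintype.card_subtype]
    refine congrArg Finset.card (Finset.filter_congr fun x _ => ⟨fun h => orderOf_two_of_mul_self h.2 h.1,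
      fun h => ⟨fun e => by rw [e, orderOf_one] at h; omega, mul_self_of_orderOf_two h⟩⟩)
  have hw : ∑ x : G, w x = 2 * n := by
    rw [← hinv, Finset.card_filter, Finset.mul_sum]
    refine Finset.sum_congr rfl fun x _ => ?_
    by_cases hx : x = 1 <;> by_cases h2 : x * x = 1 <;> simp [w, hx, h2]
  have hv : ∑ x : G, v x + 1 = g + n := by
    have e : ∀ x : G, v x + (if x = 1 then 1 else 0) = 1 + (if x ≠ 1 ∧ x * x = 1 then 1 else 0) := by
      intro x
      by_cases hx : x = 1 <;> by_cases h2 : x * x = 1 <;> simp [v, hx, h2]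
    have := Finset.sum_congr rfl (fun x (_ : x ∈ Finset.univ) => e x)
    rw [Finset.sum_add_distrib, Finset.sum_add_distrib, Finset.sum_ite_eq' Finset.univ (1 : G) (fun _ => 1),
      ← Finset.card_filter, hinv] at this
    simpa [hg, Nat.card_eq_fintype_card] using this
  have hb : ∑ x : G, (if x = 1 then 0 else β x) + n = n * n := by
    rw [← hsum, ← Finset.sum_erase_add _ _ (Finset.mem_univ (1 : G)), ← Finset.sum_erase_add
      (f := β) _ (Finset.mem_univ (1 : G)), if_pos rfl, hone]
    simp only [add_zero]
    congr 1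
    exact Finset.sum_congr rfl fun x hx => if_neg (Finset.ne_of_mem_erase hx)
  have := Finset.sum_le_sum (fun x (_ : x ∈ Finset.univ) => hle x)
  rw [← Finset.sum_mul, ← Finset.sum_mul, Finset.sum_add_distrib, hw] at this
  have h1 : (n * n + n) * (g + n) ≤ (g + n) * n ^ 2 := by
    calc _ = (∑ x : G, (if x = 1 then 0 else β x) + 2 * n) * (g + n) := by rw [← hb]; ring
      _ ≤ (∑ x : G, v x) * n ^ 2 := this
      _ ≤ _ := Nat.mul_le_mul_right _ (by omega)
  have h2 : 0 < n * (g + n) := Nat.mul_pos hn0 (by omega)
  nlinarith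

omit [Finite G] in
/-- The action of a simple group on a set of cosets of a proper subgroup embeds it. -/
theorem toPermHom_injective [IsSimpleGroup G] {H : Subgroup G} (hH : H ≠ ⊤) :
    Function.Injective (MulAction.toPermHom G (G ⧸ H)) := by
  rw [← MonoidHom.ker_eq_bot_iff, ← Subgroup.normalCore_eq_ker]
  exact (Subgroup.Normal.eq_bot_or_eq_top (H.normalCore_normal)).resolve_right fun h =>
    hH (top_le_iff.mp (h ▸ H.normalCore_le))

theorem card_dvd_factorial_index [IsSimpleGroup G] {H : Subgroup G} (hH : H ≠ ⊤) :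
    Nat.card G ∣ H.index.factorial := by
  have h := Subgroup.card_dvd_of_injective _ (toPermHom_injective hH)
  rwa [Nat.card_perm, ← Subgroup.index] at h

end Cfsg.Agent.Invol.BrauerFowler
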