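import Mathlib

set_option autoImplicit false

namespace Cfsg.Agent.CharPow

variable {F : Type*} [Field F] (p : ℕ) [Fact p.Prime] [CharP F p] {d : ℕ}

open Polynomial in
theorem one_add_pow (N : Matrix (Fin d) (Fin d) F) (k : ℕ) :
    (1 + N) ^ p ^ k = 1 + N ^ p ^ k := by
  have h : ((1 : F[X]) + X) ^ p ^ k = 1 + X ^ p ^ k := by rw [add_pow_char_pow, one_pow]
  simpa using congrArg (Polynomial.aeval N) h

theorem sub_one_pow (u : Matrix (Fin d) (Fin d) F) (k : ℕ) :
    (u - 1) ^ p ^ k = u ^ p ^ k - 1 := by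
  have h := one_add_pow p (u - 1) k
  rw [add_sub_cancel] at h
  rw [h, add_sub_cancel_left]

theorem nilpotent_pow_dim {N : Matrix (Fin d) (Fin d) F} (h : IsNilpotent N) : N ^ d = 0 := by
  have h1 := Matrix.aeval_self_charpoly N
  rw [sub_eq_zero.1 (isNilpotent_iff_eq_zero.1 (Matrix.isNilpotent_charpoly_sub_pow_of_isNilpotent h))] at h1
  simpa using h1

theorem pow_clog_eq_one (u : GL (Fin d) F) (hu : IsNilpotent ((u : Matrix (Fin d) (Fin d) F) - 1)) :
    u ^ p ^ Nat.clog p d = 1 := by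
  have hp : p.Prime := Fact.out
  apply Units.ext
  rw [Units.val_pow_eq_pow_val, Units.val_one, ← sub_eq_zero, ← sub_one_pow]
  exact pow_eq_zero_of_le (Nat.le_pow_clog hp.one_lt d) (nilpotent_pow_dim hu)

theorem orderOf_eq_of_ne (u : GL (Fin d) F) (hu : IsNilpotent ((u : Matrix (Fin d) (Fin d) F) - 1))
    (hne : ((u : Matrix (Fin d) (Fin d) F) - 1) ^ (d - 1) ≠ 0) :
    orderOf u = p ^ Nat.clog p d := by
  have hp : p.Prime := Fact.out
  obtain ⟨j, hj, hord⟩ := (Nat.dvd_prime_pow hp).1 (orderOf_dvd_of_pow_eq_one (pow_clog_eq_one p u hu))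
  rcases le_or_gt (Nat.clog p d) j with h | h
  · rw [hord, le_antisymm hj h]
  · exfalso
    have h0 : ((u : Matrix (Fin d) (Fin d) F) - 1) ^ p ^ j = 0 := by
      rw [sub_one_pow, sub_eq_zero, ← Units.val_pow_eq_pow_val, ← hord, pow_orderOf_eq_one, Units.val_one]
    refine hne (pow_eq_zero_of_le ?_ h0)
    have : p ^ j < d := by
      by_contra hc
      exact absurd ((Nat.clog_le_iff_le_pow hp.one_lt).2 (not_lt.1 hc)) (not_le.2 h)
    omega

theorem isNilpotent_of_orderOf {j : ℕ} (u : GL (Fin d) F) (h : orderOf u = p ^ j) :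
    IsNilpotent ((u : Matrix (Fin d) (Fin d) F) - 1) :=
  ⟨p ^ j, by rw [sub_one_pow, sub_eq_zero, ← Units.val_pow_eq_pow_val, ← h, pow_orderOf_eq_one, Units.val_one]⟩

end Cfsg.Agent.CharPow
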