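import Cfsg.Agent.Lib.Invol.DihFusion

/-!
# Statements about groups with dihedral Sylow 2-subgroups (order 4 allowed)
-/

set_option linter.unusedSectionVars false
set_option linter.style.haveILetI false

namespace Cfsg.Agent.Invol

open Cfsg

variable {G : Type*} [Group G] [Finite G] {S : Sylow 2 G}

theorem isKleinFour_of_equiv_dihedral {m : ℕ} (eS : (S : Subgroup G) ≃* DihedralGroup m)
    (h4 : Nat.card S = 4) : IsKleinFour (S : Subgroup G) := by
  have hm : m = 2 := by
    have h := Nat.card_congr eS.toEquiv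
    rw [h4, DihedralGroup.nat_card] at h
    omega
  subst hm
  exact ⟨h4, by rw [Monoid.exponent_eq_of_mulEquiv eS, IsKleinFour.exponent_two]⟩

theorem klein_relIndex_three (P : Sylow 2 G) [IsKleinFour (P : Subgroup G)]
    (h : ¬ Subgroup.normalizer ((P : Subgroup G) : Set G) ≤
      Subgroup.centralizer ((P : Subgroup G) : Set G)) :
    (Subgroup.centralizer ((P : Subgroup G) : Set G)).relIndex
      (Subgroup.normalizer ((P : Subgroup G) : Set G)) = 3 := by
  classical
  haveI : Fact (Nat.Prime 2) := ⟨Nat.prime_two⟩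
  obtain ⟨n, hn, hnc⟩ := SetLike.not_le_iff_exists.1 h
  set N := Subgroup.normalizer ((P : Subgroup G) : Set G) with hN
  set C := Subgroup.centralizer ((P : Subgroup G) : Set G) with hC
  letI : MulAction N G := MulAction.compHom G (MulAut.conj.comp N.subtype)
  haveI : Nontrivial (P : Subgroup G) := by
    rw [← Finite.one_lt_card_iff_nontrivial, IsKleinFour.card_four]; norm_num
  obtain ⟨a, ha⟩ := exists_ne (1 : (P : Subgroup G))
  have hfix : ∀ m : N, m • (a : G) = a ↔ (m : G) ∈ C := by
    intro m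
    refine ⟨fun h => klein_fixes_all P m.2 a.2 (fun h' => ha (Subtype.ext h')) h, fun h => ?_⟩
    show (m : G) * a * (m : G)⁻¹ = a
    rw [← Subgroup.mem_centralizer_iff.1 h a a.2, mul_inv_cancel_right]
  have hstab : MulAction.stabilizer N (a : G) = C.subgroupOf N := Subgroup.ext fun m => hfix m
  have horb : MulAction.orbit N (a : G) = ((P : Subgroup G) : Set G) \ {1} := by
    refine Set.eq_of_subset_of_ncard_le ?_ ?_ (Set.toFinite _)
    · rintro _ ⟨m, rfl⟩
      exact ⟨(Subgroup.mem_normalizer_iff.1 m.2 _).1 a.2,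
        fun h => ha (Subtype.ext (conj_eq_one_iff.1 h))⟩
    · rw [Set.ncard_diff_singleton_of_mem (one_mem _), ← Nat.card_coe_set_eq,
        show Nat.card ((P : Subgroup G) : Set G) = Nat.card (P : Subgroup G) from rfl,
        IsKleinFour.card_four]
      let n' : N := ⟨n, hn⟩
      have h1 : n' • (a : G) ≠ a := fun h => hnc ((hfix n').1 h)
      have h2 : n' • n' • (a : G) ≠ n' • (a : G) := fun h => h1 (smul_left_cancel n' h)
      have h3 : n' • n' • (a : G) ≠ a := by
        intro he
        have hm := (hfix (n' * n')).1 (by rw [mul_smul]; exact he)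
        obtain ⟨i, k, hk, hi⟩ :=
          Nat.exists_eq_pow_mul_and_not_dvd (orderOf_pos n').ne' 2 (by norm_num)
        -- an odd power of `n'` is a 2-element, so lies in `P` and centralises it
        have hpow : (n' ^ k : N).1 ∈ (P : Subgroup G) := by
          have hW : IsPGroup 2 ↥(Subgroup.zpowers ((n' ^ k : N) : G) ⊔ (P : Subgroup G)) := by
            obtain ⟨j, -, hj⟩ := (Nat.dvd_prime_pow Nat.prime_two).1 (orderOf_dvd_of_pow_eq_one
              (show (n' ^ k) ^ 2 ^ i = 1 by rw [← pow_mul, mul_comm, ← hi, pow_orderOf_eq_one]))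
            exact (IsPGroup.of_card (n := j) (G := Subgroup.zpowers ((n' ^ k : N) : G))
              (by rw [Nat.card_zpowers, Subgroup.orderOf_coe, hj])).to_sup_of_normal_right' P.2
              (Subgroup.zpowers_le.2 (n' ^ k : N).2)
          rw [← P.3 hW le_sup_right]
          exact Subgroup.mem_sup_left (Subgroup.mem_zpowers _)
        have hkC : (n' ^ k : N) • (a : G) = a := by
          refine (hfix _).2 fun v hv => ?_
          exact congrArg Subtype.val (mul_comm_of_exponent_two IsKleinFour.exponent_two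
            (⟨v, hv⟩ : (P : Subgroup G)) ⟨_, hpow⟩)
        obtain ⟨l, rfl⟩ : Odd k := Nat.not_even_iff_odd.1 fun h => hk h.two_dvd
        have hsq : ((n' * n') ^ l : N) • (a : G) = a :=
          (hfix _).2 (by rw [Subgroup.coe_pow]; exact C.pow_mem hm l)
        rw [pow_add, pow_one, pow_mul, sq, mul_smul] at hkC
        conv_rhs at hkC => rw [← hsq]
        exact h1 (smul_left_cancel _ hkC)
      have hsub : ({(a : G), n' • (a : G), n' • n' • (a : G)} : Set G) ⊆
          MulAction.orbit N (a : G) := by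
        rintro x (rfl | rfl | rfl)
        · exact MulAction.mem_orbit_self _
        · exact ⟨n', rfl⟩
        · exact ⟨n' * n', mul_smul _ _ _⟩
      refine le_trans ?_ (Set.ncard_le_ncard hsub (Set.toFinite _))
      rw [Set.ncard_insert_of_notMem (by simp [h1.symm, h3.symm]), Set.ncard_pair h2.symm]
  rw [Subgroup.relIndex, ← hstab, MulAction.index_stabilizer, horb,
    Set.ncard_diff_singleton_of_mem (one_mem _), ← Nat.card_coe_set_eq,
    show Nat.card ((P : Subgroup G) : Set G) = Nat.card (P : Subgroup G) from rfl,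
    IsKleinFour.card_four]

theorem klein_complement_of_central (P : Sylow 2 G) [IsKleinFour (P : Subgroup G)]
    (h : Subgroup.normalizer ((P : Subgroup G) : Set G) ≤
      Subgroup.centralizer ((P : Subgroup G) : Set G)) : HasNormalPComplement 2 G := by
  haveI : Fact (Nat.Prime 2) := ⟨Nat.prime_two⟩
  exact ⟨P, (MonoidHom.transferSylow P h).ker, inferInstance,
    MonoidHom.ker_transferSylow_isComplement' P h⟩

theorem klein_no_index_two (P : Sylow 2 G) [IsKleinFour (P : Subgroup G)]
    (h : ¬ Subgroup.normalizer ((P : Subgroup G) : Set G) ≤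
      Subgroup.centralizer ((P : Subgroup G) : Set G)) : ∀ H : Subgroup G, H.index ≠ 2 := by
  classical
  haveI : Fact (Nat.Prime 2) := ⟨Nat.prime_two⟩
  intro H hH
  haveI := Subgroup.normal_of_index_eq_two hH
  obtain ⟨n, hn, hnc⟩ := SetLike.not_le_iff_exists.1 h
  refine index_ne_two_of_sylow_le H P (fun v hv => ?_) hH
  by_cases hv1 : v = 1
  · rw [hv1]; exact one_mem _
  -- `v` is the product of two conjugates of one element
  by_contra hvH
  set w := n * v * n⁻¹ with hw
  have hwP : w ∈ (P : Subgroup G) := (Subgroup.mem_normalizer_iff.1 hn v).1 hv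
  have hwv : w ≠ v := fun he => hnc (klein_fixes_all P hn hv hv1 he)
  have hwH : w ∉ H := fun hh => hvH (by
    have := Subgroup.Normal.conj_mem inferInstance _ hh n⁻¹
    rwa [show n⁻¹ * w * n⁻¹⁻¹ = v by rw [hw]; group] at this)
  have hu : v * w ∈ H := (Subgroup.mul_mem_iff_of_index_two hH).2 (iff_of_false hvH hwH)
  have hu' := Subgroup.Normal.conj_mem inferInstance _ hu n
  rw [show n * (v * w) * n⁻¹ = w * (n * w * n⁻¹) by rw [hw]; group] at hu'
  have hnw : n * w * n⁻¹ ∈ (P : Subgroup G) := (Subgroup.mem_normalizer_iff.1 hn w).1 hwP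
  have hsq : ∀ x ∈ (P : Subgroup G), x * x = 1 := fun x hx =>
    congrArg Subtype.val (IsKleinFour.mul_self (⟨x, hx⟩ : (P : Subgroup G)))
  have hcases : n * w * n⁻¹ = v ∨ n * w * n⁻¹ = v * w := by
    haveI := Fintype.ofFinite (P : Subgroup G)
    have h := IsKleinFour.eq_finset_univ (x := (⟨v, hv⟩ : (P : Subgroup G))) (y := ⟨w, hwP⟩)
      (fun h => hv1 (congrArg Subtype.val h))
      (fun h => hv1 (conj_eq_one_iff.1 (congrArg Subtype.val h)))
      (fun h => hwv (congrArg Subtype.val h).symm)
    have hm := Finset.mem_univ (⟨_, hnw⟩ : (P : Subgroup G))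
    rw [← h] at hm
    simp only [Finset.mem_insert, Finset.mem_singleton, Subtype.ext_iff, Subgroup.coe_mul,
      Subgroup.coe_one] at hm
    have h1 : n * w * n⁻¹ ≠ 1 := fun he => hv1 (by
      rw [conj_eq_one_iff, hw, conj_eq_one_iff] at he; exact he)
    have h2 : n * w * n⁻¹ ≠ w := fun he => hwv (mul_left_cancel (mul_right_cancel he))
    tauto
  rcases hcases with he | he <;> rw [he] at hu'
  · -- `v` and `w` are swapped, so `n` fixes `v * w`
    refine hnc (klein_fixes_all P hn (mul_mem hv hwP) (fun h1 => hwv ?_) ?_)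
    · rw [← inv_eq_of_mul_eq_one_right h1, inv_eq_of_mul_eq_one_right (hsq v hv)]
    · rw [show n * (v * w) * n⁻¹ = (n * v * n⁻¹) * (n * w * n⁻¹) by group, he, ← hw]
      exact congrArg Subtype.val (mul_comm_of_exponent_two IsKleinFour.exponent_two
        (⟨w, hwP⟩ : (P : Subgroup G)) ⟨v, hv⟩)
  · exact hvH ((H.mul_mem_cancel_right hu).1 (by
      have e : w * (v * w) = v := by
        rw [← mul_assoc, show w * v = v * w from congrArg Subtype.val
          (mul_comm_of_exponent_two IsKleinFour.exponent_two (⟨w, hwP⟩ : (P : Subgroup G)) ⟨v, hv⟩),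
          mul_assoc, hsq w hwP, mul_one]
      rw [e] at hu'
      exact absurd hu' hvH))

theorem klein_all_conj (P : Sylow 2 G) [IsKleinFour (P : Subgroup G)]
    (h : ¬ Subgroup.normalizer ((P : Subgroup G) : Set G) ≤
      Subgroup.centralizer ((P : Subgroup G) : Set G)) {a b : G} (ha : orderOf a = 2)
    (hb : orderOf b = 2) : IsConj a b := by
  have hcard := klein_classes_of_not_central P h
  rw [Nat.card_eq_one_iff_unique] at hcard
  haveI := hcard.1
  exact ConjClasses.mk_eq_mk_iff_isConj.1 (congrArg Subtype.val (Subsingleton.elim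
    (α := {C : ConjClasses G // ∃ t : G, orderOf t = 2 ∧ ConjClasses.mk t = C})
    ⟨_, a, ha, rfl⟩ ⟨_, b, hb, rfl⟩))

theorem klein_no_isolated (P : Sylow 2 G) [IsKleinFour (P : Subgroup G)]
    (h : ¬ Subgroup.normalizer ((P : Subgroup G) : Set G) ≤
      Subgroup.centralizer ((P : Subgroup G) : Set G)) (z : G) : ¬ IsIsolatedInvolution z := by
  intro hz
  haveI : Fact (Nat.Prime 2) := ⟨Nat.prime_two⟩
  obtain ⟨g, hg⟩ := exists_conj_mem_sylow P (k := 1) (t := z) (by rw [hz.1, pow_one])
  obtain ⟨n, hn, hnc⟩ := SetLike.not_le_iff_exists.1 h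
  set v := g * z * g⁻¹ with hv
  have hv1 : v ≠ 1 := fun h1 => ne_one_of_orderOf_two hz.1 (conj_eq_one_iff.1 h1)
  refine hnc (klein_fixes_all P hn hg hv1 (isolated_eq_of_commute (isolated_conj hz g)
    (isConj_iff.2 ⟨n, rfl⟩) ?_))
  exact congrArg Subtype.val (mul_comm_of_exponent_two IsKleinFour.exponent_two
    (⟨v, hg⟩ : (P : Subgroup G)) ⟨_, (Subgroup.mem_normalizer_iff.1 hn v).1 hg⟩)

theorem klein_eq_of_le (P : Sylow 2 G) [IsKleinFour (P : Subgroup G)] {U : Subgroup G}
    (hU : IsKleinFour U) (hle : U ≤ P) : U = P :=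
  haveI := hU
  Subgroup.eq_of_le_of_card_ge hle
    (le_of_eq ((IsKleinFour.card_four (G := (P : Subgroup G))).trans
      (IsKleinFour.card_four (G := U)).symm))

/-- Dihedral Sylow 2-subgroups: a normal 2-complement exists iff all four-groups have small
automisers. -/
theorem dihedral_complement_iff (m : ℕ) (hm : 2 ≤ m) (eS : (S : Subgroup G) ≃* DihedralGroup m) :
    HasNormalPComplement 2 G ↔ ∀ U : Subgroup G, U ≤ S → IsKleinFour U →
      Subgroup.normalizer (U : Set G) = Subgroup.centralizer (U : Set G) ⊔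
        ((S : Subgroup G) ⊓ Subgroup.normalizer (U : Set G)) := by
  haveI : Fact (Nat.Prime 2) := ⟨Nat.prime_two⟩
  constructor
  · intro hG U hUS hU
    haveI := hU
    refine le_antisymm ?_ (sup_le (Subgroup.centralizer_le_normalizer _) inf_le_right)
    intro g hg
    have hc := Transfer.isComplement'_pResidual (Transfer.hasNormalPComplement_iff.mp hG) S
    set K := pResidual 2 G
    obtain ⟨⟨k, p⟩, hkp⟩ := hc.2 g
    simp only at hkp
    -- `k` centralises `U`: `[k, u]` lies in `K ⊓ S`
    have hbot := disjoint_iff.mp hc.disjoint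
    have hpU : ∀ u ∈ U, (p : G) * u * (p : G)⁻¹ ∈ (S : Subgroup G) := fun u hu =>
      mul_mem (mul_mem p.2 (hUS hu)) (inv_mem p.2)
    have hkU : ∀ u ∈ U, (k : G) * ((p : G) * u * (p : G)⁻¹) * (k : G)⁻¹ =
        (p : G) * u * (p : G)⁻¹ := by
      intro u hu
      set x := (p : G) * u * (p : G)⁻¹ with hx
      have hgx : (k : G) * x * (k : G)⁻¹ ∈ (S : Subgroup G) := by
        rw [hx, show (k : G) * ((p : G) * u * (p : G)⁻¹) * (k : G)⁻¹ =
          (k : G) * p * u * ((k : G) * p)⁻¹ by group, hkp]
        exact hUS ((Subgroup.mem_normalizer_iff.1 hg u).1 hu)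
      have hmem : (k : G) * x * (k : G)⁻¹ * x⁻¹ ∈ K ⊓ (S : Subgroup G) := by
        refine Subgroup.mem_inf.2 ⟨?_, mul_mem hgx (inv_mem (hpU u hu))⟩
        rw [show (k : G) * x * (k : G)⁻¹ * x⁻¹ = (k : G) * (x * (k : G)⁻¹ * x⁻¹) by group]
        exact mul_mem k.2 (Subgroup.Normal.conj_mem inferInstance _ (inv_mem k.2) x)
      rw [hbot, Subgroup.mem_bot, mul_inv_eq_one] at hmem
      exact hmem
    have hgp : ∀ u ∈ U, g * u * g⁻¹ = (p : G) * u * (p : G)⁻¹ := fun u hu => by
      rw [← hkp, ← hkU u hu]; group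
    have hpN : (p : G) ∈ Subgroup.normalizer (U : Set G) := by
      refine ConjFunctor.cj_eq_iff.1 (Subgroup.eq_of_le_of_card_ge ?_
        (le_of_eq (Subgroup.card_map_of_injective (MulAut.conj (p : G)).injective).symm))
      rintro _ ⟨u, hu, rfl⟩
      show (p : G) * u * (p : G)⁻¹ ∈ U
      rw [← hgp u hu]; exact (Subgroup.mem_normalizer_iff.1 hg u).1 hu
    have hcen : g * (p : G)⁻¹ ∈ Subgroup.centralizer (U : Set G) := by
      intro u hu
      have hu' : (p : G)⁻¹ * u * p ∈ U := (Subgroup.mem_normalizer_iff''.1 hpN u).1 hu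
      have h := hgp _ hu'
      rw [show (p : G) * ((p : G)⁻¹ * u * p) * (p : G)⁻¹ = u by group] at h
      calc u * (g * (p : G)⁻¹) = g * ((p : G)⁻¹ * u * p) * g⁻¹ * (g * (p : G)⁻¹) := by rw [h]
        _ = g * (p : G)⁻¹ * u := by group
    have := Subgroup.mul_mem_sup hcen
      (show (p : G) ∈ (S : Subgroup G) ⊓ Subgroup.normalizer (U : Set G) from ⟨p.2, hpN⟩)
    rwa [inv_mul_cancel_right] at this
  · intro h
    by_cases h4 : Nat.card S = 4
    · haveI := isKleinFour_of_equiv_dihedral eS h4
      refine klein_complement_of_central S ?_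
      rw [h S le_rfl inferInstance]
      refine sup_le le_rfl fun v hv w hw => ?_
      exact congrArg Subtype.val (mul_comm_of_exponent_two IsKleinFour.exponent_two
        (⟨w, hw⟩ : (S : Subgroup G)) ⟨v, hv.1⟩)
    · obtain ⟨D⟩ := dih_exists hm eS h4
      have key : ∀ i : ℤ, ¬ IsConj D.gz (D.gs i) := by
        intro i hi
        obtain ⟨U, hU, hUS, hiU⟩ := D.four_exists i
        haveI := hU
        have h6 := (D.four_automiser U hUS hiU).2.2 hi
        set N := Subgroup.normalizer (U : Set G)
        set C := Subgroup.centralizer (U : Set G)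
        have hN : N = C ⊔ ((S : Subgroup G) ⊓ N) := h U hUS hU
        haveI : (C.subgroupOf N).Normal := inferInstance
        set X := (S : Subgroup G) ⊓ N with hX
        have hXN : X ≤ N := inf_le_right
        have hCN : C ≤ N := Subgroup.centralizer_le_normalizer _
        have htop : C.subgroupOf N ⊔ X.subgroupOf N = ⊤ := by
          rw [← Subgroup.subgroupOf_sup hCN hXN, ← hN, Subgroup.subgroupOf_self]
        let π := QuotientGroup.mk' (C.subgroupOf N)
        have hq : IsPGroup 2 (N ⧸ C.subgroupOf N) := by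
          have h1 : (X.subgroupOf N).map π = ⊤ := by
            have := congrArg (Subgroup.map π) htop
            rwa [Subgroup.map_sup, Subgroup.map_top_of_surjective π (QuotientGroup.mk'_surjective _),
              (Subgroup.map_eq_bot_iff _).2 (by rw [QuotientGroup.ker_mk']), bot_sup_eq] at this
          have h2 : IsPGroup 2 ↥((X.subgroupOf N).map π) :=
            (IsPGroup.comap_subtype (K := N) (S.2.to_inf_left : IsPGroup 2 X)).map π
          rw [h1] at h2
          exact h2.of_equiv Subgroup.topEquiv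
        obtain ⟨k, hk⟩ := hq.exists_card_eq
        rw [← Subgroup.index_eq_card, ← Subgroup.relIndex, h6] at hk
        have h3 := Nat.prime_three.dvd_of_dvd_pow (show 3 ∣ 2 ^ k from hk ▸ (by norm_num))
        omega
      exact D.case_complement (key 0) (key 1)

/-- Fusion-simplicity for dihedral Sylow 2-subgroups. -/
theorem dihedral_fusion_simple_iff (m : ℕ) (hm : 2 ≤ m)
    (eS : (S : Subgroup G) ≃* DihedralGroup m) :
    ((∀ H : Subgroup G, H.index ≠ 2) ∧ (∀ z : G, ¬ IsIsolatedInvolution z)) ↔
      ((∀ a b : G, orderOf a = 2 → orderOf b = 2 → IsConj a b) ∨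
        (∀ U : Subgroup G, U ≤ S → IsKleinFour U →
          (Subgroup.centralizer (U : Set G)).relIndex (Subgroup.normalizer (U : Set G)) =
            (if Nat.card S = 4 then 3 else 6))) := by
  haveI : Fact (Nat.Prime 2) := ⟨Nat.prime_two⟩
  by_cases h4 : Nat.card S = 4
  · haveI := isKleinFour_of_equiv_dihedral eS h4
    rw [if_pos h4]
    by_cases hc : Subgroup.normalizer ((S : Subgroup G) : Set G) ≤
        Subgroup.centralizer ((S : Subgroup G) : Set G)
    · refine iff_of_false ?_ ?_
      · rintro ⟨hno, -⟩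
        obtain ⟨P, N, hN, hcomp⟩ := klein_complement_of_central S hc
        haveI := hN
        have hidx := hcomp.symm.index_eq_card
        have hP4 : Nat.card P = 4 := by rw [P.card_eq_multiplicity, ← S.card_eq_multiplicity, h4]
        have hq : Nat.card (G ⧸ N) = 4 := by rw [← Subgroup.index_eq_card, hidx]; exact hP4
        haveI : Nontrivial (G ⧸ N) := Finite.one_lt_card_iff_nontrivial.1 (by omega)
        obtain ⟨H, hH⟩ := exists_index_two_of_surjective
          (IsPGroup.of_card (n := 2) (by rw [hq]; norm_num)) inferInstance (QuotientGroup.mk' N)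
          (QuotientGroup.mk'_surjective N)
        exact hno H hH
      · rintro (hall | hU)
        · have h1 : Nat.card {C : ConjClasses G // ∃ t : G, orderOf t = 2 ∧
              ConjClasses.mk t = C} = 3 := klein_classes_of_central S hc
          have hsub : Subsingleton {C : ConjClasses G // ∃ t : G, orderOf t = 2 ∧
              ConjClasses.mk t = C} := ⟨by
            rintro ⟨_, t, ht, rfl⟩ ⟨_, u, hu, rfl⟩
            exact Subtype.ext (ConjClasses.mk_eq_mk_iff_isConj.2 (hall t u ht hu))⟩
          have := Finite.card_le_one_iff_subsingleton.2 hsub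
          omega
        · have h3 := hU S le_rfl inferInstance
          rw [Subgroup.relIndex_eq_one.2 hc] at h3
          omega
    · refine iff_of_true ⟨klein_no_index_two S hc, klein_no_isolated S hc⟩
        (Or.inr fun U hUS hU => ?_)
      rw [klein_eq_of_le S hU hUS]
      exact klein_relIndex_three S hc
  · rw [if_neg h4]
    obtain ⟨D⟩ := dih_exists hm eS h4
    constructor
    · rintro ⟨hno, -⟩
      refine Or.inl fun a b ha hb => ?_
      have key : ∀ t : G, orderOf t = 2 → IsConj t D.gz := fun t ht => by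
        rcases D.involution_class ht with h | h | h
        · exact h
        · exact h.trans (D.fused_of_no_index_two hno 0).symm
        · exact h.trans (D.fused_of_no_index_two hno 1).symm
      exact (key a ha).trans (key b hb).symm
    · intro h
      have key : ∀ i : ℤ, IsConj D.gz (D.gs i) := by
        intro i
        rcases h with hall | hU
        · exact hall _ _ D.orderOf_gz (D.orderOf_gs i)
        · obtain ⟨U, hU', hUS, hiU⟩ := D.four_exists i
          haveI := hU'
          exact (D.four_automiser U hUS hiU).2.1 (hU U hUS hU')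
      exact ⟨D.no_index_two (key 0) (key 1), D.no_isolated (key 0) (key 1)⟩

/-- The classes of four-subgroups. -/
theorem dihedral_four_classes (m : ℕ) (hm : 2 ≤ m) (eS : (S : Subgroup G) ≃* DihedralGroup m) :
    (Nat.card S = 4 → ∀ U V : Subgroup G, IsKleinFour U → IsKleinFour V →
      (∃ x : G, U.map (MulAut.conj x).toMonoidHom = V)) ∧
    (4 < Nat.card S → ∃ U₁ U₂ : Subgroup G, IsKleinFour U₁ ∧ IsKleinFour U₂ ∧
      ¬ (∃ x : G, U₁.map (MulAut.conj x).toMonoidHom = U₂) ∧
      ∀ V : Subgroup G, IsKleinFour V → (∃ x : G, V.map (MulAut.conj x).toMonoidHom = U₁) ∨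
        (∃ x : G, V.map (MulAut.conj x).toMonoidHom = U₂)) := by
  haveI : Fact (Nat.Prime 2) := ⟨Nat.prime_two⟩
  have hinto : ∀ U : Subgroup G, IsKleinFour U →
      ∃ g : G, IsKleinFour (U.map (MulAut.conj g).toMonoidHom : Subgroup G) ∧
        U.map (MulAut.conj g).toMonoidHom ≤ S := by
    intro U hU
    haveI := hU
    obtain ⟨g, -, hg⟩ := exists_conj_le_sylow S ⊤ le_top (R := U)
      (IsPGroup.of_card (n := 2) (by rw [IsKleinFour.card_four]; norm_num)) le_top
    let eU := Subgroup.equivMapOfInjective U (MulAut.conj g).toMonoidHom (MulAut.conj g).injective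
    exact ⟨g, ⟨by rw [← Nat.card_congr eU.toEquiv, IsKleinFour.card_four],
      by rw [← Monoid.exponent_eq_of_mulEquiv eU, IsKleinFour.exponent_two]⟩,
      by rintro _ ⟨u, hu, rfl⟩; exact hg u hu⟩
  constructor
  · intro h4 U V hU hV
    haveI := isKleinFour_of_equiv_dihedral eS h4
    obtain ⟨g, hgU, hgS⟩ := hinto U hU
    obtain ⟨k, hkV, hkS⟩ := hinto V hV
    refine ⟨k⁻¹ * g, ?_⟩
    have e : U.map (MulAut.conj g).toMonoidHom = V.map (MulAut.conj k).toMonoidHom :=
      (klein_eq_of_le S hgU hgS).trans (klein_eq_of_le S hkV hkS).symm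
    rw [show U.map (MulAut.conj (k⁻¹ * g)).toMonoidHom =
      (U.map (MulAut.conj g).toMonoidHom).map (MulAut.conj k⁻¹).toMonoidHom from
        ConjFunctor.cj_mul k⁻¹ g U, e]
    exact ConjFunctor.cj_inv_cj k V
  · intro h4
    obtain ⟨D⟩ := dih_exists hm eS (by omega)
    obtain ⟨U₁, hU₁, h₁S, h₁⟩ := D.four_exists 0
    obtain ⟨U₂, hU₂, h₂S, h₂⟩ := D.four_exists 1
    haveI := hU₁
    refine ⟨U₁, U₂, hU₁, hU₂, fun ⟨x, hx⟩ => by
      have := D.parity_of_conj h₁S h₂S hx h₁ h₂
      omega, fun V hV => ?_⟩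
    obtain ⟨g, hgV, hgS⟩ := hinto V hV
    haveI := hgV
    obtain ⟨i, -, hi, hmem⟩ := D.four_facts _ hgS
    -- move by a rotation
    have move : ∀ (j : ℤ) (W : Subgroup G), IsKleinFour W → W ≤ S → D.gs j ∈ W → 2 ∣ i - j →
        ∃ x : G, V.map (MulAut.conj x).toMonoidHom = W := by
      intro j W hW hWS hjW hd
      haveI := hW
      obtain ⟨t, ht⟩ := hd
      refine ⟨D.gr t * g, ?_⟩
      rw [show V.map (MulAut.conj (D.gr t * g)).toMonoidHom =
        (V.map (MulAut.conj g).toMonoidHom).map (MulAut.conj (D.gr t)).toMonoidHom from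
          ConjFunctor.cj_mul _ g V]
      refine Subgroup.eq_of_le_of_card_ge ?_ ?_
      · obtain ⟨l, hlz, -, hWmem⟩ := D.four_facts W hWS
        have hz : D.gr t * D.gz * (D.gr t)⁻¹ = D.gz := by
          rw [← (D.gz_commute (D.gr_mem t)).eq, mul_inv_cancel_right]
        have hjW' : D.gs (j + D.h) ∈ W := by
          have := W.mul_mem hlz hjW
          rw [DihData.gz, D.gr_mul_gs] at this
          rwa [show D.gs (j - (D.h : ℤ)) = D.gs (j + D.h) from (D.gs_eq_iff _ _).2
            ⟨-1, by rw [D.two_h]; ring⟩] at this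
        rintro _ ⟨v, hv, rfl⟩
        show D.gr t * v * (D.gr t)⁻¹ ∈ W
        rcases (hmem v).1 hv with rfl | rfl | rfl | rfl
        · rw [mul_one, mul_inv_cancel]; exact one_mem _
        · rw [hz]; exact hlz
        · rw [D.gr_conj_gs, show i - 2 * t = j by omega]; exact hjW
        · rw [D.gr_conj_gs, show i + (D.h : ℤ) - 2 * t = j + D.h by omega]; exact hjW'
      · rw [Subgroup.card_map_of_injective (MulAut.conj (D.gr t)).injective,
          IsKleinFour.card_four (G := W)]
        exact le_of_eq (IsKleinFour.card_four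
          (G := (V.map (MulAut.conj g).toMonoidHom : Subgroup G))).symm
    rcases Int.even_or_odd i with ⟨c, hc⟩ | ⟨c, hc⟩
    · exact Or.inl (move 0 U₁ hU₁ h₁S h₁ ⟨c, by omega⟩)
    · exact Or.inr (move 1 U₂ hU₂ h₂S h₂ ⟨c, by omega⟩)

end Cfsg.Agent.Invol

namespace Cfsg.Agent.Invol

open Cfsg

variable {G : Type*} [Group G] [Finite G] {S : Sylow 2 G}

/-- In a group with a Klein four Sylow subgroup an involution central in the whole group forces a
complement. -/
theorem klein_complement_of_fixed (P : Sylow 2 G) [IsKleinFour (P : Subgroup G)] {z : G}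
    (hz : z ∈ (P : Subgroup G)) (hz1 : z ≠ 1) (hc : ∀ g : G, g * z = z * g) :
    HasNormalPComplement 2 G :=
  klein_complement_of_central P fun n hn =>
    klein_fixes_all P hn hz hz1 (by rw [hc n, mul_inv_cancel_right])

theorem centralizer_complement_dihedral (m : ℕ) (hm : 2 ≤ m)
    (eS : (S : Subgroup G) ≃* DihedralGroup m) {t : G} (ht : orderOf t = 2) :
    HasNormalPComplement 2 (Subgroup.centralizer ({t} : Set G)) := by
  haveI : Fact (Nat.Prime 2) := ⟨Nat.prime_two⟩
  set C := Subgroup.centralizer ({t} : Set G) with hC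
  let z : C := ⟨t, Subgroup.mem_centralizer_singleton_iff.2 rfl⟩
  have hzc : ∀ g : C, g * z = z * g := fun g =>
    Subtype.ext (Subgroup.mem_centralizer_singleton_iff.1 g.2)
  have hzo : orderOf z = 2 := by rw [← Subgroup.orderOf_coe]; exact ht
  obtain ⟨R⟩ : Nonempty (Sylow 2 C) := inferInstance
  -- `z` lies in every Sylow subgroup of `C`
  have hzR : z ∈ (R : Subgroup C) := by
    have hW : IsPGroup 2 ↥(Subgroup.zpowers z ⊔ (R : Subgroup C)) :=
      (IsPGroup.of_card (n := 1) (G := Subgroup.zpowers z)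
        (by rw [Nat.card_zpowers, hzo, pow_one])).to_sup_of_normal_right' R.2
        (Subgroup.zpowers_le.2 (Subgroup.mem_normalizer_iff.2 fun v => by
          rw [← hzc v, mul_inv_cancel_right]))
    rw [← R.3 hW le_sup_right]
    exact Subgroup.mem_sup_left (Subgroup.mem_zpowers z)
  obtain ⟨g, -, hg⟩ := exists_conj_le_sylow S ⊤ le_top (R.2.map C.subtype) le_top
  set R' := ((R : Subgroup C).map C.subtype).map (MulAut.conj g).toMonoidHom with hR'
  have hR'S : R' ≤ (S : Subgroup G) := by rintro _ ⟨v, hv, rfl⟩; exact hg v hv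
  let eR : (R : Subgroup C) ≃* R' :=
    ((R : Subgroup C).equivMapOfInjective C.subtype C.subtype_injective).trans
      (Subgroup.equivMapOfInjective _ (MulAut.conj g).toMonoidHom (MulAut.conj g).injective)
  set t' := g * t * g⁻¹ with ht'
  have ht'S : t' ∈ S := hg t ⟨z, hzR, rfl⟩
  have ht'o : orderOf t' = 2 := by rw [ht', orderOf_conj, ht]
  -- any subgroup of `S` centralising `t'` is no larger than `R`
  have hbig : ∀ W : Subgroup G, W ≤ S → (∀ w ∈ W, Commute w t') →
      Nat.card W ≤ Nat.card (R : Subgroup C) := by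
    intro W hWS hWt
    have hle : W.map (MulAut.conj g⁻¹).toMonoidHom ≤ C := by
      rintro _ ⟨w, hw, rfl⟩
      rw [hC, Subgroup.mem_centralizer_singleton_iff]
      have h := ((hWt w hw).map (MulAut.conj g⁻¹).toMonoidHom).eq
      simpa [ht', mul_assoc] using h
    have hW2 : IsPGroup 2 (W.map (MulAut.conj g⁻¹).toMonoidHom) := (S.2.to_le hWS).map _
    obtain ⟨T, hT⟩ := (hW2.of_equiv (Subgroup.subgroupOfEquivOfLe hle).symm).exists_le_sylow
    have hc := Subgroup.card_le_of_le hT
    rw [Nat.card_congr (Subgroup.subgroupOfEquivOfLe hle).toEquiv,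
      Subgroup.card_map_of_injective (MulAut.conj g⁻¹).injective, T.card_eq_multiplicity,
      ← R.card_eq_multiplicity] at hc
    exact hc
  have hfull : (∀ s ∈ S, Commute s t') → R' = (S : Subgroup G) := fun h =>
    Subgroup.eq_of_le_of_card_ge hR'S ((hbig _ le_rfl h).trans (Nat.card_congr eR.toEquiv).le)
  have hklein : IsKleinFour R' → HasNormalPComplement 2 C := by
    intro h
    haveI := h
    haveI : IsKleinFour (R : Subgroup C) :=
      ⟨by rw [Nat.card_congr eR.toEquiv]; exact IsKleinFour.card_four,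
        by rw [Monoid.exponent_eq_of_mulEquiv eR]; exact IsKleinFour.exponent_two⟩
    exact klein_complement_of_fixed R hzR (ne_one_of_orderOf_two hzo) hzc
  by_cases h4 : Nat.card S = 4
  · haveI := isKleinFour_of_equiv_dihedral eS h4
    refine hklein ?_
    rw [hfull fun s hs => congrArg Subtype.val (mul_comm_of_exponent_two IsKleinFour.exponent_two
      (⟨s, hs⟩ : (S : Subgroup G)) ⟨t', ht'S⟩)]
    infer_instance
  obtain ⟨D⟩ := dih_exists hm eS h4
  rcases D.involution_cases ht'S ht'o with h | ⟨a, h⟩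
  · -- `t'` is central in `S`
    have hRS := hfull fun s hs => h ▸ (D.gz_commute hs).symm
    obtain ⟨D'⟩ := dih_exists (S := R) hm ((eR.trans (MulEquiv.subgroupCongr hRS)).trans eS)
      (by rw [Nat.card_congr eR.toEquiv, hRS]; exact h4)
    have hz : z = D'.gz := by
      rcases D'.involution_cases hzR hzo with h' | ⟨b, h'⟩
      · exact h'
      · exfalso
        have hb : Commute (D'.gs b) (D'.gr 1) := h' ▸ (hzc (D'.gr 1)).symm
        rw [commute_iff_eq, D'.gs_mul_gr, D'.gr_mul_gs, D'.gs_eq_iff,
          show b + 1 - (b - 1) = 2 by ring, D'.two_h] at hb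
        obtain ⟨c, hc⟩ := D'.h_even_int
        have := Int.le_of_dvd (by norm_num) hb
        have := D'.h_pos
        omega
    have hno : ∀ i : ℤ, ¬ IsConj D'.gz (D'.gs i) := by
      intro i hi
      obtain ⟨c, hc⟩ := isConj_iff.1 hi
      rw [← hz, hzc, mul_inv_cancel_right, hz] at hc
      exact D'.gr_ne_gs _ _ hc
    exact D'.case_complement (hno 0) (hno 1)
  · -- `t'` is a reflection
    obtain ⟨U, hU, hUS, haU⟩ := D.four_exists a
    haveI := hU
    obtain ⟨i, -, -, hmem⟩ := D.four_facts U hUS
    have hR'U : R' ≤ U := by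
      rintro _ ⟨v, ⟨w, hw, rfl⟩, rfl⟩
      have hvc : Commute (g * (w : G) * g⁻¹) t' :=
        (show Commute (w : G) t from Subgroup.mem_centralizer_singleton_iff.1 w.2).map
          (MulAut.conj g).toMonoidHom
      show g * (w : G) * g⁻¹ ∈ U
      have hvS : g * (w : G) * g⁻¹ ∈ S := hg _ ⟨w, hw, rfl⟩
      rw [h] at hvc
      have hz : D.gz ∈ U := (hmem _).2 (Or.inr (Or.inl rfl))
      obtain ⟨b, hb | hb⟩ := D.repr_G hvS <;> rw [hb] at hvc ⊢
      · rw [commute_iff_eq, D.gr_mul_gs, D.gs_mul_gr, D.gs_eq_iff,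
          show a - b - (a + b) = 2 * -b by ring, D.two_h,
          Int.mul_dvd_mul_iff_left (by norm_num), dvd_neg] at hvc
        obtain ⟨c, rfl⟩ := hvc
        rw [show D.gr ((D.h : ℤ) * c) = D.gz ^ c by rw [DihData.gz, D.gr_zpow]]
        exact U.zpow_mem hz c
      · rw [commute_iff_eq, D.gs_mul_gs, D.gs_mul_gs, D.gr_eq_iff,
          show a - b - (b - a) = 2 * (a - b) by ring, D.two_h,
          Int.mul_dvd_mul_iff_left (by norm_num)] at hvc
        obtain ⟨c, hc⟩ := hvc
        rw [show D.gs b = D.gz ^ c * D.gs a by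
          rw [DihData.gz, D.gr_zpow, D.gr_mul_gs]; congr 1; omega]
        exact U.mul_mem (U.zpow_mem hz c) haU
    refine hklein ?_
    rw [Subgroup.eq_of_le_of_card_ge hR'U ((hbig U hUS (fun u hu =>
      h ▸ congrArg Subtype.val (mul_comm_of_exponent_two IsKleinFour.exponent_two
        (⟨u, hu⟩ : U) ⟨_, haU⟩))).trans (Nat.card_congr eR.toEquiv).le)]
    exact hU

end Cfsg.Agent.Invol
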