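import Mathlib
import Cfsg.Agent.Lib.Invol.QuadZero

set_option autoImplicit false

/-! Automorphisms of elementary abelian 2-groups: transvections, `O₂ = 1`, and `GL_n(2)`. -/

namespace Cfsg.Agent.ElemAut

variable {V : Type*} [CommGroup V] [Finite V]

/-- Translating the complement of a hyperplane by one of its elements. -/
theorem exists_shift (h2 : ∀ v : V, v * v = 1) (H : Subgroup V) (hH : ∀ x y, x ∉ H → y ∉ H → x * y ∈ H)
    {c : V} (hc : c ∈ H) : ∃ φ : V ≃* V, (∀ u ∈ H, φ u = u) ∧ ∀ u, u ∉ H → φ u = u * c := by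
  classical
  let f : V → V := fun u => if u ∈ H then u else u * c
  have hinv : Function.Involutive f := by
    intro u
    by_cases hu : u ∈ H
    · simp [f, hu]
    · have : u * c ∉ H := fun h => hu ((H.mul_mem_cancel_right hc).1 h)
      simp [f, hu, this, mul_assoc, h2 c]
  refine ⟨{ hinv.toPerm f with map_mul' := ?_ }, fun u hu => if_pos hu, fun u hu => if_neg hu⟩
  intro a b
  show f (a * b) = f a * f b
  by_cases ha : a ∈ H <;> by_cases hb : b ∈ H
  · simp [f, ha, hb, mul_mem ha hb]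
  · have : a * b ∉ H := fun h => hb ((H.mul_mem_cancel_left ha).1 h)
    simp [f, ha, hb, this, mul_assoc]
  · have : a * b ∉ H := fun h => ha ((H.mul_mem_cancel_right hb).1 h)
    simp [f, ha, hb, this, mul_right_comm]
  · simp only [f, if_pos (hH a b ha hb), if_neg ha, if_neg hb]
    rw [mul_mul_mul_comm, h2 c, mul_one]

/-- Two non-identity elements lie outside a common hyperplane. -/
theorem exists_hyperplane₂ (h2 : ∀ v : V, v * v = 1) {a b : V} (ha : a ≠ 1) (hb : b ≠ 1) :
    ∃ H : Subgroup V, a ∉ H ∧ b ∉ H ∧ ∀ x y, x ∉ H → y ∉ H → x * y ∈ H := by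
  classical
  have pair : ∀ (H : Subgroup V) (e : V), (∀ x, x ∉ H → x * e ∈ H) → ∀ x y, x ∉ H → y ∉ H → x * y ∈ H := by
    intro H e h x y hx hy
    have := mul_mem (h x hx) (h y hy)
    rwa [mul_mul_mul_comm, h2 e, mul_one] at this
  obtain ⟨H, haH, hH, -⟩ := QuadZero.exists_hyperplane h2 ha
  have pH := pair H a hH
  by_cases hbH : b ∈ H
  swap
  · exact ⟨H, haH, hbH, pH⟩
  obtain ⟨K, hbK, hK, -⟩ := QuadZero.exists_hyperplane h2 hb
  have pK := pair K b hK
  by_cases haK : a ∈ K
  swap
  · exact ⟨K, haK, hbK, pK⟩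
  have inv_eq : ∀ x : V, x⁻¹ = x := fun x => inv_eq_of_mul_eq_one_right (h2 x)
  have par : ∀ (S : Subgroup V), (∀ x y, x ∉ S → y ∉ S → x * y ∈ S) → ∀ x y, (x * y ∈ S ↔ (x ∈ S ↔ y ∈ S)) := by
    intro S hS x y
    by_cases hx : x ∈ S
    · rw [S.mul_mem_cancel_left hx]; tauto
    · by_cases hy : y ∈ S
      · rw [S.mul_mem_cancel_right hy]; tauto
      · have := hS x y hx hy; tauto
  let T : Subgroup V :=
    { carrier := {x | x ∈ H ↔ x ∈ K}
      one_mem' := iff_of_true (one_mem H) (one_mem K)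
      mul_mem' := fun {x y} hx hy => by
        simp only [Set.mem_ofPred_eq] at hx hy ⊢
        rw [par H pH, par K pK, hx, hy]
      inv_mem' := fun {x} hx => by rwa [inv_eq x] }
  refine ⟨T, fun h => haH (h.2 haK), fun h => hbK (h.1 hbH), fun x y hx hy => ?_⟩
  change ¬(x ∈ H ↔ x ∈ K) at hx
  change ¬(y ∈ H ↔ y ∈ K) at hy
  show x * y ∈ H ↔ x * y ∈ K
  rw [par H pH, par K pK]
  tauto

/-- A transvection carrying `a` to `b`. -/
theorem exists_transvection (h2 : ∀ v : V, v * v = 1) {a b : V} (ha : a ≠ 1) (hb : b ≠ 1) :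
    ∃ φ : V ≃* V, φ a = b ∧ φ (a * b) = a * b ∧ ∀ u, φ u = u ∨ φ u = u * (a * b) := by
  obtain ⟨H, haH, hbH, hH⟩ := exists_hyperplane₂ h2 ha hb
  obtain ⟨φ, h1, h1'⟩ := exists_shift h2 H hH (hH a b haH hbH)
  refine ⟨φ, ?_, h1 _ (hH a b haH hbH), fun u => ?_⟩
  · rw [h1' a haH, ← mul_assoc, h2 a, one_mul]
  · by_cases hu : u ∈ H
    · exact Or.inl (h1 u hu)
    · exact Or.inr (h1' u hu)

/-- `O₂(Aut V) = 1`. -/
theorem normal_two_group_eq_bot (h2 : ∀ v : V, v * v = 1) (N : Subgroup (MulAut V)) [N.Normal]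
    (hN : IsPGroup 2 N) : N = ⊥ := by
  haveI := Fact.mk Nat.prime_two
  rw [Subgroup.eq_bot_iff_forall]
  intro φ hφ
  by_contra hne
  haveI : Nontrivial V := by
    by_contra h
    rw [not_nontrivial_iff_subsingleton] at h
    exact hne (MulEquiv.ext fun x => Subsingleton.elim _ _)
  have hcard : 2 ∣ Nat.card V := by
    obtain ⟨x, hx⟩ := exists_ne (1 : V)
    have := orderOf_eq_prime (p := 2) (by rw [pow_two]; exact h2 x) hx
    exact this ▸ orderOf_dvd_natCard x
  have h1 : (1 : V) ∈ MulAction.fixedPoints N V := fun n => map_one (n : MulAut V)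
  obtain ⟨v, hv, hv1⟩ := hN.exists_fixed_point_of_prime_dvd_card_of_fixed_point V hcard h1
  refine hne (MulEquiv.ext fun x => ?_)
  rcases eq_or_ne x 1 with rfl | hx
  · exact (map_one φ).trans rfl
  obtain ⟨τ, hτ, -⟩ := exists_transvection h2 (Ne.symm hv1) hx
  have hmem : τ⁻¹ * φ * τ ∈ N := by
    have := (inferInstance : N.Normal).conj_mem φ hφ τ⁻¹
    rwa [inv_inv] at this
  have h := hv ⟨_, hmem⟩
  have h' : τ.symm (φ (τ v)) = v := h
  rw [hτ] at h'
  calc φ x = τ (τ.symm (φ x)) := (τ.apply_symm_apply _).symm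
    _ = x := by rw [h', hτ]

/-- The automorphism group of an elementary abelian group of order `2 ^ n` is `GL_n(2)`. -/
theorem mulAut_equiv_GL (h2 : ∀ v : V, v * v = 1) {n : ℕ} (hn : Nat.card V = 2 ^ n) :
    Nonempty (MulAut V ≃* Matrix.GeneralLinearGroup (Fin n) (ZMod 2)) := by
  classical
  haveI := Fact.mk Nat.prime_two
  letI : Module (ZMod 2) (Additive V) :=
    AddCommGroup.zmodModule (n := 2) fun a => by
      rw [two_nsmul]; exact congrArg Additive.ofMul (h2 a.toMul)
  haveI : Module.Finite (ZMod 2) (Additive V) := Module.Finite.of_finite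
  have hfr : Module.finrank (ZMod 2) (Additive V) = n := by
    have h1 := Module.natCard_eq_pow_finrank (K := ZMod 2) (V := Additive V)
    rw [Nat.card_zmod] at h1
    refine Nat.pow_right_injective (le_refl 2) ?_
    show 2 ^ _ = 2 ^ n
    rw [← h1, ← hn]
    exact Nat.card_congr Additive.toMul
  let b := Module.finBasisOfFinrankEq (ZMod 2) (Additive V) hfr
  let E : MulAut V →* Module.End (ZMod 2) (Additive V) :=
    { toFun := fun φ => (MulEquiv.toAdditive φ).toAddMonoidHom.toZModLinearMap 2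
      map_one' := LinearMap.ext fun _ => rfl
      map_mul' := fun _ _ => LinearMap.ext fun _ => rfl }
  let F : MulAut V →* Matrix.GeneralLinearGroup (Fin n) (ZMod 2) :=
    MonoidHom.toHomUnits ((LinearMap.toMatrixAlgEquiv b).toMulEquiv.toMonoidHom.comp E)
  refine ⟨MulEquiv.ofBijective F ⟨?_, ?_⟩⟩
  · intro φ ψ h
    have h1 : LinearMap.toMatrixAlgEquiv b (E φ) = LinearMap.toMatrixAlgEquiv b (E ψ) :=
      congrArg Units.val h
    have h2' := (LinearMap.toMatrixAlgEquiv b).injective h1
    exact MulEquiv.ext fun x => congrArg Additive.toMul (LinearMap.congr_fun h2' (Additive.ofMul x))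
  · intro g
    let e := (LinearMap.toMatrixAlgEquiv b).symm
    let l : Additive V ≃+ Additive V :=
      { toFun := e g.val
        invFun := e g.inv
        left_inv := fun x => by
          show (e g.inv * e g.val) x = x
          rw [← map_mul, g.inv_val, map_one]; rfl
        right_inv := fun x => by
          show (e g.val * e g.inv) x = x
          rw [← map_mul, g.val_inv, map_one]; rfl
        map_add' := fun x y => map_add (e g.val) x y }
    refine ⟨(MulEquiv.toAdditive (G := V) (H := V)).symm l, Units.ext ?_⟩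
    show LinearMap.toMatrixAlgEquiv b (E _) = g.val
    rw [← (LinearMap.toMatrixAlgEquiv b).apply_symm_apply g.val]
    congr 1

end Cfsg.Agent.ElemAut
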