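import Cfsg.Agent.Lib.Invol.StronglyEmbedded

/-!
# Involutions interchanging two points of a strongly embedded coset space
-/

namespace Cfsg.Agent.Invol

variable {G : Type*} [Group G] [Finite G] {H : Subgroup G}

theorem smul_base_eq_iff (i v : G) :
    (i • (QuotientGroup.mk 1 : G ⧸ H) = QuotientGroup.mk v) ↔ v⁻¹ * i ∈ H := by
  rw [MulAction.Quotient.smul_mk, smul_eq_mul, mul_one, eq_comm, QuotientGroup.eq]

/-- An involution of `H` centralising an element inverted by an involution outside `H`: the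
element is trivial. -/
theorem SE_eq_one_of_inverted (hH : IsStronglyEmbedded H) {u d s : G} (hu : orderOf u = 2)
    (huH : u ∉ H) (hinv : u * d * u⁻¹ = d⁻¹) (hd : Odd (orderOf d)) (hs : orderOf s = 2)
    (hsH : s ∈ H) (hsd : Commute s d) : d = 1 := by
  have hs2 := mul_self_of_orderOf_two hs
  have hu2 := mul_self_of_orderOf_two hu
  rcases Nat.even_or_odd (orderOf (s * u)) with heven | hodd
  · obtain ⟨w, -, hw, hws, hwu⟩ := exists_commuting_involution hs2 hu2 heven
    exact absurd (SE_mem_of_commute hH hw (SE_mem_of_commute hH hs hsH hws) hwu.symm) huH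
  · obtain ⟨c, hc, hcu⟩ := exists_conj_of_odd hs2 hu2 hodd
    have key : ∀ g ∈ Subgroup.closure ({s, u} : Set G), g * d * g⁻¹ = d ∨ g * d * g⁻¹ = d⁻¹ := by
      intro g hg
      induction hg using Subgroup.closure_induction with
      | mem x hx =>
        rcases hx with rfl | hx
        · exact Or.inl (by rw [hsd.eq, mul_inv_cancel_right])
        · rw [Set.mem_singleton_iff] at hx
          exact Or.inr (hx ▸ hinv)
      | one => exact Or.inl (by simp)
      | mul a b _ _ ha hb =>
        have e : a * b * d * (a * b)⁻¹ = a * (b * d * b⁻¹) * a⁻¹ := by group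
        have e' : a * d⁻¹ * a⁻¹ = (a * d * a⁻¹)⁻¹ := conj_inv.symm
        rw [e]
        rcases hb with h | h <;> rw [h]
        · exact ha
        · rw [e']
          rcases ha with h' | h' <;> rw [h']
          · exact Or.inr rfl
          · exact Or.inl (inv_inv d)
      | inv a _ ha =>
        rw [inv_inv]
        rcases ha with h | h
        · left; conv_lhs => rw [← h]
          group
        · exact Or.inr (inverts_symm h)
    refine eq_one_of_commute_of_inverts hd ?_ hinv
    rw [← hcu]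
    have hsd' : s * d * s⁻¹ = d := by rw [hsd.eq, mul_inv_cancel_right]
    rcases key c hc with h | h
    · have := (Commute.conj_iff c).2 hsd
      rwa [h] at this
    · have := (Commute.conj_iff c).2 hsd
      rw [h] at this
      exact Commute.inv_right_iff.1 this

/-- The elements `v i`, for involutions `i` in the coset `v H` of the involution `v`. -/
theorem SE_mul_mem_inf {v i : G} (hv : orderOf v = 2) (hi : orderOf i = 2) (h : v⁻¹ * i ∈ H) :
    v * i ∈ H ⊓ H.map (MulAut.conj v).toMonoidHom := by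
  rw [inv_of_orderOf_two hv] at h
  refine ⟨h, (mem_conj_iff v _ H).2 ?_⟩
  have := inv_mem h
  rw [mul_inv_rev, inv_of_orderOf_two hv, inv_of_orderOf_two hi] at this
  rwa [inv_of_orderOf_two hv, ← mul_assoc v v, mul_self_of_orderOf_two hv, one_mul]

theorem SE_swap_inj (hH : IsStronglyEmbedded H) {v i j s : G} (hv : orderOf v = 2) (hvH : v ∉ H)
    (hi : orderOf i = 2) (hj : orderOf j = 2) (hiv : v⁻¹ * i ∈ H) (hjv : v⁻¹ * j ∈ H)
    (hs : orderOf s = 2) (hsH : s ∈ H)
    (h : (v * i) * s * (v * i)⁻¹ = (v * j) * s * (v * j)⁻¹) : i = j := by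
  have hiH : i ∉ H := fun hiH => hvH (by simpa using inv_mem (mul_mem hiv (inv_mem hiH)))
  have hij : i⁻¹ * j ∈ H := by
    have := mul_mem (inv_mem hiv) hjv
    rwa [mul_inv_rev, inv_inv, mul_assoc, ← mul_assoc v, mul_inv_cancel, one_mul] at this
  have hodd : Odd (orderOf (i * j)) :=
    (hH.2.2 i hiH).of_dvd_nat (Subgroup.orderOf_dvd_natCard _ (SE_mul_mem_inf hi hj hij))
  have hcomm : Commute s (i * j) := by
    show s * (i * j) = i * j * s
    have h1 : i * s * i⁻¹ = j * s * j⁻¹ := by
      refine mul_left_cancel (a := v) (mul_right_cancel (b := v⁻¹) ?_)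
      calc v * (i * s * i⁻¹) * v⁻¹ = v * i * s * (v * i)⁻¹ := by group
        _ = v * (j * s * j⁻¹) * v⁻¹ := by rw [h]; group
    calc s * (i * j) = i⁻¹ * (i * s * i⁻¹) * j * (j⁻¹ * (i * i) * j) := by group
      _ = i⁻¹ * (j * s * j⁻¹) * j := by rw [h1, mul_self_of_orderOf_two hi]; group
      _ = i * j * s := by rw [inv_of_orderOf_two hi]; group
  have h1 := SE_eq_one_of_inverted hH hi hiH
    (conj_mul_eq_inv (mul_self_of_orderOf_two hi) (mul_self_of_orderOf_two hj)) hodd hs hsH hcomm
  rw [← inv_eq_of_mul_eq_one_right h1, inv_of_orderOf_two hi]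

/-- An involution fixes exactly one coset. -/
theorem SE_existsUnique_fixed (hH : IsStronglyEmbedded H) {t : G} (ht : orderOf t = 2) :
    ∃! q : G ⧸ H, t • q = q := by
  obtain ⟨s, hsH, hs⟩ := SE_exists_involution hH
  obtain ⟨c, rfl⟩ := isConj_iff.1 (SE_isConj hH hs ht)
  have hu := (SE_iff_fixed_unique hH.1 hH.2.1).1 hH s hsH hs
  refine ⟨QuotientGroup.mk c, ?_, ?_⟩
  · show (c * s * c⁻¹) • (QuotientGroup.mk c : G ⧸ H) = QuotientGroup.mk c
    rw [MulAction.Quotient.smul_mk, QuotientGroup.eq, smul_eq_mul]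
    have : (c * s * c⁻¹ * c)⁻¹ * c = s⁻¹ := by group
    rw [this]; exact inv_mem hsH
  · intro q hq
    have hq' : (c * s * c⁻¹) • q = q := hq
    have h1 := hu (c⁻¹ • q) (by
      conv_rhs => rw [← hq']
      rw [smul_smul, smul_smul]; congr 1; group)
    rw [inv_smul_eq_iff] at h1
    rw [h1, MulAction.Quotient.smul_mk, smul_eq_mul, mul_one]

theorem SE_card_fixing (hH : IsStronglyEmbedded H) (q : G ⧸ H) :
    Nat.card {i : G // orderOf i = 2 ∧ i • q = q} = Nat.card {t : G // orderOf t = 2 ∧ t ∈ H} := by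
  induction q using QuotientGroup.induction_on with
  | H g =>
    refine (Nat.card_congr ((MulAut.conj g).toEquiv.subtypeEquiv fun t => ?_)).symm
    show orderOf t = 2 ∧ t ∈ H ↔ orderOf (g * t * g⁻¹) = 2 ∧
      (g * t * g⁻¹) • (QuotientGroup.mk g : G ⧸ H) = QuotientGroup.mk g
    rw [orderOf_conj, MulAction.Quotient.smul_mk, QuotientGroup.eq, smul_eq_mul]
    have : (g * t * g⁻¹ * g)⁻¹ * g = t⁻¹ := by group
    rw [this, inv_mem_iff]

/-- Any two distinct cosets are interchanged by as many involutions as there are in `H`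
(base point version). -/
theorem SE_card_swap_base (hH : IsStronglyEmbedded H) {y : G ⧸ H}
    (hy : y ≠ QuotientGroup.mk 1) :
    Nat.card {i : G // orderOf i = 2 ∧ i • (QuotientGroup.mk 1 : G ⧸ H) = y} =
      Nat.card {t : G // orderOf t = 2 ∧ t ∈ H} := by
  classical
  haveI := Fintype.ofFinite G
  haveI := Fintype.ofFinite (G ⧸ H)
  obtain ⟨s, hsH, hs⟩ := SE_exists_involution hH
  set n := Nat.card {t : G // orderOf t = 2 ∧ t ∈ H} with hn
  have hle : ∀ y : G ⧸ H, y ≠ QuotientGroup.mk 1 →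
      Nat.card {i : G // orderOf i = 2 ∧ i • (QuotientGroup.mk 1 : G ⧸ H) = y} ≤ n := by
    intro y hy
    by_cases hne : Nonempty {i : G // orderOf i = 2 ∧ i • (QuotientGroup.mk 1 : G ⧸ H) = y}
    · obtain ⟨v, hv, hvy⟩ := hne
      have hvH : v ∉ H := fun h => hy (hvy ▸ (smul_base_eq_iff v 1).2 (by simpa using h))
      have hmem : ∀ i : {i : G // orderOf i = 2 ∧ i • (QuotientGroup.mk 1 : G ⧸ H) = y},
          v⁻¹ * (i : G) ∈ H := fun i => (smul_base_eq_iff (H := H) (i : G) v).1 (by
        rw [i.2.2, ← hvy]; simp [MulAction.Quotient.smul_mk])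
      refine Nat.card_le_card_of_injective
        (fun i => ⟨(v * i.1) * s * (v * i.1)⁻¹, by rw [orderOf_conj, hs],
          mul_mem (mul_mem (SE_mul_mem_inf hv i.2.1 (hmem i)).1 hsH)
            (inv_mem (SE_mul_mem_inf hv i.2.1 (hmem i)).1)⟩) ?_
      intro i j hij
      exact Subtype.ext (SE_swap_inj hH hv hvH i.2.1 j.2.1 (hmem i) (hmem j) hs hsH
        (congrArg Subtype.val hij))
    · haveI := not_nonempty_iff.1 hne
      rw [Nat.card_of_isEmpty]
      exact Nat.zero_le _
  -- every involution fixes one point and moves the base point somewhere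
  let I := Finset.univ.filter fun i : G => orderOf i = 2
  have h1 : I.card = Fintype.card (G ⧸ H) * n := by
    let fx : G → G ⧸ H := fun i =>
      if h : orderOf i = 2 then (SE_existsUnique_fixed hH h).choose else QuotientGroup.mk 1
    have e : I.card = ∑ q : G ⧸ H, (I.filter fun i => i • q = q).card := by
      rw [Finset.card_eq_sum_card_fiberwise (f := fx) (t := Finset.univ)
        (fun i _ => Finset.mem_univ _)]
      refine Finset.sum_congr rfl fun q _ => congrArg Finset.card (Finset.filter_congr ?_)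
      intro i hi
      have ho : orderOf i = 2 := (Finset.mem_filter.1 hi).2
      have hspec := (SE_existsUnique_fixed hH ho).choose_spec
      simp only [fx, dif_pos ho]
      exact ⟨fun h => h ▸ hspec.1, fun h => (hspec.2 q h).symm⟩
    rw [e, Finset.sum_const_nat (m := n), Finset.card_univ]
    intro q _
    rw [hn, ← SE_card_fixing hH q, Nat.card_eq_fintype_card, Fintype.card_subtype,
      Finset.filter_filter]
  have h2 : I.card =
      ∑ q : G ⧸ H, (I.filter fun i : G => i • (QuotientGroup.mk 1 : G ⧸ H) = q).card :=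
    Finset.card_eq_sum_card_fiberwise fun i _ => Finset.mem_univ _
  have hcard : ∀ q, (I.filter fun i : G => i • (QuotientGroup.mk 1 : G ⧸ H) = q).card =
      Nat.card {i : G // orderOf i = 2 ∧ i • (QuotientGroup.mk 1 : G ⧸ H) = q} := by
    intro q
    rw [Nat.card_eq_fintype_card, Fintype.card_subtype, Finset.filter_filter]
  simp only [hcard] at h2
  have hall : ∀ q ∈ (Finset.univ : Finset (G ⧸ H)),
      Nat.card {i : G // orderOf i = 2 ∧ i • (QuotientGroup.mk 1 : G ⧸ H) = q} ≤ n := by
    intro q _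
    by_cases hq : q = QuotientGroup.mk 1
    · subst hq; exact (SE_card_fixing hH _).le
    · exact hle q hq
  have h3 : ∑ q : G ⧸ H, Nat.card {i : G // orderOf i = 2 ∧
      i • (QuotientGroup.mk 1 : G ⧸ H) = q} = ∑ _q : G ⧸ H, n := by
    rw [← h2, h1, Finset.sum_const, smul_eq_mul, Finset.card_univ]
  exact (Finset.sum_eq_sum_iff_of_le hall).1 h3 y (Finset.mem_univ _)

theorem SE_card_swap (hH : IsStronglyEmbedded H) {x y : G ⧸ H} (hxy : x ≠ y) :
    Nat.card {i : G // orderOf i = 2 ∧ i • x = y} =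
      Nat.card {t : G // orderOf t = 2 ∧ t ∈ H} := by
  induction x using QuotientGroup.induction_on with
  | H a =>
    have hne : a⁻¹ • y ≠ QuotientGroup.mk 1 := fun h => hxy (by
      rw [inv_smul_eq_iff, MulAction.Quotient.smul_mk, smul_eq_mul, mul_one] at h
      exact h.symm)
    rw [← SE_card_swap_base hH hne]
    refine Nat.card_congr ((MulAut.conj a⁻¹).toEquiv.subtypeEquiv fun i => ?_)
    show orderOf i = 2 ∧ i • (QuotientGroup.mk a : G ⧸ H) = y ↔
      orderOf (a⁻¹ * i * a⁻¹⁻¹) = 2 ∧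
        (a⁻¹ * i * a⁻¹⁻¹) • (QuotientGroup.mk 1 : G ⧸ H) = a⁻¹ • y
    rw [orderOf_conj, inv_inv, mul_smul, mul_smul, smul_left_cancel_iff,
      show a • (QuotientGroup.mk 1 : G ⧸ H) = QuotientGroup.mk a by
        rw [MulAction.Quotient.smul_mk, smul_eq_mul, mul_one]]

/-- `H ∩ H^u` is transitive on the involutions of `H`. -/
theorem SE_exists_conj_inf (hH : IsStronglyEmbedded H) {u s t : G} (hu : orderOf u = 2)
    (huH : u ∉ H) (hs : orderOf s = 2) (hsH : s ∈ H) (ht : orderOf t = 2) (htH : t ∈ H) :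
    ∃ d ∈ H ⊓ H.map (MulAut.conj u).toMonoidHom, d * s * d⁻¹ = t := by
  have hy : (QuotientGroup.mk u : G ⧸ H) ≠ QuotientGroup.mk 1 := by
    rw [Ne, QuotientGroup.eq, mul_one, inv_mem_iff]; exact huH
  let f : {i : G // orderOf i = 2 ∧ i • (QuotientGroup.mk 1 : G ⧸ H) = QuotientGroup.mk u} →
      {t : G // orderOf t = 2 ∧ t ∈ H} := fun i =>
    ⟨(u * i.1) * s * (u * i.1)⁻¹, by rw [orderOf_conj, hs],
      mul_mem (mul_mem (SE_mul_mem_inf hu i.2.1 ((smul_base_eq_iff i.1 u).1 i.2.2)).1 hsH)
        (inv_mem (SE_mul_mem_inf hu i.2.1 ((smul_base_eq_iff i.1 u).1 i.2.2)).1)⟩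
  have hf : Function.Injective f := fun i j hij =>
    Subtype.ext (SE_swap_inj hH hu huH i.2.1 j.2.1 ((smul_base_eq_iff i.1 u).1 i.2.2)
      ((smul_base_eq_iff j.1 u).1 j.2.2) hs hsH (congrArg Subtype.val hij))
  have hb := (Nat.bijective_iff_injective_and_card f).2 ⟨hf, SE_card_swap_base hH hy⟩
  obtain ⟨i, hi⟩ := hb.2 ⟨t, ht, htH⟩
  exact ⟨u * i.1, SE_mul_mem_inf hu i.2.1 ((smul_base_eq_iff i.1 u).1 i.2.2),
    congrArg Subtype.val hi⟩

end Cfsg.Agent.Invol
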