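import Cfsg.Agent.S1226
import Cfsg.Agent.Lib.Invol.SECount
import Mathlib.GroupTheory.SpecificGroups.Cyclic

/-!
# Groups with elementary abelian involution centralizers

The action on the cosets of a Sylow normalizer is sharply triply transitive.
-/

set_option linter.unusedSectionVars false

namespace Cfsg.Agent.Invol.ElemCent

variable {G : Type*} [Group G] [Finite G]

/-- The hypotheses of the configuration. -/
structure Hyp (T : Sylow 2 G) : Prop where
  nc : ¬ IsCyclic (T : Subgroup G)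
  nn : ¬ (T : Subgroup G).Normal
  cent : ∀ t : G, orderOf t = 2 → IsMulCommutative (Subgroup.centralizer ({t} : Set G)) ∧
    ∀ c ∈ Subgroup.centralizer ({t} : Set G), c ^ 2 = 1

variable {T : Sylow 2 G}

/-- The normalizer of the Sylow subgroup. -/
abbrev NT (T : Sylow 2 G) : Subgroup G := Subgroup.normalizer ((T : Subgroup G) : Set G)

/-- The stabilizer of the two points `mk 1` and `mk u`. -/
abbrev D (T : Sylow 2 G) (u : G) : Subgroup G := NT T ⊓ (NT T).map (MulAut.conj u).toMonoidHom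

variable (h : Hyp T)
include h

theorem Hyp.se : IsStronglyEmbedded (NT T) := S1226.result T h.nc h.nn h.cent

theorem Hyp.four_le : 4 ≤ Nat.card T := by
  haveI : Fact (Nat.Prime 2) := ⟨Nat.prime_two⟩
  obtain ⟨k, hk⟩ := IsPGroup.iff_card.1 T.2
  rcases k with _ | _ | k
  · exfalso
    rw [pow_zero] at hk
    haveI := (Nat.card_eq_one_iff_unique.1 hk).1
    exact h.nc isCyclic_of_subsingleton
  · rw [pow_one] at hk
    exact absurd (isCyclic_of_prime_card hk) h.nc
  · change 4 ≤ Nat.card (T : Subgroup G)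
    rw [hk, pow_succ, pow_succ]
    have := Nat.one_le_two_pow (n := k)
    omega

theorem Hyp.mem_of_involution {t : G} (ht : t ∈ NT T) (ht2 : orderOf t = 2) :
    t ∈ (T : Subgroup G) := by
  have hp : IsPGroup 2 ↥(Subgroup.zpowers t) :=
    IsPGroup.of_card (n := 1) (by rw [Nat.card_zpowers, ht2, pow_one])
  exact (le_sup_right.trans (T.3 (T.2.to_sup_of_normal_left' hp (Subgroup.zpowers_le.2 ht))
    le_sup_left).le) (Subgroup.mem_zpowers t)

theorem Hyp.exists_central : ∃ z ∈ (T : Subgroup G), orderOf z = 2 ∧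
    ∀ x ∈ (T : Subgroup G), x * z = z * x := by
  haveI : Fact (Nat.Prime 2) := ⟨Nat.prime_two⟩
  have h4 : 4 ≤ Nat.card (T : Subgroup G) := h.four_le
  haveI : Nontrivial (T : Subgroup G) := Finite.one_lt_card_iff_nontrivial.1 (by omega)
  haveI := IsPGroup.center_nontrivial T.2
  obtain ⟨k, hk⟩ := IsPGroup.iff_card.1 (T.2.to_subgroup (Subgroup.center (T : Subgroup G)))
  have h2 : 2 ∣ Nat.card (Subgroup.center (T : Subgroup G)) := by
    rcases k with _ | k
    · have := Finite.one_lt_card (α := Subgroup.center (T : Subgroup G))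
      rw [hk, pow_zero] at this
      exact absurd this (lt_irrefl _)
    · exact ⟨2 ^ k, by rw [hk, pow_succ']⟩
  obtain ⟨z, hz⟩ := exists_prime_orderOf_dvd_card' 2 h2
  rw [← Subgroup.orderOf_coe, ← Subgroup.orderOf_coe] at hz
  exact ⟨_, (z : (T : Subgroup G)).2, hz, fun x hx =>
    congrArg Subtype.val (Subgroup.mem_center_iff.1 z.2 ⟨x, hx⟩)⟩

theorem Hyp.comm {a b : G} (ha : a ∈ (T : Subgroup G)) (hb : b ∈ (T : Subgroup G)) :
    a * b = b * a := by
  obtain ⟨z, -, hz, hzc⟩ := h.exists_central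
  have hle : ∀ x ∈ (T : Subgroup G), x ∈ Subgroup.centralizer ({z} : Set G) :=
    fun x hx => Subgroup.mem_centralizer_singleton_iff.2 (hzc x hx)
  exact congrArg Subtype.val ((h.cent z hz).1.is_comm.comm
    (⟨a, hle a ha⟩ : Subgroup.centralizer ({z} : Set G)) ⟨b, hle b hb⟩)

theorem Hyp.mul_self {a : G} (ha : a ∈ (T : Subgroup G)) : a * a = 1 := by
  obtain ⟨z, -, hz, hzc⟩ := h.exists_central
  rw [← sq]
  exact (h.cent z hz).2 a (Subgroup.mem_centralizer_singleton_iff.2 (hzc a ha))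

theorem Hyp.centralizer_eq {t : G} (ht : t ∈ (T : Subgroup G)) (ht2 : orderOf t = 2) :
    Subgroup.centralizer ({t} : Set G) = T :=
  T.3 (fun c => ⟨1, by rw [pow_one]; exact Subtype.ext ((h.cent t ht2).2 c c.2)⟩) fun _ hx =>
    Subgroup.mem_centralizer_singleton_iff.2 (h.comm hx ht)

theorem Hyp.mem_of_commute {t c : G} (ht : t ∈ (T : Subgroup G)) (ht1 : t ≠ 1)
    (hc : c * t = t * c) : c ∈ (T : Subgroup G) := by
  rw [← h.centralizer_eq ht (orderOf_two_of_mul_self (h.mul_self ht) ht1)]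
  exact Subgroup.mem_centralizer_singleton_iff.2 hc

variable {u : G} (hu : orderOf u = 2) (huH : u ∉ NT T)
include hu huH

theorem Hyp.odd_D : Odd (Nat.card (D T u)) := h.se.2.2 u huH

theorem Hyp.eq_one_of_mem {x : G} (hx : x ∈ D T u) (hxT : x ∈ (T : Subgroup G)) : x = 1 := by
  by_contra h1
  have hd := Subgroup.orderOf_dvd_natCard _ hx
  rw [orderOf_two_of_mul_self (h.mul_self hxT) h1] at hd
  exact (h.odd_D hu huH).not_two_dvd_nat hd

theorem Hyp.card_involutions : Nat.card {t : G // orderOf t = 2 ∧ t ∈ NT T} + 1 = Nat.card T := by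
  classical
  rw [← Finite.card_option]
  refine Nat.card_congr (Equiv.symm
    { toFun := fun x : T => if hx : (x : G) = 1 then none else
        some ⟨(x : G), orderOf_two_of_mul_self (h.mul_self x.2) hx, Subgroup.le_normalizer x.2⟩
      invFun := fun o => o.elim ⟨1, one_mem _⟩ fun t => ⟨t.1, h.mem_of_involution t.2.2 t.2.1⟩
      left_inv := fun x => by
        by_cases hx : (x : G) = 1
        · simp only [dif_pos hx, Option.elim_none]
          exact Subtype.ext hx.symm
        · simp only [dif_neg hx, Option.elim_some]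
      right_inv := fun o => by
        rcases o with _ | t
        · simp
        · simp [ne_one_of_orderOf_two t.2.1] })

theorem Hyp.card_D : Nat.card (D T u) + 1 = Nat.card T := by
  obtain ⟨z, hzT, hz, -⟩ := h.exists_central
  have hzN : z ∈ NT T := Subgroup.le_normalizer hzT
  rw [← h.card_involutions hu huH]
  congr 1
  refine Nat.card_eq_of_bijective (fun d : D T u => (⟨(d : G) * z * (d : G)⁻¹,
    by rw [orderOf_conj, hz], mul_mem (mul_mem d.2.1 hzN) (inv_mem d.2.1)⟩ :
      {t : G // orderOf t = 2 ∧ t ∈ NT T})) ⟨fun a b hab => ?_, fun t => ?_⟩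
  · have e : (a : G) * z * (a : G)⁻¹ = (b : G) * z * (b : G)⁻¹ := congrArg Subtype.val hab
    have hc : ((b : G)⁻¹ * a) * z = z * ((b : G)⁻¹ * a) := by
      calc ((b : G)⁻¹ * a) * z = (b : G)⁻¹ * ((a : G) * z * (a : G)⁻¹) * a := by group
        _ = _ := by rw [e]; group
    exact Subtype.ext (inv_mul_eq_one.1 (h.eq_one_of_mem hu huH (mul_mem (inv_mem b.2) a.2)
      (h.mem_of_commute hzT (ne_one_of_orderOf_two hz) hc))).symm
  · obtain ⟨d, hd, hdt⟩ := SE_exists_conj_inf h.se hu huH hz hzN t.2.1 t.2.2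
    exact ⟨⟨d, hd⟩, Subtype.ext hdt⟩

theorem Hyp.exists_split {x : G} (hx : x ∈ NT T) :
    ∃ d ∈ D T u, d⁻¹ * x ∈ (T : Subgroup G) := by
  obtain ⟨z, hzT, hz, -⟩ := h.exists_central
  have hzN : z ∈ NT T := Subgroup.le_normalizer hzT
  obtain ⟨d, hd, hdt⟩ := SE_exists_conj_inf h.se hu huH hz hzN
    (show orderOf (x * z * x⁻¹) = 2 by rw [orderOf_conj, hz])
    (mul_mem (mul_mem hx hzN) (inv_mem hx))
  refine ⟨d, hd, h.mem_of_commute hzT (ne_one_of_orderOf_two hz) ?_⟩
  calc d⁻¹ * x * z = d⁻¹ * (x * z * x⁻¹) * x := by group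
    _ = z * (d⁻¹ * x) := by rw [← hdt]; group

theorem Hyp.isComplement :
    Subgroup.IsComplement' ((D T u).subgroupOf (NT T)) ((T : Subgroup G).subgroupOf (NT T)) := by
  refine Subgroup.isComplement'_of_disjoint_and_mul_eq_univ ?_ ?_
  · rw [disjoint_iff, Subgroup.eq_bot_iff_forall]
    rintro x ⟨h1, h2⟩
    exact Subtype.ext (h.eq_one_of_mem hu huH h1 h2)
  · refine Set.eq_univ_of_forall fun x => ?_
    obtain ⟨d, hd, hdx⟩ := h.exists_split hu huH x.2
    exact ⟨⟨d, hd.1⟩, hd, ⟨d⁻¹ * x, Subgroup.le_normalizer hdx⟩, hdx,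
      Subtype.ext (mul_inv_cancel_left d (x : G))⟩

theorem Hyp.card_NT : Nat.card (NT T) = Nat.card T * (Nat.card T - 1) := by
  have := (h.isComplement hu huH).card_mul
  rw [Nat.card_congr (Subgroup.subgroupOfEquivOfLe (inf_le_left : D T u ≤ NT T)).toEquiv,
    Nat.card_congr (Subgroup.subgroupOfEquivOfLe (Subgroup.le_normalizer)).toEquiv] at this
  have h' := h.card_D hu huH
  change _ = Nat.card (T : Subgroup G) * (Nat.card (T : Subgroup G) - 1)
  change _ + 1 = Nat.card (T : Subgroup G) at h'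
  rw [← this, mul_comm]
  congr 1
  exact Nat.eq_sub_of_add_eq h'

theorem Hyp.inverts {d : G} (hd : d ∈ D T u) : u * d * u⁻¹ = d⁻¹ := by
  classical
  have hcard : Nat.card {i : G // orderOf i = 2 ∧
      i • (QuotientGroup.mk 1 : G ⧸ NT T) = QuotientGroup.mk u} = Nat.card (D T u) := by
    rw [SE_card_swap_base h.se (by rw [Ne, QuotientGroup.eq, mul_one, inv_mem_iff]; exact huH)]
    have h1 := h.card_D hu huH
    have h2 := h.card_involutions hu huH
    omega
  let f : {i : G // orderOf i = 2 ∧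
      i • (QuotientGroup.mk 1 : G ⧸ NT T) = QuotientGroup.mk u} → D T u := fun i =>
    ⟨u * i.1, SE_mul_mem_inf hu i.2.1 ((smul_base_eq_iff i.1 u).1 i.2.2)⟩
  have hb := (Nat.bijective_iff_injective_and_card f).2
    ⟨fun a b hab => Subtype.ext (mul_left_cancel (congrArg Subtype.val hab)), hcard⟩
  obtain ⟨i, hi⟩ := hb.2 ⟨d, hd⟩
  rw [show d = u * i.1 from (congrArg Subtype.val hi).symm]
  exact conj_mul_eq_inv (mul_self_of_orderOf_two hu) (mul_self_of_orderOf_two i.2.1)

theorem Hyp.D_comm {a b : G} (ha : a ∈ D T u) (hb : b ∈ D T u) : a * b = b * a := by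
  have h1 := h.inverts hu huH (mul_mem ha hb)
  rw [show u * (a * b) * u⁻¹ = (u * a * u⁻¹) * (u * b * u⁻¹) by group, h.inverts hu huH ha,
    h.inverts hu huH hb, ← mul_inv_rev] at h1
  exact (inv_injective h1).symm

omit hu huH in
theorem smul_mk_one {x : G} :
    x • (QuotientGroup.mk 1 : G ⧸ NT T) = QuotientGroup.mk 1 ↔ x ∈ NT T := by
  rw [smul_base_eq_iff, inv_one, one_mul]

omit hu huH in
theorem smul_mk_one' (x : G) :
    x • (QuotientGroup.mk 1 : G ⧸ NT T) = QuotientGroup.mk x := by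
  rw [MulAction.Quotient.smul_mk, smul_eq_mul, mul_one]

omit hu huH in
theorem mem_D_iff {u x : G} :
    x ∈ D T u ↔ x • (QuotientGroup.mk 1 : G ⧸ NT T) = QuotientGroup.mk 1 ∧
      x • (QuotientGroup.mk u : G ⧸ NT T) = QuotientGroup.mk u := by
  rw [D, Subgroup.mem_inf, mem_conj_iff, smul_mk_one h]
  refine and_congr_right fun _ => ?_
  rw [MulAction.Quotient.smul_mk, smul_eq_mul, QuotientGroup.eq, ← inv_mem_iff]
  simp [mul_assoc]

/-- Conjugation by `T` is transitive on a coset of `T` by a nontrivial element of `D`. -/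
theorem Hyp.exists_conj_coset {d t : G} (hd : d ∈ D T u) (hd1 : d ≠ 1)
    (ht : t ∈ (T : Subgroup G)) : ∃ s ∈ (T : Subgroup G), s * d * s⁻¹ = t * d := by
  have hmem : ∀ s : T, (s : G) * d * (s : G)⁻¹ * d⁻¹ ∈ (T : Subgroup G) := fun s => by
    rw [show (s : G) * d * (s : G)⁻¹ * d⁻¹ = (s : G) * (d * (s : G)⁻¹ * d⁻¹) by group]
    exact mul_mem s.2 ((Subgroup.mem_normalizer_iff.1 hd.1 _).1 (inv_mem s.2))
  let f : T → T := fun s => ⟨_, hmem s⟩
  have hf : Function.Injective f := by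
    intro a b hab
    have e := mul_right_cancel (congrArg Subtype.val hab :
      (a : G) * d * (a : G)⁻¹ * d⁻¹ = (b : G) * d * (b : G)⁻¹ * d⁻¹)
    refine Subtype.ext (inv_mul_eq_one.1 ?_).symm
    by_contra h1
    refine hd1 (h.eq_one_of_mem hu huH hd
      (h.mem_of_commute (mul_mem (inv_mem b.2) a.2) h1 ?_))
    calc d * ((b : G)⁻¹ * a) = (b : G)⁻¹ * ((b : G) * d * (b : G)⁻¹) * a := by group
      _ = (b : G)⁻¹ * ((a : G) * d * (a : G)⁻¹) * a := by rw [e]
      _ = ((b : G)⁻¹ * a) * d := by group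
  obtain ⟨s, hs⟩ := Finite.injective_iff_surjective.1 hf ⟨t, ht⟩
  refine ⟨s, s.2, ?_⟩
  rw [← mul_inv_eq_iff_eq_mul]
  exact congrArg Subtype.val hs

/-- A nontrivial element of `D` fixes only `mk 1` and `mk u` among the translates of `mk u`. -/
theorem Hyp.fix_translate {d s : G} (hd : d ∈ D T u) (hd1 : d ≠ 1) (hs : s ∈ (T : Subgroup G))
    (hfix : d • (QuotientGroup.mk (s * u) : G ⧸ NT T) = QuotientGroup.mk (s * u)) : s = 1 := by
  have hd' : s⁻¹ * d * s ∈ D T u := by
    rw [mem_D_iff h, smul_mk_one h]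
    refine ⟨mul_mem (mul_mem (inv_mem (Subgroup.le_normalizer hs)) hd.1)
      (Subgroup.le_normalizer hs), ?_⟩
    rw [mul_smul, mul_smul, inv_smul_eq_iff, MulAction.Quotient.smul_mk, smul_eq_mul, hfix]
  by_contra h1
  have h2 := h.eq_one_of_mem hu huH (mul_mem hd' (inv_mem hd)) (by
    rw [show s⁻¹ * d * s * d⁻¹ = s⁻¹ * (d * s * d⁻¹) by group]
    exact mul_mem (inv_mem hs) ((Subgroup.mem_normalizer_iff.1 hd.1 _).1 hs))
  have hc : d * s = s * d := by
    calc d * s = s * (s⁻¹ * d * s * d⁻¹) * d := by group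
      _ = s * d := by rw [h2, mul_one]
  exact hd1 (h.eq_one_of_mem hu huH hd (h.mem_of_commute hs h1 hc))

/-- Fixed points of a conjugate of the two-point stabilizer in another orbit. -/
theorem Hyp.exists_D_fixed {v : G} (hv : orderOf v = 2) (hvH : v ∉ NT T) :
    ∃ s ∈ (T : Subgroup G), ∀ d ∈ D T u,
      d • (QuotientGroup.mk (s * v) : G ⧸ NT T) = QuotientGroup.mk (s * v) := by
  have hne : Nat.card (D T u) ≠ 1 := by
    have := h.card_D hu huH
    have := h.four_le
    omega
  obtain ⟨d, hd1⟩ := (Subgroup.ne_bot_iff_exists_ne_one (H := D T u)).1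
    (fun e => hne (by rw [e, Subgroup.card_bot]))
  have hd : (d : G) ∈ D T u := d.2
  obtain ⟨d', hd', hdd'⟩ := h.exists_split hv hvH hd.1
  have hd'1 : d' ≠ 1 := fun e => hd1 (Subtype.ext (h.eq_one_of_mem hu huH hd
    (by simpa [e] using hdd')))
  have ht : d' * (d'⁻¹ * (d : G)) * d'⁻¹ ∈ (T : Subgroup G) :=
    (Subgroup.mem_normalizer_iff.1 hd'.1 _).1 hdd'
  obtain ⟨s, hs, hsd⟩ := h.exists_conj_coset hv hvH hd' hd'1 ht
  rw [show d' * (d'⁻¹ * (d : G)) * d'⁻¹ * d' = d by group] at hsd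
  refine ⟨s, hs, fun e he => ?_⟩
  -- `s⁻¹ e s` centralizes `d'`, so lies in `D T v`
  have hc : (s⁻¹ * e * s) * d' = d' * (s⁻¹ * e * s) := by
    calc (s⁻¹ * e * s) * d' = s⁻¹ * (e * (s * d' * s⁻¹)) * s := by group
      _ = s⁻¹ * ((s * d' * s⁻¹) * e) * s := by rw [hsd, h.D_comm hu huH he hd]
      _ = _ := by group
  have hmem : s⁻¹ * e * s ∈ NT T :=
    mul_mem (mul_mem (inv_mem (Subgroup.le_normalizer hs)) he.1) (Subgroup.le_normalizer hs)
  obtain ⟨a, ha, hat⟩ := h.exists_split hv hvH hmem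
  have hb : a⁻¹ * (s⁻¹ * e * s) = 1 := by
    by_contra h1
    refine hd'1 (h.eq_one_of_mem hv hvH hd' (h.mem_of_commute hat h1 ?_))
    calc d' * (a⁻¹ * (s⁻¹ * e * s)) = (d' * a⁻¹) * (s⁻¹ * e * s) := by group
      _ = a⁻¹ * (d' * (s⁻¹ * e * s)) := by
          rw [h.D_comm hv hvH hd' (inv_mem ha)]; group
      _ = _ := by rw [← hc]; group
  have h3 := ((mem_D_iff h).1 (show s⁻¹ * e * s ∈ D T v by rwa [← inv_mul_eq_one.1 hb])).2
  rw [mul_smul, mul_smul, inv_smul_eq_iff, MulAction.Quotient.smul_mk, smul_eq_mul] at h3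
  exact h3

/-- `T` is transitive off the base point. -/
theorem Hyp.exists_translate {x : G ⧸ NT T} (hx : x ≠ QuotientGroup.mk 1) :
    ∃ s ∈ (T : Subgroup G), s • (QuotientGroup.mk u : G ⧸ NT T) = x := by
  classical
  set i : G ⧸ NT T := QuotientGroup.mk 1
  set o : G ⧸ NT T := QuotientGroup.mk u
  set F := {y : G ⧸ NT T // ∀ d ∈ D T u, d • y = y}
  set C := Subgroup.centralizer ((D T u : Subgroup G) : Set G)
  have hD : ∃ d : G, d ∈ D T u ∧ d ≠ 1 := by
    by_contra hh
    push Not at hh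
    have h4 := h.four_le
    have := h.card_D hu huH
    rw [(Subgroup.eq_bot_iff_forall _).2 hh, Subgroup.card_bot] at this
    omega
  obtain ⟨d₀, hd₀, hd₀1⟩ := hD
  -- it is enough that the fixed point set is `{i, o}`
  suffices hF : ∀ y : F, (y : G ⧸ NT T) = i ∨ (y : G ⧸ NT T) = o by
    have hne : Nonempty {v : G // orderOf v = 2 ∧ v • i = x} := by
      refine (Nat.card_pos_iff.1 ?_).1
      rw [SE_card_swap_base h.se hx]
      exact Nat.card_pos_iff.2 ⟨⟨_, (h.exists_central.choose_spec).2.1,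
        Subgroup.le_normalizer (h.exists_central.choose_spec).1⟩, inferInstance⟩
    obtain ⟨v, hv, rfl⟩ := hne
    have hvH : v ∉ NT T := fun hh => hx ((smul_mk_one h).2 hh)
    obtain ⟨s, hs, hfix⟩ := h.exists_D_fixed hu huH hv hvH
    have hne' : (QuotientGroup.mk (s * v) : G ⧸ NT T) ≠ i := by
      rw [Ne, QuotientGroup.eq, mul_one, inv_mem_iff,
        (NT T).mul_mem_cancel_left (Subgroup.le_normalizer hs)]
      exact hvH
    refine ⟨s⁻¹, inv_mem hs, ?_⟩
    rw [← (hF ⟨_, hfix⟩).resolve_left hne', inv_smul_eq_iff, smul_mk_one' h,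
      MulAction.Quotient.smul_mk, smul_eq_mul]
  -- the involution `u` has no fixed point in `F`
  have hufree : ∀ y : F, u • (y : G ⧸ NT T) ≠ y := by
    rintro ⟨y, hy⟩ huy
    obtain ⟨g, rfl⟩ := QuotientGroup.mk_surjective y
    have conjmem : ∀ a : G, a • (QuotientGroup.mk g : G ⧸ NT T) = QuotientGroup.mk g →
        g⁻¹ * a * g ∈ NT T := by
      intro a ha
      rw [MulAction.Quotient.smul_mk, smul_eq_mul, QuotientGroup.eq] at ha
      rw [← inv_mem_iff]
      simpa [mul_assoc] using ha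
    set u' := g⁻¹ * u * g with hu'
    set d' := g⁻¹ * d₀ * g with hd'
    have hu'T : u' ∈ (T : Subgroup G) := h.mem_of_involution (conjmem u huy)
      (by rw [hu', show g⁻¹ * u * g = g⁻¹ * u * g⁻¹⁻¹ by group, orderOf_conj, hu])
    have hd'odd : Odd (orderOf d') := by
      rw [hd', show g⁻¹ * d₀ * g = g⁻¹ * d₀ * g⁻¹⁻¹ by group, orderOf_conj]
      exact (h.odd_D hu huH).of_dvd_nat (Subgroup.orderOf_dvd_natCard _ hd₀)
    have hinv : u' * d' * u'⁻¹ = d'⁻¹ := by
      calc u' * d' * u'⁻¹ = g⁻¹ * (u * d₀ * u⁻¹) * g := by rw [hu', hd']; group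
        _ = d'⁻¹ := by rw [h.inverts hu huH hd₀, hd']; group
    have hmem : d'⁻¹ * d'⁻¹ ∈ (T : Subgroup G) := by
      have e : u' * (d' * u'⁻¹ * d'⁻¹) = d'⁻¹ * d'⁻¹ := by
        calc u' * (d' * u'⁻¹ * d'⁻¹) = (u' * d' * u'⁻¹) * d'⁻¹ := by group
          _ = _ := by rw [hinv]
      rw [← e]
      exact mul_mem hu'T ((Subgroup.mem_normalizer_iff.1 (conjmem d₀ (hy d₀ hd₀)) _).1
        (inv_mem hu'T))
    have h1 : d'⁻¹ * d'⁻¹ = 1 := by
      by_contra h1
      have h2 : orderOf (d'⁻¹ * d'⁻¹) ∣ orderOf d' := by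
        rw [← sq, ← orderOf_inv d']
        exact orderOf_pow_dvd 2
      rw [orderOf_two_of_mul_self (h.mul_self hmem) h1] at h2
      exact hd'odd.not_two_dvd_nat h2
    have h2 : d' = 1 := inv_eq_one.1 (eq_of_mul_self_eq (e := d'⁻¹) (f := 1)
      (by rwa [orderOf_inv]) (by simp) (by rw [h1, one_mul]))
    refine hd₀1 ?_
    calc d₀ = g * d' * g⁻¹ := by rw [hd']; group
      _ = 1 := by rw [h2, mul_one, mul_inv_cancel]
  -- stabilizers in `C` of points of `F` are `D`
  have hCfix : ∀ (c : G), c ∈ C → ∀ y : F, ∀ d ∈ D T u,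
      d • (c • (y : G ⧸ NT T)) = c • (y : G ⧸ NT T) := fun c hc y d hd => by
    rw [smul_smul, Subgroup.mem_centralizer_iff.1 hc d hd, mul_smul, y.2 d hd]
  letI act : MulAction C F :=
    { smul := fun c y => ⟨(c : G) • (y : G ⧸ NT T), hCfix c c.2 y⟩
      one_smul := fun y => Subtype.ext (one_smul G _)
      mul_smul := fun a b y => Subtype.ext (mul_smul (a : G) b _) }
  have hcoe : ∀ (c : C) (y : F), ((c • y : F) : G ⧸ NT T) = (c : G) • (y : G ⧸ NT T) :=
    fun _ _ => rfl
  have hDC : D T u ≤ C := fun a ha => Subgroup.mem_centralizer_iff.2 fun b hb =>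
    h.D_comm hu huH hb ha
  have hCodd : Odd (Nat.card C) := by
    by_contra hev
    haveI : Fact (Nat.Prime 2) := ⟨Nat.prime_two⟩
    obtain ⟨w, hw⟩ := exists_prime_orderOf_dvd_card' (G := C) 2
      (even_iff_two_dvd.1 (Nat.not_odd_iff_even.1 hev))
    rw [← Subgroup.orderOf_coe] at hw
    have h2 := (h.cent w hw).2 d₀ (Subgroup.mem_centralizer_singleton_iff.2
      (Subgroup.mem_centralizer_iff.1 w.2 d₀ hd₀))
    have h3 : orderOf d₀ ∣ 2 := orderOf_dvd_of_pow_eq_one h2
    rcases (Nat.dvd_prime Nat.prime_two).1 h3 with h4 | h4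
    · exact hd₀1 (orderOf_eq_one_iff.1 h4)
    · exact (h4 ▸ (h.odd_D hu huH).of_dvd_nat (Subgroup.orderOf_dvd_natCard _ hd₀)).not_two_dvd_nat
        dvd_rfl
  have hstab : ∀ y : F, MulAction.stabilizer C y = (D T u).subgroupOf C := by
    rintro ⟨y, hy⟩
    obtain ⟨g, rfl⟩ := QuotientGroup.mk_surjective y
    ext c
    rw [MulAction.mem_stabilizer_iff, Subgroup.mem_subgroupOf]
    refine ⟨fun hc => ?_, fun hc => Subtype.ext (hy c hc)⟩
    have conjmem : ∀ a : G, a • (QuotientGroup.mk g : G ⧸ NT T) = QuotientGroup.mk g →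
        g⁻¹ * a * g ∈ NT T := by
      intro a ha
      rw [MulAction.Quotient.smul_mk, smul_eq_mul, QuotientGroup.eq] at ha
      rw [← inv_mem_iff]
      simpa [mul_assoc] using ha
    -- the centralizer of `D` in the stabilizer of `mk g` has order at most that of `D`
    set S : Subgroup G := (MulAction.stabilizer G (QuotientGroup.mk g : G ⧸ NT T)) ⊓ C
    have hDS : D T u ≤ S := fun a ha => ⟨hy a ha, hDC ha⟩
    have hle : Nat.card S ≤ Nat.card (D T u) := by
      let f : S → D T u := fun a => ⟨(h.exists_split hu huH (conjmem a a.2.1)).choose,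
        (h.exists_split hu huH (conjmem a a.2.1)).choose_spec.1⟩
      refine Nat.card_le_card_of_injective f fun a b hab => ?_
      have ha := (h.exists_split hu huH (conjmem a a.2.1)).choose_spec.2
      have hb := (h.exists_split hu huH (conjmem b b.2.1)).choose_spec.2
      have hab' := congrArg Subtype.val hab
      simp only [f] at hab'
      rw [← hab'] at hb
      have hT := mul_mem (inv_mem ha) hb
      refine Subtype.ext (inv_mul_eq_one.1 ?_)
      by_contra h1
      have e : g⁻¹ * ((a : G)⁻¹ * b) * g ∈ (T : Subgroup G) := by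
        convert hT using 1; group
      have hne : g⁻¹ * ((a : G)⁻¹ * b) * g ≠ 1 := fun e1 => h1 (by
        calc (a : G)⁻¹ * b = g * (g⁻¹ * ((a : G)⁻¹ * b) * g) * g⁻¹ := by group
          _ = 1 := by rw [e1, mul_one, mul_inv_cancel])
      have hmT : g⁻¹ * d₀ * g ∈ (T : Subgroup G) := h.mem_of_commute e hne (by
        calc g⁻¹ * d₀ * g * (g⁻¹ * ((a : G)⁻¹ * b) * g) = g⁻¹ * (d₀ * ((a : G)⁻¹ * b)) * g := by group
          _ = g⁻¹ * (((a : G)⁻¹ * b) * d₀) * g := by
              rw [Subgroup.mem_centralizer_iff.1 (C.mul_mem (C.inv_mem a.2.2) b.2.2) d₀ hd₀]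
          _ = _ := by group)
      have h5 := h.mul_self hmT
      have h6 : d₀ * d₀ = 1 := by
        calc d₀ * d₀ = g * ((g⁻¹ * d₀ * g) * (g⁻¹ * d₀ * g)) * g⁻¹ := by group
          _ = 1 := by rw [h5, mul_one, mul_inv_cancel]
      exact (h.odd_D hu huH).not_two_dvd_nat
        ((orderOf_two_of_mul_self h6 hd₀1) ▸ Subgroup.orderOf_dvd_natCard _ hd₀)
    have heq := Subgroup.eq_of_le_of_card_ge hDS hle
    exact heq.symm ▸ (⟨congrArg Subtype.val hc, c.2⟩ : (c : G) ∈ S)
  -- all points other than `i` are in the orbit of `o`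
  let yo : F := ⟨o, fun d hd => ((mem_D_iff h).1 hd).2⟩
  let yi : F := ⟨i, fun d hd => ((mem_D_iff h).1 hd).1⟩
  have horb : ∀ y : F, (y : G ⧸ NT T) ≠ i → y ∈ MulAction.orbit C yo := by
    rintro ⟨y, hy⟩ hne
    have : Nonempty {v : G // orderOf v = 2 ∧ v • i = y} := by
      refine (Nat.card_pos_iff.1 ?_).1
      rw [SE_card_swap_base h.se hne]
      exact Nat.card_pos_iff.2 ⟨⟨_, (h.exists_central.choose_spec).2.1,
        Subgroup.le_normalizer (h.exists_central.choose_spec).1⟩, inferInstance⟩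
    obtain ⟨v, hv, hvy⟩ := this
    have hvH : v ∉ NT T := fun hh => hne (hvy ▸ (smul_mk_one h).2 hh)
    have hvD : ∀ d ∈ D T u, v * d * v⁻¹ = d⁻¹ := fun d hd => by
      refine h.inverts hv hvH ((mem_D_iff h).2 ⟨((mem_D_iff h).1 hd).1, ?_⟩)
      rw [← smul_mk_one' h v, hvy]
      exact hy d hd
    refine ⟨⟨v * u, Subgroup.mem_centralizer_iff.2 fun d hd => ?_⟩, Subtype.ext ?_⟩
    · have h1 := h.inverts hu huH hd
      have h2 : v * d⁻¹ * v⁻¹ = d := by
        calc v * d⁻¹ * v⁻¹ = (v * d * v⁻¹)⁻¹ := by group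
          _ = d := by rw [hvD d hd, inv_inv]
      calc d * (v * u) = (v * d⁻¹ * v⁻¹) * (v * u) := by rw [h2]
        _ = v * (u * d * u⁻¹) * u := by rw [h1]; group
        _ = v * u * d := by group
    · show (v * u) • o = y
      rw [← hvy, mul_smul, show o = u • i from (smul_mk_one' h u).symm, smul_smul u u,
        mul_self_of_orderOf_two hu, one_smul]
  -- `u` pairs off the points of `F`
  have hFeven : Even (Nat.card F) := by
    have humem : ∀ y : F, ∀ d ∈ D T u, d • (u • (y : G ⧸ NT T)) = u • (y : G ⧸ NT T) := fun y d hd => by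
      have h1 : d * u = u * d⁻¹ := by
        calc d * u = u * (u⁻¹ * d * u) := by group
          _ = u * d⁻¹ := by rw [inverts_symm (h.inverts hu huH hd)]
      rw [smul_smul, h1, mul_smul, y.2 _ (inv_mem hd)]
    let σ : F → F := fun y => ⟨u • (y : G ⧸ NT T), humem y⟩
    letI := Fintype.ofFinite F
    rw [Nat.card_eq_fintype_card, even_iff_two_dvd]
    haveI : Fact (Nat.Prime 2) := ⟨Nat.prime_two⟩
    let π : Equiv.Perm F := Function.Involutive.toPerm σ fun y => Subtype.ext (by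
      show u • u • (y : G ⧸ NT T) = y
      rw [smul_smul, mul_self_of_orderOf_two hu, one_smul])
    by_contra hodd
    obtain ⟨y, hy⟩ := Equiv.Perm.exists_fixed_point_of_prime (n := 1) hodd (σ := π)
      (Equiv.ext fun y => by
        rw [pow_one, sq, Equiv.Perm.mul_apply]
        exact (Function.Involutive.toPerm_involutive _ y))
    exact hufree y (congrArg Subtype.val hy)
  have hk : ∀ y : F, Nat.card (MulAction.orbit C y) = ((D T u).subgroupOf C).index := fun y => by
    rw [← hstab y, MulAction.index_stabilizer]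
    rfl
  have hkodd : Odd ((D T u).subgroupOf C).index := hCodd.of_dvd_nat (Subgroup.index_dvd_card _)
  -- `i` is alone in its orbit
  have hni : yi ∉ MulAction.orbit C yo := fun hh => by
    have huniv : MulAction.orbit C yo = Set.univ := Set.eq_univ_of_forall fun y => by
      by_cases hy : (y : G ⧸ NT T) = i
      · rwa [show y = yi from Subtype.ext hy]
      · exact horb y hy
    have := hk yo
    rw [huniv, Nat.card_coe_set_eq, Set.ncard_univ] at this
    exact (Nat.not_even_iff_odd.2 (this.symm ▸ hkodd)) hFeven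
  have horbi : MulAction.orbit C yi = {yi} := by
    refine Set.eq_singleton_iff_unique_mem.2 ⟨MulAction.mem_orbit_self _, fun y hy => ?_⟩
    by_contra hne
    refine hni ?_
    have h1 := horb y (fun e => hne (Subtype.ext e))
    rw [← MulAction.orbit_eq_iff.2 h1, MulAction.orbit_eq_iff.2 hy]
    exact MulAction.mem_orbit_self _
  have hk1 : ((D T u).subgroupOf C).index = 1 := by
    rw [← hk yi, horbi, Nat.card_coe_set_eq, Set.ncard_singleton]
  intro y
  by_cases hy : (y : G ⧸ NT T) = i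
  · exact Or.inl hy
  · obtain ⟨c, hc⟩ := horb y hy
    refine Or.inr ?_
    have hcD : (c : G) ∈ D T u := by
      have := Subgroup.index_eq_one.1 hk1 ▸ Subgroup.mem_top c
      exact Subgroup.mem_subgroupOf.1 this
    rw [← hc]
    exact ((mem_D_iff h).1 hcD).2

end Cfsg.Agent.Invol.ElemCent
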