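import Mathlib
import Cfsg.Prelude.Def_CaseTheorems
import Cfsg.Agent.Lib.Invol.ExtraPairs
import Cfsg.Agent.Lib.LocalEvenA.PlusType
import Cfsg.Agent.Lib.LocalEvenA.ExtraTwo

/-!
Classification of extraspecial groups: exponent `p` for odd `p`; for `p = 2` by the number of solutions of
`x ^ 2 = 1`, equivalently by the 2-rank.
-/

set_option autoImplicit false
set_option linter.unusedSectionVars false

namespace Cfsg.Agent.Invol.ExtraspecialClass

open Subgroup Invol.ExtraPairs
open scoped commutatorElement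

universe u v

theorem base_iso {p : ℕ} [Fact p.Prime] {E : Type u} {E' : Type v} [Group E] [Finite E] [Group E'] [Finite E']
    {z : E} {z' : E'} (h : Pre p E z) (h' : Pre p E' z') (hE : Nat.card E = p) (hE' : Nat.card E' = p) :
    ∃ φ : E ≃* E', φ z = z' := by
  have hg : ∀ x : E, x ∈ zpowers z := fun x => by
    rw [← h.center_eq, h.center_eq_top_iff.2 hE]; exact mem_top x
  have hg' : ∀ x : E', x ∈ zpowers z' := fun x => by
    rw [← h'.center_eq, h'.center_eq_top_iff.2 hE']; exact mem_top x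
  have ho : orderOf z = orderOf z' := by rw [h.ordz, h'.ordz]
  exact ⟨mulEquivOfOrderOfEq hg hg' ho, mulEquivOfOrderOfEq_apply_gen hg hg' ho⟩

theorem iso_exponent {p : ℕ} [hp : Fact p.Prime] : ∀ (m : ℕ) (E : Type u) (E' : Type v) [Group E] [Finite E]
    [Group E'] [Finite E'] (z : E) (z' : E'), Pre p E z → Pre p E' z' → (∀ x : E, x ^ p = 1) →
    (∀ x : E', x ^ p = 1) → Nat.card E = p ^ (2 * m + 1) → Nat.card E' = p ^ (2 * m + 1) →
    ∃ φ : E ≃* E', φ z = z' := by
  intro m
  induction m with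
  | zero => intro E E' _ _ _ _ z z' h h' _ _ hE hE'; exact base_iso h h' (by simpa using hE) (by simpa using hE')
  | succ m ih =>
    intro E E' _ _ _ _ z z' h h' he he' hE hE'
    have hne : p ^ (2 * (m + 1) + 1) ≠ p := by
      intro hh
      have := Nat.pow_right_injective hp.out.two_le (hh.trans (pow_one p).symm)
      omega
    obtain ⟨x, hx⟩ := h.exists_noncentral (hE ▸ hne)
    obtain ⟨y, hxy⟩ := h.exists_pair hx
    obtain ⟨x', hx'⟩ := h'.exists_noncentral (hE' ▸ hne)
    obtain ⟨y', hxy'⟩ := h'.exists_pair hx'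
    have hc : Nat.card (Pre.rest x y) = p ^ (2 * m + 1) := by
      have := h.card_eq hxy
      rw [hE, show p ^ (2 * (m + 1) + 1) = p ^ 2 * p ^ (2 * m + 1) by ring] at this
      exact (Nat.eq_of_mul_eq_mul_left (pow_pos hp.out.pos 2) this).symm
    have hc' : Nat.card (Pre.rest x' y') = p ^ (2 * m + 1) := by
      have := h'.card_eq hxy'
      rw [hE', show p ^ (2 * (m + 1) + 1) = p ^ 2 * p ^ (2 * m + 1) by ring] at this
      exact (Nat.eq_of_mul_eq_mul_left (pow_pos hp.out.pos 2) this).symm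
    obtain ⟨g, hg⟩ := ih (Pre.rest x y) (Pre.rest x' y') _ _ (h.pre_rest hxy) (h'.pre_rest hxy')
      (fun c => Subtype.ext (by simpa using he c)) (fun c => Subtype.ext (by simpa using he' c)) hc hc'
    exact exists_iso h h' hxy hxy' (a := 0) (b := 0) (by rw [he, pow_zero]) (by rw [he, pow_zero])
      (by rw [he', pow_zero]) (by rw [he', pow_zero]) g hg

/-! ### The prime two -/

/-- The number of solutions of `x ^ 2 = 1`. -/
noncomputable def cnt (E : Type*) [Group E] : ℕ := Nat.card {x : E // x ^ 2 = 1}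

section two

variable {E : Type*} [Group E] [Finite E] {z : E}

instance : Fact (Nat.Prime 2) := ⟨Nat.prime_two⟩

theorem z_ne (h : Pre 2 E z) : z ≠ 1 := fun e => by
  have := h.ordz; rw [e, orderOf_one] at this; omega

theorem zsq (h : Pre 2 E z) : z * z = 1 := by
  have := pow_orderOf_eq_one z
  rwa [h.ordz, pow_two] at this

theorem sq_cases (h : Pre 2 E z) (c : E) : c ^ 2 = 1 ∨ c ^ 2 = z := by
  obtain ⟨i, hi, hi'⟩ := h.exists_pow (h.pow_mem c)
  obtain rfl | rfl : i = 0 ∨ i = 1 := by omega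
  · left; rw [← hi', pow_zero]
  · right; rw [← hi', pow_one]

theorem zeven (h : Pre 2 E z) (e : ℕ) : z ^ (2 * e) = 1 := by
  rw [pow_mul, pow_two, zsq h, one_pow]

theorem sq_coord (h : Pre 2 E z) {x y : E} (hxy : ⁅x, y⁆ = z) {a : ℕ} (hx : x ^ 2 = z ^ a)
    (hy : y ^ 2 = z ^ a) (i j : ℕ) {c : E} (hc : c ∈ Pre.rest x y) :
    (x ^ i * y ^ j * c) ^ 2 = z ^ (a * i + a * j + j * i) * c ^ 2 := by
  rw [pow_two, h.prod_formula hxy i j i j hc, ← two_mul, ← two_mul, pow_mul, pow_mul, hx, hy, ← pow_mul,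
    ← pow_mul, ← pow_add, show (2 - 1) * (j * i) = j * i from one_mul _, mul_assoc (z ^ (j * i)),
    ← mul_assoc, ← pow_add, pow_two c]

theorem card_twisted (h : Pre 2 E z) (C : Subgroup E) (e : ℕ) :
    (Even e → Nat.card {c : C // z ^ e * (c : E) ^ 2 = 1} = cnt C) ∧
      (Odd e → cnt C + Nat.card {c : C // z ^ e * (c : E) ^ 2 = 1} = Nat.card C) := by
  constructor
  · rintro ⟨k, rfl⟩
    refine Nat.card_congr (Equiv.subtypeEquivRight fun c => ?_)
    rw [← two_mul, zeven h, one_mul, ← SubgroupClass.coe_pow, OneMemClass.coe_eq_one]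
  · rintro ⟨k, rfl⟩
    classical
    have e1 : Nat.card {c : C // z ^ (2 * k + 1) * (c : E) ^ 2 = 1} = Nat.card {c : C // ¬ c ^ 2 = 1} := by
      refine Nat.card_congr (Equiv.subtypeEquivRight fun c => ?_)
      rw [pow_succ, zeven h, one_mul, ← OneMemClass.coe_eq_one (x := c ^ 2), SubgroupClass.coe_pow]
      rcases sq_cases h (c : E) with h1 | h1 <;> rw [h1]
      · simp [z_ne h]
      · simp [z_ne h, zsq h]
    rw [e1, cnt, ← Nat.card_sum, Nat.card_congr (Equiv.sumCompl fun c : C => c ^ 2 = 1)]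

theorem cnt_coord (h : Pre 2 E z) {x y : E} (hxy : ⁅x, y⁆ = z) {a : ℕ} (hx : x ^ 2 = z ^ a)
    (hy : y ^ 2 = z ^ a) :
    cnt E = ∑ i : Fin 2, ∑ j : Fin 2, Nat.card {c : Pre.rest x y //
      z ^ (a * (i : ℕ) + a * (j : ℕ) + (j : ℕ) * i) * (c : E) ^ 2 = 1} := by
  have e : Nat.card {t : Fin 2 × Fin 2 × Pre.rest x y //
      z ^ (a * (t.1 : ℕ) + a * (t.2.1 : ℕ) + (t.2.1 : ℕ) * t.1) * (t.2.2 : E) ^ 2 = 1} = cnt E := by
    refine Nat.card_congr ((h.coord hxy).subtypeEquiv fun t => ?_)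
    show _ ↔ (x ^ (t.1 : ℕ) * y ^ (t.2.1 : ℕ) * (t.2.2 : E)) ^ 2 = 1
    rw [sq_coord h hxy hx hy _ _ t.2.2.2]
  rw [← e]
  haveI := Fintype.ofFinite (Pre.rest x y)
  simp only [← Nat.card_sigma]
  exact Nat.card_congr ⟨fun q => ⟨q.1.1, q.1.2.1, ⟨q.1.2.2, q.2⟩⟩,
    fun q => ⟨(q.1, q.2.1, q.2.2.1), q.2.2.2⟩, fun _ => rfl, fun _ => rfl⟩

theorem cnt_dihedral (h : Pre 2 E z) {x y : E} (hxy : ⁅x, y⁆ = z) (hx : x ^ 2 = 1) (hy : y ^ 2 = 1) :
    cnt E = 2 * cnt (Pre.rest x y) + Nat.card (Pre.rest x y) := by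
  have h0 := (card_twisted h (Pre.rest x y) 0).1 ⟨0, rfl⟩
  have h1 := (card_twisted h (Pre.rest x y) 1).2 ⟨0, rfl⟩
  rw [cnt_coord h hxy (a := 0) (by rw [hx, pow_zero]) (by rw [hy, pow_zero])]
  simp only [Fin.sum_univ_two, Fin.val_zero, Fin.val_one, Nat.mul_zero, Nat.zero_mul, Nat.add_zero,
    Nat.zero_add, Nat.mul_one] at h0 h1 ⊢
  omega

theorem cnt_quaternion (h : Pre 2 E z) {x y : E} (hxy : ⁅x, y⁆ = z) (hx : x ^ 2 = z) (hy : y ^ 2 = z) :
    cnt E + 2 * cnt (Pre.rest x y) = 3 * Nat.card (Pre.rest x y) := by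
  have h0 := (card_twisted h (Pre.rest x y) 0).1 ⟨0, rfl⟩
  have h1 := (card_twisted h (Pre.rest x y) 1).2 ⟨0, rfl⟩
  have h3 := (card_twisted h (Pre.rest x y) 3).2 ⟨1, rfl⟩
  rw [cnt_coord h hxy (a := 1) (by rw [hx, pow_one]) (by rw [hy, pow_one])]
  simp only [Fin.sum_univ_two, Fin.val_zero, Fin.val_one, Nat.mul_zero, Nat.zero_mul, Nat.add_zero,
    Nat.zero_add, Nat.mul_one, Nat.reduceAdd] at h0 h1 h3 ⊢
  omega

theorem exists_dihedral (h : Pre 2 E z) {x : E} (hx : x ∉ center E) (hx2 : x ^ 2 = 1) :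
    ∃ y, ⁅x, y⁆ = z ∧ y ^ 2 = 1 := by
  obtain ⟨y, hxy⟩ := h.exists_pair hx
  rcases sq_cases h y with hy | hy
  · exact ⟨y, hxy, hy⟩
  · refine ⟨x * y, by rw [h.comm_mul_right, commutatorElement_self, one_mul, hxy], ?_⟩
    rw [pow_two] at hx2 hy ⊢
    have hs := h.swap hxy 1 1
    simp only [pow_one, show (2 - 1) * (1 * 1) = 1 from rfl] at hs
    calc x * y * (x * y) = x * (y * x) * y := by group
      _ = x * (x * y * z) * y := by rw [hs]
      _ = x * x * (y * (z * y)) := by group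
      _ = x * x * (y * y * z) := by rw [← (h.zcomm y).eq, mul_assoc y y z]
      _ = 1 := by rw [hx2, hy, zsq h, one_mul]

theorem exists_quaternion (h : Pre 2 E z) (hE : Nat.card E ≠ 2)
    (hno : ∀ w : E, w ^ 2 = 1 → w ∈ center E) :
    ∃ x y, ⁅x, y⁆ = z ∧ x ^ 2 = z ∧ y ^ 2 = z := by
  obtain ⟨x, hx⟩ := h.exists_noncentral hE
  obtain ⟨y, hxy⟩ := h.exists_pair hx
  have hy : y ∉ center E := by
    intro hy
    rw [commutatorElement_eq_one_iff_mul_comm.2 (mem_center_iff.1 hy x)] at hxy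
    exact z_ne h hxy.symm
  exact ⟨x, y, hxy, (sq_cases h x).resolve_left fun e => hx (hno x e),
    (sq_cases h y).resolve_left fun e => hy (hno y e)⟩

theorem exists_involution (h : Pre 2 E z) (hE : 32 ≤ Nat.card E) : ∃ w : E, w ∉ center E ∧ w ^ 2 = 1 := by
  by_contra hcon
  push Not at hcon
  have hno : ∀ w : E, w ^ 2 = 1 → w ∈ center E := fun w hw => by
    by_contra hh; exact hcon w hh hw
  obtain ⟨x, y, hxy, hx2, hy2⟩ := exists_quaternion h (by omega) hno
  have hc := h.card_eq hxy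
  obtain ⟨u, hu⟩ := (h.pre_rest hxy).exists_noncentral (show Nat.card (Pre.rest x y) ≠ 2 by omega)
  have huE : (u : E) ∉ center E := fun hh => hu (mem_center_iff.2 fun g => Subtype.ext (mem_center_iff.1 hh g))
  have hu2 : (u : E) ^ 2 = z := (sq_cases h _).resolve_left fun e => huE (hno _ e)
  obtain ⟨h1, h2⟩ := Pre.mem_rest.1 u.2
  have hprod : (x * (u : E)) ^ 2 = 1 := by rw [h1.symm.mul_pow, hx2, hu2, zsq h]
  have h3 := commutatorElement_eq_one_iff_mul_comm.2 (mem_center_iff.1 (hno _ hprod) y).symm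
  rw [h.comm_mul_left, hxy, commutatorElement_eq_one_iff_mul_comm.2 h2.eq, mul_one] at h3
  exact z_ne h h3

theorem cnt_base (h : Pre 2 E z) (hE : Nat.card E = 2) : cnt E = 2 := by
  rw [cnt]
  refine (Nat.card_congr (Equiv.subtypeUnivEquiv fun x => ?_)).trans hE
  have := pow_card_eq_one' (G := E) (x := x)
  rwa [hE] at this

theorem cnt_center (h : Pre 2 E z) (hno : ∀ w : E, w ^ 2 = 1 → w ∈ center E) : cnt E ≤ 2 := by
  have h2 : Nat.card (center E) = 2 := by rw [h.center_eq, Nat.card_zpowers, h.ordz]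
  rw [← h2, cnt]
  exact Nat.card_le_card_of_injective (fun w => ⟨w.1, hno w.1 w.2⟩)
    (fun a b hab => Subtype.ext (Subtype.mk.inj hab))

theorem two_lt_cnt (h : Pre 2 E z) {w : E} (hw : w ∉ center E) (hw2 : w ^ 2 = 1) : 2 < cnt E := by
  classical
  haveI := Fintype.ofFinite E
  rw [cnt, Nat.card_eq_fintype_card, Fintype.card_subtype]
  rw [Finset.two_lt_card]
  have hzc : z ∈ center E := h.center_eq.symm ▸ mem_zpowers z
  refine ⟨1, by simp, z, by simp [pow_two, zsq h], w, by simp [hw2], (z_ne h).symm, ?_, ?_⟩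
  · exact fun e => hw (e ▸ one_mem _)
  · exact fun e => hw (e ▸ hzc)

end two

theorem card_rest {E : Type u} [Group E] [Finite E] {z : E} (h : Pre 2 E z) {x y : E} (hxy : ⁅x, y⁆ = z)
    {m : ℕ} (hE : Nat.card E = 2 ^ (2 * (m + 1) + 1)) : Nat.card (Pre.rest x y) = 2 ^ (2 * m + 1) := by
  have := h.card_eq hxy
  rw [hE, show 2 ^ (2 * (m + 1) + 1) = 2 ^ 2 * 2 ^ (2 * m + 1) by ring] at this
  exact (Nat.eq_of_mul_eq_mul_left (by norm_num) this).symm

/-- The two possible numbers of solutions, with the elementary abelian subgroups witnessing the rank. -/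
theorem classify : ∀ (m : ℕ) (E : Type u) [Group E] [Finite E] (z : E), Pre 2 E z →
    Nat.card E = 2 ^ (2 * m + 1) →
    (cnt E = 2 ^ (2 * m) + 2 ^ m ∧ ∃ A : Subgroup E, IsElementaryAbelian 2 A ∧ Nat.card A = 2 ^ (m + 1)) ∨
    (1 ≤ m ∧ cnt E + 2 ^ m = 2 ^ (2 * m) ∧
      ∃ A : Subgroup E, IsElementaryAbelian 2 A ∧ Nat.card A = 2 ^ m) := by
  intro m
  induction m with
  | zero =>
    intro E _ _ z h hE
    refine Or.inl ⟨by rw [cnt_base h (by simpa using hE)]; norm_num, ⊤, ⟨⟨⟨fun a b => ?_⟩⟩, fun a _ => ?_⟩,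
      by rw [card_top, hE]⟩
    · have hc : center E = ⊤ := h.center_eq_top_iff.2 (by simpa using hE)
      exact Subtype.ext (mem_center_iff.1 (show (b : E) ∈ center E by rw [hc]; exact mem_top _) a)
    · have := pow_card_eq_one' (G := E) (x := a)
      rwa [hE, show 2 * 0 + 1 = 1 from rfl, pow_one] at this
  | succ m ih =>
    intro E _ _ z h hE
    have hne : Nat.card E ≠ 2 := by
      rw [hE]
      have : 2 ^ 3 ≤ 2 ^ (2 * (m + 1) + 1) := Nat.pow_le_pow_right two_pos (by omega)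
      omega
    by_cases hinv : ∃ w : E, w ∉ center E ∧ w ^ 2 = 1
    · obtain ⟨x, hxn, hx⟩ := hinv
      obtain ⟨y, hxy, hy⟩ := exists_dihedral h hxn hx
      have hC := card_rest h hxy hE
      have hcnt := cnt_dihedral h hxy hx hy
      -- an elementary abelian subgroup grows by `⟨x⟩`
      have grow : ∀ (k : ℕ) (A : Subgroup (Pre.rest x y)), IsElementaryAbelian 2 A → Nat.card A = 2 ^ k →
          ∃ B : Subgroup E, IsElementaryAbelian 2 B ∧ Nat.card B = 2 ^ (k + 1) := by
        intro k A hA hAk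
        have hxo : orderOf x = 2 := orderOf_eq_prime hx fun e => hxn (e ▸ one_mem _)
        let f : zpowers x × A →* E := MonoidHom.noncommCoprod (zpowers x).subtype
          ((Pre.rest x y).subtype.comp A.subtype) (by
            rintro ⟨_, i, rfl⟩ a
            exact ((Pre.mem_rest.1 a.1.2).1.symm.zpow_left i))
        have hcomm : ∀ s t : zpowers x × A, s * t = t * s := by
          rintro ⟨⟨_, i, rfl⟩, a⟩ ⟨⟨_, j, rfl⟩, b⟩
          exact Prod.ext (Subtype.ext ((Commute.refl x).zpow_zpow i j).eq) (hA.1.is_comm.comm a b)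
        have hinj : Function.Injective f := by
          rw [injective_iff_map_eq_one]
          rintro ⟨⟨_, i, rfl⟩, a⟩ ha
          have ha' : x ^ i * ((a : Pre.rest x y) : E) = 1 := ha
          have hxi : x ^ i = 1 := by
            have hmem : x ^ i ∈ Pre.rest x y := by
              rw [eq_inv_of_mul_eq_one_left ha']; exact inv_mem (a : Pre.rest x y).2
            rcases Int.even_or_odd' i with ⟨k, rfl | rfl⟩
            · rw [zpow_mul, zpow_ofNat, hx, one_zpow]
            · exfalso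
              rw [_root_.zpow_add, zpow_mul, zpow_ofNat, hx, one_zpow, one_mul, zpow_one] at hmem
              have := (Pre.mem_rest.1 hmem).2
              rw [commutatorElement_eq_one_iff_mul_comm.2 this.eq] at hxy
              exact z_ne h hxy.symm
          rw [hxi, one_mul] at ha'
          exact Prod.ext (Subtype.ext hxi) (Subtype.ext (Subtype.ext ha'))
        refine ⟨f.range, ⟨⟨⟨?_⟩⟩, ?_⟩, ?_⟩
        · rintro ⟨_, s, rfl⟩ ⟨_, t, rfl⟩
          exact Subtype.ext (by show f s * f t = f t * f s; rw [← map_mul, ← map_mul, hcomm])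
        · rintro _ ⟨⟨⟨_, i, rfl⟩, a⟩, rfl⟩
          rw [← map_pow, show ((⟨x ^ i, i, rfl⟩ : zpowers x), a) ^ 2 = 1 from
            Prod.ext (Subtype.ext (by
              show (x ^ i) ^ 2 = 1
              rw [← zpow_natCast, zpow_comm, zpow_natCast, hx, one_zpow]))
              (Subtype.ext (hA.2 a a.2)), map_one]
        · rw [← Nat.card_congr (MonoidHom.ofInjective hinj).toEquiv, Nat.card_prod, Nat.card_zpowers, hxo,
            hAk, pow_succ']
      rcases ih (Pre.rest x y) _ (h.pre_rest hxy) hC with ⟨h1, A, hA, hAk⟩ | ⟨hm, h1, A, hA, hAk⟩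
      · refine Or.inl ⟨?_, grow _ A hA hAk⟩
        rw [hcnt, h1, hC]; ring
      · refine Or.inr ⟨by omega, ?_, grow _ A hA hAk⟩
        rw [hcnt, hC, show 2 ^ (m + 1) = 2 * 2 ^ m by ring,
          show 2 ^ (2 * (m + 1)) = 2 * 2 ^ (2 * m) + 2 * 2 ^ (2 * m) by ring,
          show 2 ^ (2 * m + 1) = 2 * 2 ^ (2 * m) by ring]
        omega
    · push Not at hinv
      have hno : ∀ w : E, w ^ 2 = 1 → w ∈ center E := fun w hw => by
        by_contra hh; exact hinv w hh hw
      have hm0 : m = 0 := by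
        by_contra hm
        obtain ⟨w, hw1, hw2⟩ := exists_involution h (by
          rw [hE]
          exact le_trans (by norm_num) (Nat.pow_le_pow_right two_pos (show 5 ≤ 2 * (m + 1) + 1 by omega)))
        exact hinv w hw1 hw2
      subst hm0
      obtain ⟨x, y, hxy, hx, hy⟩ := exists_quaternion h hne hno
      have hC := card_rest h hxy hE
      have hq := cnt_quaternion h hxy hx hy
      rw [hC, cnt_base (h.pre_rest hxy) (by simpa using hC)] at hq
      refine Or.inr ⟨le_rfl, by norm_num at hq ⊢; omega, zpowers z, ⟨⟨⟨fun a b => ?_⟩⟩, ?_⟩, ?_⟩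
      · exact Subtype.ext (mem_center_iff.1 (show (b : E) ∈ center E by rw [h.center_eq]; exact b.2) a)
      · rintro _ ⟨i, rfl⟩
        show (z ^ i) ^ 2 = 1
        rw [← zpow_natCast, zpow_comm, zpow_natCast, pow_two, zsq h, one_zpow]
      · rw [Nat.card_zpowers, h.ordz]; norm_num

theorem iso_of_cnt : ∀ (m : ℕ) (E : Type u) (E' : Type v) [Group E] [Finite E] [Group E'] [Finite E']
    (z : E) (z' : E'), Pre 2 E z → Pre 2 E' z' → Nat.card E = 2 ^ (2 * m + 1) →
    Nat.card E' = 2 ^ (2 * m + 1) → cnt E = cnt E' → ∃ φ : E ≃* E', φ z = z' := by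
  intro m
  induction m with
  | zero => intro E E' _ _ _ _ z z' h h' hE hE' _; exact base_iso h h' (by simpa using hE) (by simpa using hE')
  | succ m ih =>
    intro E E' _ _ _ _ z z' h h' hE hE' hcnt
    have hne : 2 ^ (2 * (m + 1) + 1) ≠ 2 := by
      have : 2 ^ 3 ≤ 2 ^ (2 * (m + 1) + 1) := Nat.pow_le_pow_right two_pos (by omega)
      omega
    by_cases hinv : ∃ w : E, w ∉ center E ∧ w ^ 2 = 1
    · obtain ⟨x, hxn, hx⟩ := hinv
      obtain ⟨y, hxy, hy⟩ := exists_dihedral h hxn hx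
      have hinv' : ∃ w : E', w ∉ center E' ∧ w ^ 2 = 1 := by
        by_contra hcon
        push Not at hcon
        have h1 := cnt_center h' (fun w hw => by by_contra hh; exact hcon w hh hw)
        have h2 := two_lt_cnt h hxn hx
        omega
      obtain ⟨x', hxn', hx'⟩ := hinv'
      obtain ⟨y', hxy', hy'⟩ := exists_dihedral h' hxn' hx'
      have hC := card_rest h hxy hE
      have hC' := card_rest h' hxy' hE'
      obtain ⟨g, hg⟩ := ih (Pre.rest x y) (Pre.rest x' y') _ _ (h.pre_rest hxy) (h'.pre_rest hxy') hC hC'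
        (by have := cnt_dihedral h hxy hx hy; have := cnt_dihedral h' hxy' hx' hy'; omega)
      exact exists_iso h h' hxy hxy' (a := 0) (b := 0) (by rw [hx, pow_zero]) (by rw [hy, pow_zero])
        (by rw [hx', pow_zero]) (by rw [hy', pow_zero]) g hg
    · push Not at hinv
      have hno : ∀ w : E, w ^ 2 = 1 → w ∈ center E := fun w hw => by
        by_contra hh; exact hinv w hh hw
      have hno' : ∀ w : E', w ^ 2 = 1 → w ∈ center E' := fun w hw => by
        by_contra hh
        have h1 := cnt_center h hno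
        have h2 := two_lt_cnt h' hh hw
        omega
      obtain ⟨x, y, hxy, hx, hy⟩ := exists_quaternion h (hE ▸ hne) hno
      obtain ⟨x', y', hxy', hx', hy'⟩ := exists_quaternion h' (hE' ▸ hne) hno'
      have hC := card_rest h hxy hE
      have hC' := card_rest h' hxy' hE'
      obtain ⟨g, hg⟩ := ih (Pre.rest x y) (Pre.rest x' y') _ _ (h.pre_rest hxy) (h'.pre_rest hxy') hC hC'
        (by have := cnt_quaternion h hxy hx hy; have := cnt_quaternion h' hxy' hx' hy'; omega)
      exact exists_iso h h' hxy hxy' (a := 1) (b := 1) (by rw [hx, pow_one]) (by rw [hy, pow_one])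
        (by rw [hx', pow_one]) (by rw [hy', pow_one]) g hg

/-- Plus type is detected by an elementary abelian subgroup of order `2 ^ (m + 1)`. -/
theorem cnt_of_elementary {E : Type u} [Group E] [Finite E] {z : E} (h : Pre 2 E z) {m : ℕ}
    (hE : Nat.card E = 2 ^ (2 * m + 1)) {A : Subgroup E} (hA : IsElementaryAbelian 2 A)
    (hAc : Nat.card A = 2 ^ (m + 1)) : cnt E = 2 ^ (2 * m) + 2 ^ m := by
  rcases Nat.eq_zero_or_pos m with rfl | hm
  · rw [cnt_base h (by simpa using hE)]; norm_num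
  · refine LocalEvenA.card_sq_eq_one (h.extraspecial ?_) hE hA hAc
    rw [hE]
    have : 2 ^ 3 ≤ 2 ^ (2 * m + 1) := Nat.pow_le_pow_right two_pos (by omega)
    omega

theorem elementary_le {E : Type u} [Group E] [Finite E] (hE' : IsExtraspecial 2 E) {m : ℕ}
    (hE : Nat.card E = 2 ^ (2 * m + 1)) (A : Subgroup E) (hA : IsMulCommutative A) :
    Nat.card A ≤ 2 ^ (m + 1) := by
  have hsq : ∀ x : E, x ^ 2 ∈ center E := fun x => hE'.1.2.1 ▸ Basics.pow_mem_frattini hE'.1.1 x
  set R := A ⊔ center E with hR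
  have h1 : R ≤ centralizer (R : Set E) := by
    have hAA : A ≤ centralizer (A : Set E) := fun a ha => mem_centralizer_iff.2 fun b hb =>
      congrArg Subtype.val (hA.is_comm.comm ⟨b, hb⟩ ⟨a, ha⟩)
    exact sup_le (le_centralizer_iff.1 (sup_le hAA (center_le_centralizer _))) (center_le_centralizer _)
  have h2 := LocalEvenA.card_centralizer_mul_card_le hE' hsq R le_sup_right
  have h3 := card_le_of_le h1
  have h4 : Nat.card A ≤ Nat.card R := card_le_of_le le_sup_left
  rw [hE] at h2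
  have e : 2 ^ (2 * m + 1) * 2 = 2 ^ (m + 1) * 2 ^ (m + 1) := by ring
  rw [e] at h2
  exact h4.trans (Nat.mul_self_le_mul_self_iff.1 ((Nat.mul_le_mul_right _ h3).trans h2))

/-- The 2-rank of an extraspecial 2-group with the two counts. -/
theorem rank_cases {E : Type u} [Group E] [Finite E] (hX : IsExtraspecial 2 E) :
    ∃ m : ℕ, 1 ≤ m ∧ Nat.card E = 2 ^ (2 * m + 1) ∧
      ((cnt E = 2 ^ (2 * m) + 2 ^ m ∧ PRankLE 2 (m + 1) E ∧
          ∃ A : Subgroup E, IsElementaryAbelian 2 A ∧ Nat.card A = 2 ^ (m + 1)) ∨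
        (cnt E + 2 ^ m = 2 ^ (2 * m) ∧ PRankLE 2 m E ∧
          ∃ A : Subgroup E, IsElementaryAbelian 2 A ∧ Nat.card A = 2 ^ m)) := by
  obtain ⟨z, h⟩ := pre_of_extraspecial hX
  obtain ⟨m, hm⟩ := h.card_odd_power
  have hm1 : 1 ≤ m := by
    by_contra hlt
    have hc : center E = ⊤ := h.center_eq_top_iff.2 (by rw [hm, show m = 0 by omega]; norm_num)
    haveI := hX.1.1.isNilpotent
    haveI : Nontrivial E := Finite.one_lt_card_iff_nontrivial.1 (by rw [hm]; exact Nat.one_lt_two_pow (by omega))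
    have : commutator E = ⊥ := by
      rw [_root_.commutator_def, eq_bot_iff, Subgroup.commutator_le]
      intro a _ b _
      rw [mem_bot, commutatorElement_eq_one_iff_mul_comm]
      exact mem_center_iff.1 (show b ∈ center E by rw [hc]; exact mem_top _) a
    rw [hX.1.2.2, hc] at this
    exact top_ne_bot this
  refine ⟨m, hm1, hm, ?_⟩
  rcases classify m E z h hm with ⟨h1, hA⟩ | ⟨-, h1, hA⟩
  · exact Or.inl ⟨h1, fun A hA' _ => elementary_le hX hm A hA', hA⟩
  · refine Or.inr ⟨h1, fun A hA' he => ?_, hA⟩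
    obtain ⟨k, hk⟩ := IsPGroup.iff_card.1 (hX.1.1.to_subgroup A)
    have h3 := elementary_le hX hm A hA'
    rw [hk] at h3 ⊢
    have hk1 := (Nat.pow_le_pow_iff_right (by norm_num)).1 h3
    refine Nat.pow_le_pow_right two_pos ?_
    by_contra hlt
    have := cnt_of_elementary h hm (A := A) ⟨hA', he⟩ (by rw [hk, show k = m + 1 by omega])
    have : 0 < 2 ^ m := by positivity
    omega

theorem iso_two {E : Type u} {E' : Type v} [Group E] [Finite E] [Group E'] [Finite E']
    (hE : IsExtraspecial 2 E) (hE' : IsExtraspecial 2 E') (hc : Nat.card E = Nat.card E')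
    (hn : cnt E = cnt E') : Nonempty (E ≃* E') := by
  obtain ⟨z, h⟩ := pre_of_extraspecial hE
  obtain ⟨z', h'⟩ := pre_of_extraspecial hE'
  obtain ⟨m, hm⟩ := h.card_odd_power
  obtain ⟨φ, -⟩ := iso_of_cnt m E E' z z' h h' hm (hc.symm.trans hm) hn
  exact ⟨φ⟩

end Cfsg.Agent.Invol.ExtraspecialClass
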