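import Mathlib
import Cfsg.Agent.Lib.Invol.ExtraspecialClass

/-!
Models of the extraspecial 2-groups of plus and minus type, as twisted products of `(ZMod 2)^(2n)` with `ZMod 2`.
-/

set_option autoImplicit false

namespace Cfsg.Agent.Invol.ExtraspecialModel

open Subgroup Invol.ExtraPairs
open scoped commutatorElement

/-- Triples with a twisted product. -/
@[ext]
structure Tw (k : ℕ) (ε : ZMod 2) where
  a : Fin (k + 1) → ZMod 2
  b : Fin (k + 1) → ZMod 2
  c : ZMod 2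

namespace Tw

variable {k : ℕ} {ε : ZMod 2}

instance : Mul (Tw k ε) :=
  ⟨fun g h => ⟨g.a + h.a, g.b + h.b, g.c + h.c + g.a ⬝ᵥ h.b + ε * (g.a 0 * h.a 0 + g.b 0 * h.b 0)⟩⟩
instance : One (Tw k ε) := ⟨⟨0, 0, 0⟩⟩
instance : Inv (Tw k ε) :=
  ⟨fun g => ⟨-g.a, -g.b, -g.c + g.a ⬝ᵥ g.b + ε * (g.a 0 * g.a 0 + g.b 0 * g.b 0)⟩⟩

@[simp] theorem mul_a (g h : Tw k ε) : (g * h).a = g.a + h.a := rfl
@[simp] theorem mul_b (g h : Tw k ε) : (g * h).b = g.b + h.b := rfl
@[simp] theorem mul_c (g h : Tw k ε) :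
    (g * h).c = g.c + h.c + g.a ⬝ᵥ h.b + ε * (g.a 0 * h.a 0 + g.b 0 * h.b 0) := rfl
@[simp] theorem one_a : (1 : Tw k ε).a = 0 := rfl
@[simp] theorem one_b : (1 : Tw k ε).b = 0 := rfl
@[simp] theorem one_c : (1 : Tw k ε).c = 0 := rfl
@[simp] theorem inv_a (g : Tw k ε) : g⁻¹.a = -g.a := rfl
@[simp] theorem inv_b (g : Tw k ε) : g⁻¹.b = -g.b := rfl

instance : Group (Tw k ε) := Group.ofLeftAxioms
  (fun g h l => by
    refine Tw.ext ?_ ?_ ?_
    · simp [add_assoc]
    · simp [add_assoc]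
    · simp only [mul_a, mul_b, mul_c, add_dotProduct, dotProduct_add, Pi.add_apply]; ring)
  (fun g => Tw.ext (by simp) (by simp) (by simp))
  (fun g => Tw.ext (by simp) (by simp) (by
    show -g.c + g.a ⬝ᵥ g.b + ε * (g.a 0 * g.a 0 + g.b 0 * g.b 0) + g.c + (-g.a) ⬝ᵥ g.b
      + ε * ((-g.a) 0 * g.a 0 + (-g.b) 0 * g.b 0) = 0
    simp only [neg_dotProduct, Pi.neg_apply]; ring))

def equivProd : Tw k ε ≃ (Fin (k + 1) → ZMod 2) × (Fin (k + 1) → ZMod 2) × ZMod 2 where
  toFun g := (g.a, g.b, g.c)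
  invFun t := ⟨t.1, t.2.1, t.2.2⟩
  left_inv _ := rfl
  right_inv _ := rfl

instance : Finite (Tw k ε) := Finite.of_equiv _ equivProd.symm

theorem card : Nat.card (Tw k ε) = 2 ^ (2 * (k + 1) + 1) := by
  rw [Nat.card_congr equivProd, Nat.card_prod, Nat.card_prod, Nat.card_fun, Nat.card_fin, Nat.card_zmod]
  ring

/-- The central involution. -/
def zz : Tw k ε := ⟨0, 0, 1⟩

theorem eq_pow_zz (g : Tw k ε) (ha : g.a = 0) (hb : g.b = 0) : g ∈ zpowers (zz : Tw k ε) := by
  rcases (show g.c = 0 ∨ g.c = 1 by revert g; intro g _ _; generalize g.c = c; revert c; decide) with h | h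
  · have : g = 1 := Tw.ext ha hb h
    rw [this]; exact one_mem _
  · have : g = zz := Tw.ext ha hb h
    rw [this]; exact mem_zpowers _

theorem char_two_fun (f : Fin (k + 1) → ZMod 2) : f + f = 0 := by
  funext i; exact CharTwo.add_self_eq_zero (f i)

theorem pre : Pre 2 (Tw k ε) (zz : Tw k ε) := by
  have hz2 : (zz : Tw k ε) ^ 2 = 1 := by
    rw [pow_two]
    exact Tw.ext (by simp [zz]) (by simp [zz]) (by simp [zz, CharTwo.add_self_eq_zero])
  have hzc : ∀ g : Tw k ε, g * zz = zz * g := fun g =>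
    Tw.ext (by simp [zz]) (by simp [zz]) (by simp [zz, add_comm])
  refine ⟨orderOf_eq_prime hz2 (fun h => zero_ne_one (congrArg Tw.c h).symm), ?_, ?_, ?_⟩
  · refine le_antisymm ?_ (zpowers_le.2 (mem_center_iff.2 hzc))
    intro g hg
    rw [mem_center_iff] at hg
    refine eq_pow_zz g (funext fun i => ?_) (funext fun i => ?_)
    · have h := congrArg Tw.c (hg ⟨0, Pi.single i 1, 0⟩)
      simp only [mul_c, dotProduct_single, zero_dotProduct, mul_one, Pi.zero_apply] at h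
      show g.a i = 0
      linear_combination -h
    · have h := congrArg Tw.c (hg ⟨Pi.single i 1, 0, 0⟩)
      simp only [mul_c, single_dotProduct, dotProduct_zero, one_mul, Pi.zero_apply] at h
      show g.b i = 0
      linear_combination h
  · intro x y
    refine eq_pow_zz _ ?_ ?_
    · simp only [commutatorElement_def, mul_a, inv_a]; abel
    · simp only [commutatorElement_def, mul_b, inv_b]; abel
  · intro g
    rw [pow_two]
    exact eq_pow_zz _ (char_two_fun _) (char_two_fun _)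

theorem extraspecial : IsExtraspecial 2 (Tw k ε) := by
  refine pre.extraspecial ?_
  rw [card]
  have : 2 ^ 3 ≤ 2 ^ (2 * (k + 1) + 1) := Nat.pow_le_pow_right two_pos (by omega)
  omega

theorem exists_plus : ∃ A : Subgroup (Tw k 0), IsElementaryAbelian 2 A ∧ Nat.card A = 2 ^ (k + 2) := by
  let A : Subgroup (Tw k 0) :=
    { carrier := {g | g.a = 0}
      one_mem' := rfl
      mul_mem' := fun {g h} (hg : g.a = 0) (hh : h.a = 0) => show (g * h).a = 0 by simp [hg, hh]
      inv_mem' := fun {g} (hg : g.a = 0) => show g⁻¹.a = 0 by simp [hg] }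
  refine ⟨A, ⟨⟨⟨?_⟩⟩, ?_⟩, ?_⟩
  · rintro ⟨g, hg : g.a = 0⟩ ⟨h, hh : h.a = 0⟩
    exact Subtype.ext (Tw.ext (by simp [hg, hh]) (by simp [add_comm]) (by simp [hg, hh, add_comm]))
  · intro g (hg : g.a = 0)
    rw [pow_two]
    exact Tw.ext (by simp [hg]) (char_two_fun _) (by simp [hg, CharTwo.add_self_eq_zero])
  · have e : A ≃ (Fin (k + 1) → ZMod 2) × ZMod 2 :=
      ⟨fun g => (g.1.b, g.1.c), fun t => ⟨⟨0, t.1, t.2⟩, rfl⟩,
        fun g => Subtype.ext (Tw.ext g.2.symm rfl rfl), fun t => rfl⟩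
    rw [Nat.card_congr e, Nat.card_prod, Nat.card_fun, Nat.card_fin, Nat.card_zmod, ← pow_succ]

theorem cnt_minus : ExtraspecialClass.cnt (Tw k 1) + 2 ^ (k + 1) = 2 ^ (2 * (k + 1)) := by
  let x : Tw k 1 := ⟨Pi.single 0 1, 0, 0⟩
  let y : Tw k 1 := ⟨0, Pi.single 0 1, 0⟩
  have hxy : ⁅x, y⁆ = (zz : Tw k 1) := by
    have : x * y = zz * (y * x) := Tw.ext (by simp [x, y, zz]) (by simp [x, y, zz]) (by simp [x, y, zz])
    rw [commutatorElement_def, this]; group
  have hx : x ^ 2 = zz := by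
    rw [pow_two]; exact Tw.ext (char_two_fun _) (char_two_fun _) (by simp [x, zz])
  have hy : y ^ 2 = zz := by
    rw [pow_two]; exact Tw.ext (char_two_fun _) (char_two_fun _) (by simp [y, zz])
  have h : Pre 2 (Tw k 1) zz := pre
  have hC := ExtraspecialClass.card_rest h hxy (m := k) card
  have hq := ExtraspecialClass.cnt_quaternion h hxy hx hy
  have hmem : ∀ g : Tw k 1, g.a = 0 → g.b 0 = 0 → g ∈ Pre.rest x y := by
    intro g ha hb
    refine Pre.mem_rest.2 ⟨?_, ?_⟩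
    · exact Tw.ext (by simp [add_comm]) (by simp [add_comm]) (by simp [x, ha, hb])
    · exact Tw.ext (by simp [add_comm]) (by simp [add_comm]) (by simp [y, ha, hb])
  let A : Subgroup (Pre.rest x y) :=
    { carrier := {g | g.1.a = 0 ∧ g.1.b 0 = 0}
      one_mem' := ⟨rfl, rfl⟩
      mul_mem' := fun {g h} hg hh => ⟨by simp [hg.1, hh.1], by simp [hg.2, hh.2]⟩
      inv_mem' := fun {g} hg => ⟨by simp [hg.1], by simp [hg.2]⟩ }
  have hA : IsElementaryAbelian 2 A := by
    refine ⟨⟨⟨fun g h => ?_⟩⟩, fun g hg => ?_⟩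
    · exact Subtype.ext (Subtype.ext (Tw.ext (by simp [g.2.1, h.2.1]) (by simp [add_comm])
        (by simp [g.2.1, h.2.1, g.2.2, h.2.2, add_comm])))
    · rw [pow_two]
      exact Subtype.ext (Tw.ext (by simp [hg.1]) (char_two_fun _)
        (by simp [hg.1, hg.2, CharTwo.add_self_eq_zero]))
  have hAc : Nat.card A = 2 ^ (k + 1) := by
    have e : A ≃ (Fin k → ZMod 2) × ZMod 2 :=
      ⟨fun g => (Fin.tail g.1.1.b, g.1.1.c),
        fun t => ⟨⟨⟨0, Fin.cons 0 t.1, t.2⟩, hmem _ rfl (by simp)⟩, rfl, by simp⟩,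
        fun g => Subtype.ext (Subtype.ext (Tw.ext g.2.1.symm
          (by
            funext i
            induction i using Fin.cases with
            | zero => simpa using g.2.2.symm
            | succ i => simp [Fin.tail]) rfl)),
        fun t => by simp⟩
    rw [Nat.card_congr e, Nat.card_prod, Nat.card_fun, Nat.card_fin, Nat.card_zmod, ← pow_succ]
  have hc := ExtraspecialClass.cnt_of_elementary (h.pre_rest hxy) hC hA hAc
  rw [hC, hc, show 2 ^ (2 * k + 1) = 2 * 2 ^ (2 * k) by ring] at hq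
  rw [show 2 ^ (k + 1) = 2 * 2 ^ k by ring, show 2 ^ (2 * (k + 1)) = 4 * 2 ^ (2 * k) by ring]
  omega

end Tw

end Cfsg.Agent.Invol.ExtraspecialModel
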