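import Mathlib
import Cfsg.Prelude.Def_FischerSpaces
import Cfsg.Agent.S5344

set_option autoImplicit false

/-! The line system of a set of 3-transpositions: lines, and the planes generated by two lines. -/

namespace Cfsg.Agent.FischerLines

variable {G : Type*} [Group G] {D : Set G}

/-- The line through two points. -/
def line (x y : D) : Set D :=
  {z : D | (z : G) = x ∨ (z : G) = y ∨ (z : G) = (y : G) * x * (y : G)⁻¹}

theorem mem_lines_iff {l : Set D} :
    l ∈ Cfsg.threeTranspositionLines D ↔ ∃ x y : D, ¬ Commute (x : G) y ∧ l = line x y := Iff.rfl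

theorem sq_one (hD : Cfsg.IsThreeTranspositionSet D) {a : G} (ha : a ∈ D) : a * a = 1 :=
  ClassK.tt_mul_self hD ha

theorem inv_self (hD : Cfsg.IsThreeTranspositionSet D) {a : G} (ha : a ∈ D) : a⁻¹ = a :=
  ClassK.tt_inv hD ha

theorem conj_mem (hD : Cfsg.IsThreeTranspositionGroup D) {a b : G} (ha : a ∈ D) (hb : b ∈ D) :
    a * b * a ∈ D := by
  have := hD.2.1 a b hb
  rwa [inv_self hD.1 ha] at this

theorem commute_of_fix (hD : Cfsg.IsThreeTranspositionSet D) {a b : G} (ha : a ∈ D) (h : a * b * a = b) :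
    Commute a b := by
  calc a * b = a * b * (a * a) := by rw [sq_one hD ha, mul_one]
    _ = a * b * a * a := by group
    _ = b * a := by rw [h]

theorem braid (hD : Cfsg.IsThreeTranspositionSet D) {x y : G} (hx : x ∈ D) (hy : y ∈ D)
    (hxy : ¬ Commute x y) : y * x * y = x * y * x := by
  have h3 : (x * y) ^ 3 = 1 :=
    (hD.2 x hx y hy).resolve_left fun h => hxy ((ClassK.tt_commute_iff hD hx hy).2 h)
  have h4 : (x * y * x) * (y * x * y) = 1 := by rw [← h3, pow_three]; group
  rw [eq_inv_of_mul_eq_one_right h4, mul_inv_rev, mul_inv_rev, inv_self hD hx, inv_self hD hy, ← mul_assoc]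

variable (hD : Cfsg.IsThreeTranspositionGroup D)
include hD

theorem line_symm {x y : D} (hxy : ¬ Commute (x : G) y) : line x y = line y x := by
  ext z
  have h := braid hD.1 x.2 y.2 hxy
  simp only [line, Set.mem_ofPred_eq, inv_self hD.1 x.2, inv_self hD.1 y.2, h]
  tauto

theorem line_third {x y z : D} (hxy : ¬ Commute (x : G) y) (hz : (z : G) = (y : G) * x * y) :
    ¬ Commute (x : G) z ∧ line x y = line x z := by
  have hb := braid hD.1 x.2 y.2 hxy
  have h1 : (x : G) * z * x = y := by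
    rw [hz, hb]
    calc (x : G) * (x * y * x) * x = (x * x) * y * ((x : G) * x) := by group
      _ = y := by rw [sq_one hD.1 x.2, one_mul, mul_one]
  have hne : (z : G) ≠ y := by
    intro e
    rw [e] at h1
    exact hxy (commute_of_fix hD.1 x.2 h1)
  have hn : ¬ Commute (x : G) z := by
    intro h
    refine hne ?_
    rw [← h1, h.eq, mul_assoc, sq_one hD.1 x.2, mul_one]
  refine ⟨hn, ?_⟩
  ext w
  simp only [line, Set.mem_ofPred_eq, inv_self hD.1 y.2, inv_self hD.1 z.2, ← hz,
    braid hD.1 x.2 z.2 hn, h1]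
  tauto

theorem mem_line_left (x y : D) : x ∈ line x y := Or.inl rfl

theorem mem_line_right (x y : D) : y ∈ line x y := Or.inr (Or.inl rfl)

theorem line_of_two {x y : D} (hxy : ¬ Commute (x : G) y) {u v : D} (hu : u ∈ line x y) (hv : v ∈ line x y)
    (huv : u ≠ v) : ¬ Commute (u : G) v ∧ line x y = line u v := by
  obtain ⟨z, hz⟩ : ∃ z : D, (z : G) = (y : G) * x * y := ⟨⟨_, conj_mem hD y.2 x.2⟩, rfl⟩
  obtain ⟨hxz, e1⟩ := line_third hD hxy hz
  have hyx : ¬ Commute (y : G) x := fun h => hxy h.symm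
  obtain ⟨hyz, e2⟩ := line_third hD hyx (z := z) (by rw [hz, braid hD.1 x.2 y.2 hxy])
  have e3 := line_symm hD hxy
  have mem : ∀ w : D, w ∈ line x y → w = x ∨ w = y ∨ w = z := by
    intro w hw
    simp only [line, Set.mem_ofPred_eq, inv_self hD.1 y.2, ← hz] at hw
    rcases hw with h | h | h
    · exact Or.inl (Subtype.ext h)
    · exact Or.inr (Or.inl (Subtype.ext h))
    · exact Or.inr (Or.inr (Subtype.ext h))
  rcases mem u hu with rfl | rfl | rfl <;> rcases mem v hv with rfl | rfl | rfl <;>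
    first
      | exact absurd rfl huv
      | exact ⟨hxy, rfl⟩
      | exact ⟨hyx, e3⟩
      | exact ⟨hxz, e1⟩
      | exact ⟨fun h => hxz h.symm, e1.trans (line_symm hD hxz)⟩
      | exact ⟨hyz, e3.trans e2⟩
      | exact ⟨fun h => hyz h.symm, (e3.trans e2).trans (line_symm hD hyz)⟩

theorem isPartialLinear : Cfsg.LineSystem.IsPartialLinear (Cfsg.threeTranspositionLines D) := by
  rintro l ⟨x, y, hxy, rfl⟩ m ⟨x', y', hxy', rfl⟩ u v huv hu hv hu' hv'
  exact (line_of_two hD hxy hu hv huv).2.trans (line_of_two hD hxy' hu' hv' huv).2.symm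

theorem line_ncard {x y : D} (hxy : ¬ Commute (x : G) y) : (line x y).ncard = 3 := by
  obtain ⟨z, hz⟩ : ∃ z : D, (z : G) = (y : G) * x * y := ⟨⟨_, conj_mem hD y.2 x.2⟩, rfl⟩
  obtain ⟨hxz, -⟩ := line_third hD hxy hz
  have hyx : ¬ Commute (y : G) x := fun h => hxy h.symm
  obtain ⟨hyz, -⟩ := line_third hD hyx (z := z) (by rw [hz, braid hD.1 x.2 y.2 hxy])
  rw [Set.ncard_eq_three]
  refine ⟨x, y, z, fun e => hxy (e ▸ Commute.refl _), fun e => hxz (e ▸ Commute.refl _),
    fun e => hyz (e ▸ Commute.refl _), ?_⟩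
  ext w
  simp only [line, Set.mem_ofPred_eq, inv_self hD.1 y.2, ← hz, Set.mem_insert_iff, Set.mem_singleton_iff,
    Subtype.ext_iff]

/-- The third point of a line through two points of a subspace lies in it. -/
theorem third_mem {T : Set D} (hT : Cfsg.LineSystem.IsSubspace (Cfsg.threeTranspositionLines D) T) {x y w : D}
    (hx : x ∈ T) (hy : y ∈ T) (hxy : ¬ Commute (x : G) y) (hw : (w : G) = (y : G) * x * y) : w ∈ T :=
  hT (line x y) ⟨x, y, hxy, rfl⟩ x hx y hy (fun e => hxy (e ▸ Commute.refl _)) (mem_line_left hD x y)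
    (mem_line_right hD x y) (Or.inr (Or.inr (by rw [hw, inv_self hD.1 y.2])))

/-- Transport of a model plane. -/
theorem plane {X : Type*} (M : Set (Set X)) (P : X → D) (hP : Function.Injective P)
    (hM : ∀ m ∈ M, P '' m ∈ Cfsg.threeTranspositionLines D)
    (hcov : ∀ i j, i ≠ j → ¬ Commute (P i : G) (P j) → ∃ m ∈ M, i ∈ m ∧ j ∈ m)
    (A : Set D) (hA : A ⊆ Set.range P)
    (hgen : ∀ T : Set D, A ⊆ T → Cfsg.LineSystem.IsSubspace (Cfsg.threeTranspositionLines D) T → Set.range P ⊆ T) :
    Cfsg.LineSystem.Isomorphic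
      (Cfsg.LineSystem.restrict (Cfsg.threeTranspositionLines D)
        (Cfsg.LineSystem.span (Cfsg.threeTranspositionLines D) A)) M := by
  have hin : ∀ l ∈ Cfsg.threeTranspositionLines D, ∀ i j, i ≠ j → P i ∈ l → P j ∈ l →
      ∃ m ∈ M, P '' m = l := by
    intro l hl i j hij hi hj
    obtain ⟨x, y, hxy, rfl⟩ := hl
    have hne : P i ≠ P j := fun e => hij (hP e)
    obtain ⟨m, hm, hmi, hmj⟩ := hcov i j hij (line_of_two hD hxy hi hj hne).1
    exact ⟨m, hm, isPartialLinear hD _ (hM m hm) _ ⟨x, y, hxy, rfl⟩ _ _ hne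
      (Set.mem_image_of_mem P hmi) (Set.mem_image_of_mem P hmj) hi hj⟩
  have hsub : Cfsg.LineSystem.IsSubspace (Cfsg.threeTranspositionLines D) (Set.range P) := by
    rintro l hl _ ⟨i, rfl⟩ _ ⟨j, rfl⟩ hne hi hj
    obtain ⟨m, -, rfl⟩ := hin l hl i j (fun e => hne (congrArg P e)) hi hj
    exact Set.image_subset_range P m
  have hspan : Cfsg.LineSystem.span (Cfsg.threeTranspositionLines D) A = Set.range P := by
    refine le_antisymm (Set.sInter_subset_of_mem ⟨hA, hsub⟩) (Set.subset_sInter ?_)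
    rintro T ⟨hAT, hT⟩
    exact hgen T hAT hT
  rw [hspan]
  refine ⟨(Equiv.ofInjective P hP).symm, fun l => ⟨?_, ?_⟩⟩
  · rintro ⟨l', hl', hsubl, rfl⟩
    obtain ⟨x, y, hxy, rfl⟩ := hl'
    obtain ⟨i, hi⟩ := hsubl (mem_line_left hD x y)
    obtain ⟨j, hj⟩ := hsubl (mem_line_right hD x y)
    have hij : i ≠ j := fun e => hxy (by rw [← hi, ← hj, e])
    obtain ⟨m, hm, hml⟩ := hin (line x y) ⟨x, y, hxy, rfl⟩ i j hij (hi ▸ mem_line_left hD x y)
      (hj ▸ mem_line_right hD x y)
    suffices ((Equiv.ofInjective P hP).symm '' {z : Set.range P | (z : D) ∈ line x y}) = m from this ▸ hm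
    ext k
    rw [Equiv.image_symm_eq_preimage, Set.mem_preimage, Set.mem_ofPred_eq, Equiv.ofInjective_apply, ← hml,
      hP.mem_set_image]
  · intro h
    rw [Equiv.image_symm_eq_preimage] at h
    refine ⟨_, hM _ h, Set.image_subset_range P _, ?_⟩
    ext ⟨z, k, rfl⟩
    rw [Set.mem_ofPred_eq, hP.mem_set_image, Set.mem_preimage]
    rfl

omit hD in
/-- Enumeration of the six transpositions. -/
def tr (s : Cfsg.DualAffinePoint) : Equiv.Perm (Fin 4) :=
  if s.1 = {0, 1} then Equiv.swap 0 1 else if s.1 = {0, 2} then Equiv.swap 0 2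
  else if s.1 = {0, 3} then Equiv.swap 0 3 else if s.1 = {1, 2} then Equiv.swap 1 2
  else if s.1 = {1, 3} then Equiv.swap 1 3 else Equiv.swap 2 3

omit hD in
theorem tr_inj : Function.Injective tr := by unfold Function.Injective; decide

omit hD in
theorem tr_conj : ∀ s, ∃ g : Equiv.Perm (Fin 4), g * Equiv.swap 0 1 * g⁻¹ = tr s := by decide +kernel

omit hD in
theorem tr_cases : ∀ s t, tr s * tr t = tr t * tr s ∨ s = t ∨
    ∃ i : Fin 4, i ∉ s.1 ∧ i ∉ t.1 := by decide +kernel

omit hD in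
theorem tr_line : ∀ i : Fin 4, ∃ s t u : Cfsg.DualAffinePoint, tr s * tr t ≠ tr t * tr s ∧
    tr t * tr s * tr t = tr u ∧ ∀ w : Cfsg.DualAffinePoint, i ∉ w.1 ↔ w = s ∨ w = t ∨ w = u := by
  decide +kernel

theorem dual_case {a b c : D} (hab : ¬ Commute (b : G) a) (hac : ¬ Commute (a : G) c) (hbc : Commute (b : G) c)
    (hne : b ≠ c) : Cfsg.LineSystem.Isomorphic
      (Cfsg.LineSystem.restrict (Cfsg.threeTranspositionLines D)
        (Cfsg.LineSystem.span (Cfsg.threeTranspositionLines D) (line a b ∪ line a c))) Cfsg.dualAffinePlaneTwo := by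
  obtain ⟨φ, hφ, h01, h12, h23⟩ := S5344.result hD.1 b.2 a.2 c.2 (fun e => hne (Subtype.ext e)) hbc hab hac
  have hmem : ∀ s, φ (tr s) ∈ D := by
    intro s
    obtain ⟨g, hg⟩ := tr_conj s
    rw [← hg, map_mul, map_mul, map_inv, h01]
    exact hD.2.1 _ _ b.2
  let P : Cfsg.DualAffinePoint → D := fun s => ⟨φ (tr s), hmem s⟩
  have hP : Function.Injective P := fun s t e => tr_inj (hφ (congrArg Subtype.val e))
  have hcomm : ∀ s t, Commute (P s : G) (P t) ↔ tr s * tr t = tr t * tr s := by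
    intro s t
    show φ (tr s) * φ (tr t) = φ (tr t) * φ (tr s) ↔ _
    rw [← map_mul, ← map_mul, hφ.eq_iff]
  have hpa : P ⟨{1, 2}, by decide⟩ = a := Subtype.ext (Eq.trans (congrArg φ (by decide)) h12)
  have hpb : P ⟨{0, 1}, by decide⟩ = b := Subtype.ext (Eq.trans (congrArg φ (by decide)) h01)
  have hpc : P ⟨{2, 3}, by decide⟩ = c := Subtype.ext (Eq.trans (congrArg φ (by decide)) h23)
  have key : ∀ s t u : Cfsg.DualAffinePoint, tr t * tr s * tr t = tr u → (P u : G) = (P t : G) * P s * P t := by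
    intro s t u h
    show φ (tr u) = φ (tr t) * φ (tr s) * φ (tr t)
    rw [← map_mul, ← map_mul, h]
  refine plane hD _ P hP ?_ ?_ _ ?_ ?_
  · rintro m ⟨i, rfl⟩
    obtain ⟨s, t, u, hst, hu, hiff⟩ := tr_line i
    refine ⟨P s, P t, fun h => hst ((hcomm s t).1 h), ?_⟩
    ext w
    simp only [Set.mem_image, Set.mem_ofPred_eq, inv_self hD.1 (P t).2, ← key s t u hu, Subtype.coe_inj]
    constructor
    · rintro ⟨v, hv, rfl⟩
      rcases (hiff v).1 hv with h | h | h <;> simp [h]
    · rintro (h | h | h)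
      · exact ⟨s, (hiff s).2 (by simp), h.symm⟩
      · exact ⟨t, (hiff t).2 (by simp), h.symm⟩
      · exact ⟨u, (hiff u).2 (by simp), h.symm⟩
  · intro s t hst hnc
    rcases tr_cases s t with h | h | ⟨i, hs, ht⟩
    · exact absurd ((hcomm s t).2 h) hnc
    · exact absurd h hst
    · exact ⟨_, ⟨i, rfl⟩, hs, ht⟩
  · rintro w (hw | hw) <;> simp only [line, Set.mem_ofPred_eq, inv_self hD.1 b.2, inv_self hD.1 c.2] at hw <;>
      rcases hw with h | h | h
    · exact ⟨_, hpa.trans (Subtype.ext h.symm)⟩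
    · exact ⟨_, hpb.trans (Subtype.ext h.symm)⟩
    · refine ⟨⟨{0, 2}, by decide⟩, Subtype.ext ?_⟩
      rw [h, ← hpa, ← hpb]
      exact key _ _ _ (by decide)
    · exact ⟨_, hpa.trans (Subtype.ext h.symm)⟩
    · exact ⟨_, hpc.trans (Subtype.ext h.symm)⟩
    · refine ⟨⟨{1, 3}, by decide⟩, Subtype.ext ?_⟩
      rw [h, ← hpa, ← hpc]
      exact key _ _ _ (by decide)
  · intro T hAT hT
    have ha : P ⟨{1, 2}, by decide⟩ ∈ T := hpa ▸ hAT (Or.inl (mem_line_left hD a b))
    have hb : P ⟨{0, 1}, by decide⟩ ∈ T := hpb ▸ hAT (Or.inl (mem_line_right hD a b))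
    have hc : P ⟨{2, 3}, by decide⟩ ∈ T := hpc ▸ hAT (Or.inr (mem_line_right hD a c))
    have step : ∀ s t u, P s ∈ T → P t ∈ T → tr s * tr t ≠ tr t * tr s → tr t * tr s * tr t = tr u → P u ∈ T :=
      fun s t u hs ht hne' h => third_mem hD hT hs ht (fun e => hne' ((hcomm s t).1 e)) (key s t u h)
    have h02 := step _ _ ⟨{0, 2}, by decide⟩ hb ha (by decide) (by decide)
    have h13 := step _ _ ⟨{1, 3}, by decide⟩ ha hc (by decide) (by decide)
    have h03 := step _ _ ⟨{0, 3}, by decide⟩ h02 hc (by decide) (by decide)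
    rintro _ ⟨s, rfl⟩
    have hs : ∀ s : Cfsg.DualAffinePoint, s = ⟨{0, 1}, by decide⟩ ∨ s = ⟨{1, 2}, by decide⟩ ∨ s = ⟨{2, 3}, by decide⟩ ∨
        s = ⟨{0, 2}, by decide⟩ ∨ s = ⟨{1, 3}, by decide⟩ ∨ s = ⟨{0, 3}, by decide⟩ := by decide
    rcases hs s with rfl | rfl | rfl | rfl | rfl | rfl <;> assumption

omit hD in
theorem vec_cases : ∀ v : Fin 2 → ZMod 3, v = ![0, 0] ∨ v = ![1, 0] ∨ v = ![2, 0] ∨ v = ![0, 1] ∨ v = ![0, 2] ∨
    v = ![1, 1] ∨ v = ![2, 2] ∨ v = ![1, 2] ∨ v = ![2, 1] := by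
  decide

omit hD in
theorem affine_pair : ∀ v d : Fin 2 → ZMod 3, v + (0 : ZMod 3) • d = v ∧ v + (1 : ZMod 3) • d = v + d ∧
    v + (2 : ZMod 3) • d = -(v + (v + d)) := by
  decide +kernel

omit hD in
theorem zmod_three : ∀ e : ZMod 3, e = 0 ∨ e = 1 ∨ e = 2 := by decide

theorem affine_case {a b c : D} (hab : ¬ Commute (a : G) b) (hac : ¬ Commute (a : G) c)
    (hbc : ¬ Commute (b : G) c) (hbac : ¬ Commute ((a : G) * b * a) c) (hbca : ¬ Commute (b : G) (a * c * a)) :
    Cfsg.LineSystem.Isomorphic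
      (Cfsg.LineSystem.restrict (Cfsg.threeTranspositionLines D)
        (Cfsg.LineSystem.span (Cfsg.threeTranspositionLines D) (line a b ∪ line a c))) Cfsg.affinePlaneThree := by
  obtain ⟨A, hA⟩ := a
  obtain ⟨B, hB⟩ := b
  obtain ⟨C, hC⟩ := c
  dsimp only at hab hac hbc hbac hbca
  have hAA := sq_one hD.1 hA
  have hBB := sq_one hD.1 hB
  have hCC := sq_one hD.1 hC
  have dAB := conj_mem hD hA hB
  have dAC := conj_mem hD hA hC
  have dBC := conj_mem hD hB hC
  have bab := braid hD.1 hA hB hab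
  have cac := braid hD.1 hA hC hac
  have cbc := braid hD.1 hB hC hbc
  have ucu : C * (A * B * A) * C = (A * B * A) * C * (A * B * A) := braid hD.1 dAB hC hbac
  have bvb : B * (A * C * A) * B = (A * C * A) * B * (A * C * A) := (braid hD.1 hB dAC hbca).symm
  let f : (Fin 2 → ZMod 3) → G := fun v =>
    if v = ![0, 0] then A else if v = ![1, 0] then B else if v = ![2, 0] then A * B * A else
    if v = ![0, 1] then C else if v = ![0, 2] then A * C * A else if v = ![2, 2] then B * C * B else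
    if v = ![1, 1] then A * (B * C * B) * A else if v = ![2, 1] then B * (A * C * A) * B else
    C * (A * B * A) * C
  have f00 : f ![0, 0] = A := by simp +decide [f]
  have f10 : f ![1, 0] = B := by simp +decide [f]
  have f20 : f ![2, 0] = A * B * A := by simp +decide [f]
  have f01 : f ![0, 1] = C := by simp +decide [f]
  have f02 : f ![0, 2] = A * C * A := by simp +decide [f]
  have f22 : f ![2, 2] = B * C * B := by simp +decide [f]
  have f11 : f ![1, 1] = A * (B * C * B) * A := by simp +decide [f]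
  have f21 : f ![2, 1] = B * (A * C * A) * B := by simp +decide [f]
  have f12 : f ![1, 2] = C * (A * B * A) * C := by simp +decide [f]
  have hfD : ∀ v, f v ∈ D := by
    intro v
    rcases vec_cases v with rfl | rfl | rfl | rfl | rfl | rfl | rfl | rfl | rfl
    · rw [f00]; exact hA
    · rw [f10]; exact hB
    · rw [f20]; exact dAB
    · rw [f01]; exact hC
    · rw [f02]; exact dAC
    · rw [f11]; exact conj_mem hD hA dBC
    · rw [f22]; exact dBC
    · rw [f12]; exact conj_mem hD hC dAB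
    · rw [f21]; exact conj_mem hD hB dAC
  have undo : ∀ x y z : G, x * x = 1 → z = x * y * x → x * z * x = y := by
    intro x y z hx hz
    rw [hz, show x * (x * y * x) * x = (x * x) * y * (x * x) by group, hx, one_mul, mul_one]
  let R : (Fin 2 → ZMod 3) → Prop := fun i => ∀ v, f i * f v * f i = f (-(i + v))
  have nv : ∀ i v w : Fin 2 → ZMod 3, -(i + v) = w → f (-(i + v)) = f w := fun i v w h => congrArg f h
  have self : ∀ x : G, x * x = 1 → x * x * x = x := fun x hx => by rw [hx, one_mul]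
  have ra : R ![0, 0] := by
    intro v
    rw [f00]
    rcases vec_cases v with rfl | rfl | rfl | rfl | rfl | rfl | rfl | rfl | rfl
    · rw [nv _ _ ![0, 0] (by decide), f00]; exact self A hAA
    · rw [nv _ _ ![2, 0] (by decide), f10, f20]
    · rw [nv _ _ ![1, 0] (by decide), f20, f10]; exact undo A B _ hAA rfl
    · rw [nv _ _ ![0, 2] (by decide), f01, f02]
    · rw [nv _ _ ![0, 1] (by decide), f02, f01]; exact undo A C _ hAA rfl
    · rw [nv _ _ ![2, 2] (by decide), f11, f22]; exact undo A _ _ hAA rfl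
    · rw [nv _ _ ![1, 1] (by decide), f22, f11]
    · rw [nv _ _ ![2, 1] (by decide), f12, f21]
      refine undo A _ _ hAA ?_
      rw [ucu]; group
    · rw [nv _ _ ![1, 2] (by decide), f21, f12, ucu]; group
  have rb : R ![1, 0] := by
    intro v
    rw [f10]
    have e1 : B * (A * (B * C * B) * A) * B = C * (A * B * A) * C := by
      rw [ucu, ← bab, show B * (A * (B * C * B) * A) * B = (B * A * B) * C * (B * A * B) by group]
    rcases vec_cases v with rfl | rfl | rfl | rfl | rfl | rfl | rfl | rfl | rfl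
    · rw [nv _ _ ![2, 0] (by decide), f00, f20, bab]
    · rw [nv _ _ ![1, 0] (by decide), f10]; exact self B hBB
    · rw [nv _ _ ![0, 0] (by decide), f20, f00, ← bab]; exact undo B A _ hBB rfl
    · rw [nv _ _ ![2, 2] (by decide), f01, f22]
    · rw [nv _ _ ![2, 1] (by decide), f02, f21]
    · rw [nv _ _ ![1, 2] (by decide), f11, f12, e1]
    · rw [nv _ _ ![0, 1] (by decide), f22, f01]; exact undo B C _ hBB rfl
    · rw [nv _ _ ![1, 1] (by decide), f12, f11, ← e1]; exact undo B _ _ hBB rfl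
    · rw [nv _ _ ![0, 2] (by decide), f21, f02]; exact undo B _ _ hBB rfl
  have rc : R ![0, 1] := by
    intro v
    rw [f01]
    have e1 : C * (A * (B * C * B) * A) * C = B * (A * C * A) * B := by
      rw [bvb, ← cac, ← cbc, show C * (A * (C * B * C) * A) * C = (C * A * C) * B * (C * A * C) by group]
    rcases vec_cases v with rfl | rfl | rfl | rfl | rfl | rfl | rfl | rfl | rfl
    · rw [nv _ _ ![0, 2] (by decide), f00, f02, cac]
    · rw [nv _ _ ![2, 2] (by decide), f10, f22, cbc]
    · rw [nv _ _ ![1, 2] (by decide), f20, f12]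
    · rw [nv _ _ ![0, 1] (by decide), f01]; exact self C hCC
    · rw [nv _ _ ![0, 0] (by decide), f02, f00, ← cac]; exact undo C A _ hCC rfl
    · rw [nv _ _ ![2, 1] (by decide), f11, f21, e1]
    · rw [nv _ _ ![1, 0] (by decide), f22, f10, ← cbc]; exact undo C B _ hCC rfl
    · rw [nv _ _ ![2, 0] (by decide), f12, f20]; exact undo C _ _ hCC rfl
    · rw [nv _ _ ![1, 1] (by decide), f21, f11, ← e1]; exact undo C _ _ hCC rfl
  have step : ∀ i j k, R i → R j → -(i + j) = k → R k := by
    intro i j k hi hj hk v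
    subst hk
    rw [← hi j, show f i * f j * f i * f v * (f i * f j * f i) =
      f i * (f j * (f i * f v * f i) * f j) * f i by group, hi v, hj, hi]
    congr 1
    have h3 : ∀ a b c : ZMod 3, -(a + -(b + -(a + c))) = -(-(a + b) + c) := by decide
    ext t
    simp only [Pi.neg_apply, Pi.add_apply]
    exact h3 _ _ _
  have rall : ∀ i, R i := by
    have h20 : R ![2, 0] := step _ _ _ ra rb (by decide)
    have h02 : R ![0, 2] := step _ _ _ ra rc (by decide)
    have h22 : R ![2, 2] := step _ _ _ rb rc (by decide)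
    intro i
    rcases vec_cases i with rfl | rfl | rfl | rfl | rfl | rfl | rfl | rfl | rfl
    · exact ra
    · exact rb
    · exact h20
    · exact rc
    · exact h02
    · exact step _ _ _ ra h22 (by decide)
    · exact h22
    · exact step _ _ _ rc h20 (by decide)
    · exact step _ _ _ rb h02 (by decide)
  have fne1 : A ≠ B := fun e => hab (e ▸ Commute.refl A)
  have fne2 : A ≠ C := fun e => hac (e ▸ Commute.refl A)
  have hinj : Function.Injective f := by
    intro v w hvw
    by_contra hne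
    have tr' : ∀ u, f u = f (u + (v - w)) := by
      intro u
      have e1 := rall v (-u - v)
      rw [hvw, rall w (-u - v)] at e1
      rw [show -(v + (-u - v)) = u by abel, show -(w + (-u - v)) = u + (v - w) by abel] at e1
      exact e1.symm
    have k1 : f ![0, 0] ≠ f ![1, 0] := by rw [f00, f10]; exact fne1
    have k2 : f ![0, 0] ≠ f ![2, 0] := by
      rw [f00, f20]
      intro e
      exact fne1 ((undo A B A hAA e).symm.trans (self A hAA)).symm
    have k3 : f ![0, 0] ≠ f ![0, 1] := by rw [f00, f01]; exact fne2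
    have k4 : f ![0, 0] ≠ f ![0, 2] := by
      rw [f00, f02]
      intro e
      exact fne2 ((undo A C A hAA e).symm.trans (self A hAA)).symm
    have k5 : f ![1, 0] ≠ f ![0, 1] := by rw [f10, f01]; exact fun e => hbc (e ▸ Commute.refl B)
    have k6 : f ![2, 0] ≠ f ![0, 1] := by rw [f20, f01]; exact fun e => hbac (e ▸ Commute.refl _)
    rcases vec_cases (v - w) with h | h | h | h | h | h | h | h | h <;> rw [h] at tr'
    · exact hne (sub_eq_zero.1 (h.trans (by decide)))
    · exact k1 ((tr' _).trans (congrArg f (by decide)))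
    · exact k2 ((tr' _).trans (congrArg f (by decide)))
    · exact k3 ((tr' _).trans (congrArg f (by decide)))
    · exact k4 ((tr' _).trans (congrArg f (by decide)))
    · exact k6 ((tr' _).trans (congrArg f (by decide)))
    · exact k6.symm ((tr' _).trans (congrArg f (by decide)))
    · exact k5.symm ((tr' _).trans (congrArg f (by decide)))
    · exact k5 ((tr' _).trans (congrArg f (by decide)))
  let P : (Fin 2 → ZMod 3) → D := fun v => ⟨f v, hfD v⟩
  have hP : Function.Injective P := fun v w e => hinj (congrArg Subtype.val e)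
  have key : ∀ i j k, -(j + i) = k → (P k : G) = (P j : G) * P i * P j := by
    intro i j k h
    show f k = f j * f i * f j
    rw [rall j i, h]
  have hnc : ∀ i j, i ≠ j → ¬ Commute (P i : G) (P j) := by
    intro i j hij h
    have e : f i * f j * f i = f j := by
      rw [show f i * f j = f j * f i from h, mul_assoc, sq_one hD.1 (hfD i), mul_one]
    rw [rall i j] at e
    have e' := hinj e
    refine hij ?_
    have h3 : ∀ i j : Fin 2 → ZMod 3, -(i + j) = j → i = j := by decide +kernel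
    exact h3 i j e'
  refine plane hD _ P hP ?_ ?_ _ ?_ ?_
  · rintro m ⟨v, d, hd, rfl⟩
    refine ⟨P v, P (v + d), hnc _ _ (fun e => hd (by simpa using e)), ?_⟩
    obtain ⟨q0, q1, q2⟩ := affine_pair v d
    have kk := key v (v + d) (v + (2 : ZMod 3) • d) (by rw [q2, add_comm (v + d) v])
    ext z
    simp only [Set.mem_image, Set.mem_ofPred_eq, inv_self hD.1 (P (v + d)).2, ← kk, Subtype.coe_inj]
    constructor
    · rintro ⟨x, ⟨e, rfl⟩, rfl⟩
      rcases zmod_three e with rfl | rfl | rfl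
      · exact Or.inl (congrArg P q0)
      · exact Or.inr (Or.inl (congrArg P q1))
      · exact Or.inr (Or.inr rfl)
    · rintro (h | h | h)
      · exact ⟨_, ⟨0, rfl⟩, (congrArg P q0).trans h.symm⟩
      · exact ⟨_, ⟨1, rfl⟩, (congrArg P q1).trans h.symm⟩
      · exact ⟨_, ⟨2, rfl⟩, h.symm⟩
  · intro i j hij _
    exact ⟨_, ⟨i, j - i, sub_ne_zero.2 (Ne.symm hij), rfl⟩, ⟨0, by simp⟩, ⟨1, by simp⟩⟩
  · rintro z (hz | hz) <;> simp only [line, Set.mem_ofPred_eq, inv_self hD.1 hB, inv_self hD.1 hC] at hz <;>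
      rcases hz with h | h | h
    · exact ⟨![0, 0], Subtype.ext (f00.trans h.symm)⟩
    · exact ⟨![1, 0], Subtype.ext (f10.trans h.symm)⟩
    · exact ⟨![2, 0], Subtype.ext (f20.trans (bab.symm.trans h.symm))⟩
    · exact ⟨![0, 0], Subtype.ext (f00.trans h.symm)⟩
    · exact ⟨![0, 1], Subtype.ext (f01.trans h.symm)⟩
    · exact ⟨![0, 2], Subtype.ext (f02.trans (cac.symm.trans h.symm))⟩
  · intro T hAT hT
    have mem : ∀ i j, P i ∈ T → P j ∈ T → i ≠ j → P (-(j + i)) ∈ T := fun i j hi hj hij =>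
      third_mem hD hT hi hj (hnc i j hij) (key i j _ rfl)
    have ha : P ![0, 0] ∈ T := by
      have : P ![0, 0] = ⟨A, hA⟩ := Subtype.ext f00
      rw [this]; exact hAT (Or.inl (mem_line_left hD _ _))
    have hb : P ![1, 0] ∈ T := by
      have : P ![1, 0] = ⟨B, hB⟩ := Subtype.ext f10
      rw [this]; exact hAT (Or.inl (mem_line_right hD _ _))
    have hc : P ![0, 1] ∈ T := by
      have : P ![0, 1] = ⟨C, hC⟩ := Subtype.ext f01
      rw [this]; exact hAT (Or.inr (mem_line_right hD _ _))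
    have go : ∀ i j k, P i ∈ T → P j ∈ T → i ≠ j → -(j + i) = k → P k ∈ T :=
      fun i j k hi hj hij hk => hk ▸ mem i j hi hj hij
    have h20 := go _ _ ![2, 0] ha hb (by decide) (by decide)
    have h02 := go _ _ ![0, 2] ha hc (by decide) (by decide)
    have h22 := go _ _ ![2, 2] hb hc (by decide) (by decide)
    rintro _ ⟨i, rfl⟩
    rcases vec_cases i with rfl | rfl | rfl | rfl | rfl | rfl | rfl | rfl | rfl
    · exact ha
    · exact hb
    · exact h20
    · exact hc
    · exact h02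
    · exact go _ _ _ ha h22 (by decide) (by decide)
    · exact h22
    · exact go _ _ _ hc h20 (by decide) (by decide)
    · exact go _ _ _ hb h02 (by decide) (by decide)

theorem isFischerSpace : Cfsg.IsFischerSpace (Cfsg.threeTranspositionLines D) := by
  refine ⟨isPartialLinear hD, ?_, ?_⟩
  · rintro l ⟨x, y, hxy, rfl⟩
    exact line_ncard hD hxy
  rintro l hl m hm hlm ⟨a, hal, ham⟩
  obtain ⟨x, y, hxy, hl'⟩ := mem_lines_iff.1 hl
  obtain ⟨x', y', hxy', hm'⟩ := mem_lines_iff.1 hm
  subst hl' hm'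
  obtain ⟨b, hb, hba⟩ := Set.exists_ne_of_one_lt_ncard (by rw [line_ncard hD hxy]; norm_num : 1 < (line x y).ncard) a
  obtain ⟨c, hc, hca⟩ := Set.exists_ne_of_one_lt_ncard (by rw [line_ncard hD hxy']; norm_num : 1 < (line x' y').ncard) a
  obtain ⟨hab, el⟩ := line_of_two hD hxy hal hb hba.symm
  obtain ⟨hac, em⟩ := line_of_two hD hxy' ham hc hca.symm
  rw [el, em]
  have hlm' : ∀ u v : D, u ∈ line a b → v ∈ line a c → u ≠ a → u ≠ v := by
    intro u v hu hv hua e
    subst e
    refine hlm ?_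
    exact isPartialLinear hD _ hl _ hm a u (fun e => hua e.symm) hal (el ▸ hu) ham (em ▸ hv)
  by_cases hex : ∃ u v : D, u ∈ line a b ∧ v ∈ line a c ∧ u ≠ a ∧ v ≠ a ∧ Commute (u : G) v
  · obtain ⟨u, v, hu, hv, hua, hva, huv⟩ := hex
    obtain ⟨hau, eu⟩ := line_of_two hD hab (mem_line_left hD a b) hu hua.symm
    obtain ⟨hav, ev⟩ := line_of_two hD hac (mem_line_left hD a c) hv hva.symm
    left
    rw [eu, ev]
    exact dual_case hD (fun h => hau h.symm) hav huv (hlm' u v hu hv hua)
  · right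
    push Not at hex
    obtain ⟨b', hb'⟩ : ∃ b' : D, (b' : G) = (a : G) * b * a := ⟨⟨_, conj_mem hD a.2 b.2⟩, rfl⟩
    obtain ⟨c', hc'⟩ : ∃ c' : D, (c' : G) = (a : G) * c * a := ⟨⟨_, conj_mem hD a.2 c.2⟩, rfl⟩
    have hb'm : b' ∈ line a b := Or.inr (Or.inr (by rw [hb', inv_self hD.1 b.2, braid hD.1 a.2 b.2 hab]))
    have hc'm : c' ∈ line a c := Or.inr (Or.inr (by rw [hc', inv_self hD.1 c.2, braid hD.1 a.2 c.2 hac]))
    have ne_a : ∀ u : D, ¬ Commute (a : G) u → ∀ u' : D, (u' : G) = (a : G) * u * a → u' ≠ a := by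
      intro u hu u' hu' e
      subst e
      apply hu
      have h1 : (u : G) = u' := by
        calc (u : G) = ((u' : G) * u') * u * ((u' : G) * u') := by rw [sq_one hD.1 u'.2]; group
          _ = (u' : G) * (u' * u * u') * u' := by group
          _ = u' := by rw [← hu', sq_one hD.1 u'.2, one_mul]
      rw [h1]
    exact affine_case hD hab hac (hex b c (mem_line_right hD a b) (mem_line_right hD a c) hba hca)
      (hb' ▸ hex b' c hb'm (mem_line_right hD a c) (ne_a b hab b' hb') hca)
      (hc' ▸ hex b c' (mem_line_right hD a b) hc'm hba (ne_a c hac c' hc'))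

end Cfsg.Agent.FischerLines
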