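import Cfsg.Agent.Lib.Invol.QuasiDihedral

/-!
# Four-groups are self-centralising in dihedral and quasi-dihedral groups
-/

namespace Cfsg.Agent.Invol

theorem centralizer_le_of_cyclic_index_two {Q : Type*} [Group Q] [Finite Q] (r : Q)
    (hX : (Subgroup.zpowers r).index = 2)
    (hv : ∀ v : Q, v ∉ Subgroup.zpowers r → ∀ w ∈ Subgroup.zpowers r, Commute w v → w * w = 1)
    (U : Subgroup Q) (hU : Nat.card U = 4) (hsq : ∀ u ∈ U, u * u = 1) :
    Subgroup.centralizer (U : Set Q) ≤ U := by
  classical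
  have hc4 := hsq
  set X := Subgroup.zpowers r
  let W : Set Q := {w | w ∈ X ∧ w * w = 1}
  have hW : W.ncard ≤ 2 := by
    haveI := Fintype.ofFinite X
    have h := IsCyclic.card_pow_eq_one_le (α := X) (n := 2) (by norm_num)
    have e : Nat.card W = Nat.card {w : X // w ^ 2 = 1} := Nat.card_congr
      { toFun := fun w => ⟨⟨w.1, w.2.1⟩, Subtype.ext (by simpa [sq] using w.2.2)⟩
        invFun := fun w => ⟨w.1, w.1.2, by simpa [sq] using congrArg Subtype.val w.2⟩
        left_inv := fun w => rfl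
        right_inv := fun w => rfl }
    rw [← Nat.card_coe_set_eq, e, Nat.card_eq_fintype_card, Fintype.card_subtype]
    exact h
  have hout : ∃ v ∈ U, v ∉ X := by
    by_contra hno
    push_neg at hno
    have hsub : (U : Set Q) ⊆ W := fun u hu => ⟨hno u hu, hsq u hu⟩
    have h1 := (Set.ncard_le_ncard hsub (Set.toFinite _)).trans hW
    rw [← Nat.card_coe_set_eq] at h1
    have h2 : Nat.card U ≤ 2 := h1
    omega
  obtain ⟨v, hvU, hvX⟩ := hout
  let T : Set Q := {g | Commute g v}
  have hTsub : T ⊆ W ∪ (fun w => w * v) '' W := by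
    intro g hg
    have hcom : Commute g v := hg
    by_cases hgX : g ∈ X
    · exact Or.inl ⟨hgX, hv v hvX g hgX hcom⟩
    · refine Or.inr ⟨g * v⁻¹, ?_, by simp⟩
      have hmem : g * v⁻¹ ∈ X := by
        rw [Subgroup.mul_mem_iff_of_index_two hX, inv_mem_iff]
        simp [hgX, hvX]
      exact ⟨hmem, hv v hvX _ hmem (hcom.mul_left (Commute.refl v).inv_left)⟩
  have hT : T.ncard ≤ 4 := by
    refine (Set.ncard_le_ncard hTsub (Set.toFinite _)).trans ((Set.ncard_union_le _ _).trans ?_)
    have := Set.ncard_image_le (f := fun w => w * v) (Set.toFinite W)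
    omega
  have hUT : (U : Set Q) ⊆ T := by
    intro u hu
    show u * v = v * u
    have h1 := hsq u hu
    have h2 := hsq v hvU
    have h3 := hsq _ (mul_mem hu hvU)
    calc u * v = (u * v)⁻¹ := eq_inv_of_mul_eq_one_left h3
      _ = v⁻¹ * u⁻¹ := mul_inv_rev u v
      _ = v * u := by rw [inv_eq_self_of_mul_self h1, inv_eq_self_of_mul_self h2]
  have heq := Set.eq_of_subset_of_ncard_le hUT
    (hT.trans (le_of_eq (by rw [← Nat.card_coe_set_eq]; exact hU.symm))) (Set.toFinite _)
  intro g hg
  rw [← SetLike.mem_coe, heq]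
  exact (Subgroup.mem_centralizer_iff.1 hg v hvU).symm

theorem four_self_centralizing {Q : Type*} [Group Q] [Finite Q]
    (hq : (∃ m : ℕ, 2 ≤ m ∧ Nonempty (Q ≃* DihedralGroup m)) ∨ IsQuasiDihedral Q)
    (U : Subgroup Q) (hU : Nat.card U = 4) (hsq : ∀ u ∈ U, u * u = 1) :
    Subgroup.centralizer (U : Set Q) ≤ U := by
  rcases hq with ⟨m, hm, ⟨e⟩⟩ | hq
  · haveI : NeZero m := ⟨by omega⟩
    refine centralizer_le_of_cyclic_index_two (e.symm (DihedralGroup.r 1)) ?_ ?_ U hU hsq
    · have h := (Subgroup.zpowers (e.symm (DihedralGroup.r 1))).card_mul_index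
      rw [Nat.card_zpowers, MulEquiv.orderOf_eq, DihedralGroup.orderOf_r_one,
        Nat.card_congr e.toEquiv, DihedralGroup.nat_card] at h
      exact Nat.eq_of_mul_eq_mul_left (by omega) (h.trans (mul_comm 2 m))
    · intro v hv w hw hwv
      obtain ⟨k, hk⟩ := Subgroup.mem_zpowers_iff.1 hw
      have hw' : e w = DihedralGroup.r (k : ZMod m) := by
        rw [← hk, map_zpow, MulEquiv.apply_symm_apply, DihedralGroup.r_one_zpow]
      refine e.injective ?_
      rw [map_mul, map_one, hw']
      cases hev : e v with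
      | r i =>
        exfalso
        refine hv (Subgroup.mem_zpowers_iff.2 ⟨(i.cast : ℤ), e.injective ?_⟩)
        rw [map_zpow, MulEquiv.apply_symm_apply, DihedralGroup.r_one_zpow, hev]
        simp
      | sr i =>
        have h : e w * e v = e v * e w := by rw [← map_mul, ← map_mul, hwv.eq]
        rw [hw', hev, DihedralGroup.r_mul_sr, DihedralGroup.sr_mul_r,
          DihedralGroup.sr.injEq] at h
        rw [DihedralGroup.r_mul_r, DihedralGroup.one_def, DihedralGroup.r.injEq]
        linear_combination -h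
  · obtain ⟨D⟩ := qd_exists hq
    refine centralizer_le_of_cyclic_index_two D.x D.zpowers_index ?_ U hU hsq
    intro v hv w hw hwv
    obtain ⟨k, rfl⟩ := Subgroup.mem_zpowers_iff.1 hw
    obtain ⟨i, rfl | rfl⟩ := D.repr_cases v
    · exact absurd (Subgroup.zpow_mem _ (Subgroup.mem_zpowers _) i) hv
    · rw [D.commute_zpow_mul_y_iff] at hwv
      obtain ⟨c, hc⟩ := hwv
      rw [← zpow_add, D.zpow_eq_one_iff]
      exact ⟨c, by rw [hc]; ring⟩

end Cfsg.Agent.Invol
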