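import Mathlib
import Cfsg.Agent.Lib.Invol.ExtraPairs
import Cfsg.Agent.Lib.Invol.CriticalExists
import Cfsg.Agent.Lib.OddLocal.Puig
import Cfsg.Agent.S3761

/-!
Hall's theorem: `p`-groups all of whose characteristic abelian subgroups are cyclic.
-/

set_option autoImplicit false

namespace Cfsg.Agent.Invol.HallSymplectic

open Subgroup Invol.ExtraPairs
open scoped commutatorElement

universe u

/-- In a group with centre of order `p` and class at most two every central-valued homomorphism trivial on the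
centre is a commutator map. -/
theorem exists_comm_map {p : ℕ} [hp : Fact p.Prime] : ∀ (n : ℕ) (E : Type u) [Group E] [Finite E] (z : E),
    Pre p E z → Nat.card E ≤ n → ∀ δ : E → E, (∀ x, δ x ∈ zpowers z) → (∀ x y, δ (x * y) = δ x * δ y) →
      δ z = 1 → ∃ g : E, ∀ x, ⁅g, x⁆ = δ x := by
  intro n
  induction n with
  | zero => intro E _ _ z _ hn; have := Nat.card_pos (α := E); omega
  | succ n ih =>
    intro E _ _ z h hn δ hδ hmul hz
    have h1 : δ 1 = 1 := by
      have := hmul 1 1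
      rwa [one_mul, eq_comm, mul_eq_left] at this
    have hpow : ∀ (x : E) (i : ℕ), δ (x ^ i) = δ x ^ i := by
      intro x i
      induction i with
      | zero => simp [h1]
      | succ i ih' => rw [pow_succ, hmul, ih', pow_succ]
    by_cases hE : Nat.card E = p
    · refine ⟨1, fun x => ?_⟩
      have hx : x ∈ zpowers z := by rw [← h.center_eq, h.center_eq_top_iff.2 hE]; exact mem_top x
      obtain ⟨i, -, rfl⟩ := h.exists_pow hx
      rw [commutatorElement_one_left, hpow, hz, one_pow]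
    obtain ⟨x, hx⟩ := h.exists_noncentral hE
    obtain ⟨y, hxy⟩ := h.exists_pair hx
    have hcard := h.card_eq hxy
    have hpos : 0 < Nat.card (Pre.rest x y) := Nat.card_pos
    have hp2 : 2 ≤ p ^ 2 := le_trans hp.out.two_le (Nat.le_self_pow two_ne_zero p)
    let δ' : Pre.rest x y → Pre.rest x y := fun c => ⟨δ c, zpowers_le.2 (h.z_mem_rest x y) (hδ c)⟩
    obtain ⟨g', hg'⟩ := ih (Pre.rest x y) _ (h.pre_rest hxy) (by nlinarith) δ'
      (fun c => by
        obtain ⟨i, hi⟩ := hδ c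
        exact ⟨i, Subtype.ext (by simpa [δ'] using hi)⟩)
      (fun c d => Subtype.ext (hmul c d)) (Subtype.ext hz)
    obtain ⟨a, -, ha⟩ := h.exists_pow (hδ y)
    obtain ⟨b, -, hb⟩ := h.exists_pow (inv_mem (hδ x))
    refine ⟨x ^ a * y ^ b * g', fun e => ?_⟩
    obtain ⟨he1, he2⟩ := h.comm_eval hxy a b g'.2
    have hgx : ⁅x ^ a * y ^ b * (g' : E), x⁆ = δ x := by
      rw [← commutatorElement_inv, he2, hb, inv_inv]
    have hgy : ⁅x ^ a * y ^ b * (g' : E), y⁆ = δ y := he1.trans ha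
    have hgc : ∀ c : Pre.rest x y, ⁅x ^ a * y ^ b * (g' : E), (c : E)⁆ = δ c := by
      intro c
      obtain ⟨hc1, hc2⟩ := Pre.mem_rest.1 c.2
      rw [h.comm_mul_left, h.comm_mul_left, h.comm_pow_left, h.comm_pow_left,
        commutatorElement_eq_one_iff_mul_comm.2 hc1.eq.symm, commutatorElement_eq_one_iff_mul_comm.2 hc2.eq.symm,
        one_pow, one_pow, one_mul, one_mul]
      have := congrArg Subtype.val (hg' c)
      simpa [commutatorElement_def, δ'] using this
    obtain ⟨i, j, c, rfl⟩ := h.decomp hxy e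
    rw [h.comm_mul_right, h.comm_mul_right, h.comm_pow_right, h.comm_pow_right, hgx, hgy, hgc, hmul, hmul,
      hpow, hpow]

variable {P : Type u} [Group P] [Finite P] {p : ℕ} [hp : Fact p.Prime]

/-- Elements acting on `E` modulo its centre trivially differ from an element of `E` by a centralizing one. -/
theorem exists_inner {z : P} {E : Subgroup P} {hzE : z ∈ E} (h : Pre p E ⟨z, hzE⟩)
    (hzc : z ∈ center P) {g : P} (hg : ∀ x ∈ E, ⁅g, x⁆ ∈ zpowers z) :
    ∃ e ∈ E, e⁻¹ * g ∈ centralizer (E : Set P) := by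
  have hzE' : zpowers z ≤ E := zpowers_le.2 hzE
  have hcen : ∀ w ∈ zpowers z, w ∈ center P := fun w hw => zpowers_le.2 hzc hw
  obtain ⟨e, he⟩ := exists_comm_map (Nat.card E) E _ h le_rfl (fun x => ⟨⁅g, (x : P)⁆, hzE' (hg x x.2)⟩)
    (fun x => by
      obtain ⟨i, hi⟩ := hg x x.2
      exact ⟨i, Subtype.ext (by simpa using hi)⟩)
    (fun x y => Subtype.ext (by
      show ⁅g, (x : P) * y⁆ = ⁅g, (x : P)⁆ * ⁅g, (y : P)⁆
      calc ⁅g, (x : P) * y⁆ = ⁅g, (x : P)⁆ * ((x : P) * ⁅g, (y : P)⁆) * (x : P)⁻¹ := by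
            simp only [commutatorElement_def]; group
        _ = ⁅g, (x : P)⁆ * ⁅g, (y : P)⁆ := by
            rw [mem_center_iff.1 (hcen _ (hg y y.2)) (x : P)]; group))
    (Subtype.ext (commutatorElement_eq_one_iff_mul_comm.2 (mem_center_iff.1 hzc g)))
  refine ⟨e, e.2, mem_centralizer_iff.2 fun x hx => ?_⟩
  have h1 : ⁅(e : P), x⁆ = ⁅g, x⁆ := by
    have := congrArg Subtype.val (he ⟨x, hx⟩)
    simpa [commutatorElement_def] using this
  simp only [commutatorElement_def] at h1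
  have h2 := mul_right_cancel h1
  calc x * ((e : P)⁻¹ * g) = (e : P)⁻¹ * ((e : P) * x * (e : P)⁻¹) * g := by group
    _ = (e : P)⁻¹ * g * x := by rw [h2]; group

/-- A subgroup `D` with centre the cyclic group `U`, commutators in `⟨z⟩` and powers correctable inside `U`
is `E ⊔ U` for a subgroup `E` with centre `⟨z⟩`. -/
theorem exists_complement (D : Subgroup P) (a z : P) (T : Subgroup P) (hz : orderOf z = p)
    (hza : z ∈ zpowers a) (haD : a ∈ D) (hDc : ∀ x ∈ D, Commute x a)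
    (hcent : ∀ x ∈ D, (∀ y ∈ D, Commute x y) → x ∈ zpowers a)
    (hcomm : ∀ x ∈ D, ∀ y ∈ D, ⁅x, y⁆ ∈ zpowers z) (hT : T ≤ zpowers z)
    (hTc : ∀ x ∈ D, ∀ y ∈ D, ⁅x, y⁆ ^ p.choose 2 ∈ T)
    (hcorr : ∀ x ∈ D, ∃ v ∈ zpowers a, (x * v) ^ p ∈ T) :
    ∃ (E : Subgroup P) (hzE : z ∈ E), E ≤ D ∧ (∀ d ∈ D, ∃ e ∈ E, ∃ u ∈ zpowers a, e * u = d) ∧
      (∀ e ∈ E, e ^ p ∈ T) ∧ Pre p E ⟨z, hzE⟩ := by
  have hzD : zpowers z ≤ D := zpowers_le.2 (zpowers_le.2 haD hza)
  have haU : ∀ u ∈ zpowers a, ∀ x ∈ D, Commute x u := by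
    rintro _ ⟨i, rfl⟩ x hx
    exact (hDc x hx).zpow_right i
  obtain ⟨E, ⟨hED, hzE, hint, hpow⟩, hmax⟩ := (Set.toFinite {E : Subgroup P | E ≤ D ∧ z ∈ E ∧
    (∀ e ∈ E, e ∈ zpowers a → e ∈ zpowers z) ∧ ∀ e ∈ E, e ^ p ∈ T}).exists_maximal
    ⟨zpowers z, hzD, mem_zpowers z, fun e he _ => he, fun e he => by
      obtain ⟨i, rfl⟩ := he
      show (z ^ i) ^ p ∈ T
      rw [← zpow_natCast, zpow_comm, zpow_natCast, ← hz, pow_orderOf_eq_one, one_zpow]
      exact one_mem T⟩
  have hzzE : zpowers z ≤ E := zpowers_le.2 hzE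
  have hall : ∀ d ∈ D, ∃ e ∈ E, ∃ u ∈ zpowers a, e * u = d := by
    intro d hd
    by_contra hcon
    obtain ⟨v, hv, hvT⟩ := hcorr d hd
    obtain ⟨x, hxdef⟩ : ∃ x, x = d * v := ⟨_, rfl⟩
    rw [← hxdef] at hvT
    have hxD : x ∈ D := hxdef ▸ mul_mem hd (zpowers_le.2 haD hv)
    have hnorm : zpowers x ≤ normalizer (E : Set P) := by
      rw [zpowers_le]
      refine mem_normalizer_fintype ?_
      intro e he
      rw [show x * e * x⁻¹ = ⁅x, e⁆ * e by rw [commutatorElement_def]; group]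
      exact E.mul_mem (hzzE (hcomm x hxD e (hED he))) he
    have hmem : ∀ w, w ∈ E ⊔ zpowers x → ∃ e ∈ E, ∃ i : ℕ, e * x ^ i = w := by
      intro w hw
      rw [← SetLike.mem_coe, Subgroup.coe_mul_of_right_le_normalizer_left E (zpowers x) hnorm] at hw
      obtain ⟨e, he, xi, hxi, rfl⟩ := hw
      rw [SetLike.mem_coe, ← (isOfFinOrder_of_finite x).mem_powers_iff_mem_zpowers] at hxi
      obtain ⟨i, rfl⟩ := hxi
      exact ⟨e, he, i, rfl⟩
    have hin : E ⊔ zpowers x ≤ E := by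
      refine hmax ⟨sup_le hED (zpowers_le.2 hxD), mem_sup_left hzE, ?_, ?_⟩ le_sup_left
      · intro w hw hwa
        obtain ⟨e, he, i, rfl⟩ := hmem w hw
        by_cases hi : p ∣ i
        · obtain ⟨k, rfl⟩ := hi
          have hxk : x ^ (p * k) ∈ E := by rw [pow_mul]; exact hzzE (hT (pow_mem hvT k))
          exact hint _ (mul_mem he hxk) hwa
        · exfalso
          obtain ⟨c, b, hbc⟩ : IsCoprime (i : ℤ) (p : ℤ) :=
            (Int.isCoprime_iff_nat_coprime.2 (by simpa using (hp.out.coprime_iff_not_dvd.2 hi).symm))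
          -- `x` lies in `E * U`
          have hxi : x ^ i = e⁻¹ * (e * x ^ i) := by group
          have hcom : Commute e⁻¹ (e * x ^ i) := haU _ hwa _ (inv_mem (hED he))
          have hx1 : x = (e⁻¹ ^ c * (x ^ p) ^ b) * (e * x ^ i) ^ c := by
            have hTcen : Commute ((x ^ p) ^ b) ((e * x ^ i) ^ c) := by
              refine Commute.zpow_zpow (haU _ hwa _ (pow_mem hxD p)) b c
            calc x = x ^ ((i : ℤ) * c + (p : ℤ) * b) := by
                  rw [show (i : ℤ) * c + (p : ℤ) * b = 1 by linear_combination hbc, zpow_one]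
              _ = (x ^ i) ^ c * (x ^ p) ^ b := by rw [_root_.zpow_add, zpow_mul, zpow_mul, zpow_natCast, zpow_natCast]
              _ = (e⁻¹ * (e * x ^ i)) ^ c * (x ^ p) ^ b := by rw [← hxi]
              _ = e⁻¹ ^ c * ((x ^ p) ^ b * (e * x ^ i) ^ c) := by rw [hcom.mul_zpow, mul_assoc, hTcen.eq]
              _ = _ := by rw [mul_assoc]
          refine hcon ⟨e⁻¹ ^ c * (x ^ p) ^ b, mul_mem (zpow_mem (inv_mem he) c)
            (zpow_mem (hzzE (hT hvT)) b), (e * x ^ i) ^ c * v⁻¹, mul_mem (zpow_mem hwa c) (inv_mem hv), ?_⟩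
          rw [← mul_assoc, ← hx1, hxdef, mul_inv_cancel_right]
      · intro w hw
        obtain ⟨e, he, i, rfl⟩ := hmem w hw
        have hxi : x ^ i ∈ D := pow_mem hxD i
        have hcen : ∀ y ∈ D, Commute ⁅x ^ i, e⁆ y := fun y hy =>
          (haU _ (zpowers_le.2 hza (hcomm _ hxi _ (hED he))) y hy).symm
        rw [(Cfsg.Agent.S3761.mul_pow_of_comm (hcen e (hED he)) (hcen _ hxi)
          (show x ^ i * e = ⁅x ^ i, e⁆ * e * x ^ i by rw [commutatorElement_def]; group) p).1]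
        refine mul_mem (mul_mem (hpow e he) (hTc _ hxi _ (hED he))) ?_
        rw [← pow_mul, mul_comm, pow_mul]
        exact pow_mem hvT i
    refine hcon ⟨x, hin (mem_sup_right (mem_zpowers x)), v⁻¹, inv_mem hv, ?_⟩
    rw [hxdef, mul_inv_cancel_right]
  refine ⟨E, hzE, hED, hall, hpow, ?_⟩
  have hmemz : ∀ w : E, w ∈ zpowers (⟨z, hzE⟩ : E) ↔ (w : P) ∈ zpowers z := by
    intro w
    constructor
    · rintro ⟨k, rfl⟩; exact ⟨k, by simp⟩
    · rintro ⟨k, hk⟩; exact ⟨k, Subtype.ext (by simpa using hk)⟩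
  refine ⟨by rw [orderOf_mk, hz], ?_, fun x y => (hmemz _).2 (by
    simpa [commutatorElement_def] using hcomm x (hED x.2) y (hED y.2)),
    fun x => (hmemz _).2 (by simpa using hT (hpow x x.2))⟩
  ext e
  rw [hmemz, mem_center_iff]
  constructor
  · intro he
    refine hint e e.2 (hcent e (hED e.2) fun y hy => ?_)
    obtain ⟨e', he', u, hu, rfl⟩ := hall y hy
    exact (show Commute (e : P) e' from (congrArg Subtype.val (he ⟨e', he'⟩)).symm).mul_right
      (haU u hu _ (hED e.2))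
  · intro he g
    exact Subtype.ext (haU _ (zpowers_le.2 hza he) _ (hED g.2)).eq

end Cfsg.Agent.Invol.HallSymplectic
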