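import Cfsg.Agent.Lib.Invol.Basic
import Cfsg.Agent.Lib.Invol.ExtraPairs
import Cfsg.Prelude.Def_PLocal

/-! Basic tools for extraspecial 2-subgroups containing their centralizer. -/

set_option autoImplicit false
set_option linter.all false

namespace Cfsg.Agent.Invol.LargeExtra

open Subgroup
open scoped commutatorElement

variable {G : Type*} [Group G] [Finite G]

theorem one_of_odd_of_two {K : Subgroup G} (hK : Odd (Nat.card K)) {S : Subgroup G} (hS : IsPGroup 2 S)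
    {x : G} (hxK : x ∈ K) (hxS : x ∈ S) : x = 1 := by
  obtain ⟨k, hk⟩ := IsPGroup.iff_orderOf.1 hS ⟨x, hxS⟩
  rw [Subgroup.orderOf_mk] at hk
  exact orderOf_eq_one_iff.1 (Nat.eq_one_of_dvd_coprimes
    (hK.coprime_two_right.pow_right k) (Subgroup.orderOf_dvd_natCard K hxK) (dvd_of_eq hk))

theorem exists_gen {Q : Subgroup G} (hQ : Cfsg.IsExtraspecial 2 Q) :
    ∃ z : G, orderOf z = 2 ∧ z ∈ Q ∧ (center Q).map Q.subtype = zpowers z ∧
      (∀ q ∈ Q, q * z = z * q) ∧ ∀ b ∈ Q, b ∉ zpowers z → ∃ y ∈ Q, ⁅b, y⁆ = z := by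
  haveI := Fact.mk Nat.prime_two
  obtain ⟨z, hz⟩ := ExtraPairs.pre_of_extraspecial hQ
  refine ⟨z, by rw [Subgroup.orderOf_coe, hz.ordz], z.2, ?_, fun q hq => ?_, fun b hb hbz => ?_⟩
  · rw [hz.center_eq, MonoidHom.map_zpowers]; rfl
  · exact
      congrArg Subtype.val (mem_center_iff.1 (hz.center_eq.symm ▸ mem_zpowers z : z ∈ center Q) ⟨q, hq⟩)
  · have : (⟨b, hb⟩ : Q) ∉ center Q := fun h => hbz (by
      rw [hz.center_eq] at h
      obtain ⟨k, hk⟩ := h
      exact ⟨k, by simpa using congrArg Subtype.val hk⟩)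
    obtain ⟨y, hy⟩ := hz.exists_pair this
    exact ⟨y, y.2, by simpa [commutatorElement_def] using congrArg Subtype.val hy⟩

/-- An odd-order subgroup normalized by `Q` meets `N(Q)` trivially. -/
theorem one_of_mem_normalizer {Q : Subgroup G} (hQ : Cfsg.IsExtraspecial 2 Q) {z : G}
    (hC : centralizer (Q : Set G) = zpowers z) (hzQ : z ∈ Q) {K : Subgroup G} (hK : Odd (Nat.card K))
    (hQK : Q ≤ normalizer (K : Set G)) {c : G} (hc : c ∈ K) (hcN : c ∈ normalizer (Q : Set G)) : c = 1 := by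
  have hQ2 : IsPGroup 2 Q := hQ.1.1
  have hcen : c ∈ centralizer (Q : Set G) := by
    rw [mem_centralizer_iff]
    intro q hq
    have h1 : q * c * q⁻¹ * c⁻¹ ∈ K := mul_mem ((mem_normalizer_iff.1 (hQK hq) c).1 hc) (inv_mem hc)
    have h2 : q * c * q⁻¹ * c⁻¹ ∈ Q := by
      rw [mul_assoc, mul_assoc, ← mul_assoc c]
      exact mul_mem hq ((mem_normalizer_iff.1 hcN q⁻¹).1 (inv_mem hq))
    have := one_of_odd_of_two hK hQ2 h1 h2
    rwa [mul_inv_eq_one, mul_inv_eq_iff_eq_mul] at this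
  rw [hC] at hcen
  exact one_of_odd_of_two hK hQ2 hc ((zpowers_le.2 hzQ) hcen)

end Cfsg.Agent.Invol.LargeExtra
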