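import Cfsg.Agent.Lib.Invol.QDFusion

/-!
# The automiser of a quaternion subgroup in a quasi-dihedral Sylow 2-subgroup
-/

set_option linter.unusedSectionVars false
set_option linter.style.haveILetI false

namespace Cfsg.Agent.Invol

open scoped Pointwise

variable {G : Type*} [Group G] [Finite G]

theorem conj_smul_zpowers (g q : G) :
    MulAut.conj g • Subgroup.zpowers q = Subgroup.zpowers (g * q * g⁻¹) := by
  exact MonoidHom.map_zpowers (MulAut.conj g).toMonoidHom q

theorem mem_zpowers_of_orderOf_four {q w : G} (hq : orderOf q = 4) (hw : orderOf w = 4)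
    (h : w ∈ Subgroup.zpowers q) : w = q ∨ w = q⁻¹ := by
  obtain ⟨k, rfl⟩ := Subgroup.mem_zpowers_iff.1 h
  rw [← zpow_mod_orderOf, hq] at hw ⊢
  have h0 := Int.emod_nonneg k (show ((4 : ℕ) : ℤ) ≠ 0 by norm_num)
  have h4 := Int.emod_lt_of_pos k (show (0 : ℤ) < ((4 : ℕ) : ℤ) by norm_num)
  obtain h1 | h1 | h1 | h1 : k % ((4 : ℕ) : ℤ) = 0 ∨ k % ((4 : ℕ) : ℤ) = 1 ∨
      k % ((4 : ℕ) : ℤ) = 2 ∨ k % ((4 : ℕ) : ℤ) = 3 := by omega
  · rw [h1, zpow_zero, orderOf_one] at hw; omega
  · exact Or.inl (by rw [h1, zpow_one])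
  · exfalso
    rw [h1, zpow_two] at hw
    have : orderOf (q * q) ∣ 2 := orderOf_dvd_of_pow_eq_one (by
      rw [← sq, ← pow_mul, show 2 * 2 = orderOf q by omega, pow_orderOf_eq_one])
    have := Nat.le_of_dvd two_pos this
    omega
  · refine Or.inr ?_
    rw [h1]
    apply eq_inv_of_mul_eq_one_left
    rw [← zpow_add_one, show (3 : ℤ) + 1 = ((orderOf q : ℕ) : ℤ) by rw [hq]; norm_num, zpow_natCast,
      pow_orderOf_eq_one]

variable {S : Sylow 2 G}

namespace QDData

variable (D : QDData (S : Subgroup G))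

theorem gq_ne_ga_zpow (i k : ℤ) : D.gq i ≠ D.ga ^ k := by
  rw [gq, ga, ← SubgroupClass.coe_zpow]
  intro h
  exact D.zpow_ne_mul_y ((D.m : ℤ) * k) i (by rw [zpow_mul]; exact (Subtype.ext h).symm)

theorem ga_mul_gq (i : ℤ) : D.ga * D.gq i = D.gq ((D.m : ℤ) + i) := by
  rw [ga, gq, gq, ← Subgroup.coe_mul]
  congr 1
  group

theorem gq_conj_ga (i : ℤ) : D.gq i * D.ga * (D.gq i)⁻¹ = D.ga⁻¹ := by
  rw [gq, ga, ← Subgroup.coe_inv, ← Subgroup.coe_inv, ← Subgroup.coe_mul, ← Subgroup.coe_mul]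
  congr 1
  have h := D.conj_mul_y_mult i 1
  rw [mul_one, mul_neg_one, zpow_neg] at h
  exact h

theorem odd_m_add {i : ℤ} (hi : ¬ 2 ∣ i) : ¬ 2 ∣ (D.m : ℤ) + i := by
  have := D.m_even; omega

/-- The automiser of a quaternion subgroup of order 8 of `S`. -/
theorem q8_automiser (Q : Subgroup G) (hQS : Q ≤ S) (e : Q ≃* QuaternionGroup 2) :
    ((Q ⊔ Subgroup.centralizer (Q : Set G)).relIndex (Subgroup.normalizer (Q : Set G)) = 2 ∨
      (Q ⊔ Subgroup.centralizer (Q : Set G)).relIndex (Subgroup.normalizer (Q : Set G)) = 6) ∧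
    ((Q ⊔ Subgroup.centralizer (Q : Set G)).relIndex (Subgroup.normalizer (Q : Set G)) = 6 ↔
      IsConj D.ga (D.gq 1)) ∧
    ((Q ⊔ Subgroup.centralizer (Q : Set G)).relIndex (Subgroup.normalizer (Q : Set G)) = 6 →
      ∀ p ∈ Q, ∀ q ∈ Q, orderOf p = 4 → orderOf q = 4 →
        ∃ n ∈ Subgroup.normalizer (Q : Set G),
          n ^ 2 * p * (n ^ 2)⁻¹ = q ∨ n ^ 2 * p * (n ^ 2)⁻¹ = q⁻¹) := by
  haveI : Fact (Nat.Prime 2) := ⟨Nat.prime_two⟩
  set N := Subgroup.normalizer (Q : Set G) with hN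
  obtain ⟨i, hodd, ha, hq, hQ⟩ := D.q8_facts_G Q hQS e
  have hodd' := D.odd_m_add hodd
  letI : MulAction N (Subgroup G) :=
    MulAction.compHom (Subgroup G) (MulAut.conj.comp N.subtype)
  have hact : ∀ (n : N) (q : G),
      n • Subgroup.zpowers q = Subgroup.zpowers ((n : G) * q * (n : G)⁻¹) :=
    fun n q => conj_smul_zpowers (n : G) q
  set w := D.ga * D.gq i with hw
  have hw' : w = D.gq ((D.m : ℤ) + i) := D.ga_mul_gq i
  have how : orderOf w = 4 := by rw [hw', D.orderOf_gq_odd hodd']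
  have hoq := D.orderOf_gq_odd hodd
  have hoa := D.orderOf_ga
  have hd1 : Subgroup.zpowers D.ga ≠ Subgroup.zpowers (D.gq i) := by
    intro h
    obtain ⟨k, hk⟩ := Subgroup.mem_zpowers_iff.1 (h ▸ Subgroup.mem_zpowers (D.gq i))
    exact D.gq_ne_ga_zpow i k hk.symm
  have hd2 : Subgroup.zpowers D.ga ≠ Subgroup.zpowers w := by
    intro h
    obtain ⟨k, hk⟩ := Subgroup.mem_zpowers_iff.1 (h ▸ Subgroup.mem_zpowers w)
    exact D.gq_ne_ga_zpow i (-1 + k) (by
      rw [zpow_add, hk, hw, zpow_neg_one, inv_mul_cancel_left])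
  have hd3 : Subgroup.zpowers (D.gq i) ≠ Subgroup.zpowers w := by
    intro h
    rcases mem_zpowers_of_orderOf_four hoq how (h ▸ Subgroup.mem_zpowers w) with h1 | h1
    · exact ne_one_of_orderOf_two D.orderOf_gz (by
        rw [← D.ga_sq, mul_eq_right.1 (hw ▸ h1 : D.ga * D.gq i = D.gq i), one_mul])
    · refine D.gq_ne_ga_zpow i (-1 : ℤ) ?_ |>.elim
      exfalso
      have : D.ga = (D.gq i * D.gq i)⁻¹ := by
        rw [mul_inv_rev, eq_mul_inv_iff_mul_eq]
        exact (hw ▸ h1 : D.ga * D.gq i = (D.gq i)⁻¹)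
      rw [D.gq_sq hodd, inv_of_orderOf_two D.orderOf_gz] at this
      have h2 := D.orderOf_gz
      rw [← this, hoa] at h2
      omega
  have hset : ∀ q ∈ Q, orderOf q = 4 →
      Subgroup.zpowers q = Subgroup.zpowers D.ga ∨ Subgroup.zpowers q = Subgroup.zpowers (D.gq i) ∨
        Subgroup.zpowers q = Subgroup.zpowers w := by
    intro q hqQ hq4
    obtain ⟨t, rfl | rfl⟩ := hQ q hqQ
    · refine Or.inl ?_
      rcases mem_zpowers_of_orderOf_four hoa hq4
          (Subgroup.zpow_mem _ (Subgroup.mem_zpowers _) t) with h | h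
      · rw [h]
      · rw [h, Subgroup.zpowers_inv]
    · refine Or.inr ?_
      rcases Int.even_or_odd t with ⟨k, rfl⟩ | ⟨k, rfl⟩
      · refine Or.inl ?_
        have e1 : D.ga ^ (k + k) * D.gq i = (D.gq i) ^ (2 * k + 1) := by
          rw [zpow_add_one, zpow_mul, zpow_two, D.gq_sq hodd, ← D.ga_sq, ← zpow_two, ← zpow_mul,
            two_mul]
        rw [e1] at hq4 ⊢
        rcases mem_zpowers_of_orderOf_four hoq hq4
            (Subgroup.zpow_mem _ (Subgroup.mem_zpowers _) _) with h | h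
        · rw [h]
        · rw [h, Subgroup.zpowers_inv]
      · refine Or.inr ?_
        have e1 : D.ga ^ (2 * k + 1) * D.gq i = w ^ (2 * k + 1) := by
          rw [zpow_add_one, zpow_add_one, zpow_mul, zpow_mul, zpow_two, zpow_two, hw',
            D.gq_sq hodd', ← D.ga_sq, ← hw', hw, mul_assoc]
        rw [e1] at hq4 ⊢
        rcases mem_zpowers_of_orderOf_four how hq4
            (Subgroup.zpow_mem _ (Subgroup.mem_zpowers _) _) with h | h
        · rw [h]
        · rw [h, Subgroup.zpowers_inv]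
  have hwQ : w ∈ Q := mul_mem ha hq
  have hba := D.gq_conj_ga i
  have hz1 := inv_of_orderOf_two D.orderOf_gz
  have hswap : D.ga * D.gq i = D.gq i * D.ga⁻¹ := by
    have h : D.ga = (D.gq i * D.ga * (D.gq i)⁻¹)⁻¹ := by rw [hba, inv_inv]
    calc D.ga * D.gq i = (D.gq i * D.ga * (D.gq i)⁻¹)⁻¹ * D.gq i := by rw [← h]
      _ = _ := by group
  have hbinv : (D.gq i)⁻¹ = D.gq i * D.gz := by
    apply inv_eq_of_mul_eq_one_right
    rw [← mul_assoc, D.gq_sq hodd, mul_self_of_orderOf_two D.orderOf_gz]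
  have hza : D.gz * D.ga⁻¹ = D.ga := by rw [← D.ga_sq, mul_inv_cancel_right]
  have hab : D.ga * D.gq i * D.ga⁻¹ = (D.gq i)⁻¹ := by
    rw [hswap, mul_assoc, ← mul_inv_rev, D.ga_sq, hz1, hbinv]
  have haw : D.ga * w * D.ga⁻¹ = w⁻¹ := by
    rw [hw, show D.ga * (D.ga * D.gq i) * D.ga⁻¹ = D.ga * (D.ga * D.gq i * D.ga⁻¹) by group, hab,
      hswap, mul_inv_rev, inv_inv]
  have hwi : D.gq i * w * (D.gq i)⁻¹ = w⁻¹ := by
    rw [hw, show D.gq i * (D.ga * D.gq i) * (D.gq i)⁻¹ = D.gq i * D.ga by group, mul_inv_rev, hbinv,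
      mul_assoc, hza]
  have hinv : ∀ n : N, ∀ p, (p = Subgroup.zpowers D.ga ∨ p = Subgroup.zpowers (D.gq i) ∨
      p = Subgroup.zpowers w) → (n • p = Subgroup.zpowers D.ga ∨
        n • p = Subgroup.zpowers (D.gq i) ∨ n • p = Subgroup.zpowers w) := by
    intro n p hp
    obtain ⟨q, hqQ, hq4, rfl⟩ : ∃ q ∈ Q, orderOf q = 4 ∧ p = Subgroup.zpowers q := by
      rcases hp with rfl | rfl | rfl
      · exact ⟨_, ha, hoa, rfl⟩
      · exact ⟨_, hq, hoq, rfl⟩
      · exact ⟨_, hwQ, how, rfl⟩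
    rw [hact]
    exact hset _ ((Subgroup.mem_normalizer_iff.1 n.2 q).1 hqQ) (by rw [orderOf_conj, hq4])
  have hpm : ∀ (n : N) (q : G), orderOf q = 4 → (n • Subgroup.zpowers q = Subgroup.zpowers q ↔
      ((n : G) * q * (n : G)⁻¹ = q ∨ (n : G) * q * (n : G)⁻¹ = q⁻¹)) := by
    intro n q hq4
    rw [hact]
    constructor
    · intro h
      exact mem_zpowers_of_orderOf_four hq4 (by rw [orderOf_conj, hq4])
        (h ▸ Subgroup.mem_zpowers _)
    · rintro (h | h)
      · rw [h]
      · rw [h, Subgroup.zpowers_inv]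
  have hK : ∀ n : N, n ∈ (Q ⊔ Subgroup.centralizer (Q : Set G)).subgroupOf N ↔
      n • Subgroup.zpowers D.ga = Subgroup.zpowers D.ga ∧
      n • Subgroup.zpowers (D.gq i) = Subgroup.zpowers (D.gq i) ∧
      n • Subgroup.zpowers w = Subgroup.zpowers w := by
    intro n
    rw [hpm n _ hoa, hpm n _ hoq, hpm n _ how, Subgroup.mem_subgroupOf]
    constructor
    · intro hn
      -- every such element inverts or fixes each generator
      let M : Subgroup G :=
        { carrier := {g | (g * D.ga * g⁻¹ = D.ga ∨ g * D.ga * g⁻¹ = D.ga⁻¹) ∧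
            (g * D.gq i * g⁻¹ = D.gq i ∨ g * D.gq i * g⁻¹ = (D.gq i)⁻¹) ∧
            (g * w * g⁻¹ = w ∨ g * w * g⁻¹ = w⁻¹)}
          one_mem' := by simp
          mul_mem' := by
            have key : ∀ {g h q : G}, (g * q * g⁻¹ = q ∨ g * q * g⁻¹ = q⁻¹) →
                (h * q * h⁻¹ = q ∨ h * q * h⁻¹ = q⁻¹) →
                  (g * h * q * (g * h)⁻¹ = q ∨ g * h * q * (g * h)⁻¹ = q⁻¹) := by
              intro g h q hg hh
              rw [show g * h * q * (g * h)⁻¹ = g * (h * q * h⁻¹) * g⁻¹ by group]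
              rcases hh with hh | hh <;> rw [hh]
              · exact hg
              · rw [← conj_inv]
                rcases hg with hg | hg <;> rw [hg]
                · exact Or.inr rfl
                · exact Or.inl (inv_inv q)
            intro _ _ ha' hb'
            exact ⟨key ha'.1 hb'.1, key ha'.2.1 hb'.2.1, key ha'.2.2 hb'.2.2⟩
          inv_mem' := by
            have key : ∀ {g q : G}, (g * q * g⁻¹ = q ∨ g * q * g⁻¹ = q⁻¹) →
                (g⁻¹ * q * g⁻¹⁻¹ = q ∨ g⁻¹ * q * g⁻¹⁻¹ = q⁻¹) := by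
              intro g q hg
              rw [inv_inv]
              rcases hg with hg | hg
              · left; conv_lhs => rw [← hg]
                group
              · exact Or.inr (inverts_symm hg)
            intro _ ha'
            exact ⟨key ha'.1, key ha'.2.1, key ha'.2.2⟩ }
      have hle : Q ⊔ Subgroup.centralizer (Q : Set G) ≤ M := by
        refine sup_le (fun g hg => ?_) (fun g hg => ?_)
        · have hag : D.ga ∈ M := ⟨Or.inl (by group), Or.inr hab, Or.inr haw⟩
          have hqg : D.gq i ∈ M := ⟨Or.inr hba, Or.inl (by group), Or.inr hwi⟩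
          obtain ⟨t, rfl | rfl⟩ := hQ g hg
          · exact M.zpow_mem hag t
          · exact M.mul_mem (M.zpow_mem hag t) hqg
        · have key : ∀ q ∈ Q, g * q * g⁻¹ = q := fun q hqQ => by
            rw [← Subgroup.mem_centralizer_iff.1 hg q hqQ, mul_inv_cancel_right]
          exact ⟨Or.inl (key _ ha), Or.inl (key _ hq), Or.inl (key _ hwQ)⟩
      exact hle hn
    · rintro ⟨h1, h2, -⟩
      -- multiply by an element of `Q` to centralise the generators
      have hfin : ∀ u : G, u * D.ga * u⁻¹ = D.ga → u * D.gq i * u⁻¹ = D.gq i →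
          u ∈ Subgroup.centralizer (Q : Set G) := by
        intro u hu1 hu2
        rw [Subgroup.mem_centralizer_iff]
        intro q hqQ
        have c1 : Commute u D.ga := mul_inv_eq_iff_eq_mul.1 hu1
        have c2 : Commute u (D.gq i) := mul_inv_eq_iff_eq_mul.1 hu2
        obtain ⟨t, rfl | rfl⟩ := hQ q hqQ
        · exact (c1.zpow_right t).eq.symm
        · exact ((c1.zpow_right t).mul_right c2).eq.symm
      have hqi : (D.gq i) * (D.gq i)⁻¹ = 1 := mul_inv_cancel _
      have hqa : D.gq i * D.ga⁻¹ * (D.gq i)⁻¹ = D.ga := by rw [← conj_inv, hba, inv_inv]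
      have haq : D.ga * (D.gq i)⁻¹ * D.ga⁻¹ = D.gq i := by rw [← conj_inv, hab, inv_inv]
      rcases h1 with h1 | h1 <;> rcases h2 with h2 | h2
      · exact Subgroup.mem_sup_right (hfin _ h1 h2)
      · -- `n` acts as `a`
        have hu := hfin ((D.ga) * (n : G)) (by
          rw [show D.ga * (n : G) * D.ga * (D.ga * (n : G))⁻¹ =
            D.ga * ((n : G) * D.ga * (n : G)⁻¹) * D.ga⁻¹ by group, h1]
          group) (by
          rw [show D.ga * (n : G) * D.gq i * (D.ga * (n : G))⁻¹ =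
            D.ga * ((n : G) * D.gq i * (n : G)⁻¹) * D.ga⁻¹ by group, h2, haq])
        have := Subgroup.mul_mem_sup (inv_mem ha) hu
        rwa [inv_mul_cancel_left] at this
      · have hu := hfin ((D.gq i) * (n : G)) (by
          rw [show D.gq i * (n : G) * D.ga * (D.gq i * (n : G))⁻¹ =
            D.gq i * ((n : G) * D.ga * (n : G)⁻¹) * (D.gq i)⁻¹ by group, h1, hqa]) (by
          rw [show D.gq i * (n : G) * D.gq i * (D.gq i * (n : G))⁻¹ =
            D.gq i * ((n : G) * D.gq i * (n : G)⁻¹) * (D.gq i)⁻¹ by group, h2]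
          group)
        have := Subgroup.mul_mem_sup (inv_mem hq) hu
        rwa [inv_mul_cancel_left] at this
      · have hu := hfin (D.gq i * D.ga * (n : G)) (by
          rw [show D.gq i * D.ga * (n : G) * D.ga * (D.gq i * D.ga * (n : G))⁻¹ =
            D.gq i * (D.ga * ((n : G) * D.ga * (n : G)⁻¹) * D.ga⁻¹) * (D.gq i)⁻¹ by group, h1,
            show D.ga * D.ga⁻¹ * D.ga⁻¹ = D.ga⁻¹ by group, hqa]) (by
          rw [show D.gq i * D.ga * (n : G) * D.gq i * (D.gq i * D.ga * (n : G))⁻¹ =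
            D.gq i * (D.ga * ((n : G) * D.gq i * (n : G)⁻¹) * D.ga⁻¹) * (D.gq i)⁻¹ by group, h2, haq]
          group)
        have := Subgroup.mul_mem_sup (inv_mem (mul_mem hq ha)) hu
        rwa [inv_mul_cancel_left] at this
  obtain ⟨s, hsS, hsa, hsq'⟩ := D.exists_swap
  have hnormS : ∀ (R : Subgroup G), R ≤ S → (R ≃* QuaternionGroup 2) → ∀ r ∈ R, s * r * s⁻¹ ∈ R := by
    intro R hRS eR r hr
    obtain ⟨j, -, haR, hqR, hR⟩ := D.q8_facts_G R hRS eR
    obtain ⟨t, rfl | rfl⟩ := hR r hr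
    · rw [← conj_zpow, hsa]; exact R.zpow_mem haR t
    · rw [show s * (D.ga ^ t * D.gq j) * s⁻¹ = (s * D.ga ^ t * s⁻¹) * (s * D.gq j * s⁻¹) by group,
        ← conj_zpow, hsa, hsq']
      exact R.mul_mem (R.zpow_mem haR t) (R.mul_mem haR hqR)
  have hNmem : ∀ (R : Subgroup G) (g : G), (∀ r ∈ R, g * r * g⁻¹ ∈ R) →
      g ∈ Subgroup.normalizer (R : Set G) := by
    intro R g hg
    have heq : R.map (MulAut.conj g).toMonoidHom = R :=
      Subgroup.eq_of_le_of_card_ge (by rintro _ ⟨r, hr, rfl⟩; exact hg r hr)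
        (le_of_eq (Nat.card_congr
          (Subgroup.equivMapOfInjective R (MulAut.conj g).toMonoidHom (MulAut.conj g).injective).toEquiv))
    refine Subgroup.mem_normalizer_iff.2 fun r => ⟨hg r, fun h => ?_⟩
    rw [← heq] at h
    obtain ⟨r', hr', e⟩ := h
    exact (mul_left_cancel (mul_right_cancel (e : g * r' * g⁻¹ = g * r * g⁻¹))) ▸ hr'
  obtain ⟨hcases, hiff, hsq⟩ := three_point_action (N := N) (Subgroup.zpowers D.ga)
    (Subgroup.zpowers (D.gq i)) (Subgroup.zpowers w) hd1 hd2 hd3 hinv _ hK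
    ⟨s, hNmem Q s (hnormS Q hQS e)⟩ (by rw [hact]; simp only [hsa]) (by rw [hact, hsq', hw])
  refine ⟨hcases, ?_, fun h6 p hp q' hq' hp4 hq4 => ?_⟩
  · rw [Subgroup.relIndex, hiff]
    constructor
    · rintro ⟨n, hn⟩
      have hc : IsConj D.ga ((n : G) * D.ga * (n : G)⁻¹) := isConj_iff.2 ⟨n, rfl⟩
      have h4 : orderOf ((n : G) * D.ga * (n : G)⁻¹) = 4 := by rw [orderOf_conj, hoa]
      have hmem : (n : G) * D.ga * (n : G)⁻¹ ∈ Q := (Subgroup.mem_normalizer_iff.1 n.2 _).1 ha
      rcases D.order_four_cases (hQS hmem) h4 with h | h | ⟨j, hj, h⟩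
      · exact absurd (by rw [hact, h]) hn
      · exact absurd (by rw [hact, h, Subgroup.zpowers_inv]) hn
      · exact (h ▸ hc).trans (D.isConj_gq (by omega))
    · intro hconj
      obtain ⟨g, hg⟩ := isConj_iff.1 ((D.isConj_gq (i := i) (j := 1) (by omega)).trans hconj.symm)
      have hSA : (S : Subgroup G) ≤
          Subgroup.normalizer ((Subgroup.zpowers D.ga : Subgroup G) : Set G) := fun x hx => by
        refine hNmem _ x fun r hr => ?_
        obtain ⟨k, rfl⟩ := Subgroup.mem_zpowers_iff.1 hr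
        rw [← conj_zpow]
        refine Subgroup.zpow_mem _ ?_ k
        rcases D.order_four_cases (mul_mem (mul_mem hx D.ga_mem) (inv_mem hx))
            (by rw [orderOf_conj, hoa]) with h | h | ⟨j, hj, h⟩
        · rw [h]; exact Subgroup.mem_zpowers _
        · rw [h]; exact inv_mem (Subgroup.mem_zpowers _)
        · exfalso
          -- a conjugate of an element of `⟨x⟩` in `S` stays in `⟨x⟩`
          have h' : (⟨x, hx⟩ : (S : Subgroup G)) * D.x ^ (D.m : ℤ) * (⟨x, hx⟩ : (S : Subgroup G))⁻¹ =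
              D.x ^ j * D.y := Subtype.ext h
          haveI := Subgroup.normal_of_index_eq_two D.zpowers_index
          have := Subgroup.Normal.conj_mem inferInstance _
            (Subgroup.zpow_mem _ (Subgroup.mem_zpowers D.x) (D.m : ℤ)) (⟨x, hx⟩ : (S : Subgroup G))
          rw [h'] at this
          obtain ⟨k', hk'⟩ := Subgroup.mem_zpowers_iff.1 this
          exact D.zpow_ne_mul_y k' j hk'
      have hQ2 : IsPGroup 2 ↥(Q.map (MulAut.conj g).toMonoidHom) :=
        (S.2.to_le hQS).map _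
      have hQA : Q.map (MulAut.conj g).toMonoidHom ≤
          Subgroup.normalizer ((Subgroup.zpowers D.ga : Subgroup G) : Set G) := by
        rintro _ ⟨r, hr, rfl⟩
        refine hNmem _ _ fun y hy => ?_
        obtain ⟨k, rfl⟩ := Subgroup.mem_zpowers_iff.1 hy
        rw [← conj_zpow, ← hg]
        refine Subgroup.zpow_mem _ ?_ k
        show g * r * g⁻¹ * (g * D.gq i * g⁻¹) * (g * r * g⁻¹)⁻¹ ∈ Subgroup.zpowers (g * D.gq i * g⁻¹)
        rw [show g * r * g⁻¹ * (g * D.gq i * g⁻¹) * (g * r * g⁻¹)⁻¹ =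
          g * (r * D.gq i * r⁻¹) * g⁻¹ by group, ← conj_smul_zpowers]
        refine ⟨r * D.gq i * r⁻¹, ?_, rfl⟩
        have hrN : r ∈ N := Subgroup.le_normalizer hr
        have hrK : (⟨r, hrN⟩ : N) ∈ (Q ⊔ Subgroup.centralizer (Q : Set G)).subgroupOf N :=
          Subgroup.mem_sup_left hr
        have h2 := ((hK _).1 hrK).2.1
        rw [hact] at h2
        exact h2 ▸ Subgroup.mem_zpowers _
      obtain ⟨c, hc, hcS⟩ := exists_conj_le_sylow S _ hSA hQ2 hQA
      set h := c * g with hh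
      have hhQ : Q.map (MulAut.conj h).toMonoidHom ≤ (S : Subgroup G) := by
        rintro _ ⟨r, hr, rfl⟩
        have := hcS _ ⟨r, hr, rfl⟩
        show h * r * h⁻¹ ∈ S
        rw [hh, show c * g * r * (c * g)⁻¹ = c * (g * r * g⁻¹) * c⁻¹ by group]
        exact this
      have hhq : Subgroup.zpowers (h * D.gq i * h⁻¹) = Subgroup.zpowers D.ga := by
        rw [hh, show c * g * D.gq i * (c * g)⁻¹ = c * (g * D.gq i * g⁻¹) * c⁻¹ by group, hg]
        rcases mem_zpowers_of_orderOf_four hoa (by rw [orderOf_conj, hoa])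
            ((Subgroup.mem_normalizer_iff.1 hc _).1 (Subgroup.mem_zpowers D.ga)) with h1 | h1
        · rw [h1]
        · rw [h1, Subgroup.zpowers_inv]
      let Q' : Subgroup G := Q.map (MulAut.conj h).toMonoidHom
      have eQ : Q' ≃* QuaternionGroup 2 :=
        (Subgroup.equivMapOfInjective Q (MulAut.conj h).toMonoidHom (MulAut.conj h).injective).symm.trans e
      have hnN : h⁻¹ * s * h ∈ N := by
        refine hNmem Q _ fun r hr => ?_
        obtain ⟨r', hr', e'⟩ := hnormS Q' hhQ eQ _ ⟨r, hr, rfl⟩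
        have : r' = h⁻¹ * s * h * r * (h⁻¹ * s * h)⁻¹ := by
          have e'' : h * r' * h⁻¹ = s * (h * r * h⁻¹) * s⁻¹ := e'
          calc r' = h⁻¹ * (h * r' * h⁻¹) * h := by group
            _ = _ := by rw [e'']; group
        exact this ▸ hr'
      refine ⟨⟨_, hnN⟩, fun hfix => ?_⟩
      -- the transposition fixes only `⟨a⟩`
      set v := h * D.ga * h⁻¹ with hv
      have hv4 : orderOf v = 4 := by rw [hv, orderOf_conj, hoa]
      have hvS : v ∈ S := hhQ ⟨D.ga, ha, rfl⟩
      have hvfix : Subgroup.zpowers (s * v * s⁻¹) = Subgroup.zpowers v := by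
        have h1 := congrArg (fun K : Subgroup G => MulAut.conj h • K) hfix
        simp only [hact, conj_smul_zpowers] at h1
        rw [hv, ← h1]
        congr 1
        group
      have hvne : Subgroup.zpowers v ≠ Subgroup.zpowers D.ga := by
        rw [← hhq, hv, ← conj_smul_zpowers, ← conj_smul_zpowers]
        exact fun e' => hd1 (smul_left_cancel _ e')
      rcases D.order_four_cases hvS hv4 with h1 | h1 | ⟨j, hj, h1⟩
      · exact hvne (by rw [h1])
      · exact hvne (by rw [h1, Subgroup.zpowers_inv])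
      · rw [h1, hsq'] at hvfix
        have hmem := hvfix ▸ Subgroup.mem_zpowers (D.ga * D.gq j)
        obtain ⟨k, hk⟩ := Subgroup.mem_zpowers_iff.1 hmem
        rcases mem_zpowers_of_orderOf_four (D.orderOf_gq_odd hj)
            (by rw [D.ga_mul_gq, D.orderOf_gq_odd (D.odd_m_add hj)]) hmem with h2 | h2
        · have := mul_eq_right.1 h2
          rw [this, orderOf_one] at hoa
          omega
        · have : D.ga = (D.gq j * D.gq j)⁻¹ := by
            rw [mul_inv_rev, eq_mul_inv_iff_mul_eq]; exact h2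
          rw [this, D.gq_sq hj, inv_of_orderOf_two D.orderOf_gz, D.orderOf_gz] at hoa
          omega
  · obtain ⟨n, hn⟩ := hsq h6 _ _ (hset p hp hp4) (hset q' hq' hq4)
    refine ⟨n, n.2, ?_⟩
    rw [hact] at hn
    exact mem_zpowers_of_orderOf_four hq4 (by rw [orderOf_conj, hp4])
      (hn ▸ Subgroup.mem_zpowers _)

end QDData

end Cfsg.Agent.Invol
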