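import Cfsg.Agent.Lib.Invol.QuasiDihedral

/-!
# Four-groups and quaternion subgroups of a quasi-dihedral group
-/

namespace Cfsg.Agent.Invol

variable {S : Type*} [Group S]

namespace QDData

variable (D : QDData S)

theorem a_conj_y : D.y * D.x ^ (D.m : ℤ) * D.y⁻¹ = D.x ^ (-(D.m : ℤ)) := by
  obtain ⟨m', hm'⟩ := D.m_even
  rw [D.conj_y_zpow, D.zpow_eq_iff]
  exact ⟨m', by rw [hm']; ring⟩

theorem conj_mul_y_mult (i t : ℤ) :
    D.x ^ i * D.y * D.x ^ ((D.m : ℤ) * t) * (D.x ^ i * D.y)⁻¹ = D.x ^ ((D.m : ℤ) * -t) := by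
  calc D.x ^ i * D.y * D.x ^ ((D.m : ℤ) * t) * (D.x ^ i * D.y)⁻¹
      = D.x ^ i * (D.y * D.x ^ ((D.m : ℤ) * t) * D.y⁻¹) * (D.x ^ i)⁻¹ := by group
    _ = D.x ^ i * D.x ^ ((D.m : ℤ) * -t) * (D.x ^ i)⁻¹ := by
      rw [zpow_mul, ← conj_zpow, D.a_conj_y, ← zpow_mul, neg_mul, mul_neg]
    _ = _ := by group

theorem eq_mul_rebase (i j : ℤ) : D.x ^ j * D.y = D.x ^ (j - i) * (D.x ^ i * D.y) := by group

theorem dvd_two_m_cases (i : ℤ) (hi : (D.m : ℤ) ∣ i) :
    ∃ t, i = (D.m : ℤ) * t ∧ (2 * (D.m : ℤ) ∣ i ↔ 2 ∣ t) := by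
  obtain ⟨t, rfl⟩ := hi
  refine ⟨t, rfl, ?_⟩
  rw [mul_comm 2 (D.m : ℤ), Int.mul_dvd_mul_iff_left (by have := D.m_pos; omega)]

/-- A Klein four subgroup is the centraliser of an involution outside `⟨x⟩`. -/
theorem four_mem_iff (U : Subgroup S) [hU : IsKleinFour U] :
    ∃ i : ℤ, 2 ∣ i ∧ D.x ^ i * D.y ∈ U ∧ ∀ h : S, h ∈ U ↔ Commute h (D.x ^ i * D.y) := by
  classical
  have hsq : ∀ u ∈ U, u * u = 1 := fun u hu =>
    congrArg Subtype.val (IsKleinFour.mul_self (⟨u, hu⟩ : U))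
  have hcomm : ∀ u ∈ U, ∀ v ∈ U, u * v = v * u := fun u hu v hv =>
    congrArg Subtype.val (mul_comm_of_exponent_two IsKleinFour.exponent_two (⟨u, hu⟩ : U) ⟨v, hv⟩)
  -- some element lies outside `⟨x⟩`
  have hout : ∃ i : ℤ, D.x ^ i * D.y ∈ U := by
    by_contra hno
    push_neg at hno
    have hsub : (U : Set S) ⊆ {1, D.x ^ (2 * (D.m : ℤ))} := by
      intro u hu
      rcases D.sq_eq_one_cases (hsq u hu) with ⟨i, rfl, hi⟩ | ⟨i, rfl, -⟩
      · exact D.z_cases hi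
      · exact absurd hu (hno i)
    have h1 := Set.ncard_le_ncard hsub (Set.toFinite _)
    rw [← Nat.card_coe_set_eq] at h1
    have h2 : ({1, D.x ^ (2 * (D.m : ℤ))} : Set S).ncard ≤ 2 := by
      rw [Set.ncard_pair (ne_one_of_orderOf_two D.orderOf_z).symm]
    have h3 : Nat.card U ≤ 2 := h1.trans h2
    rw [IsKleinFour.card_four] at h3
    omega
  obtain ⟨i, hi⟩ := hout
  refine ⟨i, (D.sq_mul_y_eq_one_iff i).1 (hsq _ hi), hi, fun h => ⟨fun hh => hcomm h hh _ hi, ?_⟩⟩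
  intro hh
  -- the four elements of the centraliser are the four elements of `U`
  let T : Set S := {1, D.x ^ (2 * (D.m : ℤ)), D.x ^ i * D.y,
    D.x ^ (2 * (D.m : ℤ)) * (D.x ^ i * D.y)}
  have hsub : (U : Set S) ⊆ T := fun u hu => D.commute_mul_y_cases (hcomm u hu _ hi)
  have hle : T.ncard ≤ (U : Set S).ncard := by
    rw [← Nat.card_coe_set_eq (U : Set S)]
    refine le_trans ?_ (le_of_eq (IsKleinFour.card_four (G := U)).symm)
    refine (Set.ncard_insert_le _ _).trans (Nat.add_le_add_right ?_ 1)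
    refine (Set.ncard_insert_le _ _).trans (Nat.add_le_add_right ?_ 1)
    refine (Set.ncard_insert_le _ _).trans (Nat.add_le_add_right ?_ 1)
    rw [Set.ncard_singleton]
  have heq := Set.eq_of_subset_of_ncard_le hsub hle (Set.toFinite _)
  rw [← SetLike.mem_coe, heq]
  exact D.commute_mul_y_cases hh

/-- A quaternion subgroup of order 8 consists of the powers of `x ^ m` and their multiples by an
element `x ^ i y` with `i` odd. -/
theorem q8_mem_iff (Q : Subgroup S) (e : Q ≃* QuaternionGroup 2) :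
    ∃ i : ℤ, ¬ 2 ∣ i ∧ ∀ h : S, h ∈ Q ↔ ∃ t : ℤ, h = D.x ^ ((D.m : ℤ) * t) ∨
      h = D.x ^ ((D.m : ℤ) * t) * (D.x ^ i * D.y) := by
  classical
  obtain ⟨hcard, huniq, h4, hcent, -, hncyc⟩ := q8_facts e
  haveI : Finite Q := Nat.finite_of_card_ne_zero (by rw [hcard]; norm_num)
  have hQX : ∀ j : ℤ, D.x ^ j ∈ Q → (D.m : ℤ) ∣ j := by
    intro j hj
    have h := congrArg Subtype.val (h4 ⟨_, hj⟩)
    simp only [SubmonoidClass.coe_pow, OneMemClass.coe_one] at h
    rw [← zpow_natCast, ← zpow_mul, D.zpow_eq_one_iff] at h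
    push_cast at h; rw [mul_comm j, Int.mul_dvd_mul_iff_left (by norm_num)] at h
    exact h
  have hout : ∃ i : ℤ, D.x ^ i * D.y ∈ Q := by
    by_contra hno
    push_neg at hno
    refine hncyc ?_
    have hle : Q ≤ Subgroup.zpowers D.x := fun g hg => by
      obtain ⟨j, rfl | rfl⟩ := D.repr_cases g
      · exact Subgroup.zpow_mem _ (Subgroup.mem_zpowers _) j
      · exact absurd hg (hno j)
    exact isCyclic_of_injective (Subgroup.inclusion hle) (Subgroup.inclusion_injective hle)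
  obtain ⟨i, hi⟩ := hout
  have hodd : ¬ 2 ∣ i := by
    intro hev
    -- an involution of `Q` is central, but `C(x ^ i y)` is too small
    have h1 : (⟨_, hi⟩ : Q) * ⟨_, hi⟩ = 1 := Subtype.ext ((D.sq_mul_y_eq_one_iff i).2 hev)
    let T : Set S := {1, D.x ^ (2 * (D.m : ℤ)), D.x ^ i * D.y,
      D.x ^ (2 * (D.m : ℤ)) * (D.x ^ i * D.y)}
    have hsub : (Q : Set S) ⊆ T := fun u hu =>
      D.commute_mul_y_cases (congrArg Subtype.val (hcent _ h1 ⟨u, hu⟩)).symm
    have hle : T.ncard ≤ 4 := by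
      refine (Set.ncard_insert_le _ _).trans (Nat.add_le_add_right ?_ 1)
      refine (Set.ncard_insert_le _ _).trans (Nat.add_le_add_right ?_ 1)
      refine (Set.ncard_insert_le _ _).trans (Nat.add_le_add_right ?_ 1)
      rw [Set.ncard_singleton]
    have h2 := (Set.ncard_le_ncard hsub (Set.toFinite _)).trans hle
    rw [← Nat.card_coe_set_eq] at h2
    have h3 : Nat.card Q ≤ 4 := h2
    omega
  -- the intersection with `⟨x⟩` has all powers of `x ^ m`
  have hmem : D.x ^ (D.m : ℤ) ∈ Q := by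
    by_contra hno
    have hev : ∀ j : ℤ, D.x ^ j ∈ Q → 2 * (D.m : ℤ) ∣ j := by
      intro j hj
      obtain ⟨t, rfl, ht⟩ := D.dvd_two_m_cases j (hQX j hj)
      rw [ht]
      by_contra hne
      obtain ⟨u, rfl⟩ : ∃ u, t = 2 * u + 1 := ⟨(t - 1) / 2, by omega⟩
      refine hno ?_
      -- `x ^ m` is an odd power times a power of `z = (x ^ i y) ^ 2`
      have hz : D.x ^ (2 * (D.m : ℤ)) ∈ Q := D.sq_mul_y_odd hodd ▸ mul_mem hi hi
      have := mul_mem hj (Subgroup.zpow_mem _ hz (-u))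
      rwa [← zpow_mul, ← zpow_add,
        show (D.m : ℤ) * (2 * u + 1) + 2 * D.m * -u = D.m by ring] at this
    let T : Set S := {1, D.x ^ (2 * (D.m : ℤ)), D.x ^ i * D.y,
      D.x ^ (2 * (D.m : ℤ)) * (D.x ^ i * D.y)}
    have hsub : (Q : Set S) ⊆ T := by
      intro u hu
      obtain ⟨j, rfl | rfl⟩ := D.repr_cases u
      · rcases D.z_cases (hev j hu) with h | h <;> simp [T, h]
      · have h' : D.x ^ (j - i) ∈ Q := by
          have := mul_mem hu (inv_mem hi)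
          rwa [show D.x ^ j * D.y * (D.x ^ i * D.y)⁻¹ = D.x ^ (j - i) by group] at this
        rw [D.eq_mul_rebase i j]
        rcases D.z_cases (hev _ h') with h | h <;> simp [T, h]
    have hle : T.ncard ≤ 4 := by
      refine (Set.ncard_insert_le _ _).trans (Nat.add_le_add_right ?_ 1)
      refine (Set.ncard_insert_le _ _).trans (Nat.add_le_add_right ?_ 1)
      refine (Set.ncard_insert_le _ _).trans (Nat.add_le_add_right ?_ 1)
      rw [Set.ncard_singleton]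
    have h2 := (Set.ncard_le_ncard hsub (Set.toFinite _)).trans hle
    rw [← Nat.card_coe_set_eq] at h2
    have h3 : Nat.card Q ≤ 4 := h2
    omega
  refine ⟨i, hodd, fun h => ⟨fun hh => ?_, ?_⟩⟩
  · obtain ⟨j, rfl | rfl⟩ := D.repr_cases h
    · obtain ⟨t, rfl⟩ := hQX j hh
      exact ⟨t, Or.inl rfl⟩
    · have h' : D.x ^ (j - i) ∈ Q := by
        have := mul_mem hh (inv_mem hi)
        rwa [show D.x ^ j * D.y * (D.x ^ i * D.y)⁻¹ = D.x ^ (j - i) by group] at this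
      obtain ⟨t, ht⟩ := hQX _ h'
      exact ⟨t, Or.inr (by rw [D.eq_mul_rebase i j, ht])⟩
  · have hp : ∀ t : ℤ, D.x ^ ((D.m : ℤ) * t) ∈ Q := fun t => by
      rw [zpow_mul]; exact Subgroup.zpow_mem _ hmem t
    rintro ⟨t, rfl | rfl⟩
    · exact hp t
    · exact mul_mem (hp t) hi

end QDData

end Cfsg.Agent.Invol
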