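import Mathlib
import Cfsg.Agent.Lib.LocalEvenB.FixedOrder
import Cfsg.Agent.Lib.Basics.Frattini

/-!
A `p'`-element normalizing a `p`-group generated by `d` elements centralizes it, provided its order is prime
to `p ^ i - 1` for all `i ≤ d`.
-/

set_option autoImplicit false

namespace Cfsg.Agent.Invol.RankAut

open Subgroup
open scoped commutatorElement

theorem mulAut_eq_one {T : Type*} [Group T] [Finite T] {p r : ℕ} (hp : p.Prime)
    (hT : Nat.card T = p ^ r) (τ : MulAut T) (hτ : (orderOf τ).Coprime p)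
    (hτ' : ∀ i, 1 ≤ i → i ≤ r → (orderOf τ).Coprime (p ^ i - 1)) : τ = 1 := by
  haveI := Fact.mk hp
  by_contra hne
  have h1 : orderOf τ ≠ 1 := fun h => hne (orderOf_eq_one_iff.1 h)
  obtain ⟨q, hq, hqd⟩ := Nat.exists_prime_and_dvd h1
  haveI : Fact q.Prime := ⟨hq⟩
  set σ := τ ^ (orderOf τ / q) with hσdef
  have hσ : orderOf σ = q := orderOf_pow_orderOf_div (orderOf_pos τ).ne' hqd
  have hA : IsPGroup q (zpowers σ) := IsPGroup.of_card (n := 1) (by rw [Nat.card_zpowers, hσ, pow_one])
  have hmod := hA.card_modEq_card_fixedPoints T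
  let C : Subgroup T :=
    { carrier := {t | σ t = t}
      one_mem' := map_one σ
      mul_mem' := fun {a b} (ha : σ a = a) (hb : σ b = b) => show σ (a * b) = a * b by rw [map_mul, ha, hb]
      inv_mem' := fun {a} (ha : σ a = a) => show σ a⁻¹ = a⁻¹ by rw [map_inv, ha] }
  have hfix : MulAction.fixedPoints (zpowers σ) T = (C : Set T) := by
    ext t
    constructor
    · intro h
      exact h ⟨σ, mem_zpowers σ⟩
    · rintro (h : σ t = t) ⟨g, hg⟩
      have hle : zpowers σ ≤ MulAction.stabilizer (MulAut T) t := zpowers_le.2 h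
      exact hle hg
  rw [hfix] at hmod
  change Nat.card T ≡ Nat.card C [MOD q] at hmod
  obtain ⟨c, hc⟩ := IsPGroup.iff_card.1 ((IsPGroup.of_card hT).to_subgroup C)
  have hcr : c ≤ r := by
    have := card_subgroup_dvd_card C
    rw [hT, hc] at this
    exact (Nat.pow_dvd_pow_iff_le_right hp.one_lt).1 this
  rcases hcr.lt_or_eq with hlt | heq
  · rw [hT, hc, show r = c + (r - c) by omega, pow_add, Nat.ModEq.comm,
      Nat.modEq_iff_dvd' (Nat.le_mul_of_pos_right _ (pow_pos hp.pos _)), ← Nat.mul_sub_one,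
      hq.dvd_mul] at hmod
    rcases hmod with h | h
    · exact hq.one_lt.ne' (Nat.eq_one_of_dvd_coprimes hτ hqd (hq.dvd_of_dvd_pow h))
    · exact hq.one_lt.ne' (Nat.eq_one_of_dvd_coprimes (hτ' (r - c) (by omega) (Nat.sub_le r c)) hqd h)
  · have hC : C = ⊤ := eq_top_of_card_eq C (by rw [hT, hc, heq])
    have : σ = 1 := MulEquiv.ext fun t => show t ∈ C from hC ▸ mem_top t
    rw [this, orderOf_one] at hσ
    exact hq.one_lt.ne hσ

theorem card_closure_le {V : Type*} [CommGroup V] [Finite V] {p : ℕ} (hp : 0 < p)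
    (hexp : ∀ v : V, v ^ p = 1) (s : Finset V) :
    Nat.card (closure (s : Set V)) ≤ p ^ s.card := by
  classical
  induction s using Finset.induction_on with
  | empty => simp
  | insert a s ha ih =>
    have hle : closure ((insert a s : Finset V) : Set V) ≤ zpowers a ⊔ closure (s : Set V) := by
      rw [Finset.coe_insert, closure_le]
      rintro x (rfl | hx)
      · exact mem_sup_left (mem_zpowers x)
      · exact mem_sup_right (subset_closure hx)
    refine (card_le_of_le hle).trans ?_
    rw [Finset.card_insert_of_notMem ha, pow_succ']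
    have hidx : Nat.card ↥(zpowers a ⊔ closure (s : Set V)) =
        Nat.card (closure (s : Set V)) * (closure (s : Set V)).relIndex (zpowers a) := by
      have h1 := card_mul_index ((closure (s : Set V)).subgroupOf (zpowers a ⊔ closure (s : Set V)))
      rw [Nat.card_congr (subgroupOfEquivOfLe le_sup_right).toEquiv] at h1
      rw [← h1]
      congr 1
      change (closure (s : Set V)).relIndex (zpowers a ⊔ closure (s : Set V)) = _
      exact relIndex_sup_right ..
    rw [hidx, mul_comm p]
    refine Nat.mul_le_mul ih ?_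
    refine (Nat.le_of_dvd Nat.card_pos (relIndex_dvd_card _ _)).trans ?_
    rw [Nat.card_zpowers]
    exact Nat.le_of_dvd hp (orderOf_dvd_of_pow_eq_one (hexp a))

variable {G : Type*} [Group G] [Finite G]

theorem commute_of_generated {p : ℕ} [hp : Fact p.Prime] {T : Subgroup G} (hT : IsPGroup p T)
    (s : Finset G) (hs : closure (s : Set G) = T) {x : G} (hxT : x ∈ normalizer (T : Set G))
    (hx : (orderOf x).Coprime p) (hx' : ∀ i, 1 ≤ i → i ≤ s.card → (orderOf x).Coprime (p ^ i - 1)) :
    ∀ y ∈ T, Commute x y := by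
  classical
  refine LocalEvenB.commute_of_frattini hT hxT hx fun y hy => ?_
  haveI := hT.isNilpotent
  set N := frattini T
  set σ := T.normalizerMonoidHom ⟨x, hxT⟩ with hσ
  have hchar : N.map σ.toMonoidHom = N :=
    Subgroup.characteristic_iff_map_eq.mp (frattini_characteristic (G := T)) σ
  let τ : MulAut (T ⧸ N) := QuotientGroup.congr N N σ hchar
  have hcomm : ∀ u v : T ⧸ N, u * v = v * u := by
    intro u v
    induction u using QuotientGroup.induction_on with
    | _ u => induction v using QuotientGroup.induction_on with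
      | _ v =>
        rw [← QuotientGroup.mk_mul, ← QuotientGroup.mk_mul, QuotientGroup.eq]
        exact Basics.commutator_le_frattini (by
          rw [show (u * v)⁻¹ * (v * u) = ⁅v⁻¹, u⁻¹⁆ by rw [commutatorElement_def]; group]
          exact commutator_mem_commutator (mem_top _) (mem_top _))
  letI : CommGroup (T ⧸ N) := { (inferInstance : Group (T ⧸ N)) with mul_comm := hcomm }
  have hexp : ∀ u : T ⧸ N, u ^ p = 1 := by
    intro u
    induction u using QuotientGroup.induction_on with
    | _ u =>
      rw [← QuotientGroup.mk_pow, QuotientGroup.eq_one_iff]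
      exact Basics.pow_mem_frattini hT u
  have hsT : ∀ g ∈ s, g ∈ T := fun g hg => hs ▸ subset_closure (Finset.mem_coe.2 hg)
  let s' : Finset (T ⧸ N) := s.attach.image fun g => ((⟨g.1, hsT g.1 g.2⟩ : T) : T ⧸ N)
  have htop : closure (s' : Set (T ⧸ N)) = ⊤ := by
    rw [eq_top_iff]
    intro u _
    induction u using QuotientGroup.induction_on with
    | _ u =>
      have key : ∀ g (hg : g ∈ closure (s : Set G)), ∃ h : g ∈ T,
          ((⟨g, h⟩ : T) : T ⧸ N) ∈ closure (s' : Set (T ⧸ N)) := by
        intro g hg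
        induction hg using closure_induction with
        | mem g hg => exact ⟨hsT g hg, subset_closure (Finset.mem_coe.2
            (Finset.mem_image.2 ⟨⟨g, hg⟩, Finset.mem_attach _ _, rfl⟩))⟩
        | one => exact ⟨one_mem T, one_mem _⟩
        | mul a b _ _ ha hb =>
          obtain ⟨h1, h2⟩ := ha
          obtain ⟨h3, h4⟩ := hb
          exact ⟨mul_mem h1 h3, mul_mem h2 h4⟩
        | inv a _ ha =>
          obtain ⟨h1, h2⟩ := ha
          exact ⟨inv_mem h1, inv_mem h2⟩
      obtain ⟨hu, h'⟩ := key u.1 (by rw [hs]; exact u.2)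
      exact h'
  obtain ⟨r, hr⟩ := IsPGroup.iff_card.1 (hT.to_quotient N)
  have hrs : r ≤ s.card := by
    have h1 := card_closure_le hp.out.pos hexp s'
    rw [htop, Subgroup.card_top, hr] at h1
    refine (Nat.pow_le_pow_iff_right hp.out.one_lt).1 (h1.trans ?_)
    exact Nat.pow_le_pow_right hp.out.pos (Finset.card_image_le.trans (Finset.card_attach).le)
  have hdvd : orderOf τ ∣ orderOf x := by
    refine orderOf_dvd_of_pow_eq_one ?_
    have hτn : ∀ (n : ℕ) (u : T), (τ ^ n) (u : T ⧸ N) = (((σ ^ n) u : T) : T ⧸ N) := by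
      intro n
      induction n with
      | zero => intro u; simp
      | succ n ih => intro u; rw [pow_succ', pow_succ', MulAut.mul_apply, MulAut.mul_apply, ih]; rfl
    have hσ1 : σ ^ orderOf x = 1 := by
      rw [hσ, ← map_pow, show (⟨x, hxT⟩ : normalizer (T : Set G)) ^ orderOf x = 1 from
        Subtype.ext (pow_orderOf_eq_one x), map_one]
    refine MulEquiv.ext fun u => ?_
    induction u using QuotientGroup.induction_on with
    | _ u => rw [hτn, hσ1]; rfl
  have hτ1 := mulAut_eq_one hp.out hr τ (hx.coprime_dvd_left hdvd)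
    (fun i h1 h2 => (hx' i h1 (h2.trans hrs)).coprime_dvd_left hdvd)
  have h4 : τ ((⟨y, hy⟩ : T) : T ⧸ N) = ((⟨y, hy⟩ : T) : T ⧸ N) := by rw [hτ1]; rfl
  have h5 : σ ⟨y, hy⟩ * (⟨y, hy⟩ : T)⁻¹ ∈ N := by
    rw [← QuotientGroup.eq_one_iff, QuotientGroup.mk_mul, QuotientGroup.mk_inv, mul_inv_eq_one]
    exact h4
  exact ⟨_, h5, rfl⟩

end Cfsg.Agent.Invol.RankAut
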