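import Cfsg.Agent.Lib.Invol.SU3Refl

/-!
# The commuting involution graph of `SU₃(q)`
-/

set_option autoImplicit false
set_option linter.unusedSectionVars false

namespace Cfsg.Agent.SU3Inv

open Matrix Cfsg.Agent.AutPSU

variable {F : Type*} [Field F] [Fintype F] {q : ℕ} [hQ : QField F q]

local notation "V" => Fin 3 → F
set_option quotPrecheck false in
local notation "SU3" => ↥(Cfsg.SU 3 F q)
local notation "H" => Cfsg.hermForm 3 F q
local notation "H2" => Cfsg.hermForm 2 F q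
local notation "σ" => qb (F := F) q

include hQ

omit [Fintype F] in
theorem ne_zero_of_norm (v : Nm F q) : H v.1 v.1 ≠ 0 := by rw [v.2]; exact one_ne_zero

/-- Scaling a non-isotropic vector to norm one. -/
theorem exists_scaled {z : V} (hz : H z z ≠ 0) : ∃ (u : Nm F q) (c : F), u.1 = c • z := by
  obtain ⟨c, hc⟩ := exists_norm (F := F) (q := q) (c := (H z z)⁻¹) (by rw [map_inv₀, H_self_fixed])
  exact ⟨⟨c • z, by rw [H_smul_left, H_smul_right, ← mul_assoc, hc, inv_mul_cancel₀ hz]⟩, c, rfl⟩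

/-- The vector in `v⊥` attached to `x`. -/
noncomputable def proj' (v x : Nm F q) : V := x.1 - H x.1 v.1 • v.1

omit [Fintype F] in
theorem proj'_perp (v x : Nm F q) : H (proj' v x) v.1 = 0 := by simp [proj', v.2]

omit [Fintype F] in
theorem proj'_norm (v x : Nm F q) :
    H (proj' v x) (proj' v x) = 1 - H x.1 v.1 * σ (H x.1 v.1) := by
  simp only [proj', H_sub_left, H_sub_right, H_smul_left, H_smul_right, v.2, x.2]
  rw [← H_flip x.1 v.1]
  ring

theorem proj'_eq_zero_iff (hq : Odd q) (v x : Nm F q) : proj' v x = 0 ↔ R v = R x := by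
  rw [R_eq_iff hq, proj', sub_eq_zero]
  refine ⟨fun h => ⟨_, h⟩, fun ⟨c, hc⟩ => ?_⟩
  conv_rhs => rw [hc, H_smul_left, v.2, mul_one]
  exact hc

/-- Two non-commuting involutions have a common neighbour iff their line is non-degenerate. -/
theorem common_iff (hq : Odd q) (v x : Nm F q) (hne : R v ≠ R x) :
    (∃ u : Nm F q, H u.1 v.1 = 0 ∧ H u.1 x.1 = 0) ↔ H (proj' v x) (proj' v x) ≠ 0 := by
  have hw0 : proj' v x ≠ 0 := fun h => hne ((proj'_eq_zero_iff hq v x).1 h)
  constructor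
  · rintro ⟨u, huv, hux⟩
    refine herm_ne_of_perp (ne_zero_of_norm v) (ne_zero_of_norm u) (H_eq_zero_comm.1 huv) hw0
      (proj'_perp v x) ?_
    simp [proj', H_eq_zero_comm.1 huv, H_eq_zero_comm.1 hux]
  · intro hw
    obtain ⟨z, hz0, hzv, hzx⟩ := exists_perp (q := q) v.1 x.1
    have hzw : H z (proj' v x) = 0 := by simp [proj', hzv, hzx]
    have hz := herm_ne_of_perp (ne_zero_of_norm v) hw (H_eq_zero_comm.1 (proj'_perp v x)) hz0 hzv hzw
    obtain ⟨u, c, hu⟩ := exists_scaled hz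
    exact ⟨u, by simp [hu, hzv], by simp [hu, hzx]⟩

/-- At distance three: not commuting and without common neighbour. -/
theorem far_iff (hq : Odd q) (v x : Nm F q) :
    (¬ Commute (R v) (R x) ∧ ∀ y : SU3, y ≠ 1 → y * y = 1 →
        ¬ (Commute (R v) y ∧ Commute y (R x))) ↔
      H x.1 v.1 * σ (H x.1 v.1) = 1 ∧ proj' v x ≠ 0 := by
  constructor
  · rintro ⟨hnc, hno⟩
    have hne : R v ≠ R x := fun h => hnc (h ▸ Commute.refl _)
    refine ⟨?_, fun h => hne ((proj'_eq_zero_iff hq v x).1 h)⟩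
    by_contra hN
    obtain ⟨u, huv, hux⟩ := (common_iff hq v x hne).2 (by
      rw [proj'_norm]; exact sub_ne_zero.2 (Ne.symm hN))
    exact hno (R u) (R_ne_one hq u) (R_sq u)
      ⟨(commute_R_iff hq v u).2 (Or.inr (H_eq_zero_comm.1 huv)),
        (commute_R_iff hq u x).2 (Or.inr hux)⟩
  · rintro ⟨hN, hw⟩
    have hne : R v ≠ R x := fun h => hw ((proj'_eq_zero_iff hq v x).2 h)
    have hnc : ¬ Commute (R v) (R x) := by
      rw [commute_R_iff hq]
      rintro (h | h)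
      · exact hne h
      · rw [H_eq_zero_comm.1 h, zero_mul] at hN; exact zero_ne_one hN
    refine ⟨hnc, fun y hy hy2 ⟨h1, h2⟩ => ?_⟩
    obtain ⟨u, hu⟩ := exists_R hq ⟨y, hy, hy2⟩
    simp only at hu
    subst hu
    rcases (commute_R_iff hq v u).1 h1 with h | h
    · exact hnc (h ▸ h2)
    rcases (commute_R_iff hq u x).1 h2 with h' | h'
    · exact hnc (h' ▸ h1)
    refine (common_iff hq v x hne).1 ⟨u, H_eq_zero_comm.1 h, h'⟩ ?_
    rw [proj'_norm, hN, sub_self]

theorem near_iff (hq : Odd q) (v x : Nm F q) :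
    (R x ≠ R v ∧ Commute (R v) (R x)) ↔ H x.1 v.1 = 0 := by
  rw [commute_R_iff hq]
  refine ⟨fun ⟨h1, h2⟩ => H_eq_zero_comm.1 (h2.resolve_left (Ne.symm h1)), fun h => ⟨?_,
    Or.inr (H_eq_zero_comm.1 h)⟩⟩
  intro e
  obtain ⟨c, hc⟩ := (R_eq_iff hq v x).1 e.symm
  rw [hc, H_smul_left, v.2, mul_one] at h
  have := x.2
  simp [hc, h] at this

/-- The third involution of a commuting pair. -/
theorem exists_unique_third (hq : Odd q) (v x : Nm F q) (h : H v.1 x.1 = 0) :
    ∃ u : Nm F q, H u.1 v.1 = 0 ∧ H u.1 x.1 = 0 ∧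
      ∀ y : Nm F q, H y.1 v.1 = 0 → H y.1 x.1 = 0 → R y = R u := by
  obtain ⟨z, hz0, hzv, hzx⟩ := exists_perp (q := q) v.1 x.1
  have hzz := herm_ne_of_perp (ne_zero_of_norm v) (ne_zero_of_norm x) h hz0 hzv hzx
  obtain ⟨u, c, hu⟩ := exists_scaled hzz
  have huv : H u.1 v.1 = 0 := by simp [hu, hzv]
  have hux : H u.1 x.1 = 0 := by simp [hu, hzx]
  refine ⟨u, huv, hux, fun y hyv hyx => ((R_eq_iff hq u y).2 ⟨H y.1 u.1, ?_⟩).symm⟩
  rw [← sub_eq_zero]
  by_contra hd
  have hli : LinearIndependent F ![v.1, x.1, u.1] := by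
    rw [Fintype.linearIndependent_iff]
    intro a ha
    rw [Fin.sum_univ_three] at ha
    have h0 := congrArg (fun w => H w v.1) ha
    have h1 := congrArg (fun w => H w x.1) ha
    have h2 := congrArg (fun w => H w u.1) ha
    simp [v.2, x.2, u.2, h, huv, hux, H_eq_zero_comm.1 h, H_eq_zero_comm.1 huv,
      H_eq_zero_comm.1 hux] at h0 h1 h2
    intro i
    fin_cases i <;> assumption
  refine hd (eq_zero_of_orth' (q := q) fun w => ?_)
  have hw : w ∈ Submodule.span F (Set.range ![v.1, x.1, u.1]) := by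
    rw [hli.span_eq_top_of_card_eq_finrank (by simp)]; trivial
  obtain ⟨a, rfl⟩ := (Submodule.mem_span_range_iff_exists_fun F).1 hw
  rw [Fin.sum_univ_three]
  simp [hyv, hyx, huv, hux, u.2]

/-- A frame with first vector `v`. -/
theorem exists_frame (v : Nm F q) : ∃ Φ : V ≃ V, (∀ a b, H (Φ a) (Φ b) = H a b) ∧
    (∀ y, H (Φ y) v.1 = y 0) ∧ ∀ y, (Φ y - H (Φ y) v.1 • v.1 = 0 ↔ Fin.tail y = 0) := by
  obtain ⟨g, hg, hge⟩ := UnitaryOrder.exists_witt (card_F (F := F) (q := q)) v.1 0 v.2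
  let Φ : V ≃ V :=
    { toFun := fun y => g.1 *ᵥ y
      invFun := fun y => (g⁻¹ : GL (Fin 3) F).1 *ᵥ y
      left_inv := fun y => by simp [mulVec_mulVec]
      right_inv := fun y => by simp [mulVec_mulVec] }
  have hv : ∀ y, H (Φ y) v.1 = y 0 := fun y => by
    rw [← hge]
    refine (hg y (Pi.single 0 1)).trans ?_
    rw [UnitaryOrder.hermForm_single (q_ne_zero (F := F) (q := q))]
  refine ⟨Φ, fun a b => hg a b, hv, fun y => ?_⟩
  rw [hv, sub_eq_zero, show v.1 = Φ (Pi.single 0 1) from hge.symm,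
    show y 0 • Φ (Pi.single 0 1) = Φ (y 0 • Pi.single 0 1) from (mulVec_smul g.1 _ _).symm,
    Φ.injective.eq_iff]
  constructor
  · intro h; funext i
    rw [Fin.tail, h]
    simp [Fin.succ_ne_zero]
  · intro h; funext i
    refine Fin.cases ?_ (fun i => ?_) i
    · simp
    · simpa [Fin.succ_ne_zero, Fin.tail] using congrFun h i

omit [Fintype F] in
theorem herm_split (y : V) : H y y = y 0 * σ (y 0) + H2 (Fin.tail y) (Fin.tail y) := by
  conv_lhs => rw [← Fin.cons_self_tail y]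
  rw [UnitaryOrder.hermForm_cons, qb_apply]

theorem card_near (v : Nm F q) :
    Nat.card {x : Nm F q // H x.1 v.1 = 0} = q * (q ^ 2 - 1) := by
  obtain ⟨Φ, hΦ, hv, -⟩ := exists_frame v
  have h := UnitaryOrder.card_norm_one_vec (card_F (F := F) (q := q)) 1
  rw [if_neg (by decide), pow_one] at h
  rw [← h]
  refine Nat.card_congr ((Equiv.subtypeSubtypeEquivSubtypeInter (fun x => H x x = 1)
    (fun x => H x v.1 = 0)).trans ?_)
  refine (Φ.subtypeEquiv (p := fun y => y 0 = 0 ∧ H2 (Fin.tail y) (Fin.tail y) = 1) fun y => ?_).symm.trans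
    { toFun := fun y => ⟨Fin.tail y.1, y.2.2⟩
      invFun := fun u => ⟨Fin.cons 0 u.1, by simp, by rw [Fin.tail_cons]; exact u.2⟩
      left_inv := fun y => Subtype.ext (by
        funext i; refine Fin.cases ?_ (fun i => ?_) i <;> simp [y.2.1, Fin.tail])
      right_inv := fun u => Subtype.ext (by simp) }
  rw [hv, hΦ, herm_split]
  constructor
  · rintro ⟨h0, h1⟩; exact ⟨by rw [h0, zero_mul, zero_add, h1], h0⟩
  · rintro ⟨h1, h0⟩; rw [h0, zero_mul, zero_add] at h1; exact ⟨h0, h1⟩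

theorem card_isotropic : Nat.card {u : Fin 2 → F // u ≠ 0 ∧ H2 u u = 0} = (q + 1) * (q ^ 2 - 1) := by
  classical
  have hq2 := two_le_q (F := F) (q := q)
  have h := FormCount.card_herm (card_F (F := F) (q := q)) 2 0 (zero_pow (by omega))
  rw [if_pos rfl] at h
  have h1 : Nat.card {u : Fin 2 → F // hermForm 2 F q u u = 0} =
      Nat.card {u : Fin 2 → F // u ≠ 0 ∧ hermForm 2 F q u u = 0} + 1 := by
    have e := Nat.card_congr (Equiv.sumCompl
      (fun u : {u : Fin 2 → F // hermForm 2 F q u u = 0} => u.1 ≠ 0)).symm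
    rw [Nat.card_sum, Nat.card_congr (Equiv.subtypeSubtypeEquivSubtypeInter _ (fun u => u ≠ 0))] at e
    rw [e]
    congr 1
    · exact Nat.card_congr (Equiv.subtypeEquivRight fun u => and_comm)
    · refine Nat.card_eq_one_iff_unique.2 ⟨⟨fun a b => ?_⟩, ⟨⟨⟨0, by simp [hermForm]⟩, by simp⟩⟩⟩
      exact Subtype.ext (Subtype.ext (by rw [not_not.1 a.2, not_not.1 b.2]))
  have h1' : 1 ≤ q ^ 2 := Nat.one_le_pow _ _ (by omega)
  rw [h1] at h
  have : ((Nat.card {u : Fin 2 → F // u ≠ 0 ∧ hermForm 2 F q u u = 0} : ℕ) : ℤ) =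
      ((q + 1) * (q ^ 2 - 1) : ℕ) := by
    push_cast [Nat.cast_sub h1'] at h ⊢
    refine mul_left_cancel₀ (show (q : ℤ) ≠ 0 by exact_mod_cast (by omega : q ≠ 0)) ?_
    linear_combination h
  exact_mod_cast this

theorem card_far (v : Nm F q) :
    Nat.card {x : Nm F q // H x.1 v.1 * σ (H x.1 v.1) = 1 ∧ proj' v x ≠ 0} =
      (q + 1) * ((q + 1) * (q ^ 2 - 1)) := by
  classical
  obtain ⟨Φ, hΦ, hv, htail⟩ := exists_frame v
  have hn : Nat.card {a : F // a * σ a = 1} = q + 1 := by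
    rw [← FormCount.card_norm_eq (card_F (F := F) (q := q)) (one_pow q) |>.trans (if_neg one_ne_zero)]
    exact Nat.card_congr (Equiv.subtypeEquivRight fun a => by rw [qb_apply, ← pow_succ'])
  rw [← card_isotropic (F := F), ← hn, ← Nat.card_prod]
  refine Nat.card_congr ((Equiv.subtypeSubtypeEquivSubtypeInter (fun x => H x x = 1)
    (fun x => H x v.1 * σ (H x v.1) = 1 ∧ x - H x v.1 • v.1 ≠ 0)).trans ?_)
  refine (Φ.subtypeEquiv (p := fun y => y 0 * σ (y 0) = 1 ∧ Fin.tail y ≠ 0 ∧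
    H2 (Fin.tail y) (Fin.tail y) = 0) fun y => ?_).symm.trans
    { toFun := fun y => (⟨y.1 0, y.2.1⟩, ⟨Fin.tail y.1, y.2.2⟩)
      invFun := fun u => ⟨Fin.cons u.1.1 u.2.1, by simpa using u.1.2, by
        rw [Fin.tail_cons]; exact u.2.2⟩
      left_inv := fun y => Subtype.ext (Fin.cons_self_tail y.1)
      right_inv := fun u => by simp }
  rw [ne_eq (Φ y - _), htail, hv, hΦ, herm_split]
  constructor
  · rintro ⟨h0, h1, h2⟩; exact ⟨by rw [h0, h2, add_zero], h0, h1⟩
  · rintro ⟨h0, h1, h2⟩; exact ⟨h1, h2, by linear_combination h0 - h1⟩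

/-- A neighbour of `v` which is not opposite to `x`, for `x` opposite to `v`. -/
theorem exists_bridge (hq : Odd q) (v x : Nm F q) (hN : H x.1 v.1 * σ (H x.1 v.1) = 1)
    (hw : proj' v x ≠ 0) :
    ∃ y : Nm F q, H v.1 y.1 = 0 ∧ H x.1 y.1 * σ (H x.1 y.1) ≠ 1 := by
  set w := proj' v x with hwd
  have hww : H w w = 0 := by rw [hwd, proj'_norm, hN, sub_self]
  have hwv : H w v.1 = 0 := proj'_perp v x
  obtain ⟨g, hgw⟩ := exists_H_eq_one (q := q) hw
  set f := g - H g v.1 • v.1 with hfd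
  have hfv : H f v.1 = 0 := by simp [hfd, v.2]
  have hfw : H f w = 1 := by simp [hfd, H_eq_zero_comm.1 hwv, hgw]
  have hwf : H w f = 1 := by rw [← H_flip f w, hfw, map_one]
  obtain ⟨b, hb⟩ := exists_norm (F := F) (q := q) (c := (-1 : F)) (by simp)
  have hb0 : σ b ≠ 0 := by
    rw [map_ne_zero]; rintro rfl; simp at hb
  obtain ⟨t, ht⟩ := exists_trace (F := F) (q := q) (c := 1 + H f f)
    (by simp [H_self_fixed])
  have hy : H ((t / σ b) • w + b • f) ((t / σ b) • w + b • f) = 1 := by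
    simp [hww, hwf, hfw, map_div₀]
    have hbne : b ≠ 0 := fun e => hb0 (by rw [e, map_zero])
    field_simp
    linear_combination ht + H f f * hb
  refine ⟨⟨_, hy⟩, ?_, ?_⟩
  · simp [H_eq_zero_comm.1 hwv, H_eq_zero_comm.1 hfv]
  · have hx : x.1 = w + H x.1 v.1 • v.1 := by rw [hwd, proj']; abel
    rw [hx]
    simp [hww, hwf, H_eq_zero_comm.1 hwv, H_eq_zero_comm.1 hfv]
    rw [mul_comm, hb]
    intro h
    exact two_ne (F := F) (q := q) hq (by linear_combination -h)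

theorem connected (hq : Odd q) (v x : Nm F q) :
    ∃ y z : SU3, y ≠ 1 ∧ y * y = 1 ∧ z ≠ 1 ∧ z * z = 1 ∧
      Commute (R v) y ∧ Commute y z ∧ Commute z (R x) := by
  by_cases hc : Commute (R v) (R x)
  · exact ⟨R v, R x, R_ne_one hq v, R_sq v, R_ne_one hq x, R_sq x, Commute.refl _, hc, Commute.refl _⟩
  by_cases hno : ∀ y : SU3, y ≠ 1 → y * y = 1 → ¬ (Commute (R v) y ∧ Commute y (R x))
  · obtain ⟨hN, hw⟩ := (far_iff hq v x).1 ⟨hc, hno⟩
    obtain ⟨y, hvy, hxy⟩ := exists_bridge hq v x hN hw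
    have hne : R y ≠ R x := fun e => by
      obtain ⟨c, hcx⟩ := (R_eq_iff hq y x).1 e
      apply hxy
      have := x.2
      rw [hcx, H_smul_left, H_smul_right, y.2, mul_one] at this
      rwa [hcx, H_smul_left, y.2, mul_one]
    obtain ⟨u, huy, hux⟩ := (common_iff hq y x hne).2 (by
      rw [proj'_norm]; exact sub_ne_zero.2 (Ne.symm hxy))
    exact ⟨R y, R u, R_ne_one hq y, R_sq y, R_ne_one hq u, R_sq u,
      (commute_R_iff hq v y).2 (Or.inr hvy), (commute_R_iff hq y u).2 (Or.inr (H_eq_zero_comm.1 huy)),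
      (commute_R_iff hq u x).2 (Or.inr hux)⟩
  · push Not at hno
    obtain ⟨y, hy, hy2, h1, h2⟩ := hno
    exact ⟨y, R x, hy, hy2, R_ne_one hq x, R_sq x, h1, h2, Commute.refl _⟩

end Cfsg.Agent.SU3Inv
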