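import Cfsg.Agent.Lib.AutPSU.Basic
import Cfsg.Agent.Lib.LinearGroups.UnitaryOrder

/-!
# Involutions of `SU₃(q)`, `q` odd

The involutions are the reflections in the non-isotropic points of the Hermitian plane.
-/

set_option autoImplicit false
set_option linter.unusedSectionVars false

namespace Cfsg.Agent.SU3Inv

open Matrix Cfsg.Agent.AutPSU

variable {F : Type*} [Field F] [Fintype F] {q : ℕ} [hQ : QField F q]

local notation "V" => Fin 3 → F
local notation "M3" => Matrix (Fin 3) (Fin 3) F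
set_option quotPrecheck false in
local notation "SU3" => ↥(Cfsg.SU 3 F q)
local notation "H" => Cfsg.hermForm 3 F q
local notation "σ" => qb (F := F) q

/-- Vectors of norm one. -/
abbrev Nm (F : Type*) [Field F] (q : ℕ) := {v : Fin 3 → F // Cfsg.hermForm 3 F q v v = 1}

/-- Involutions. -/
abbrev Inv (F : Type*) [Field F] (q : ℕ) := {x : ↥(Cfsg.SU 3 F q) // x ≠ 1 ∧ x * x = 1}

include hQ

omit [Fintype F] in
theorem q_ne_zero : q ≠ 0 := by
  have := two_le_q (F := F) (q := q); omega

theorem card_F : Fintype.card F = q ^ 2 := by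
  rw [← Nat.card_eq_fintype_card]; exact hQ.card

theorem two_ne (hq : Odd q) : (2 : F) ≠ 0 := by
  intro h0
  haveI : CharP F 2 := CharTwo.of_one_ne_zero_of_two_eq_zero one_ne_zero h0
  have h2 := Nat.even_iff.2 (FiniteField.even_card_of_char_two (ringChar.eq F 2))
  rw [card_F (F := F) (q := q), Nat.even_pow] at h2
  exact Nat.not_even_iff_odd.2 hq h2.1

omit [Fintype F] in
theorem H_vecMul (u v : V) : H u v = (fun i => σ (v i)) ⬝ᵥ u := by
  simp [H_eq, dotProduct, mul_comm]

/-- The matrix of the reflection in `v`. -/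
noncomputable def Rmat (q : ℕ) [QField F q] (v : Fin 3 → F) : Matrix (Fin 3) (Fin 3) F :=
  -(1 + replicateCol Unit ((-2 : F) • v) * replicateRow Unit (fun i => qb q (v i)))

omit [Fintype F] in
theorem Rmat_mulVec (v x : V) : Rmat q v *ᵥ x = (2 * H x v) • v - x := by
  rw [Rmat, neg_mulVec, add_mulVec, one_mulVec, ← mulVec_mulVec]
  have : replicateRow Unit (fun i => σ (v i)) *ᵥ x = fun _ => H x v := by
    funext u; simp [replicateRow, mulVec, H_vecMul]
  rw [this]
  funext i
  simp [replicateCol, mulVec, dotProduct]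
  ring

omit [Fintype F] in
theorem Rmat_det {v : V} (hv : H v v = 1) : (Rmat q v).det = 1 := by
  rw [Rmat, det_neg, Fintype.card_fin, det_one_add_replicateCol_mul_replicateRow, dotProduct_smul,
    ← H_vecMul, hv]
  norm_num

/-- The reflection in a point of norm one. -/
noncomputable def R (v : Nm F q) : SU3 :=
  ⟨⟨Rmat q v.1, Rmat_det v.2⟩, fun x y => by
    show H (Rmat q v.1 *ᵥ x) (Rmat q v.1 *ᵥ y) = _
    simp only [Rmat_mulVec, H_sub_left, H_sub_right, H_smul_left, H_smul_right, map_mul, map_ofNat,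
      H_flip, v.2]
    ring⟩

omit [Fintype F] in
theorem R_app (v : Nm F q) (x : V) : app (R v) x = (2 * H x v.1) • v.1 - x := Rmat_mulVec v.1 x

omit [Fintype F] in
theorem R_self (v : Nm F q) : app (R v) v.1 = v.1 := by
  rw [R_app, v.2, mul_one, two_smul, add_sub_cancel_right]

omit [Fintype F] in
theorem R_sq (v : Nm F q) : R v * R v = 1 := by
  refine su_ext (q := q) fun x => ?_
  change app (R v * R v) x = app (1 : SU3) x
  rw [app_mul, app_one, R_app v x, app_sub, app_smul, R_self, R_app v x]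
  abel

/-- A non-zero vector orthogonal to two given ones. -/
theorem exists_perp (a b : V) : ∃ z : V, z ≠ 0 ∧ H z a = 0 ∧ H z b = 0 := by
  let f : V →ₗ[F] F × F := (Hl (q := q) a).prod (Hl (q := q) b)
  have hk : LinearMap.ker f ≠ ⊥ := by
    intro h
    have := LinearMap.finrank_le_finrank_of_injective (LinearMap.ker_eq_bot.1 h)
    simp at this
  obtain ⟨z, hz, hz0⟩ := Submodule.exists_mem_ne_zero_of_ne_bot hk
  rw [LinearMap.mem_ker] at hz
  exact ⟨z, hz0, congrArg Prod.fst hz, congrArg Prod.snd hz⟩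

/-- In an orthogonal triple with two non-isotropic members the third is non-isotropic. -/
theorem herm_ne_of_perp {v w z : V} (hv : H v v ≠ 0) (hw : H w w ≠ 0) (hvw : H v w = 0)
    (hz0 : z ≠ 0) (hzv : H z v = 0) (hzw : H z w = 0) : H z z ≠ 0 := by
  intro hz
  have hwv : H w v = 0 := H_eq_zero_comm.1 hvw
  have hvz : H v z = 0 := H_eq_zero_comm.1 hzv
  have hwz : H w z = 0 := H_eq_zero_comm.1 hzw
  have hli : LinearIndependent F ![v, w, z] := by
    rw [Fintype.linearIndependent_iff]
    intro c hc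
    rw [Fin.sum_univ_three] at hc
    have h0 := congrArg (fun u => H u v) hc
    have h1 := congrArg (fun u => H u w) hc
    simp [hwv, hzv, hzw, hvw, hv, hw] at h0 h1 hc
    have h2 : c 2 = 0 := by
      simp [h0, h1] at hc
      exact hc.resolve_right hz0
    intro i
    fin_cases i <;> assumption
  refine hz0 (eq_zero_of_orth (q := q) fun x => ?_)
  have hx : x ∈ Submodule.span F (Set.range ![v, w, z]) := by
    rw [hli.span_eq_top_of_card_eq_finrank (by simp)]; trivial
  obtain ⟨c, rfl⟩ := (Submodule.mem_span_range_iff_exists_fun F).1 hx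
  rw [Fin.sum_univ_three]
  simp [hvz, hwz, hz]

theorem R_ne_one (hq : Odd q) (v : Nm F q) : R v ≠ 1 := by
  intro h
  obtain ⟨z, hz0, hz, -⟩ := exists_perp (q := q) v.1 v.1
  have h1 := congrArg (fun s : SU3 => app s z) h
  simp only [R_app, app_one, hz, mul_zero, zero_smul, zero_sub] at h1
  refine hz0 ((smul_eq_zero.1 (show (2 : F) • z = 0 from ?_)).resolve_left (two_ne (F := F) (q := q) hq))
  rw [two_smul]
  nth_rewrite 1 [← h1]
  rw [neg_add_cancel]

/-- The reflection in `v`, as an involution. -/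
noncomputable def RI (hq : Odd q) (v : Nm F q) : Inv F q := ⟨R v, R_ne_one hq v, R_sq v⟩

theorem R_eq_iff (hq : Odd q) (v w : Nm F q) : R v = R w ↔ ∃ c : F, w.1 = c • v.1 := by
  have h2 := two_ne (F := F) (q := q) hq
  constructor
  · intro h
    have h1 := R_self w
    rw [← h, R_app] at h1
    refine ⟨H w.1 v.1, smul_right_injective V h2 ?_⟩
    simp only
    rw [smul_smul, two_smul F w.1]
    exact (sub_eq_iff_eq_add.1 h1).symm
  · rintro ⟨c, hc⟩
    have h1 : c * σ c = 1 := by
      have := w.2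
      rwa [hc, H_smul_left, H_smul_right, v.2, mul_one] at this
    refine su_ext (q := q) fun x => ?_
    change app (R v) x = app (R w) x
    rw [R_app, R_app, hc, H_smul_right, smul_smul]
    congr 2
    linear_combination (-(2 * H x v.1)) * h1

omit [Fintype F] in
theorem conj_R (s : SU3) (v : Nm F q) :
    s * R v * s⁻¹ = R ⟨app s v.1, (app_H s v.1 v.1).trans v.2⟩ := by
  refine su_ext (q := q) fun x => ?_
  change app (s * R v * s⁻¹) x = app (R _) x
  rw [app_mul, app_mul, R_app, R_app, app_sub, app_smul, app_inv']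
  congr 3
  rw [← app_H s (app s⁻¹ x) v.1, app_inv']

theorem commute_R_iff (hq : Odd q) (v w : Nm F q) :
    Commute (R v) (R w) ↔ R v = R w ∨ H v.1 w.1 = 0 := by
  have hconj : Commute (R v) (R w) ↔ R v * R w * (R v)⁻¹ = R w :=
    (commute_iff_eq _ _).trans mul_inv_eq_iff_eq_mul.symm
  rw [hconj, conj_R, eq_comm (a := R _), R_eq_iff hq]
  constructor
  · rintro ⟨c, hc⟩
    simp only [R_app] at hc
    by_cases h : H w.1 v.1 = 0
    · exact Or.inr (H_eq_zero_comm.1 h)
    · refine Or.inl ((R_eq_iff hq _ _).2 ?_)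
      have h2v : (2 * H w.1 v.1) • v.1 = (c + 1) • w.1 := by
        rw [add_smul, one_smul, ← sub_eq_iff_eq_add]; exact hc
      by_cases hc1 : c + 1 = 0
      · rw [hc1, zero_smul] at h2v
        have := congrArg (fun u => H u v.1) h2v
        simp [v.2, h, two_ne (F := F) (q := q) hq] at this
      · exact ⟨(c + 1)⁻¹ * (2 * H w.1 v.1), by
          rw [mul_smul, h2v, smul_smul, inv_mul_cancel₀ hc1, one_smul]⟩
  · rintro (h | h)
    · obtain ⟨c, hc⟩ := (R_eq_iff hq _ _).1 h
      exact ⟨1, by simp only; rw [hc, app_smul, R_self, one_smul]⟩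
    · exact ⟨-1, by simp only; rw [R_app, H_eq_zero_comm.1 h, mul_zero, zero_smul, zero_sub,
        neg_smul, one_smul]⟩

theorem det_succ_block (A : Matrix (Fin 2) (Fin 2) F) : (UnitaryOrder.blockM 2 A).det = A.det := by
  rw [Matrix.det_succ_row_zero, Fin.sum_univ_succ]
  simp [UnitaryOrder.blockM, Matrix.submatrix]
  rfl

omit hQ in
theorem two_by_two {A : Matrix (Fin 2) (Fin 2) F} (h2 : (2 : F) ≠ 0) (hA : A * A = 1)
    (hd : A.det = 1) : A = 1 ∨ A = -1 := by
  have e00 := congrFun (congrFun hA 0) 0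
  have e01 := congrFun (congrFun hA 0) 1
  have e10 := congrFun (congrFun hA 1) 0
  have e11 := congrFun (congrFun hA 1) 1
  simp [Matrix.mul_apply, Fin.sum_univ_two] at e00 e01 e10 e11
  rw [Matrix.det_fin_two] at hd
  have ht : A 0 0 + A 1 1 ≠ 0 := by
    intro h
    refine h2 ?_
    linear_combination (A 0 0 * h) - e00 - hd
  have h01 : A 0 1 = 0 := (mul_eq_zero.1 (show (A 0 0 + A 1 1) * A 0 1 = 0 by
    linear_combination e01)).resolve_left ht
  have h10 : A 1 0 = 0 := (mul_eq_zero.1 (show (A 0 0 + A 1 1) * A 1 0 = 0 by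
    linear_combination e10)).resolve_left ht
  rw [h01, zero_mul, add_zero] at e00
  rw [h01, zero_mul, sub_zero] at hd
  have h11 : A 1 1 = A 0 0 := by linear_combination (-A 1 1) * e00 + A 0 0 * hd
  rcases mul_self_eq_one_iff.1 e00 with h | h <;> [left; right] <;>
    (ext i j; fin_cases i <;> fin_cases j <;> simp [h, h01, h10, h11])

/-- An involution fixes a vector of norm one. -/
theorem exists_fixed (hq : Odd q) (t : Inv F q) : ∃ v : Nm F q, app t.1 v.1 = v.1 := by
  have h2 := two_ne (F := F) (q := q) hq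
  have htt : ∀ x, app t.1 (app t.1 x) = x := fun x => by rw [← app_mul, t.2.2, app_one]
  obtain ⟨u, hu, huu⟩ : ∃ u, app t.1 u = u ∧ H u u ≠ 0 := by
    by_contra hc
    push Not at hc
    -- the fixed space is totally isotropic, hence orthogonal to everything, hence zero
    have hfix : ∀ u, app t.1 u = u → u = 0 := by
      intro u hu
      refine eq_zero_of_orth (q := q) fun x => ?_
      have hp : app t.1 (x + app t.1 x) = x + app t.1 x := by rw [app_add, htt, add_comm]
      set p := x + app t.1 x with hpd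
      have hpu : H p u = 0 := by
        by_contra hne
        obtain ⟨τ, hτ⟩ := exists_trace (F := F) (q := q) (c := 1) (map_one _)
        have h := hc ((τ / H p u) • p + u) (by rw [app_add, app_smul, hp, hu])
        simp only [H_add_left, H_add_right, H_smul_left, H_smul_right, hc p hp, hc u hu, mul_zero,
          zero_add, add_zero] at h
        rw [← H_flip p u, ← map_mul, div_mul_cancel₀ τ hne] at h
        rw [add_comm, hτ] at h
        exact one_ne_zero h
      have hxu : H (app t.1 x) u = H x u := by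
        conv_lhs => rw [← hu]
        exact app_H t.1 x u
      rw [hpd, H_add_left, hxu, ← two_mul] at hpu
      exact (mul_eq_zero.1 hpu).resolve_left h2
    have hneg : ∀ x, app t.1 x = -x := fun x =>
      eq_neg_of_add_eq_zero_left (hfix _ (by rw [app_add, htt, add_comm]))
    have hm : ((t.1 : Matrix.SpecialLinearGroup (Fin 3) F) : M3) = -1 :=
      Matrix.ext_iff_mulVec.2 fun x => by rw [neg_mulVec, one_mulVec]; exact hneg x
    have hd := (t.1 : Matrix.SpecialLinearGroup (Fin 3) F).det_coe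
    rw [hm, det_neg, det_one, Fintype.card_fin, mul_one] at hd
    exact h2 (by linear_combination -hd)
  obtain ⟨c, hc⟩ := exists_norm (F := F) (q := q) (c := (H u u)⁻¹) (by rw [map_inv₀, H_self_fixed])
  exact ⟨⟨c • u, by rw [H_smul_left, H_smul_right, ← mul_assoc, hc, inv_mul_cancel₀ huu]⟩,
    by rw [app_smul, hu]⟩

theorem exists_R (hq : Odd q) (t : Inv F q) : ∃ v : Nm F q, t.1 = R v := by
  have h2 := two_ne (F := F) (q := q) hq
  obtain ⟨v, hv⟩ := exists_fixed hq t
  refine ⟨v, ?_⟩
  obtain ⟨g, hg, hge⟩ := UnitaryOrder.exists_witt (card_F (F := F) (q := q)) v.1 0 v.2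
  let T : GL (Fin 3) F := Matrix.SpecialLinearGroup.toGL t.1.1
  have hTm : T ∈ Cfsg.GU 3 F q := t.1.2
  have hTT : T * T = 1 := by
    rw [← map_mul, ← Subgroup.coe_mul, t.2.2]; simp
  set h : GL (Fin 3) F := g⁻¹ * T * g with hh
  have hhm : h ∈ Cfsg.GU 3 F q := mul_mem (mul_mem (inv_mem hg) hTm) hg
  have he : h.1 *ᵥ Pi.single 0 1 = Pi.single 0 1 := by
    rw [hh, Units.val_mul, Units.val_mul, ← mulVec_mulVec, hge, ← mulVec_mulVec,
      show T.1 *ᵥ v.1 = v.1 from hv, ← hge, mulVec_mulVec, Units.inv_mul, one_mulVec]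
  have hb := UnitaryOrder.blockM_of_fix (q_ne_zero (F := F) (q := q)) hhm he
  set A := h.1.submatrix Fin.succ Fin.succ
  have hinj : Function.Injective (UnitaryOrder.blockM (F := F) 2) := fun A B hAB =>
    Matrix.ext fun i j => by
      simpa [UnitaryOrder.blockM] using congrFun (congrFun hAB i.succ) j.succ
  have hAA : A * A = 1 := hinj (by
    rw [map_mul, map_one, ← hb, ← Units.val_mul, hh,
      show g⁻¹ * T * g * (g⁻¹ * T * g) = g⁻¹ * (T * T) * g by group, hTT, mul_one, inv_mul_cancel,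
      Units.val_one])
  have hAd : A.det = 1 := by
    rw [← det_succ_block (q := q), ← hb, hh, Units.val_mul, Units.val_mul]
    rw [Matrix.det_units_conj']
    exact t.1.1.det_coe
  have hT : T = g * h * g⁻¹ := by rw [hh]; group
  rcases two_by_two h2 hAA hAd with h1 | h1
  · exfalso
    rw [h1, map_one] at hb
    have h1' : h = 1 := Units.ext hb
    rw [h1', mul_one, mul_inv_cancel] at hT
    exact t.2.1 (Subtype.ext (Subtype.ext (congrArg Units.val hT)))
  · refine su_ext (q := q) fun x => ?_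
    change T.1 *ᵥ x = app (R v) x
    rw [R_app, hT, Units.val_mul, Units.val_mul, ← mulVec_mulVec, ← mulVec_mulVec]
    set y := (g⁻¹ : GL (Fin 3) F).1 *ᵥ x with hy
    have hgy : g.1 *ᵥ y = x := by rw [hy, mulVec_mulVec, Units.mul_inv, one_mulVec]
    have hHx : H x v.1 = y 0 := by
      rw [← hgy, ← hge]
      refine (hg y (Pi.single 0 1)).trans ?_
      rw [UnitaryOrder.hermForm_single (q_ne_zero (F := F) (q := q))]
    have hy' : h.1 *ᵥ y = (2 * y 0) • Pi.single 0 1 - y := by
      rw [hb, h1, UnitaryOrder.blockM_mulVec, neg_mulVec, one_mulVec]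
      funext i
      refine Fin.cases ?_ (fun i => ?_) i
      · simp; ring
      · simp [Fin.succ_ne_zero]
    rw [hy', mulVec_sub, mulVec_smul, hge, hgy, hHx]

/-- `SU₃` is transitive on vectors of norm one. -/
theorem exists_app_eq (v w : Nm F q) : ∃ s : SU3, app s v.1 = w.1 := by
  obtain ⟨g, hg, hge⟩ := UnitaryOrder.exists_witt (card_F (F := F) (q := q)) v.1 0 v.2
  obtain ⟨k, hk, hke⟩ := UnitaryOrder.exists_witt (card_F (F := F) (q := q)) w.1 0 w.2
  set c : Fˣ := Matrix.GeneralLinearGroup.det g * (Matrix.GeneralLinearGroup.det k)⁻¹ with hc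
  have hc1 : c ^ (q + 1) = 1 := by
    have e : ∀ {u : GL (Fin 3) F}, u ∈ Cfsg.GU 3 F q →
        Matrix.GeneralLinearGroup.det u ^ (q + 1) = 1 := fun {u} hu =>
      Units.ext (by simpa using UnitaryOrder.det_norm_one (card_F (F := F) (q := q)) hu)
    rw [hc, mul_pow, inv_pow, e hg, e hk, inv_one, one_mul]
  have hd : ∀ i, (![1, c, 1] : Fin 3 → Fˣ) i ^ (q + 1) = 1 := fun i => by
    fin_cases i <;> simp [hc1]
  set D : GL (Fin 3) F := Units.map (Matrix.diagonalRingHom (Fin 3) F).toMonoidHom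
    (MulEquiv.piUnits.symm (![1, c, 1] : Fin 3 → Fˣ)) with hD
  have hDm : D ∈ Cfsg.GU 3 F q := UnitaryOrder.diagonal_mem (card_F (F := F) (q := q)) _ hd
  have hDv : D.1 = Matrix.diagonal fun i => (((![1, c, 1] : Fin 3 → Fˣ) i : Fˣ) : F) := rfl
  set S := k * D * g⁻¹ with hS
  have hSd : S.1.det = 1 := by
    have e : Matrix.GeneralLinearGroup.det S = 1 := by
      have eD : Matrix.GeneralLinearGroup.det D = c := Units.ext (by
        show D.1.det = _
        rw [hDv, det_diagonal, Fin.prod_univ_three]; simp)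
      rw [hS, map_mul, map_mul, map_inv, eD, hc, mul_inv_eq_one, mul_left_comm, mul_inv_cancel, mul_one]
    exact congrArg Units.val e
  refine ⟨⟨⟨S.1, hSd⟩, mul_mem (mul_mem hk hDm) (inv_mem hg)⟩, ?_⟩
  show S.1 *ᵥ v.1 = w.1
  rw [hS, Units.val_mul, Units.val_mul, ← hge, ← mulVec_mulVec, mulVec_mulVec _ _ g.1,
    Units.inv_mul, one_mulVec, ← mulVec_mulVec, hDv]
  have : (Matrix.diagonal fun i => (((![1, c, 1] : Fin 3 → Fˣ) i : Fˣ) : F)) *ᵥ
      (Pi.single 0 1 : V) = Pi.single 0 1 := by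
    funext i; fin_cases i <;> simp [Matrix.mulVec_diagonal]
  rw [this, hke]

theorem isConj_all (hq : Odd q) (x y : Inv F q) : ∃ s : SU3, s * x.1 * s⁻¹ = y.1 := by
  obtain ⟨v, hv⟩ := exists_R hq x
  obtain ⟨w, hw⟩ := exists_R hq y
  obtain ⟨s, hs⟩ := exists_app_eq v w
  refine ⟨s, ?_⟩
  rw [hv, conj_R, hw]
  congr 1
  exact Subtype.ext hs

/-- `q + 1` unit vectors give each involution. -/
theorem card_mul (hq : Odd q) (P : SU3 → Prop) :
    Nat.card {x : SU3 // x ≠ 1 ∧ x * x = 1 ∧ P x} * (q + 1) =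
      Nat.card {v : Nm F q // P (R v)} := by
  classical
  let X := {x : SU3 // x ≠ 1 ∧ x * x = 1 ∧ P x}
  let f : {v : Nm F q // P (R v)} → X := fun v => ⟨R v.1, R_ne_one hq v.1, R_sq v.1, v.2⟩
  have hfib : ∀ x : X, Nat.card {v // f v = x} = q + 1 := by
    intro x
    obtain ⟨v, hv⟩ := exists_R hq ⟨x.1, x.2.1, x.2.2.1⟩
    have hP : P (R v) := hv ▸ x.2.2.2
    rw [← UnitaryOrder.card_norm_one_units (card_F (F := F) (q := q))]
    have hnorm : ∀ l : (powMonoidHom (q + 1) : Fˣ →* Fˣ).ker, ((l.1 : Fˣ) : F) * σ (l.1 : Fˣ) = 1 :=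
      fun l => by
        rw [qb_apply, ← pow_succ']
        rw [← Units.val_pow_eq_pow_val, ← powMonoidHom_apply, MonoidHom.mem_ker.1 l.2, Units.val_one]
    let mkv : (powMonoidHom (q + 1) : Fˣ →* Fˣ).ker → Nm F q := fun l =>
      ⟨((l.1 : Fˣ) : F) • v.1, by rw [H_smul_left, H_smul_right, v.2, mul_one, hnorm]⟩
    have hmk : ∀ l, R (mkv l) = R v := fun l => ((R_eq_iff hq _ _).2 ⟨_, rfl⟩).symm
    refine (Nat.card_congr (Equiv.ofBijective (fun l => (⟨⟨mkv l, by rw [hmk]; exact hP⟩,
      Subtype.ext ((hmk l).trans hv.symm)⟩ : {v // f v = x})) ⟨fun a b hab => ?_, fun w => ?_⟩)).symm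
    · have h : ((a.1 : Fˣ) : F) • v.1 = ((b.1 : Fˣ) : F) • v.1 :=
        congrArg (fun z : {v // f v = x} => z.1.1.1) hab
      have hv0 : v.1 ≠ 0 := fun h0 => by simpa [h0] using v.2
      exact Subtype.ext (Units.ext (smul_left_injective F hv0 h))
    · obtain ⟨⟨w, hPw⟩, hw⟩ := w
      obtain ⟨c, hc⟩ := (R_eq_iff hq v w).1
        (hv.symm.trans (congrArg Subtype.val hw).symm)
      have hn : c * σ c = 1 := by
        have := w.2
        rwa [hc, H_smul_left, H_smul_right, v.2, mul_one] at this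
      have hc0 : c ≠ 0 := fun h => by rw [h, zero_mul] at hn; exact zero_ne_one hn
      refine ⟨⟨Units.mk0 c hc0, Units.ext ?_⟩, Subtype.ext (Subtype.ext (Subtype.ext hc.symm))⟩
      simpa [pow_succ', qb_apply] using hn
  haveI : Fintype X := Fintype.ofFinite X
  rw [← Nat.card_congr (Equiv.sigmaFiberEquiv f), Nat.card_sigma,
    Finset.sum_congr rfl (fun x _ => hfib x), Finset.sum_const, Finset.card_univ, smul_eq_mul,
    Nat.card_eq_fintype_card (α := X)]

theorem card_inv_aux : q ^ 2 * (q ^ 3 + 1) = q ^ 2 * (q ^ 2 - q + 1) * (q + 1) := by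
  have hle : q ≤ q ^ 2 := Nat.le_self_pow two_ne_zero q
  have : ((q ^ 2 * (q ^ 3 + 1) : ℕ) : ℤ) = ((q ^ 2 * (q ^ 2 - q + 1) * (q + 1) : ℕ) : ℤ) := by
    push_cast [Nat.cast_sub hle]; ring
  exact_mod_cast this

theorem card_Nm : Nat.card (Nm F q) = q ^ 2 * (q ^ 3 + 1) := by
  rw [UnitaryOrder.card_norm_one_vec (card_F (F := F) (q := q)) 2, if_pos even_two]

theorem card_inv (hq : Odd q) : Nat.card (Inv F q) = q ^ 2 * (q ^ 2 - q + 1) := by
  have h := card_mul (F := F) hq (fun _ => True)
  simp only [and_true] at h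
  rw [Nat.card_congr (Equiv.subtypeUnivEquiv fun _ : Nm F q => trivial), card_Nm,
    card_inv_aux (F := F)] at h
  exact Nat.eq_of_mul_eq_mul_right (Nat.succ_pos q) h

end Cfsg.Agent.SU3Inv
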