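import Mathlib

set_option autoImplicit false

namespace Cfsg.Agent.SelMatrix

open Matrix

variable {F : Type*} [Field F] {n ℓ : ℕ}

/-- The `n × ℓ` matrix sending the `k`-th basis vector to the `(a + k)`-th one. -/
def sel (F : Type*) [Field F] (n ℓ a : ℕ) : Matrix (Fin n) (Fin ℓ) F :=
  Matrix.of fun i k => if i.val = a + k.val then 1 else 0

theorem sel_mul_transpose (a b : ℕ) (i j : Fin n) :
    (sel F n ℓ a * (sel F n ℓ b)ᵀ) i j =
      if a ≤ i.val ∧ i.val < a + ℓ ∧ j.val + a = i.val + b then 1 else 0 := by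
  rw [Matrix.mul_apply]
  simp only [sel, Matrix.transpose_apply, Matrix.of_apply]
  by_cases h : a ≤ i.val ∧ i.val < a + ℓ
  · rw [Finset.sum_eq_single (⟨i.val - a, by omega⟩ : Fin ℓ)]
    · rw [if_pos (show i.val = a + (i.val - a) by omega), one_mul]
      congr 1
      apply propext
      dsimp only
      constructor
      · intro hj; exact ⟨h.1, h.2, by omega⟩
      · rintro ⟨-, -, hj⟩; omega
    · intro k _ hk
      rw [if_neg, zero_mul]
      intro e
      exact hk (Fin.ext (by simp only; omega))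
    · simp
  · rw [if_neg (by tauto), Finset.sum_eq_zero]
    intro k _
    rw [if_neg, zero_mul]
    intro e
    exact h ⟨by omega, by omega⟩

theorem sel_transpose_mul_self (a : ℕ) (h : a + ℓ ≤ n) :
    (sel F n ℓ a)ᵀ * sel F n ℓ a = 1 := by
  ext k l
  rw [Matrix.mul_apply]
  simp only [sel, Matrix.transpose_apply, Matrix.of_apply]
  rw [Finset.sum_eq_single (⟨a + k.val, by omega⟩ : Fin n)]
  · simp [Matrix.one_apply, Fin.ext_iff]
  · intro i _ hi
    rw [if_neg, zero_mul]
    intro e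
    exact hi (Fin.ext (by simpa using e))
  · simp

theorem sel_transpose_mul_disjoint (a b : ℕ) (h : a + ℓ ≤ b) :
    (sel F n ℓ a)ᵀ * sel F n ℓ b = 0 := by
  ext k l
  rw [Matrix.mul_apply, Matrix.zero_apply]
  simp only [sel, Matrix.transpose_apply, Matrix.of_apply]
  refine Finset.sum_eq_zero fun i _ => ?_
  split_ifs <;> simp
  omega

theorem rank_mul_eq {X Y : Matrix (Fin n) (Fin ℓ) F} (L R : Matrix (Fin n) (Fin ℓ) F)
    (hL : Lᵀ * X = 1) (hR : Yᵀ * R = 1) : (X * Yᵀ).rank = ℓ := by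
  apply le_antisymm
  · exact (Matrix.rank_mul_le_left _ _).trans (Matrix.rank_le_width _)
  · have h : Lᵀ * (X * Yᵀ) * R = 1 := by
      rw [← Matrix.mul_assoc, hL, Matrix.one_mul, hR]
    have := (Matrix.rank_mul_le_left (Lᵀ * (X * Yᵀ)) R).trans
      (Matrix.rank_mul_le_right Lᵀ (X * Yᵀ))
    rw [h, Matrix.rank_one, Fintype.card_fin] at this
    exact this

end Cfsg.Agent.SelMatrix
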