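import Mathlib

/-!
A `p`-group with a self-centralizing subgroup of order `p ^ 2` has maximal class.
-/

set_option autoImplicit false

namespace Cfsg.Agent.Invol.SelfCentralizing

open Subgroup

universe u

variable {X : Type u} [Group X]

/-- `x ↦ [x, a]` on a subgroup whose commutators with `a` are central. -/
theorem exists_commHom (C : Subgroup X) (a : X) (h : ∀ x ∈ C, x * a * x⁻¹ * a⁻¹ ∈ center X) :
    ∃ f : C →* center X, ∀ x : C, (f x : X) = (x : X) * a * (x : X)⁻¹ * a⁻¹ := by
  refine ⟨MonoidHom.mk' (fun x => ⟨(x : X) * a * (x : X)⁻¹ * a⁻¹, h x x.2⟩) ?_, fun x => rfl⟩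
  intro x y
  apply Subtype.ext
  show (x : X) * y * a * ((x : X) * y)⁻¹ * a⁻¹ =
    (x : X) * a * (x : X)⁻¹ * a⁻¹ * ((y : X) * a * (y : X)⁻¹ * a⁻¹)
  have hy := mem_center_iff.1 (h y y.2)
  calc (x : X) * y * a * ((x : X) * y)⁻¹ * a⁻¹
      = (x : X) * ((y : X) * a * (y : X)⁻¹ * a⁻¹) * (a * (x : X)⁻¹ * a⁻¹) := by group
    _ = ((y : X) * a * (y : X)⁻¹ * a⁻¹) * (x : X) * (a * (x : X)⁻¹ * a⁻¹) := by rw [hy]
    _ = ((y : X) * a * (y : X)⁻¹ * a⁻¹) * ((x : X) * a * (x : X)⁻¹ * a⁻¹) := by group
    _ = _ := (hy _).symm

theorem card_dvd_of_center_le [Finite X] {p k : ℕ} (A : Subgroup X) (hA : Nat.card A = p ^ k)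
    (hp : p.Prime) : ∀ B : Subgroup X, B ≤ A → ∃ i ≤ k, Nat.card B = p ^ i := fun B hB =>
  (Nat.dvd_prime_pow hp).1 (hA ▸ card_dvd_of_le hB)

theorem class_of_self_centralizing {p : ℕ} [hp : Fact p.Prime] : ∀ (n : ℕ) (X : Type u) [Group X] [Finite X],
    Nat.card X = p ^ n → ∀ A : Subgroup X, Nat.card A = p ^ 2 → centralizer (A : Set X) = A →
      Group.nilpotencyClass X = n - 1 := by
  intro n
  induction n with
  | zero =>
    intro X _ _ hX A hA _
    have := card_subgroup_dvd_card A
    rw [hA, hX, pow_zero, Nat.dvd_one] at this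
    nlinarith [hp.out.two_le]
  | succ m ih =>
    intro X _ _ hX A hA hC
    have hXp : IsPGroup p X := IsPGroup.of_card hX
    haveI := hXp.isNilpotent
    have h2n : 2 ≤ m + 1 := by
      have := card_subgroup_dvd_card A
      rwa [hA, hX, Nat.pow_dvd_pow_iff_le_right hp.out.one_lt] at this
    haveI : Nontrivial X := Finite.one_lt_card_iff_nontrivial.1
      (hX ▸ Nat.one_lt_pow (by omega) hp.out.one_lt)
    rcases Nat.eq_or_lt_of_le h2n with heq | hlt
    · haveI := IsPGroup.isMulCommutative_of_card_eq_prime_sq (p := p) (G := X) (by rw [hX, ← heq])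
      rw [← heq]
      have h1 : Group.nilpotencyClass X ≤ 1 := Group.IsNilpotent.nilpotencyClass_le_one_iff.2 inferInstance
      have h0 : Group.nilpotencyClass X ≠ 0 := by
        rw [Ne, nilpotencyClass_zero_iff_subsingleton, not_subsingleton_iff_nontrivial]
        infer_instance
      omega
    have hZA : center X ≤ A := hC ▸ center_le_centralizer _
    have hZne : center X ≠ A := by
      intro h
      have : centralizer (A : Set X) = ⊤ := centralizer_eq_top_iff_subset.2 (by rw [h])
      rw [hC] at this
      rw [this, Subgroup.card_top, hX] at hA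
      have := Nat.pow_right_injective hp.out.two_le hA
      omega
    have hZcard : Nat.card (center X) = p := by
      obtain ⟨i, hi, hi'⟩ := card_dvd_of_center_le A hA hp.out _ hZA
      have h1 : i ≠ 0 := fun h => (Group.IsNilpotent.center_ne_bot (G := X))
        (Subgroup.eq_bot_of_card_eq _ (by rw [hi', h, pow_zero]))
      have h2 : i ≠ 2 := fun h => hZne (eq_of_le_of_card_ge hZA (by rw [hi', h, hA]))
      rw [hi', show i = 1 by omega, pow_one]
    obtain ⟨q, hq⟩ : ∃ q : X →* X ⧸ center X, q = QuotientGroup.mk' (center X) := ⟨_, rfl⟩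
    have hker : q.ker = center X := hq ▸ QuotientGroup.ker_mk' _
    have hsurj : Function.Surjective q := hq ▸ QuotientGroup.mk'_surjective _
    have hcardQ : Nat.card (X ⧸ center X) = p ^ m := by
      have := card_eq_card_quotient_mul_card_subgroup (center X)
      rw [hX, hZcard, pow_succ] at this
      exact (Nat.eq_of_mul_eq_mul_right hp.out.pos this).symm
    set C := (centralizer ((A.map q : Subgroup (X ⧸ center X)) : Set (X ⧸ center X))).comap q with hCdef
    have hmemC : ∀ x, x ∈ C ↔ ∀ a ∈ A, x * a * x⁻¹ * a⁻¹ ∈ center X := by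
      intro x
      rw [hCdef, mem_comap, mem_centralizer_iff]
      constructor
      · intro h a ha
        rw [← hker, MonoidHom.mem_ker, map_mul, map_mul, map_mul, map_inv, map_inv,
          ← h (q a) ⟨a, ha, rfl⟩, mul_inv_cancel_right, mul_inv_cancel]
      · rintro h _ ⟨a, ha, rfl⟩
        have := h a ha
        rw [← hker, MonoidHom.mem_ker, map_mul, map_mul, map_mul, map_inv, map_inv, mul_inv_eq_one,
          mul_inv_eq_iff_eq_mul] at this
        exact this.symm
    have hAab : ∀ a ∈ A, ∀ b ∈ A, a * b = b * a := fun a ha b hb =>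
      mem_centralizer_iff.1 (by rw [hC]; exact hb : b ∈ centralizer (A : Set X)) a ha
    have hAC : A ≤ C := fun x hx => (hmemC x).2 fun a ha => by
      rw [hAab x hx a ha, mul_inv_cancel_right, mul_inv_cancel]; exact one_mem _
    obtain ⟨a, haA, haZ⟩ := SetLike.exists_of_lt (lt_of_le_of_ne hZA hZne)
    have hgen : ∀ x : X, Commute x a → x ∈ A := by
      intro x hx
      rw [← hC]
      have hle : A ≤ centralizer ({x} : Set X) := by
        have h1 : center X ⊔ zpowers a = A := by
          refine eq_of_le_of_card_ge (sup_le hZA (zpowers_le.2 haA)) ?_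
          obtain ⟨i, hi, hi'⟩ := card_dvd_of_center_le A hA hp.out _ (sup_le hZA (zpowers_le.2 haA))
          have hlt' : Nat.card (center X) < Nat.card (center X ⊔ zpowers a : Subgroup X) := by
            refine lt_of_le_of_ne (card_le_of_le le_sup_left) fun h => haZ ?_
            rw [eq_of_le_of_card_ge le_sup_left h.ge]
            exact mem_sup_right (mem_zpowers a)
          rw [hi', hZcard] at hlt'
          rw [hA, hi']
          refine Nat.pow_le_pow_right hp.out.pos ?_
          by_contra hlt2
          obtain rfl | rfl : i = 0 ∨ i = 1 := by omega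
          · rw [pow_zero] at hlt'; have := hp.out.two_le; omega
          · rw [pow_one] at hlt'; omega
        rw [← h1]
        refine sup_le (center_le_centralizer _) (zpowers_le.2 (mem_centralizer_iff.2 ?_))
        intro y hy
        rw [Set.mem_singleton_iff.1 hy]
        exact hx.eq
      exact mem_centralizer_iff.2 fun y hy => (mem_centralizer_iff.1 (hle hy) x rfl).symm
    have hCle : Nat.card C ≤ p ^ 3 := by
      obtain ⟨f, hf⟩ := exists_commHom C a (fun x hx => (hmemC x).1 hx a haA)
      rw [← card_mul_index f.ker, index_ker, show p ^ 3 = p ^ 2 * p by ring]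
      refine Nat.mul_le_mul ?_ ?_
      · rw [← hA, Nat.card_congr (f.ker.equivMapOfInjective C.subtype C.subtype_injective).toEquiv]
        refine card_le_of_le ?_
        rintro _ ⟨x, hx, rfl⟩
        refine hgen _ ?_
        have := congrArg Subtype.val (MonoidHom.mem_ker.1 hx)
        rw [hf, Subgroup.coe_one, mul_inv_eq_one, mul_inv_eq_iff_eq_mul] at this
        exact this
      · rw [← hZcard]; exact card_le_card_group _
    have hCcard : Nat.card C = p ^ 3 := by
      obtain ⟨i, hi⟩ := IsPGroup.iff_card.1 (hXp.to_subgroup C)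
      rw [hi] at hCle ⊢
      have hi3 := (Nat.pow_le_pow_iff_right hp.out.one_lt).1 hCle
      have hlt2 : p ^ 2 < p ^ i := by
        rw [← hi, ← hA]
        refine lt_of_le_of_ne (card_le_of_le hAC) fun h => ?_
        have hCA := eq_of_le_of_card_ge hAC h.ge
        haveI : Nontrivial (X ⧸ center X) := Finite.one_lt_card_iff_nontrivial.1
          (hcardQ ▸ Nat.one_lt_pow (by omega) hp.out.one_lt)
        haveI := (IsPGroup.of_card hcardQ).isNilpotent
        by_cases hzc : center (X ⧸ center X) ≤ A.map q
        · -- then the image of `A` is central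
          have h1 : A.map q ≤ center (X ⧸ center X) := by
            refine (eq_of_le_of_card_ge hzc ?_).ge
            have h2 : Nat.card (A.map q) * p = p ^ 2 := by
              have h3 := card_mul_index ((center X).subgroupOf A)
              rw [Nat.card_congr (subgroupOfEquivOfLe hZA).toEquiv, hZcard, hA] at h3
              rw [← relIndex_ker, hker, mul_comm]
              exact h3
            have h4 : Nat.card (A.map q) = p := Nat.eq_of_mul_eq_mul_right hp.out.pos (by rw [h2]; ring)
            obtain ⟨j, hj⟩ := IsPGroup.iff_card.1 ((IsPGroup.of_card hcardQ).to_subgroup (center (X ⧸ center X)))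
            have hj0 : j ≠ 0 := fun h0 => Group.IsNilpotent.center_ne_bot (G := X ⧸ center X)
              (Subgroup.eq_bot_of_card_eq _ (by rw [hj, h0, pow_zero]))
            rw [h4, hj]
            exact Nat.le_self_pow hj0 p
          have h5 : C = ⊤ := by
            rw [eq_top_iff]
            intro x _
            rw [hCdef, mem_comap, mem_centralizer_iff]
            exact fun y hy => ((mem_center_iff.1 (h1 hy)) (q x)).symm
          rw [h5, Subgroup.card_top, hX, hA] at h
          have := Nat.pow_right_injective hp.out.two_le h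
          omega
        · obtain ⟨w, hwc, hwA⟩ := SetLike.not_le_iff_exists.1 hzc
          obtain ⟨w, rfl⟩ := hsurj w
          refine hwA ⟨w, ?_, rfl⟩
          rw [hCA, hCdef, SetLike.mem_coe, mem_comap, mem_centralizer_iff]
          exact fun y _ => mem_center_iff.1 hwc y
      have := (Nat.pow_lt_pow_iff_right hp.out.one_lt).1 hlt2
      rw [show i = 3 by omega]
    have hmapC : Nat.card (C.map q) = p ^ 2 := by
      have hZC : center X ≤ C := hZA.trans hAC
      have h3 := card_mul_index ((center X).subgroupOf C)
      rw [Nat.card_congr (subgroupOfEquivOfLe hZC).toEquiv, hZcard, hCcard] at h3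
      rw [← relIndex_ker, hker]
      exact Nat.eq_of_mul_eq_mul_left hp.out.pos (h3.trans (by ring))
    have hself : centralizer ((C.map q : Subgroup (X ⧸ center X)) : Set (X ⧸ center X)) = C.map q := by
      refine le_antisymm ?_ ?_
      · intro y hy
        obtain ⟨x, rfl⟩ := hsurj y
        refine ⟨x, ?_, rfl⟩
        rw [SetLike.mem_coe, hCdef, mem_comap]
        exact centralizer_le (map_mono hAC) hy
      · haveI := IsPGroup.isMulCommutative_of_card_eq_prime_sq (p := p) (G := C.map q) hmapC
        intro y hy
        rw [mem_centralizer_iff]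
        intro z hz
        exact congrArg Subtype.val ((inferInstance : IsMulCommutative (C.map q)).is_comm.comm ⟨z, hz⟩ ⟨y, hy⟩)
    rw [nilpotencyClass_eq_quotient_center_plus_one, ih (X ⧸ center X) hcardQ (C.map q) hmapC hself]
    omega

end Cfsg.Agent.Invol.SelfCentralizing
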