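import Cfsg.Agent.Lib.Invol.WrSubgroups
import Mathlib.GroupTheory.PGroup

/-!
# Self-centralizing subgroups of wreathed groups with automorphisms of odd order
-/

namespace Cfsg.Agent.Invol

theorem dvd_congr {d x y : ℤ} (h : d ∣ x) (e : x = y) : d ∣ y := e ▸ h

/-- An automorphism of odd order exists when the automorphism group is not a 2-group. -/
theorem exists_odd_aut {X : Type*} [Group X] [Finite X] (h : ¬ IsPGroup 2 (MulAut X)) :
    ∃ α : MulAut X, α ≠ 1 ∧ Odd (orderOf α) := by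
  by_contra hno
  push Not at hno
  refine h fun β => ?_
  obtain ⟨k, m, hm, hkm⟩ := Nat.exists_eq_pow_mul_and_not_dvd (orderOf_pos β).ne' 2 (by norm_num)
  refine ⟨k, ?_⟩
  by_contra hne
  have ho : Odd (orderOf (β ^ 2 ^ k)) := by
    rw [orderOf_pow, hkm, Nat.gcd_mul_right_left, Nat.mul_div_cancel_left _ (Nat.two_pow_pos k),
      Nat.odd_iff]
    omega
  exact hno _ hne ho

theorem pow_apply_of_swap {X : Type*} [Group X] {α : MulAut X} (hodd : Odd (orderOf α)) {y : X}
    (h : α (α y) = y) : α y = y := by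
  obtain ⟨j, hj⟩ := hodd
  have h2 : ∀ i : ℕ, (α ^ (2 * i)) y = y := by
    intro i
    induction i with
    | zero => simp
    | succ i ih =>
      rw [show 2 * (i + 1) = 2 * i + 1 + 1 by ring, pow_succ, pow_succ, MulAut.mul_apply,
        MulAut.mul_apply, h, ih]
  calc α y = (α ^ (orderOf α + 1)) y := by rw [pow_succ, pow_orderOf_eq_one, one_mul]
    _ = y := by rw [show orderOf α + 1 = 2 * (j + 1) by omega, h2]

/-- An automorphism of odd order fixing `x⁻¹ * α x` fixes `x`. -/
theorem apply_eq_of_fixed_quot {X : Type*} [Group X] [Finite X] (hX : IsPGroup 2 X) {α : MulAut X}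
    (hodd : Odd (orderOf α)) {x : X} (hd : α (x⁻¹ * α x) = x⁻¹ * α x) : α x = x := by
  set d := x⁻¹ * α x with hd'
  have hk : ∀ k : ℕ, (α ^ k) x = x * d ^ k := by
    intro k
    induction k with
    | zero => simp
    | succ k ih =>
      rw [pow_succ', MulAut.mul_apply, ih, map_mul, map_pow, hd, pow_succ']
      rw [hd', ← mul_assoc, mul_inv_cancel_left]
  have h1 := hk (orderOf α)
  rw [pow_orderOf_eq_one, MulAut.one_apply, left_eq_mul] at h1
  obtain ⟨k, hk2⟩ := IsPGroup.iff_orderOf.1 hX d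
  have h2 := orderOf_dvd_of_pow_eq_one h1
  rw [hk2] at h2
  rcases k with _ | k
  · rw [pow_zero, orderOf_eq_one_iff, hd', inv_mul_eq_one] at hk2
    exact hk2.symm
  · exact absurd (dvd_trans (dvd_pow_self 2 (Nat.succ_ne_zero k)) h2) hodd.not_two_dvd_nat

/-- An automorphism of odd order fixes every element of a 2-group generating an invariant cyclic
subgroup. -/
theorem apply_eq_of_zpowers {X : Type*} [Group X] [Finite X] (hX : IsPGroup 2 X) {α : MulAut X}
    (hodd : Odd (orderOf α)) {c : X} (hc : α c ∈ Subgroup.zpowers c) : α c = c := by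
  obtain ⟨j, hj⟩ := Subgroup.mem_zpowers_iff.1 hc
  have hk : ∀ k : ℕ, (α ^ k) c = c ^ (j ^ k) := by
    intro k
    induction k with
    | zero => simp
    | succ k ih =>
      rw [pow_succ, MulAut.mul_apply, ← hj, map_zpow, ih, ← zpow_mul, ← pow_succ]
  have h1 := hk (orderOf α)
  rw [pow_orderOf_eq_one, MulAut.one_apply] at h1
  obtain ⟨N, hN⟩ := IsPGroup.iff_orderOf.1 hX c
  rcases N with _ | N
  · rw [pow_zero, orderOf_eq_one_iff] at hN
    rw [hN, map_one]
  have hdvd : ((2 : ℤ) ^ (N + 1)) ∣ j ^ orderOf α - 1 := by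
    have h2 : c ^ (j ^ orderOf α) = c ^ (1 : ℤ) := by rw [← h1, zpow_one]
    rw [← orderOf_dvd_sub_iff_zpow_eq_zpow, hN] at h2
    exact_mod_cast h2
  have hjodd : Odd j := by
    have h2 : (2 : ℤ) ∣ j ^ orderOf α - 1 := dvd_trans (dvd_pow_self 2 (Nat.succ_ne_zero N)) hdvd
    rcases Int.even_or_odd j with he | ho
    · exfalso
      have h3 : (2 : ℤ) ∣ j ^ orderOf α := dvd_pow (even_iff_two_dvd.1 he) hodd.pos.ne'
      omega
    · exact ho
  have hsum : Odd (∑ i ∈ Finset.range (orderOf α), j ^ i) := by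
    have : ∀ n : ℕ, Odd (∑ i ∈ Finset.range n, j ^ i) ↔ Odd n := by
      intro n
      induction n with
      | zero => simp
      | succ n ih =>
        rw [Finset.sum_range_succ, Int.odd_add, ih, Nat.odd_add_one]
        have hne : ¬ Even (j ^ n) := Int.not_even_iff_odd.2 hjodd.pow
        simp only [hne, iff_false, Nat.not_odd_iff_even]
    exact (this _).2 hodd
  rw [← geom_sum_mul, mul_comm] at hdvd
  have hcop : IsCoprime ((2 : ℤ) ^ (N + 1)) (∑ i ∈ Finset.range (orderOf α), j ^ i) := by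
    refine IsCoprime.pow_left ?_
    obtain ⟨q, hq⟩ := hsum
    exact ⟨-q, 1, by rw [hq]; ring⟩
  have h3 := hcop.dvd_of_dvd_mul_right hdvd
  rw [← hj]
  conv_rhs => rw [← zpow_one c]
  rw [← orderOf_dvd_sub_iff_zpow_eq_zpow, hN]
  exact_mod_cast h3

namespace WrData

variable {S : Type*} [Group S] (D : WrData S)

/-- The subgroup of elements `u p q`, `u p q * z` with `p - q` in a prescribed class modulo `h`. -/
def qsub (e : ℤ) : Subgroup S where
  carrier := {g | ∃ p q : ℤ, (g = D.u p q ∧ (D.h : ℤ) ∣ p - q) ∨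
    (g = D.u p q * D.z ∧ (D.h : ℤ) ∣ p - q - e)}
  one_mem' := ⟨0, 0, Or.inl ⟨D.u_zero.symm, by simp⟩⟩
  mul_mem' := by
    rintro _ _ ⟨a, b, ⟨rfl, h1⟩ | ⟨rfl, h1⟩⟩ ⟨c, d, ⟨rfl, h2⟩ | ⟨rfl, h2⟩⟩
    · exact ⟨_, _, Or.inl ⟨D.u_mul a b c d, dvd_congr (dvd_add h1 h2) (by ring)⟩⟩
    · exact ⟨_, _, Or.inr ⟨D.u_mul_uz a b c d, dvd_congr (dvd_add h1 h2) (by ring)⟩⟩
    · exact ⟨_, _, Or.inr ⟨D.uz_mul_u a b c d, dvd_congr (dvd_sub h1 h2) (by ring)⟩⟩
    · exact ⟨_, _, Or.inl ⟨D.uz_mul_uz a b c d, dvd_congr (dvd_sub h1 h2) (by ring)⟩⟩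
  inv_mem' := by
    rintro _ ⟨a, b, ⟨rfl, h1⟩ | ⟨rfl, h1⟩⟩
    · exact ⟨_, _, Or.inl ⟨D.u_inv a b, dvd_congr (h1.neg_right) (by ring)⟩⟩
    · exact ⟨_, _, Or.inr ⟨D.uz_inv a b, dvd_congr (h1) (by ring)⟩⟩

theorem u_mem_qsub_iff (e p q : ℤ) : D.u p q ∈ D.qsub e ↔ (D.h : ℤ) ∣ p - q := by
  refine ⟨?_, fun h => ⟨p, q, Or.inl ⟨rfl, h⟩⟩⟩
  rintro ⟨a, b, ⟨h, hd⟩ | ⟨h, -⟩⟩
  · obtain ⟨h1, h2⟩ := (D.u_eq_iff _ _ _ _).1 h
    have := dvd_add (dvd_sub (dvd_trans (dvd_mul_left (D.h : ℤ) 2) h1)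
      (dvd_trans (dvd_mul_left (D.h : ℤ) 2) h2)) hd
    exact dvd_congr (this) (by ring)
  · exact absurd h (D.u_ne_uz _ _ _ _)

theorem uz_mem_qsub_iff (e p q : ℤ) :
    D.u p q * D.z ∈ D.qsub e ↔ (D.h : ℤ) ∣ p - q - e := by
  refine ⟨?_, fun h => ⟨p, q, Or.inr ⟨rfl, h⟩⟩⟩
  rintro ⟨a, b, ⟨h, -⟩ | ⟨h, hd⟩⟩
  · exact absurd h.symm (D.u_ne_uz _ _ _ _)
  · obtain ⟨h1, h2⟩ := (D.uz_eq_iff _ _ _ _).1 h
    have := dvd_add (dvd_sub (dvd_trans (dvd_mul_left (D.h : ℤ) 2) h1)
      (dvd_trans (dvd_mul_left (D.h : ℤ) 2) h2)) hd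
    exact dvd_congr (this) (by ring)

include D in
theorem isPGroup : IsPGroup 2 S := by
  haveI := D.finite
  refine IsPGroup.of_card (n := 2 * D.n + 1) ?_
  have h2 := D.two_le
  rw [D.card_eq, D.h_eq, show (8 : ℕ) = 2 ^ 3 by norm_num, ← pow_add, ← pow_add]
  congr 1
  omega

theorem center_le {X : Subgroup S} (hC : Subgroup.centralizer (X : Set S) ≤ X) :
    Subgroup.center S ≤ X := fun g hg => hC (Subgroup.mem_centralizer_iff.2 fun k _ =>
    Subgroup.mem_center_iff.1 hg k)

/-- The base is the only self-centralizing subgroup inside itself. -/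
theorem eq_base {X : Subgroup S} (hC : Subgroup.centralizer (X : Set S) ≤ X)
    (hle : X ≤ D.base) : X = D.base := by
  refine le_antisymm hle fun g hg => hC (Subgroup.mem_centralizer_iff.2 fun k hk => ?_)
  obtain ⟨a, b, rfl⟩ := hg
  obtain ⟨c, d, rfl⟩ := hle hk
  rw [D.u_mul, D.u_mul, add_comm a c, add_comm b d]

/-- The structure of the subgroup `X` when it is not inside the base. -/
theorem eq_qsub {X : Subgroup S} (hC : Subgroup.centralizer (X : Set S) ≤ X)
    (hA : ¬ IsPGroup 2 (MulAut X)) (hle : ¬ X ≤ D.base) :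
    ∃ e : ℤ, Even e ∧ X = D.qsub e := by
  haveI := D.finite
  obtain ⟨α, hα1, hodd⟩ := exists_odd_aut hA
  have hXp : IsPGroup 2 X := D.isPGroup.to_subgroup X
  obtain ⟨g, hg, hgb⟩ := SetLike.not_le_iff_exists.1 hle
  obtain ⟨a, b, rfl | rfl⟩ := D.repr_cases g
  · exact absurd (D.u_mem_base a b) hgb
  have hZ : ∀ c : ℤ, D.u c c ∈ X := fun c => WrData.center_le hC (D.mem_center_iff.2 ⟨c, rfl⟩)
  have hdiag : ∀ p q : ℤ, 2 * (D.h : ℤ) ∣ p - q → D.u p q = D.u q q := fun p q h =>
    (D.u_eq_iff _ _ _ _).2 ⟨h, by simp⟩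
  set g₀ : X := ⟨D.u a b * D.z, hg⟩
  have hcases : ∀ x : X, (∃ p q : ℤ, (x : S) = D.u p q) ∨
      (∃ p q : ℤ, ((x * g₀⁻¹ : X) : S) = D.u p q) := by
    intro x
    obtain ⟨p, q, hp | hp⟩ := D.repr_cases (x : S)
    · exact Or.inl ⟨p, q, hp⟩
    · refine Or.inr ⟨p + -a, q + -b, ?_⟩
      show (x : S) * (D.u a b * D.z)⁻¹ = _
      rw [hp, D.uz_inv, D.uz_mul_uz]
  by_cases hab : ∀ p q : ℤ, D.u p q ∈ X → 2 * (D.h : ℤ) ∣ p - q
  · -- the subgroup is abelian, and `α` is trivial
    exfalso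
    have hcomm : ∀ x y : X, x * y = y * x := by
      have hcen : ∀ x : X, (∃ p q : ℤ, (x : S) = D.u p q) → ∀ y : X, x * y = y * x := by
        rintro x ⟨p, q, hp⟩ y
        refine Subtype.ext ?_
        show (x : S) * y = y * x
        rw [hp]
        exact (D.diag_central (hab p q (hp ▸ x.2)) _).eq
      intro x y
      rcases hcases x with hx | hx
      · exact hcen x hx y
      rcases hcases y with hy | hy
      · exact (hcen y hy x).symm
      calc x * y = (x * g₀⁻¹) * g₀ * ((y * g₀⁻¹) * g₀) := by group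
        _ = (x * g₀⁻¹) * (g₀ * (y * g₀⁻¹)) * g₀ := by group
        _ = (x * g₀⁻¹) * (y * g₀⁻¹) * g₀ * g₀ := by rw [← hcen _ hy g₀]; group
        _ = (y * g₀⁻¹) * (x * g₀⁻¹) * g₀ * g₀ := by rw [hcen _ hx (y * g₀⁻¹)]
        _ = (y * g₀⁻¹) * (g₀ * (x * g₀⁻¹)) * g₀ := by rw [← hcen _ hx g₀]; group
        _ = y * x := by group
    set cgen : X := ⟨D.u 1 1, hZ 1⟩ with hcgen
    have hsq : ∀ x : X, x * x ∈ Subgroup.zpowers cgen := by
      intro x
      obtain ⟨p, q, hp | hp⟩ := D.repr_cases (x : S)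
      · refine Subgroup.mem_zpowers_iff.2 ⟨2 * q, Subtype.ext ?_⟩
        rw [SubgroupClass.coe_zpow, Subgroup.coe_mul, D.u_zpow, hp, hdiag p q (hab p q (hp ▸ x.2)),
          D.u_mul, D.u_eq_iff]
        ring_nf
        simp
      · refine Subgroup.mem_zpowers_iff.2 ⟨p + q, Subtype.ext ?_⟩
        rw [SubgroupClass.coe_zpow, Subgroup.coe_mul, D.u_zpow, hp, D.sq_uz, D.u_eq_iff]
        ring_nf
        simp
    have hfix : ∀ x : X, α (x * x) = x * x := by
      intro x
      -- the squares of the generator of the centre form an invariant cyclic subgroup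
      obtain ⟨k, hk⟩ := Subgroup.mem_zpowers_iff.1 (hsq x)
      obtain ⟨j, hj⟩ := Subgroup.mem_zpowers_iff.1 (hsq (α cgen))
      have h2 : α (cgen * cgen) = cgen * cgen := by
        rcases Int.even_or_odd j with ⟨i, hi⟩ | ho
        · refine apply_eq_of_zpowers hXp hodd ?_
          rw [map_mul, ← hj, hi, zpow_add, ← (Commute.refl cgen).mul_zpow]
          exact Subgroup.zpow_mem_zpowers _ i
        · exfalso
          -- an odd power of the generator would be a square of full order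
          have h1 : (α cgen * α cgen) ^ D.h = 1 := by
            rw [← sq, ← pow_mul, ← map_pow, show cgen ^ (2 * D.h) = 1 from Subtype.ext (by
              rw [SubmonoidClass.coe_pow, ← D.orderOf_center_gen]; exact pow_orderOf_eq_one _),
              map_one]
          rw [← hj, ← zpow_natCast, ← zpow_mul] at h1
          have h1' := congrArg Subtype.val h1
          rw [SubgroupClass.coe_zpow, OneMemClass.coe_one, D.u_zpow, D.u_eq_one_iff, one_mul] at h1'
          obtain ⟨i, rfl⟩ := ho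
          obtain ⟨t, ht⟩ := h1'.1
          have hh := D.h_pos
          have : (2 * i + 1) = 2 * t := by
            have h3 : (D.h : ℤ) * (2 * i + 1) = D.h * (2 * t) := by linarith
            exact mul_left_cancel₀ hh.ne' h3
          omega
      rcases Int.even_or_odd k with ⟨i, hi⟩ | ho
      · rw [← hk, hi, zpow_add, ← (Commute.refl cgen).mul_zpow, map_zpow, h2]
      · -- an odd square means `x` generates a cyclic group containing the centre
        refine apply_eq_of_zpowers hXp hodd ?_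
        obtain ⟨k', hk'⟩ := Subgroup.mem_zpowers_iff.1 (hsq (α x))
        rw [map_mul, ← hk', ← hk]
        have hgen : cgen ∈ Subgroup.zpowers (cgen ^ k) := by
          have hcop : (orderOf cgen).Coprime k.natAbs := by
            rw [← Subgroup.orderOf_coe]
            show (orderOf (D.u 1 1)).Coprime _
            rw [D.orderOf_center_gen, D.two_h]
            exact (Nat.coprime_two_left.2 (Int.natAbs_odd.2 ho)).pow_left _
          have h0 : cgen ^ k.natAbs ∈ Subgroup.zpowers (cgen ^ k) := by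
            rcases Int.natAbs_eq k with h | h
            · rw [← zpow_natCast, ← h]; exact Subgroup.mem_zpowers _
            · rw [← zpow_natCast, show ((k.natAbs : ℤ)) = -k by omega, zpow_neg]
              exact inv_mem (Subgroup.mem_zpowers _)
          obtain ⟨m, hm⟩ := exists_pow_eq_self_of_coprime hcop.symm
          have h1 := Subgroup.pow_mem _ h0 m
          rwa [hm] at h1
        exact Subgroup.zpow_mem _ hgen k'
    refine hα1 (MulEquiv.ext fun x => apply_eq_of_fixed_quot hXp hodd ?_)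
    set d := x⁻¹ * α x with hd
    have hd2 : d * d = 1 := by
      rw [hd, (show Commute x⁻¹ (α x) from hcomm _ _).symm.mul_mul_mul_comm, ← map_mul, hfix]
      calc x⁻¹ * x⁻¹ * (x * x) = (x * x)⁻¹ * (x * x) := by rw [mul_inv_rev]
        _ = 1 := inv_mul_cancel _
    -- elements squaring to one are fixed
    have hfix2 : ∀ y : X, y * y = 1 → α y = y := by
      have hcfix : ∀ y : X, y * y = 1 → (∃ p q : ℤ, (y : S) = D.u p q) → α y = y := by
        rintro y hy ⟨p, q, hp⟩
        have hpq := hdiag p q (hab p q (hp ▸ y.2))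
        rw [hpq] at hp
        have h1 : (D.h : ℤ) ∣ q :=
          ((D.sq_u_eq_one_iff q q).1 (by rw [← hp]; exact congrArg Subtype.val hy)).1
        obtain ⟨r, hr⟩ := dvd_trans D.h_even h1
        have he : y = ⟨D.u r r, hZ r⟩ * ⟨D.u r r, hZ r⟩ := Subtype.ext (by
          rw [Subgroup.coe_mul, D.u_mul, hp, hr]; ring_nf)
        rw [he]
        exact hfix _
      intro y hy
      rcases hcases y with hy' | ⟨p, q, hp⟩
      · exact hcfix y hy hy'
      have hyout : ∀ p q : ℤ, (y : S) ≠ D.u p q := by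
        intro p' q' h'
        refine D.notMem_base a b ?_
        have e : (D.u a b * D.z) = (D.u p q)⁻¹ * D.u p' q' := by
          rw [← h', ← hp]
          show (g₀ : S) = _
          rw [Subgroup.coe_mul, InvMemClass.coe_inv, mul_inv_rev, inv_inv, inv_mul_cancel_right]
        rw [e]
        exact mul_mem (inv_mem (D.u_mem_base _ _)) (D.u_mem_base _ _)
      refine pow_apply_of_swap hodd ?_
      have hy1 : α y * α y = 1 := by rw [← map_mul, hy, map_one]
      set w := y⁻¹ * α y with hw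
      have hw2 : w * w = 1 := by
        rw [hw, (show Commute y⁻¹ (α y) from hcomm _ _).symm.mul_mul_mul_comm, hy1,
          ← mul_inv_rev, hy, inv_one, one_mul]
      rcases hcases w with hw' | hw'
      · have := hcfix w hw2 hw'
        rw [hw, map_mul, map_inv] at this
        calc α (α y) = α y * (y⁻¹ * α y) := by rw [← this]; group
          _ = y := by rw [← hw, hw, ← mul_assoc, hcomm (α y) y⁻¹, mul_assoc, hy1, mul_one,
            inv_eq_self_of_mul_self hy]
      · -- then `α y` is central, hence fixed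
        obtain ⟨p', q', hp'⟩ := hw'
        have hin : ∃ p q : ℤ, ((α y : X) : S) = D.u p q := by
          obtain ⟨r, s, hr | hr⟩ := D.repr_cases ((α y : X) : S)
          · exact ⟨r, s, hr⟩
          · exfalso
            obtain ⟨r', s', hr' | hr'⟩ := D.repr_cases (y : S)
            · exact hyout _ _ hr'
            · apply D.notMem_base a b
              have e : (D.u a b * D.z) = (D.u p' q')⁻¹ * ((D.u r' s' * D.z)⁻¹ * (D.u r s * D.z)) := by
                rw [← hp', ← hr, ← hr']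
                show (g₀ : S) = _
                simp only [hw, Subgroup.coe_mul, InvMemClass.coe_inv]
                group
              rw [e, D.uz_inv, D.uz_mul_uz]
              exact mul_mem (inv_mem (D.u_mem_base _ _)) (D.u_mem_base _ _)
        have := hcfix _ hy1 hin
        rw [α.injective.eq_iff] at this
        rw [this, this]
    exact hfix2 d hd2
  push Not at hab
  obtain ⟨p₀, q₀, hw₀, hw₀n⟩ := hab
  -- an element of the base centralizing `g₀` is central
  have hgc : ∀ p q : ℤ, Commute (D.u p q) (g₀ : S) → D.u p q = D.u q q := fun p q h =>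
    hdiag p q ((D.commute_u_uz_iff p q a b).1 h)
  have hZfix : ∀ c : ℤ, α ⟨D.u c c, hZ c⟩ = ⟨D.u c c, hZ c⟩ := by
    suffices h : α ⟨D.u 1 1, hZ 1⟩ = ⟨D.u 1 1, hZ 1⟩ by
      intro c
      have e : (⟨D.u c c, hZ c⟩ : X) = ⟨D.u 1 1, hZ 1⟩ ^ c := Subtype.ext (by
        rw [SubgroupClass.coe_zpow, D.u_zpow, one_mul])
      rw [e, map_zpow, h]
    refine apply_eq_of_zpowers hXp hodd ?_
    set y := α ⟨D.u 1 1, hZ 1⟩ with hy
    have hyc : ∀ v : X, y * v = v * y := fun v => by
      obtain ⟨v', rfl⟩ := α.surjective v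
      rw [hy, ← map_mul, ← map_mul]
      congr 1
      exact Subtype.ext (D.diag_central (by simp) _).eq
    obtain ⟨p, q, hp | hp⟩ := D.repr_cases (y : S)
    · have h1 : Commute (D.u p q) (g₀ : S) := by
        rw [← hp]; exact congrArg Subtype.val (hyc g₀)
      rw [hgc p q h1] at hp
      exact Subgroup.mem_zpowers_iff.2 ⟨q, Subtype.ext (by
        rw [SubgroupClass.coe_zpow, D.u_zpow, one_mul, hp])⟩
    · have h1 := congrArg Subtype.val (hyc ⟨D.u p₀ q₀, hw₀⟩)
      rw [Subgroup.coe_mul, Subgroup.coe_mul, hp] at h1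
      exact absurd ((D.commute_u_uz_iff p₀ q₀ p q).1 h1.symm) hw₀n
  -- an invariant base part forces `α = 1`
  by_cases hinvb : ∀ w : X, (∃ p q : ℤ, (w : S) = D.u p q) → ∃ p q : ℤ, ((α w : X) : S) = D.u p q
  · exfalso
    have hcom : ∀ w : X, (∃ p q : ℤ, (w : S) = D.u p q) →
        α (w * g₀ * w⁻¹ * g₀⁻¹) = w * g₀ * w⁻¹ * g₀⁻¹ := by
      rintro w ⟨p, q, hp⟩
      -- the commutators with `g₀` form a cyclic invariant subgroup
      have hcomm' : ∀ w' : X, (∃ p q : ℤ, (w' : S) = D.u p q) → ∃ d : ℤ,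
          ((w' * g₀ * w'⁻¹ * g₀⁻¹ : X) : S) = D.u d (-d) := by
        rintro w' ⟨p, q, hp⟩
        refine ⟨p - q, ?_⟩
        show (w' : S) * (D.u a b * D.z) * (w' : S)⁻¹ * (D.u a b * D.z)⁻¹ = _
        rw [hp, D.u_conj_uz, D.uz_inv, D.uz_mul_uz, D.u_eq_iff]
        ring_nf
        simp
      set v := w * g₀ * w⁻¹ * g₀⁻¹
      set A := Subgroup.zpowers (D.u 1 (-1)) with hAdef
      set B := A.subgroupOf X with hB
      -- `α` maps the commutator `v` into the anti-diagonal
      have hαv : α v ∈ B := by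
        rw [hB, Subgroup.mem_subgroupOf]
        have hmem : ((α v : X) : S) ∈ commutator S := by
          have e : α v = α w * α g₀ * (α w)⁻¹ * (α g₀)⁻¹ := by simp [v]
          rw [e, commutator_def]
          exact Subgroup.commutator_mem_commutator (Subgroup.mem_top ((α w : X) : S))
            (Subgroup.mem_top ((α g₀ : X) : S))
        obtain ⟨c, hc⟩ := D.mem_commutator_iff.1 hmem
        exact Subgroup.mem_zpowers_iff.2 ⟨c, by rw [D.u_zpow, one_mul, neg_one_mul, hc]⟩
      obtain ⟨d, hd⟩ := hcomm' w ⟨p, q, hp⟩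
      refine apply_eq_of_zpowers hXp hodd ?_
      -- subgroups of a cyclic 2-group are determined by their orders
      obtain ⟨c, hc⟩ := Subgroup.mem_zpowers_iff.1 (Subgroup.mem_subgroupOf.1 hαv)
      rw [D.u_zpow, one_mul, neg_one_mul] at hc
      have hcyc : IsCyclic A := Subgroup.isCyclic_zpowers _
      haveI : IsCyclic B := isCyclic_of_injective (X.subtype.subgroupComap A)
        (fun x y hxy => Subtype.ext (Subtype.ext (congrArg (fun z : A => (z : S)) hxy)))
      have hvB : v ∈ B := by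
        rw [hB, Subgroup.mem_subgroupOf]
        exact Subgroup.mem_zpowers_iff.2 ⟨d, by rw [D.u_zpow, one_mul, neg_one_mul, ← hd]⟩
      have hord : orderOf (⟨α v, hαv⟩ : B) = orderOf (⟨v, hvB⟩ : B) := by
        rw [← Subgroup.orderOf_coe, ← Subgroup.orderOf_coe (⟨v, hvB⟩ : B)]
        exact α.orderOf_eq v
      classical
      haveI := Fintype.ofFinite B
      set v' : B := ⟨v, hvB⟩
      have hroots : (Finset.univ.filter fun y : B => y ∈ Subgroup.zpowers v') =
          Finset.univ.filter fun y : B => y ^ orderOf v' = 1 := by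
        refine Finset.eq_of_subset_of_card_le (fun y hy => ?_) ?_
        · rw [Finset.mem_filter] at hy ⊢
          obtain ⟨k, rfl⟩ := Subgroup.mem_zpowers_iff.1 hy.2
          refine ⟨hy.1, ?_⟩
          rw [← zpow_natCast, ← zpow_mul, mul_comm, zpow_mul, zpow_natCast, pow_orderOf_eq_one,
            one_zpow]
        · refine (IsCyclic.card_pow_eq_one_le (orderOf_pos v')).trans ?_
          rw [← Fintype.card_subtype, ← Nat.card_eq_fintype_card]
          exact (Nat.card_zpowers v').ge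
      obtain ⟨i, hi⟩ := Subgroup.mem_zpowers_iff.1 (Finset.mem_filter.1 (hroots.symm ▸
        Finset.mem_filter.2 ⟨Finset.mem_univ _, hord ▸ pow_orderOf_eq_one (⟨α v, hαv⟩ : B)⟩ :
          (⟨α v, hαv⟩ : B) ∈ Finset.univ.filter fun y : B => y ∈ Subgroup.zpowers v')).2
      exact Subgroup.mem_zpowers_iff.2 ⟨i, congrArg Subtype.val hi⟩
    have hbase : ∀ w : X, (∃ p q : ℤ, (w : S) = D.u p q) → α w = w := by
      intro w hw
      obtain ⟨p, q, hp⟩ := hw
      refine apply_eq_of_fixed_quot hXp hodd ?_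
      obtain ⟨p', q', hp'⟩ := hinvb w ⟨p, q, hp⟩
      have h1 := hcom w ⟨p, q, hp⟩
      obtain ⟨p₁, q₁, hg₁ | hg₁⟩ := D.repr_cases ((α g₀ : X) : S)
      · exfalso
        obtain ⟨g₁, hg1⟩ : ∃ g₁ : X, α g₁ = g₀ := α.surjective g₀
        have hiter : ∀ k : ℕ, ∃ p q : ℤ, (((α ^ (k + 2)) g₁ : X) : S) = D.u p q := by
          intro k
          induction k with
          | zero => exact ⟨p₁, q₁, by rw [pow_two, MulAut.mul_apply, hg1, hg₁]⟩
          | succ k ih => rw [pow_succ' α (k + 2), MulAut.mul_apply]; exact hinvb _ ih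
        obtain ⟨r, s, hrs⟩ := hiter (2 * orderOf α - 1)
        rw [show 2 * orderOf α - 1 + 2 = orderOf α * 2 + 1 by have := hodd.pos; omega, pow_succ,
          pow_mul, pow_orderOf_eq_one, one_pow, one_mul, hg1] at hrs
        exact D.u_ne_uz _ _ _ _ hrs.symm
      · have h2 := congrArg Subtype.val h1
        simp only [map_mul, map_inv, Subgroup.coe_mul, InvMemClass.coe_inv] at h2
        rw [hp', hg₁, hp, D.u_conj_uz] at h2
        rw [show (g₀ : S) = D.u a b * D.z from rfl, D.u_conj_uz, D.uz_inv, D.uz_mul_uz, D.uz_inv,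
          D.uz_mul_uz, D.u_eq_iff] at h2
        have h3 : 2 * (D.h : ℤ) ∣ (p' - p) - (q' - q) := by exact dvd_congr (h2.1) (by ring)
        have e : w⁻¹ * α w = ⟨D.u (q' - q) (q' - q), hZ _⟩ := Subtype.ext (by
          rw [Subgroup.coe_mul, InvMemClass.coe_inv, hp, hp', D.u_inv, D.u_mul, D.u_eq_iff]
          refine ⟨?_, ?_⟩
          · exact dvd_congr (h3) (by ring)
          · ring_nf; simp)
        rw [e]
        exact hZfix _
    refine hα1 (MulEquiv.ext fun x => ?_)
    rcases hcases x with hx | hx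
    · exact hbase x hx
    · refine apply_eq_of_fixed_quot hXp hodd (hbase _ ?_)
      obtain ⟨p, q, hp | hp⟩ := D.repr_cases (x : S)
      · obtain ⟨p', q', hp'⟩ := hx
        exfalso
        refine D.notMem_base a b ?_
        have e : (D.u a b * D.z) = (D.u p' q')⁻¹ * D.u p q := by
          rw [← hp, ← hp']
          show (g₀ : S) = _
          rw [Subgroup.coe_mul, InvMemClass.coe_inv, mul_inv_rev, inv_inv, inv_mul_cancel_right]
        rw [e]
        exact mul_mem (inv_mem (D.u_mem_base _ _)) (D.u_mem_base _ _)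
      · obtain ⟨r, s, hr | hr⟩ := D.repr_cases ((α x : X) : S)
        · exfalso
          have h1 := hbase (α x) ⟨r, s, hr⟩
          rw [α.injective.eq_iff] at h1
          rw [h1] at hr
          exact D.u_ne_uz _ _ _ _ (hr.symm.trans hp)
        · exact ⟨_, _, by rw [Subgroup.coe_mul, InvMemClass.coe_inv, hp, hr, D.uz_inv, D.uz_mul_uz]⟩
  push Not at hinvb
  obtain ⟨w, ⟨p, q, hp⟩, hwout⟩ := hinvb
  -- squares of the base part are central
  have hsqc : ∀ p q : ℤ, D.u p q ∈ X → (D.h : ℤ) ∣ p - q := by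
    have key : ∀ w' : X, (∀ p q : ℤ, ((α w' : X) : S) ≠ D.u p q) →
        ∀ p q : ℤ, (w' : S) = D.u p q → (D.h : ℤ) ∣ p - q := by
      intro w' hout p q hp
      obtain ⟨r, s, hr | hr⟩ := D.repr_cases ((α w' : X) : S)
      · exact absurd hr (hout r s)
      have h1 : α (w' * w') = ⟨D.u (r + s) (r + s), hZ _⟩ := Subtype.ext (by
        rw [map_mul, Subgroup.coe_mul, hr, D.sq_uz])
      rw [← hZfix (r + s), α.injective.eq_iff] at h1
      have h2 := congrArg Subtype.val h1
      rw [Subgroup.coe_mul, hp, D.sq_u, D.u_eq_iff] at h2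
      have h3 := dvd_sub h2.1 h2.2
      rw [show 2 * p - (r + s) - (2 * q - (r + s)) = 2 * (p - q) by ring] at h3
      exact (Int.mul_dvd_mul_iff_left (by norm_num)).1 h3
    intro p' q' hpq'
    by_cases hx : ∀ r s : ℤ, ((α ⟨D.u p' q', hpq'⟩ : X) : S) ≠ D.u r s
    · exact key _ hx p' q' rfl
    push Not at hx
    obtain ⟨r, s, hr⟩ := hx
    have h1 := key (⟨D.u p' q', hpq'⟩ * w) (fun r' s' hh => by
      obtain ⟨r'', s'', h'' | h''⟩ := D.repr_cases ((α w : X) : S)
      · exact hwout _ _ h''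
      · rw [map_mul, Subgroup.coe_mul, hr, h'', D.u_mul_uz] at hh
        exact D.u_ne_uz _ _ _ _ hh.symm) _ _ (show ((⟨D.u p' q', hpq'⟩ * w : X) : S) = _ by
          rw [Subgroup.coe_mul, hp, D.u_mul])
    have h2 := key w hwout p q hp
    exact dvd_congr (dvd_sub h1 h2) (by ring)
  have hh2 : ∀ p' q' : ℤ, (D.h : ℤ) ∣ p' - q' → D.u p' q' ∈ X := by
    intro p' q' hd
    rcases D.h_cases hd with h | h
    · rw [hdiag p' q' h]; exact hZ q'
    · rcases D.h_cases (hsqc p₀ q₀ hw₀) with h' | h'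
      · exact absurd h' hw₀n
      have e : D.u p' q' = D.u p₀ q₀ * D.u (q' - q₀) (q' - q₀) := by
        rw [D.u_mul, D.u_eq_iff]
        refine ⟨?_, ?_⟩
        · exact dvd_congr (dvd_sub h h') (by ring)
        · simp
      rw [e]
      exact mul_mem hw₀ (hZ _)
  have hX : X = D.qsub (a - b) := by
    ext x
    constructor
    · intro hx
      obtain ⟨r, s, rfl | rfl⟩ := D.repr_cases x
      · exact (D.u_mem_qsub_iff _ _ _).2 (hsqc r s hx)
      · have h1 := mul_mem hx (inv_mem hg)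
        rw [D.uz_inv, D.uz_mul_uz] at h1
        refine (D.uz_mem_qsub_iff _ _ _).2 ?_
        exact dvd_congr (hsqc _ _ h1) (by ring)
    · rintro ⟨r, s, ⟨rfl, hd⟩ | ⟨rfl, hd⟩⟩
      · exact hh2 r s hd
      · have e : D.u r s * D.z = D.u (r - a) (s - b) * (D.u a b * D.z) := by
          rw [D.u_mul_uz]; ring_nf
        rw [e]
        exact mul_mem (hh2 _ _ (by exact dvd_congr (hd) (by ring))) hg
  refine ⟨a - b, ?_, hX⟩
  rcases Int.even_or_odd (a - b) with he | ho
  · exact he
  exfalso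
  obtain ⟨r, s, hr | hr⟩ := D.repr_cases ((α w : X) : S)
  · exact hwout _ _ hr
  -- a central translate of `w` is an involution mapped outside the base
  have hwh := hsqc p q (hp ▸ w.2)
  have h4 : α (⟨D.u (-q) (-q), hZ _⟩ * w) * α (⟨D.u (-q) (-q), hZ _⟩ * w) = 1 := by
    rw [← map_mul]
    have : (⟨D.u (-q) (-q), hZ _⟩ * w : X) * (⟨D.u (-q) (-q), hZ _⟩ * w) = 1 := Subtype.ext (by
      simp only [Subgroup.coe_mul, OneMemClass.coe_one, hp, D.u_mul, D.u_eq_one_iff]
      refine ⟨?_, by ring_nf; simp⟩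
      exact dvd_congr (mul_dvd_mul_left 2 hwh) (by ring))
    rw [this, map_one]
  have h5 := congrArg Subtype.val h4
  rw [map_mul, hZfix, Subgroup.coe_mul, Subgroup.coe_mul, OneMemClass.coe_one, hr, D.u_mul_uz,
    D.sq_uz_eq_one_iff] at h5
  have h6 := (D.uz_mem_qsub_iff (a - b) r s).1 (hX ▸ hr ▸ (α w).2)
  have he := D.h_even
  obtain ⟨i, hi⟩ := dvd_trans he h6
  obtain ⟨j, hj⟩ := dvd_trans (dvd_mul_right 2 _) h5
  obtain ⟨k, hk⟩ := ho
  omega

end WrData

end Cfsg.Agent.Invol
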