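import Cfsg.Agent.Lib.Invol.WrSubgroups
import Cfsg.Agent.Lib.Invol.ThreePoint
import Cfsg.Agent.Lib.Transfer.Quadratic

/-!
# Fusion in groups with wreathed Sylow 2-subgroups: the abelian maximal subgroup

Inside `G`: `U` is the base, `gw` the central involution, `ge`, `ge'` the other involutions of the
base, `gf a` the involutions outside it, `gc` and `gi` elements of order 4 squaring to `gw` (`gc`
central in `S`), `gq a` the elements of order 4 outside the base squaring to `gw`.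
-/

set_option linter.unusedSectionVars false
set_option linter.style.haveILetI false

namespace Cfsg.Agent.Invol

variable {G : Type*} [Group G] [Finite G] {S : Sylow 2 G}

namespace WrData

variable (D : WrData (S : Subgroup G))

/-- The element `x ^ a * y ^ b`, in `G`. -/
def gu (a b : ℤ) : G := ((D.u a b : (S : Subgroup G)) : G)

/-- The swapping involution, in `G`. -/
def gz : G := ((D.z : (S : Subgroup G)) : G)

/-- The base, in `G`. -/
def gbase : Subgroup G := D.base.map (S : Subgroup G).subtype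

/-- Half of `h`. -/
def k : ℤ := (D.h : ℤ) / 2

theorem two_k : (D.h : ℤ) = 2 * D.k := by
  unfold k
  have := D.h_even
  omega

theorem k_pos : 0 < D.k := by
  have := D.two_k; have := D.h_pos; omega

theorem not_dvd_h : ¬ 2 * (D.h : ℤ) ∣ (D.h : ℤ) := fun h => by
  have := Int.le_of_dvd D.h_pos h
  have := D.h_pos
  omega

theorem gu_mem (a b : ℤ) : D.gu a b ∈ S := SetLike.coe_mem _
theorem gz_mem : D.gz ∈ S := SetLike.coe_mem _

theorem gbase_le : D.gbase ≤ S := Subgroup.map_subtype_le _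

theorem mem_gbase_iff {g : G} : g ∈ D.gbase ↔ ∃ a b : ℤ, g = D.gu a b := by
  constructor
  · rintro ⟨v, ⟨a, b, rfl⟩, rfl⟩; exact ⟨a, b, rfl⟩
  · rintro ⟨a, b, rfl⟩; exact ⟨_, D.u_mem_base a b, rfl⟩

theorem gu_mem_base (a b : ℤ) : D.gu a b ∈ D.gbase := D.mem_gbase_iff.2 ⟨a, b, rfl⟩

theorem card_gbase : Nat.card D.gbase = 4 * (D.h * D.h) := by
  rw [gbase, Subgroup.card_map_of_injective (S : Subgroup G).subtype_injective, D.card_base]

theorem gu_mul (a b c d : ℤ) : D.gu a b * D.gu c d = D.gu (a + c) (b + d) :=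
  congrArg Subtype.val (D.u_mul a b c d)

theorem gu_zero : D.gu 0 0 = 1 := congrArg Subtype.val D.u_zero

theorem gu_inv (a b : ℤ) : (D.gu a b)⁻¹ = D.gu (-a) (-b) := congrArg Subtype.val (D.u_inv a b)

theorem gu_zpow (a b t : ℤ) : (D.gu a b) ^ t = D.gu (a * t) (b * t) := by
  have h := congrArg Subtype.val (D.u_zpow a b t)
  rwa [SubgroupClass.coe_zpow] at h

theorem gu_eq_iff (a b c d : ℤ) :
    D.gu a b = D.gu c d ↔ 2 * (D.h : ℤ) ∣ a - c ∧ 2 * (D.h : ℤ) ∣ b - d := by
  rw [← D.u_eq_iff]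
  exact ⟨fun h => Subtype.ext h, congrArg Subtype.val⟩

theorem gu_eq_one_iff (a b : ℤ) : D.gu a b = 1 ↔ 2 * (D.h : ℤ) ∣ a ∧ 2 * (D.h : ℤ) ∣ b := by
  simpa [← D.gu_zero] using D.gu_eq_iff a b 0 0

theorem gu_comm (a b c d : ℤ) : Commute (D.gu a b) (D.gu c d) := by
  rw [commute_iff_eq, D.gu_mul, D.gu_mul, add_comm a c, add_comm b d]

theorem gbase_comm {p q : G} (hp : p ∈ D.gbase) (hq : q ∈ D.gbase) : Commute p q := by
  obtain ⟨a, b, rfl⟩ := D.mem_gbase_iff.1 hp
  obtain ⟨c, d, rfl⟩ := D.mem_gbase_iff.1 hq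
  exact D.gu_comm a b c d

theorem repr_G {g : G} (hg : g ∈ S) : ∃ a b : ℤ, g = D.gu a b ∨ g = D.gu a b * D.gz := by
  obtain ⟨a, b, h | h⟩ := D.repr_cases ⟨g, hg⟩
  · exact ⟨a, b, Or.inl (congrArg Subtype.val h)⟩
  · exact ⟨a, b, Or.inr (congrArg Subtype.val h)⟩

theorem gu_ne_guz (a b c d : ℤ) : D.gu a b ≠ D.gu c d * D.gz := fun h =>
  D.u_ne_uz a b c d (Subtype.ext h)

theorem guz_notMem (a b : ℤ) : D.gu a b * D.gz ∉ D.gbase := fun h => by
  obtain ⟨c, d, hcd⟩ := D.mem_gbase_iff.1 h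
  exact D.gu_ne_guz c d a b hcd.symm

theorem guz_mul_gu (a b c d : ℤ) :
    (D.gu a b * D.gz) * D.gu c d = D.gu (a + d) (b + c) * D.gz :=
  congrArg Subtype.val (D.uz_mul_u a b c d)

theorem guz_mul_guz (a b c d : ℤ) :
    (D.gu a b * D.gz) * (D.gu c d * D.gz) = D.gu (a + d) (b + c) :=
  congrArg Subtype.val (D.uz_mul_uz a b c d)

theorem guz_conj_gu (a b c d : ℤ) :
    (D.gu a b * D.gz) * D.gu c d * (D.gu a b * D.gz)⁻¹ = D.gu d c :=
  congrArg Subtype.val (D.uz_conj_u a b c d)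

theorem gu_conj_guz (a b c d : ℤ) :
    D.gu a b * (D.gu c d * D.gz) * (D.gu a b)⁻¹ = D.gu (c + a - b) (d + b - a) * D.gz :=
  congrArg Subtype.val (D.u_conj_uz a b c d)

theorem gz_conj_gu (c d : ℤ) : D.gz * D.gu c d * D.gz⁻¹ = D.gu d c := by
  have h := D.guz_conj_gu 0 0 c d
  rwa [D.gu_zero, one_mul] at h

theorem diag_commute (t : ℤ) {g : G} (hg : g ∈ S) : Commute (D.gu t t) g :=
  (D.diag_central (a := t) (b := t) (by simp) ⟨g, hg⟩).map (S : Subgroup G).subtype

theorem commute_gu_guz_iff (a b c d : ℤ) :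
    Commute (D.gu a b) (D.gu c d * D.gz) ↔ 2 * (D.h : ℤ) ∣ a - b := by
  rw [← D.commute_u_uz_iff a b c d]
  exact ⟨fun h => Subtype.ext h.eq, fun h => h.map (S : Subgroup G).subtype⟩

/-- The centraliser in `S` of a non-diagonal element of the base is the base. -/
theorem centralizer_offdiag {a b : ℤ} (hab : ¬ 2 * (D.h : ℤ) ∣ a - b) {g : G} (hg : g ∈ S)
    (hc : Commute g (D.gu a b)) : g ∈ D.gbase := by
  obtain ⟨c, d, rfl | rfl⟩ := D.repr_G hg
  · exact D.gu_mem_base c d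
  · exact absurd ((D.commute_gu_guz_iff a b c d).1 hc.symm) hab

/-- An abelian subgroup of `S` of order `4 h ^ 2` is the base. -/
theorem eq_gbase {A : Subgroup G} (hAS : A ≤ S) (hA : ∀ p ∈ A, ∀ q ∈ A, Commute p q)
    (hcard : Nat.card A = 4 * (D.h * D.h)) : A = D.gbase := by
  let A₀ : Subgroup (S : Subgroup G) := A.subgroupOf (S : Subgroup G)
  have hA₀ : IsMulCommutative A₀ := ⟨⟨fun p q =>
    Subtype.ext (Subtype.ext (hA _ p.2 _ q.2).eq)⟩⟩
  have hc₀ : Nat.card A₀ = 4 * (D.h * D.h) := by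
    rw [Nat.card_congr (Subgroup.subgroupOfEquivOfLe hAS).toEquiv, hcard]
  have hle : A₀ ≤ D.base := by
    by_contra hno
    have h1 := D.card_le_of_not_le hA₀ hno
    rw [hc₀] at h1
    have := D.h_pos
    have := D.h_even
    have h2 : 2 ≤ D.h := by omega
    nlinarith
  refine Subgroup.eq_of_le_of_card_ge (fun g hg => ?_) (by rw [hcard, D.card_gbase])
  exact ⟨⟨g, hAS hg⟩, hle hg, rfl⟩

/-! ### Special elements -/

/-- The central involution. -/
def gw : G := D.gu D.h D.h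
/-- An involution of the base, not central. -/
def ge : G := D.gu D.h 0
/-- The conjugate of `ge`. -/
def ge' : G := D.gu 0 D.h
/-- The involutions outside the base. -/
def gf (a : ℤ) : G := D.gu a (-a) * D.gz
/-- The central element of order 4. -/
def gc : G := D.gu D.k D.k
/-- A noncentral element of order 4 of the base squaring to `gw`. -/
def gi : G := D.gu D.k (-D.k)
/-- The elements of order 4 outside the base squaring to `gw`. -/
def gq (a : ℤ) : G := D.gu a (D.h - a) * D.gz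

theorem gw_mem : D.gw ∈ S := D.gu_mem _ _
theorem ge_mem : D.ge ∈ S := D.gu_mem _ _
theorem gi_mem : D.gi ∈ S := D.gu_mem _ _
theorem gc_mem : D.gc ∈ S := D.gu_mem _ _
theorem gf_mem (a : ℤ) : D.gf a ∈ S := mul_mem (D.gu_mem _ _) D.gz_mem
theorem gq_mem (a : ℤ) : D.gq a ∈ S := mul_mem (D.gu_mem _ _) D.gz_mem

theorem orderOf_inv_base {a b : ℤ} (ha : (D.h : ℤ) ∣ a) (hb : (D.h : ℤ) ∣ b)
    (hne : D.gu a b ≠ 1) : orderOf (D.gu a b) = 2 :=
  orderOf_two_of_mul_self (by
    rw [D.gu_mul, D.gu_eq_one_iff]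
    exact ⟨by rw [← two_mul]; exact mul_dvd_mul_left 2 ha,
      by rw [← two_mul]; exact mul_dvd_mul_left 2 hb⟩) hne

theorem gw_ne_one : D.gw ≠ 1 := fun h => D.not_dvd_h ((D.gu_eq_one_iff _ _).1 h).1
theorem ge_ne_one : D.ge ≠ 1 := fun h => D.not_dvd_h ((D.gu_eq_one_iff _ _).1 h).1
theorem ge'_ne_one : D.ge' ≠ 1 := fun h => D.not_dvd_h ((D.gu_eq_one_iff _ _).1 h).2

theorem orderOf_gw : orderOf D.gw = 2 := D.orderOf_inv_base dvd_rfl dvd_rfl D.gw_ne_one
theorem orderOf_ge : orderOf D.ge = 2 := D.orderOf_inv_base dvd_rfl (dvd_zero _) D.ge_ne_one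

theorem orderOf_gf (a : ℤ) : orderOf (D.gf a) = 2 := by
  refine orderOf_two_of_mul_self ?_ ?_
  · rw [gf, D.guz_mul_guz, D.gu_eq_one_iff]; simp
  · rw [gf, ← D.gu_zero]; exact (D.gu_ne_guz _ _ _ _).symm

theorem gw_ne_ge : D.gw ≠ D.ge := fun h => D.not_dvd_h (by
  simpa using ((D.gu_eq_iff _ _ _ _).1 h).2)
theorem gw_ne_ge' : D.gw ≠ D.ge' := fun h => D.not_dvd_h (by
  simpa using ((D.gu_eq_iff _ _ _ _).1 h).1)
theorem ge_ne_ge' : D.ge ≠ D.ge' := fun h => D.not_dvd_h (by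
  simpa using ((D.gu_eq_iff _ _ _ _).1 h).1)

theorem gz_conj_ge : D.gz * D.ge * D.gz⁻¹ = D.ge' := D.gz_conj_gu _ _

theorem gw_commute {g : G} (hg : g ∈ S) : Commute D.gw g := D.diag_commute _ hg
theorem gc_commute {g : G} (hg : g ∈ S) : Commute D.gc g := D.diag_commute _ hg

theorem gc_sq : D.gc * D.gc = D.gw := by rw [gc, D.gu_mul, ← two_mul, ← D.two_k]; rfl

theorem gi_sq : D.gi * D.gi = D.gw := by
  rw [gi, D.gu_mul, gw, D.gu_eq_iff]
  have := D.two_k
  exact ⟨⟨0, by omega⟩, ⟨-1, by omega⟩⟩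

theorem orderOf_of_sq {g : G} (hg : g * g = D.gw) : orderOf g = 4 := by
  haveI : Fact (Nat.Prime 2) := ⟨Nat.prime_two⟩
  refine orderOf_eq_prime_pow (p := 2) (n := 1) ?_ ?_
  · rw [pow_one, sq, hg]; exact D.gw_ne_one
  · rw [show (2 : ℕ) ^ (1 + 1) = 2 * 2 from rfl, pow_mul, sq, sq, hg,
      mul_self_of_orderOf_two D.orderOf_gw]

theorem gq_sq (a : ℤ) : D.gq a * D.gq a = D.gw := by
  rw [gq, D.guz_mul_guz, gw, D.gu_eq_iff]; constructor <;> ring_nf <;> simp

/-- The involutions of the base. -/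
theorem base_involution_cases {t : G} (ht : t ∈ D.gbase) (ht2 : orderOf t = 2) :
    t = D.gw ∨ t = D.ge ∨ t = D.ge' := by
  obtain ⟨a, b, rfl⟩ := D.mem_gbase_iff.1 ht
  have h := mul_self_of_orderOf_two ht2
  rw [D.gu_mul, D.gu_eq_one_iff, ← two_mul, ← two_mul, Int.mul_dvd_mul_iff_left (by norm_num),
    Int.mul_dvd_mul_iff_left (by norm_num)] at h
  obtain ⟨ha, hb⟩ := h
  rcases D.h_cases ha with h1 | h1 <;> rcases D.h_cases hb with h2 | h2
  · exact absurd ((D.gu_eq_one_iff _ _).2 ⟨h1, h2⟩) (ne_one_of_orderOf_two ht2)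
  · exact Or.inr (Or.inr ((D.gu_eq_iff _ _ _ _).2 ⟨by simpa using h1, h2⟩))
  · exact Or.inr (Or.inl ((D.gu_eq_iff _ _ _ _).2 ⟨h1, by simpa using h2⟩))
  · exact Or.inl ((D.gu_eq_iff _ _ _ _).2 ⟨h1, h2⟩)

theorem involution_cases {t : G} (ht : t ∈ S) (ht2 : orderOf t = 2) :
    t = D.gw ∨ t = D.ge ∨ t = D.ge' ∨ ∃ a, t = D.gf a := by
  obtain ⟨a, b, rfl | rfl⟩ := D.repr_G ht
  · rcases D.base_involution_cases (D.gu_mem_base a b) ht2 with h | h | h
    · exact Or.inl h
    · exact Or.inr (Or.inl h)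
    · exact Or.inr (Or.inr (Or.inl h))
  · refine Or.inr (Or.inr (Or.inr ⟨a, ?_⟩))
    have h := mul_self_of_orderOf_two ht2
    rw [D.guz_mul_guz, D.gu_eq_one_iff] at h
    rw [gf, mul_left_inj, D.gu_eq_iff]
    exact ⟨by simp, by have := h.2; rwa [sub_neg_eq_add]⟩

theorem isConj_ge' : IsConj D.ge D.ge' := isConj_iff.2 ⟨D.gz, D.gz_conj_ge⟩

theorem isConj_gf (a b : ℤ) : IsConj (D.gf a) (D.gf b) :=
  isConj_iff.2 ⟨D.gu (b - a) 0, by
    rw [gf, gf, D.gu_conj_guz, mul_left_inj, D.gu_eq_iff]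
    constructor <;> ring_nf <;> simp⟩

theorem involution_class {t : G} (ht : orderOf t = 2) :
    IsConj t D.gw ∨ IsConj t D.ge ∨ IsConj t (D.gf 0) := by
  haveI : Fact (Nat.Prime 2) := ⟨Nat.prime_two⟩
  obtain ⟨g, hg⟩ := exists_conj_mem_sylow S (k := 1) (t := t) (by rw [ht, pow_one])
  have hc : IsConj t (g * t * g⁻¹) := isConj_iff.2 ⟨g, rfl⟩
  rcases D.involution_cases hg (by rw [orderOf_conj, ht]) with h | h | h | ⟨a, h⟩
  · exact Or.inl (h ▸ hc)
  · exact Or.inr (Or.inl (h ▸ hc))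
  · exact Or.inr (Or.inl (hc.trans (h ▸ D.isConj_ge'.symm)))
  · exact Or.inr (Or.inr (hc.trans (h ▸ D.isConj_gf a 0)))

/-! ### The automiser of the base -/

theorem sylow_le_normalizer : (S : Subgroup G) ≤ Subgroup.normalizer (D.gbase : Set G) := by
  haveI := Subgroup.normal_of_index_eq_two D.base_index
  intro s hs
  refine Subgroup.mem_normalizer_iff.2 fun g => ⟨?_, ?_⟩
  · rintro ⟨v, hv, rfl⟩
    exact ⟨_, Subgroup.Normal.conj_mem inferInstance v hv ⟨s, hs⟩, rfl⟩
  · rintro ⟨v, hv, hvg⟩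
    refine ⟨_, Subgroup.Normal.conj_mem inferInstance v hv (⟨s, hs⟩⁻¹ : (S : Subgroup G)), ?_⟩
    show s⁻¹ * (v : G) * s⁻¹⁻¹ = g
    rw [show (v : G) = s * g * s⁻¹ from hvg]; group

/-- An element normalising the base and fixing its involutions centralises it. -/
theorem centralizes_of_fixes {n : G} (hn : n ∈ Subgroup.normalizer (D.gbase : Set G))
    (hw : n * D.gw * n⁻¹ = D.gw) (he : n * D.ge * n⁻¹ = D.ge) :
    n ∈ Subgroup.centralizer (D.gbase : Set G) := by
  haveI : Fact (Nat.Prime 2) := ⟨Nat.prime_two⟩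
  set N := Subgroup.normalizer (D.gbase : Set G) with hN
  let K₀ : Subgroup G :=
    N ⊓ Subgroup.centralizer ({D.gw} : Set G) ⊓ Subgroup.centralizer ({D.ge} : Set G)
  have hnK : n ∈ K₀ := ⟨⟨hn, Subgroup.mem_centralizer_singleton_iff.2 (mul_inv_eq_iff_eq_mul.1 hw)⟩,
    Subgroup.mem_centralizer_singleton_iff.2 (mul_inv_eq_iff_eq_mul.1 he)⟩
  haveI : IsMulCommutative D.gbase :=
    ⟨⟨fun p q => Subtype.ext (D.gbase_comm p.2 q.2).eq⟩⟩
  -- elements of odd order
  have hodd : ∀ m ∈ K₀, (orderOf m).Coprime 2 → m ∈ Subgroup.centralizer (D.gbase : Set G) := by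
    intro m hm hm2
    have hm0 : Commute m D.ge' := by
      have e : D.ge' = D.gw * D.ge := by
        rw [gw, ge, D.gu_mul, ge', D.gu_eq_iff]
        exact ⟨⟨-1, by ring⟩, by simp⟩
      rw [e]
      exact (show Commute m D.gw from Subgroup.mem_centralizer_singleton_iff.1 hm.1.2).mul_right
        (Subgroup.mem_centralizer_singleton_iff.1 hm.2)
    have key := Transfer.commute_of_commute_omega (S.2.to_le D.gbase_le) hm2 hm.1.1
      (fun v hv hv2 => by
        by_cases hv1 : v = 1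
        · rw [hv1]; exact Commute.one_right m
        rcases D.base_involution_cases hv
            (orderOf_two_of_mul_self (by rw [← sq]; exact hv2) hv1) with h | h | h <;> rw [h]
        · exact Subgroup.mem_centralizer_singleton_iff.1 hm.1.2
        · exact Subgroup.mem_centralizer_singleton_iff.1 hm.2
        · exact hm0)
    exact fun v hv => (key v hv).symm.eq
  -- 2-elements are conjugate into the base
  have htwo : ∀ m ∈ K₀, (∃ j, orderOf m ∣ 2 ^ j) → m ∈ Subgroup.centralizer (D.gbase : Set G) := by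
    rintro m hm ⟨j, hj⟩
    obtain ⟨i, -, hi⟩ := (Nat.dvd_prime_pow Nat.prime_two).1 hj
    obtain ⟨c, hc, hcS⟩ := exists_conj_le_sylow S N D.sylow_le_normalizer
      (IsPGroup.of_card (n := i) (G := Subgroup.zpowers m) (by rw [Nat.card_zpowers, hi]))
      (Subgroup.zpowers_le.2 hm.1.1)
    set r := c * m * c⁻¹ with hr
    have hrS : r ∈ S := hcS m (Subgroup.mem_zpowers m)
    have hfix : ∀ v ∈ D.gbase, orderOf v = 2 → Commute r v := by
      intro v hv hv2
      set v' := c⁻¹ * v * c with hv'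
      have hv'm : v' ∈ D.gbase := (Subgroup.mem_normalizer_iff''.1 hc v).1 hv
      have hv'2 : orderOf v' = 2 := by
        rw [hv', show c⁻¹ * v * c = c⁻¹ * v * c⁻¹⁻¹ by group, orderOf_conj, hv2]
      have hmv : Commute m v' := by
        rcases D.base_involution_cases hv'm hv'2 with h | h | h <;> rw [h]
        · exact Subgroup.mem_centralizer_singleton_iff.1 hm.1.2
        · exact Subgroup.mem_centralizer_singleton_iff.1 hm.2
        · have e : D.ge' = D.gw * D.ge := by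
            rw [gw, ge, D.gu_mul, ge', D.gu_eq_iff]
            exact ⟨⟨-1, by ring⟩, by simp⟩
          rw [e]
          exact (show Commute m D.gw from Subgroup.mem_centralizer_singleton_iff.1 hm.1.2).mul_right
            (Subgroup.mem_centralizer_singleton_iff.1 hm.2)
      have := hmv.map (MulAut.conj c).toMonoidHom
      simpa [hr, hv', mul_assoc] using this
    have hrU : r ∈ D.gbase :=
      D.centralizer_offdiag (a := D.h) (b := 0) (by simpa using D.not_dvd_h) hrS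
        (hfix D.ge (D.gu_mem_base _ _) D.orderOf_ge)
    intro v hv
    have hv'm : c * v * c⁻¹ ∈ D.gbase := (Subgroup.mem_normalizer_iff.1 hc v).1 hv
    have := (D.gbase_comm hv'm hrU).map (MulAut.conj c⁻¹).toMonoidHom
    simpa [hr, mul_assoc] using this.eq
  obtain ⟨p, q, hp, hq, hpq, hp2, hq2⟩ := Transfer.exists_pPart_mul (p := 2) n
  rw [← hpq]
  exact mul_mem (htwo p (K₀.zpowers_le.2 hnK hp) hp2) (hodd q (K₀.zpowers_le.2 hnK hq) hq2)

theorem gbase_automiser :
    ((Subgroup.centralizer (D.gbase : Set G)).relIndex (Subgroup.normalizer (D.gbase : Set G)) = 2 ∨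
      (Subgroup.centralizer (D.gbase : Set G)).relIndex (Subgroup.normalizer (D.gbase : Set G)) = 6) ∧
    ((Subgroup.centralizer (D.gbase : Set G)).relIndex (Subgroup.normalizer (D.gbase : Set G)) = 6 ↔
      IsConj D.gw D.ge) ∧
    ((Subgroup.centralizer (D.gbase : Set G)).relIndex (Subgroup.normalizer (D.gbase : Set G)) = 6 →
      ∀ p q, (p = D.gw ∨ p = D.ge ∨ p = D.ge') → (q = D.gw ∨ q = D.ge ∨ q = D.ge') →
        ∃ n ∈ Subgroup.normalizer (D.gbase : Set G), n ^ 2 * p * (n ^ 2)⁻¹ = q) := by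
  haveI : Fact (Nat.Prime 2) := ⟨Nat.prime_two⟩
  set N := Subgroup.normalizer (D.gbase : Set G) with hN
  letI : MulAction N G := MulAction.compHom G (MulAut.conj.comp N.subtype)
  have hact : ∀ (n : N) (g : G), n • g = (n : G) * g * (n : G)⁻¹ := fun _ _ => rfl
  have hpt : ∀ p, (p = D.gw ∨ p = D.ge ∨ p = D.ge') → p ∈ D.gbase ∧ orderOf p = 2 := by
    rintro p (rfl | rfl | rfl)
    · exact ⟨D.gu_mem_base _ _, D.orderOf_gw⟩
    · exact ⟨D.gu_mem_base _ _, D.orderOf_ge⟩
    · exact ⟨D.gu_mem_base _ _, by rw [← D.gz_conj_ge, orderOf_conj, D.orderOf_ge]⟩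
  have hinv : ∀ n : N, ∀ p, (p = D.gw ∨ p = D.ge ∨ p = D.ge') →
      (n • p = D.gw ∨ n • p = D.ge ∨ n • p = D.ge') := by
    intro n p hp
    obtain ⟨hpB, hp2⟩ := hpt p hp
    exact D.base_involution_cases ((Subgroup.mem_normalizer_iff.1 n.2 p).1 hpB)
      (by rw [hact, orderOf_conj, hp2])
  have hK : ∀ n : N, n ∈ (Subgroup.centralizer (D.gbase : Set G)).subgroupOf N ↔
      n • D.gw = D.gw ∧ n • D.ge = D.ge ∧ n • D.ge' = D.ge' := by
    intro n
    rw [Subgroup.mem_subgroupOf]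
    simp only [hact]
    constructor
    · intro h
      have key : ∀ p ∈ D.gbase, (n : G) * p * (n : G)⁻¹ = p := fun p hp => by
        rw [← Subgroup.mem_centralizer_iff.1 h p hp, mul_inv_cancel_right]
      exact ⟨key _ (hpt _ (Or.inl rfl)).1, key _ (hpt _ (Or.inr (Or.inl rfl))).1,
        key _ (hpt _ (Or.inr (Or.inr rfl))).1⟩
    · rintro ⟨h1, h2, -⟩
      exact D.centralizes_of_fixes n.2 h1 h2
  obtain ⟨hcases, hiff, hsq⟩ := three_point_action (N := N) D.gw D.ge D.ge' D.gw_ne_ge D.gw_ne_ge'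
    D.ge_ne_ge' hinv _ hK ⟨D.gz, D.sylow_le_normalizer D.gz_mem⟩
    (by rw [hact]; exact D.gz_conj_gu _ _) (by rw [hact]; exact D.gz_conj_ge)
  refine ⟨hcases, ?_, fun h6 p q hp hq => ?_⟩
  · rw [Subgroup.relIndex, hiff]
    constructor
    · rintro ⟨n, hn⟩
      have hc : IsConj D.gw (n • D.gw) := isConj_iff.2 ⟨n, rfl⟩
      rcases hinv n _ (Or.inl rfl) with h | h | h
      · exact absurd h hn
      · exact h ▸ hc
      · exact (h ▸ hc).trans D.isConj_ge'.symm
    · intro hconj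
      obtain ⟨g, hg⟩ := isConj_iff.1 hconj.symm
      -- move the base into `S`, with `ge` going to `gw`
      have hSC : (S : Subgroup G) ≤ Subgroup.centralizer ({D.gw} : Set G) := fun s hs =>
        Subgroup.mem_centralizer_singleton_iff.2 (D.gw_commute hs).symm.eq
      have hBC : D.gbase.map (MulAut.conj g).toMonoidHom ≤
          Subgroup.centralizer ({D.gw} : Set G) := by
        rintro _ ⟨v, hv, rfl⟩
        rw [Subgroup.mem_centralizer_singleton_iff, ← hg]
        exact ((D.gbase_comm hv (D.gu_mem_base _ _)).map (MulAut.conj g).toMonoidHom).eq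
      obtain ⟨c, hc, hcS⟩ := exists_conj_le_sylow S _ hSC ((S.2.to_le D.gbase_le).map _) hBC
      have heq : D.gbase.map (MulAut.conj (c * g)).toMonoidHom = D.gbase := by
        refine D.eq_gbase ?_ ?_ ?_
        · rintro _ ⟨v, hv, rfl⟩
          have := hcS _ ⟨v, hv, rfl⟩
          show c * g * v * (c * g)⁻¹ ∈ (S : Subgroup G)
          rw [show c * g * v * (c * g)⁻¹ = c * (g * v * g⁻¹) * c⁻¹ by group]
          exact this
        · rintro _ ⟨v, hv, rfl⟩ _ ⟨v', hv', rfl⟩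
          exact (D.gbase_comm hv hv').map (MulAut.conj (c * g)).toMonoidHom
        · rw [Subgroup.card_map_of_injective (MulAut.conj (c * g)).injective, D.card_gbase]
      have hmem : c * g ∈ N := by
        refine Subgroup.mem_normalizer_iff.2 fun v => ⟨fun hv => ?_, fun hv => ?_⟩
        · have := Subgroup.mem_map_of_mem (MulAut.conj (c * g)).toMonoidHom hv
          rw [heq] at this
          exact this
        · rw [← heq] at hv
          obtain ⟨v', hv', e⟩ := hv
          exact (mul_left_cancel (mul_right_cancel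
            (e : c * g * v' * (c * g)⁻¹ = c * g * v * (c * g)⁻¹))) ▸ hv'
      refine ⟨⟨c * g, hmem⟩, fun hfix => D.gw_ne_ge ?_⟩
      have he : c * g * D.ge * (c * g)⁻¹ = D.gw := by
        rw [show c * g * D.ge * (c * g)⁻¹ = c * (g * D.ge * g⁻¹) * c⁻¹ by group, hg,
          Subgroup.mem_centralizer_singleton_iff.1 hc, mul_inv_cancel_right]
      exact mul_left_cancel (mul_right_cancel ((hfix : c * g * D.gw * (c * g)⁻¹ = D.gw).trans he.symm))
  · obtain ⟨n, hn⟩ := hsq h6 p q hp hq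
    exact ⟨n, n.2, hn⟩

end WrData

end Cfsg.Agent.Invol
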