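import Cfsg.Agent.Lib.Invol.WrFusion
import Cfsg.Agent.Lib.Invol.AxesQ8

/-!
# Fusion in groups with wreathed Sylow 2-subgroups: `Q * Z(S)`
-/

set_option linter.unusedSectionVars false
set_option linter.style.haveILetI false

namespace Cfsg.Agent.Invol

open scoped Pointwise

variable {G : Type*} [Group G] [Finite G] {S : Sylow 2 G}

namespace WrData

variable (D : WrData (S : Subgroup G))

/-- The centre of `S`, in `G`. -/
abbrev gcent (_D : WrData (S : Subgroup G)) : Subgroup G :=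
  (Subgroup.center (S : Subgroup G)).map (S : Subgroup G).subtype

theorem mem_gcent_iff {g : G} : g ∈ D.gcent ↔ ∃ t : ℤ, g = D.gu t t := by
  constructor
  · rintro ⟨v, hv, rfl⟩
    obtain ⟨t, rfl⟩ := D.mem_center_iff.1 hv
    exact ⟨t, rfl⟩
  · rintro ⟨t, rfl⟩
    exact ⟨_, D.mem_center_iff.2 ⟨t, rfl⟩, rfl⟩

theorem gcent_le : D.gcent ≤ S := Subgroup.map_subtype_le _

theorem gcent_le_base : D.gcent ≤ D.gbase := fun g hg => by
  obtain ⟨t, rfl⟩ := D.mem_gcent_iff.1 hg
  exact D.gu_mem_base t t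

theorem gcent_commute {g s : G} (hg : g ∈ D.gcent) (hs : s ∈ S) : Commute g s := by
  obtain ⟨t, rfl⟩ := D.mem_gcent_iff.1 hg
  exact D.diag_commute t hs

/-- The elements of the base squaring to `gw`. -/
theorem base_sq_cases {t : G} (ht : t ∈ D.gbase) (hsq : t * t = D.gw) :
    t = D.gc ∨ t = D.gc⁻¹ ∨ t = D.gi ∨ t = D.gi⁻¹ := by
  obtain ⟨a, b, rfl⟩ := D.mem_gbase_iff.1 ht
  rw [D.gu_mul, gw, D.gu_eq_iff] at hsq
  have h2k := D.two_k
  have key : ∀ a : ℤ, 2 * (D.h : ℤ) ∣ a + a - D.h →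
      2 * (D.h : ℤ) ∣ a - D.k ∨ 2 * (D.h : ℤ) ∣ a + D.k := by
    intro a ha
    have h' : 2 * (D.h : ℤ) ∣ 2 * (a - D.k) := by
      rwa [show 2 * (a - D.k) = a + a - (D.h : ℤ) by omega]
    rw [Int.mul_dvd_mul_iff_left (by norm_num)] at h'
    rcases D.h_cases h' with h | h
    · exact Or.inl h
    · refine Or.inr ?_
      have h2 := dvd_add h (dvd_refl (2 * (D.h : ℤ)))
      rwa [show a - D.k - (D.h : ℤ) + 2 * D.h = a + D.k by omega] at h2
  rcases key a hsq.1 with ha | ha <;> rcases key b hsq.2 with hb | hb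
  · exact Or.inl ((D.gu_eq_iff _ _ _ _).2 ⟨ha, hb⟩)
  · refine Or.inr (Or.inr (Or.inl ((D.gu_eq_iff _ _ _ _).2 ⟨ha, ?_⟩)))
    rwa [sub_neg_eq_add]
  · refine Or.inr (Or.inr (Or.inr ?_))
    rw [gi, D.gu_inv, D.gu_eq_iff]
    exact ⟨by rwa [sub_neg_eq_add], by rwa [neg_neg]⟩
  · refine Or.inr (Or.inl ?_)
    rw [gc, D.gu_inv, D.gu_eq_iff]
    exact ⟨by rwa [sub_neg_eq_add], by rwa [sub_neg_eq_add]⟩

theorem not_dvd_two_k : ¬ 2 * (D.h : ℤ) ∣ D.k - -D.k := by
  have := D.two_k
  rw [show D.k - -D.k = (D.h : ℤ) by omega]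
  exact D.not_dvd_h

theorem gi_ne_gc : D.gi ≠ D.gc := fun h => by
  refine D.not_dvd_two_k ?_
  have h2 := ((D.gu_eq_iff _ _ _ _).1 h).2
  rw [← dvd_neg] at h2
  rwa [show D.k - -D.k = -(-D.k - D.k) by ring]

theorem gi_ne_gc_inv : D.gi ≠ D.gc⁻¹ := fun h => by
  rw [gc, D.gu_inv] at h
  exact D.not_dvd_two_k ((D.gu_eq_iff _ _ _ _).1 h).1

theorem gq_rel (a : ℤ) : D.gq a * D.gi * (D.gq a)⁻¹ = D.gi⁻¹ := by
  rw [gq, gi, D.guz_conj_gu, D.gu_inv, neg_neg]

theorem axes (a : ℤ) : Axes D.gi (D.gq a) where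
  orda := D.orderOf_of_sq D.gi_sq
  sqb := by rw [D.gq_sq, D.gi_sq]
  rel := D.gq_rel a
  not_mem h := D.guz_notMem _ _ (Subgroup.zpowers_le.2 (D.gu_mem_base _ _) h)

theorem gi_mul_gq (a : ℤ) : D.gi * D.gq a = D.gq (a + D.k) := by
  rw [gi, gq, gq, ← mul_assoc, D.gu_mul, mul_left_inj, D.gu_eq_iff]
  constructor <;> ring_nf <;> simp

theorem isConj_gq (a b : ℤ) : IsConj (D.gq a) (D.gq b) :=
  isConj_iff.2 ⟨D.gu (b - a) 0, by
    rw [gq, gq, D.gu_conj_guz, mul_left_inj, D.gu_eq_iff]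
    constructor <;> ring_nf <;> simp⟩

theorem isConj_gi_inv : IsConj D.gi D.gi⁻¹ :=
  isConj_iff.2 ⟨D.gq 0, D.gq_rel 0⟩

/-- `gu k 0` fixes `gi` and shifts `gq a` to `gi * gq a`. -/
theorem swap_gq (a : ℤ) : D.gu D.k 0 * D.gq a * (D.gu D.k 0)⁻¹ = D.gi * D.gq a := by
  rw [D.gi_mul_gq, gq, gq, D.gu_conj_guz, mul_left_inj, D.gu_eq_iff]
  constructor <;> ring_nf <;> simp

theorem swap_gi : D.gu D.k 0 * D.gi * (D.gu D.k 0)⁻¹ = D.gi := by
  rw [gi, (D.gu_comm _ _ _ _).eq, mul_inv_cancel_right]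

/-- The quaternion subgroups of order 8 of `S`. -/
theorem q8_in (Q : Subgroup G) (hQS : Q ≤ S) (e : Q ≃* QuaternionGroup 2) :
    ∃ a : ℤ, D.gi ∈ Q ∧ D.gq a ∈ Q ∧
      ∀ g ∈ Q, ∃ t : ℤ, g = D.gi ^ t ∨ g = D.gi ^ t * D.gq a := by
  obtain ⟨hcard, huniq, h4, hcent, -, -⟩ := q8_facts e
  -- some element lies outside the base
  have hout : ∃ a b : ℤ, D.gu a b * D.gz ∈ Q := by
    by_contra hno
    push Not at hno
    have hsub : Q ≤ D.gbase := fun g hg => by
      obtain ⟨a, b, rfl | rfl⟩ := D.repr_G (hQS hg)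
      · exact D.gu_mem_base a b
      · exact absurd hg (hno a b)
    have hcomm : ∀ p q : Q, p * q = q * p := fun p q =>
      Subtype.ext (D.gbase_comm (hsub p.2) (hsub q.2)).eq
    have h1 : ∀ p q : QuaternionGroup 2, p * q = q * p := fun p q => by
      have := congrArg e (hcomm (e.symm p) (e.symm q))
      simpa using this
    have h2 := h1 (QuaternionGroup.a 1) (QuaternionGroup.xa 0)
    revert h2
    decide
  obtain ⟨a, b, hv⟩ := hout
  have hpow : ∀ g ∈ Q, g * g * (g * g) = 1 := fun g hg => by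
    have h := congrArg Subtype.val (h4 ⟨g, hg⟩)
    simp only [SubmonoidClass.coe_pow, OneMemClass.coe_one] at h
    rw [← h]; simp [pow_succ, mul_assoc]
  have hcen : ∀ g ∈ Q, g * g = 1 → ∀ q ∈ Q, Commute g q := fun g hg hgg q hq =>
    congrArg Subtype.val (hcent ⟨g, hg⟩ (Subtype.ext hgg) ⟨q, hq⟩)
  have huniq' : ∀ g ∈ Q, ∀ g' ∈ Q, g * g = 1 → g' * g' = 1 → g ≠ 1 → g' ≠ 1 → g = g' :=
    fun g hg g' hg' h1 h2 h3 h4 =>
      congrArg Subtype.val (huniq ⟨g, hg⟩ ⟨g', hg'⟩ (Subtype.ext h1) (Subtype.ext h2)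
        (fun h => h3 (congrArg Subtype.val h)) (fun h => h4 (congrArg Subtype.val h)))
  set v := D.gu a b * D.gz with hv'
  -- `v` is not an involution
  have hv1 : v * v ≠ 1 := by
    intro h
    have hQW : ∀ g ∈ Q, ∀ g' ∈ Q, Commute g g' := by
      have hCS : ∀ g ∈ Q, ∃ t : ℤ, g = D.gu t t ∨ g = D.gu t t * v := by
        intro g hg
        obtain ⟨c, d, rfl | rfl⟩ := D.repr_G (hQS hg)
        · have hc := (hcen v hv h _ hg).symm
          rw [D.commute_gu_guz_iff] at hc
          exact ⟨d, Or.inl ((D.gu_eq_iff _ _ _ _).2 ⟨hc, by simp⟩)⟩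
        · have hc := ((hcen v hv h _ (mul_mem hg (inv_mem hv)))).symm
          have e : D.gu c d * D.gz * v⁻¹ = D.gu (c - a) (d - b) := by
            rw [hv', mul_inv_rev, mul_assoc, mul_inv_cancel_left, D.gu_inv, D.gu_mul,
              sub_eq_add_neg, sub_eq_add_neg]
          rw [e, D.commute_gu_guz_iff] at hc
          refine ⟨d - b, Or.inr ?_⟩
          rw [← (D.gu_eq_iff (c - a) (d - b) (d - b) (d - b)).2 ⟨hc, by simp⟩, ← e,
            inv_mul_cancel_right]
      intro g hg g' hg'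
      have hvS : v ∈ S := hQS hv
      obtain ⟨t, rfl | rfl⟩ := hCS g hg <;> obtain ⟨t', rfl | rfl⟩ := hCS g' hg'
      · exact D.gu_comm _ _ _ _
      · exact (D.gu_comm _ _ _ _).mul_right (D.diag_commute t hvS)
      · exact ((D.gu_comm _ _ _ _).mul_right (D.diag_commute t' hvS)).symm
      · exact ((D.gu_comm _ _ _ _).mul_right (D.diag_commute t hvS)).mul_left
          ((D.diag_commute t' hvS).symm.mul_right (Commute.refl v))
    have h1 : ∀ p q : QuaternionGroup 2, p * q = q * p := fun p q => by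
      have := congrArg e (Subtype.ext (hQW _ (e.symm p).2 _ (e.symm q).2).eq :
        e.symm p * e.symm q = e.symm q * e.symm p)
      simpa using this
    have h2 := h1 (QuaternionGroup.a 1) (QuaternionGroup.xa 0)
    revert h2
    decide
  have hw : v * v = D.gw := by
    have h := hpow v hv
    rw [hv', D.guz_mul_guz] at h hv1 ⊢
    rw [D.gu_mul, D.gu_eq_one_iff] at h
    have hh : (D.h : ℤ) ∣ a + b := by
      have h' := h.1
      rwa [← two_mul, Int.mul_dvd_mul_iff_left (by norm_num)] at h'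
    rcases D.h_cases hh with h' | h'
    · exact absurd ((D.gu_eq_one_iff _ _).2 ⟨h', by rwa [add_comm]⟩) hv1
    · exact (D.gu_eq_iff _ _ _ _).2 ⟨h', by rwa [add_comm b a]⟩
  have hveq : v = D.gq a := by
    have hvv := hw
    rw [hv', D.guz_mul_guz, gw, D.gu_eq_iff] at hvv
    rw [hv', gq, mul_left_inj, D.gu_eq_iff]
    refine ⟨by simp, ?_⟩
    rw [show b - ((D.h : ℤ) - a) = b + a - D.h by ring]
    exact hvv.2
  have hq : D.gq a ∈ Q := hveq ▸ hv
  have hwQ : D.gw ∈ Q := hw ▸ mul_mem hv hv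
  -- the part inside the base
  have hbase : ∀ g ∈ Q, g ∈ D.gbase → ∃ t : ℤ, g = D.gi ^ t ∨ g = D.gc ∨ g = D.gc⁻¹ := by
    intro g hg hgB
    by_cases h2 : g * g = 1
    · by_cases h1 : g = 1
      · exact ⟨0, Or.inl (by rw [h1, zpow_zero])⟩
      · exact ⟨2, Or.inl (by
          rw [huniq' g hg D.gw hwQ h2 (mul_self_of_orderOf_two D.orderOf_gw) h1 D.gw_ne_one,
            zpow_two, D.gi_sq])⟩
    · have hsq : g * g = D.gw :=
        huniq' _ (mul_mem hg hg) D.gw hwQ (hpow g hg) (mul_self_of_orderOf_two D.orderOf_gw) h2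
          D.gw_ne_one
      rcases D.base_sq_cases hgB hsq with h | h | h | h
      · exact ⟨0, Or.inr (Or.inl h)⟩
      · exact ⟨0, Or.inr (Or.inr h)⟩
      · exact ⟨1, Or.inl (by rw [h, zpow_one])⟩
      · exact ⟨-1, Or.inl (by rw [h, zpow_neg_one])⟩
  -- `gc` commutes with everything, so it is not in `Q`
  have hnc : D.gc ∉ Q := by
    intro hc
    have hcc : ∀ p ∈ Q, Commute D.gc p := fun p hp => D.gc_commute (hQS hp)
    have hne : D.gc * D.gc ≠ 1 := by rw [D.gc_sq]; exact D.gw_ne_one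
    have h1 : ∀ p : QuaternionGroup 2, e ⟨D.gc, hc⟩ * p = p * e ⟨D.gc, hc⟩ := fun p => by
      have := congrArg e (Subtype.ext (hcc _ (e.symm p).2).eq :
        (⟨D.gc, hc⟩ : Q) * e.symm p = e.symm p * ⟨D.gc, hc⟩)
      simpa using this
    have h2 : ∀ r : QuaternionGroup 2, (∀ p, r * p = p * r) → r * r = 1 := by decide
    refine hne ?_
    have h3 := h2 _ h1
    rw [← map_mul, ← map_one e] at h3
    exact congrArg Subtype.val (e.injective h3)
  have hbase' : ∀ g ∈ Q, g ∈ D.gbase → ∃ t : ℤ, g = D.gi ^ t := by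
    intro g hg hgB
    obtain ⟨t, h | h | h⟩ := hbase g hg hgB
    · exact ⟨t, h⟩
    · exact absurd (h ▸ hg) hnc
    · exact absurd (inv_mem_iff.1 (h ▸ hg)) hnc
  have hlist : ∀ g ∈ Q, ∃ t : ℤ, g = D.gi ^ t ∨ g = D.gi ^ t * D.gq a := by
    intro g hg
    by_cases hgB : g ∈ D.gbase
    · obtain ⟨t, h⟩ := hbase' g hg hgB
      exact ⟨t, Or.inl h⟩
    · have hgq : g * (D.gq a)⁻¹ ∈ D.gbase := by
        obtain ⟨c, d, rfl | rfl⟩ := D.repr_G (hQS hg)
        · exact absurd (D.gu_mem_base c d) hgB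
        · rw [gq, mul_inv_rev, mul_assoc, mul_inv_cancel_left, D.gu_inv, D.gu_mul]
          exact D.gu_mem_base _ _
      obtain ⟨t, h⟩ := hbase' _ (mul_mem hg (inv_mem hq)) hgq
      exact ⟨t, Or.inr (by rw [← h, inv_mul_cancel_right])⟩
  refine ⟨a, ?_, hq, hlist⟩
  -- `gi` itself is in `Q`
  by_contra hi
  have hsub : ∀ g ∈ Q, g ∈ Subgroup.zpowers (D.gq a) := by
    have hzi : ∀ t : ℤ, D.gi ^ t ∈ Q → D.gi ^ t ∈ Subgroup.zpowers (D.gq a) := by
      intro t ht
      rcases Int.even_or_odd t with ⟨c, rfl⟩ | ⟨c, rfl⟩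
      · rw [← two_mul, zpow_mul, zpow_two, D.gi_sq, ← D.gq_sq a]
        exact Subgroup.zpow_mem _ (mul_mem (Subgroup.mem_zpowers _) (Subgroup.mem_zpowers _)) c
      · refine absurd ?_ hi
        rw [zpow_add_one, zpow_mul, zpow_two, D.gi_sq] at ht
        exact (Q.mul_mem_cancel_left (Q.zpow_mem hwQ c)).1 ht
    intro g hg
    obtain ⟨t, rfl | rfl⟩ := hlist g hg
    · exact hzi t hg
    · exact mul_mem (hzi t ((Q.mul_mem_cancel_right hq).1 hg)) (Subgroup.mem_zpowers _)
  have h8 : Nat.card Q ≤ Nat.card (Subgroup.zpowers (D.gq a)) := Subgroup.card_le_of_le hsub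
  rw [hcard, Nat.card_zpowers, D.orderOf_of_sq (D.gq_sq a)] at h8
  omega

/-- The centraliser of a quaternion subgroup in `S` is the centre. -/
theorem centralizer_q8 {a : ℤ} {g : G} (hg : g ∈ S) (h1 : Commute g D.gi)
    (h2 : Commute g (D.gq a)) : g ∈ D.gcent := by
  have hB := D.centralizer_offdiag (a := D.k) (b := -D.k) D.not_dvd_two_k hg h1
  obtain ⟨c, d, rfl⟩ := D.mem_gbase_iff.1 hB
  exact D.mem_gcent_iff.2 ⟨d, (D.gu_eq_iff _ _ _ _).2
    ⟨(D.commute_gu_guz_iff c d a _).1 h2, by simp⟩⟩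

theorem conj_mem_sup {n : G} {A B : Subgroup G} (hA : n ∈ Subgroup.normalizer (A : Set G))
    (hB : n ∈ Subgroup.normalizer (B : Set G)) :
    n ∈ Subgroup.normalizer ((A ⊔ B : Subgroup G) : Set G) := by
  have key : ∀ m : G, m ∈ Subgroup.normalizer (A : Set G) → m ∈ Subgroup.normalizer (B : Set G) →
      ∀ v ∈ A ⊔ B, m * v * m⁻¹ ∈ A ⊔ B := by
    intro m hA hB v hv
    have hle : A ⊔ B ≤ (A ⊔ B).comap (MulAut.conj m).toMonoidHom :=
      sup_le (fun v hv => Subgroup.mem_sup_left ((Subgroup.mem_normalizer_iff.1 hA v).1 hv))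
        (fun v hv => Subgroup.mem_sup_right ((Subgroup.mem_normalizer_iff.1 hB v).1 hv))
    exact hle hv
  refine Subgroup.mem_normalizer_iff.2 fun v => ⟨key n hA hB v, fun h => ?_⟩
  have := key n⁻¹ (inv_mem hA) (inv_mem hB) _ h
  rwa [show n⁻¹ * (n * v * n⁻¹) * n⁻¹⁻¹ = v by group] at this

variable (Q : Subgroup G)

/-- Elements normalising `Q` and `Z(S)` centralise `Z(S)`. -/
theorem centralizes_center (hQS : Q ≤ S) (e : Q ≃* QuaternionGroup 2) {n : G}
    (hnQ : n ∈ Subgroup.normalizer (Q : Set G))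
    (hnZ : n ∈ Subgroup.normalizer (D.gcent : Set G)) {c : G} (hc : c ∈ D.gcent) :
    Commute n c := by
  haveI : Fact (Nat.Prime 2) := ⟨Nat.prime_two⟩
  obtain ⟨a, hi, hq, hQ⟩ := D.q8_in Q hQS e
  let K : Subgroup G := Subgroup.normalizer (Q : Set G) ⊓ Subgroup.normalizer (D.gcent : Set G)
  haveI : IsMulCommutative D.gcent :=
    ⟨⟨fun p q => Subtype.ext (D.gcent_commute p.2 (D.gcent_le q.2)).eq⟩⟩
  have hw : ∀ m ∈ K, Commute m D.gw := by
    intro m hm
    have hmem : m * D.gw * m⁻¹ ∈ D.gcent :=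
      (Subgroup.mem_normalizer_iff.1 hm.2 _).1 (D.mem_gcent_iff.2 ⟨_, rfl⟩)
    have hord : orderOf (m * D.gw * m⁻¹) = 2 := by rw [orderOf_conj, D.orderOf_gw]
    obtain ⟨t, ht⟩ := D.mem_gcent_iff.1 hmem
    rcases D.base_involution_cases (D.gcent_le_base hmem) hord with h | h | h
    · exact mul_inv_eq_iff_eq_mul.1 h
    · rw [ht, ge, D.gu_eq_iff] at h
      have := dvd_sub h.1 h.2
      rw [show t - (D.h : ℤ) - (t - 0) = -(D.h : ℤ) by ring, dvd_neg] at this
      exact absurd this D.not_dvd_h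
    · rw [ht, ge', D.gu_eq_iff] at h
      have := dvd_sub h.2 h.1
      rw [show t - (D.h : ℤ) - (t - 0) = -(D.h : ℤ) by ring, dvd_neg] at this
      exact absurd this D.not_dvd_h
  have hodd : ∀ m ∈ K, (orderOf m).Coprime 2 → Commute m c := by
    intro m hm hm2
    refine Transfer.commute_of_commute_omega (S.2.to_le D.gcent_le) hm2 hm.2 (fun v hv hv2 => ?_) c hc
    by_cases hv1 : v = 1
    · rw [hv1]; exact Commute.one_right m
    obtain ⟨t, rfl⟩ := D.mem_gcent_iff.1 hv
    rcases D.base_involution_cases (D.gu_mem_base t t)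
        (orderOf_two_of_mul_self (by rw [← sq]; exact hv2) hv1) with h | h | h
    · rw [h]; exact hw m hm
    · rw [ge, D.gu_eq_iff] at h
      have := dvd_sub h.1 h.2
      rw [show t - (D.h : ℤ) - (t - 0) = -(D.h : ℤ) by ring, dvd_neg] at this
      exact absurd this D.not_dvd_h
    · rw [ge', D.gu_eq_iff] at h
      have := dvd_sub h.2 h.1
      rw [show t - (D.h : ℤ) - (t - 0) = -(D.h : ℤ) by ring, dvd_neg] at this
      exact absurd this D.not_dvd_h
  have htwo : ∀ m ∈ K, (∃ j, orderOf m ∣ 2 ^ j) → Commute m c := by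
    rintro m hm ⟨j, hj⟩
    obtain ⟨i, -, hord⟩ := (Nat.dvd_prime_pow Nat.prime_two).1 hj
    have hR : IsPGroup 2 ↥(Subgroup.zpowers m ⊔ (Q ⊔ D.gcent)) :=
      (IsPGroup.of_card (n := i) (G := Subgroup.zpowers m)
        (by rw [Nat.card_zpowers, hord])).to_sup_of_normal_right'
        (S.2.to_le (sup_le hQS D.gcent_le))
        (Subgroup.zpowers_le.2 (conj_mem_sup hm.1 hm.2))
    obtain ⟨g, -, hg⟩ := exists_conj_le_sylow S ⊤ le_top hR le_top
    set Q' := Q.map (MulAut.conj g).toMonoidHom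
    have hQ'S : Q' ≤ S := by
      rintro _ ⟨v, hv, rfl⟩
      exact hg v (Subgroup.mem_sup_right (Subgroup.mem_sup_left hv))
    obtain ⟨a', hi', hq', -⟩ := D.q8_in Q' hQ'S
      ((Subgroup.equivMapOfInjective Q _ (MulAut.conj g).injective).symm.trans e)
    have hcS : g * c * g⁻¹ ∈ S := hg c (Subgroup.mem_sup_right (Subgroup.mem_sup_right hc))
    have hcQ : ∀ v ∈ Q', Commute (g * c * g⁻¹) v := by
      rintro _ ⟨v, hv, rfl⟩
      exact (D.gcent_commute hc (hQS hv)).map (MulAut.conj g).toMonoidHom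
    have hcent := D.centralizer_q8 hcS (hcQ _ hi') (hcQ _ hq')
    have h := (D.gcent_commute hcent (hg m (Subgroup.mem_sup_left (Subgroup.mem_zpowers m)))).symm
    have := h.map (MulAut.conj g⁻¹).toMonoidHom
    simpa [mul_assoc] using this
  obtain ⟨p, q, hp, hq', hpq, hp2, hq2⟩ := Transfer.exists_pPart_mul (p := 2) n
  have hnK : n ∈ K := ⟨hnQ, hnZ⟩
  rw [← hpq]
  exact (htwo p (K.zpowers_le.2 hnK hp) hp2).mul_left (hodd q (K.zpowers_le.2 hnK hq') hq2)

/-- Elements of `Q * Z(S)`. -/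
theorem mem_V (hQS : Q ≤ S) {g : G} (hg : g ∈ Q ⊔ D.gcent) :
    ∃ q ∈ Q, ∃ c ∈ D.gcent, g = q * c := by
  let W : Subgroup G :=
    { carrier := {g | ∃ q ∈ Q, ∃ c ∈ D.gcent, g = q * c}
      one_mem' := ⟨1, one_mem _, 1, one_mem _, (one_mul 1).symm⟩
      mul_mem' := by
        rintro _ _ ⟨q, hq, c, hc, rfl⟩ ⟨q', hq', c', hc', rfl⟩
        refine ⟨q * q', mul_mem hq hq', c * c', mul_mem hc hc', ?_⟩
        rw [mul_assoc q c, ← mul_assoc c q', (D.gcent_commute hc (hQS hq')).eq]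
        group
      inv_mem' := by
        rintro _ ⟨q, hq, c, hc, rfl⟩
        exact ⟨q⁻¹, inv_mem hq, c⁻¹, inv_mem hc, by
          rw [mul_inv_rev, ((D.gcent_commute hc (hQS hq)).inv_inv).eq]⟩ }
  have hle : Q ⊔ D.gcent ≤ W :=
    sup_le (fun q hq => ⟨q, hq, 1, one_mem _, (mul_one q).symm⟩)
      (fun c hc => ⟨1, one_mem _, c, hc, (one_mul c).symm⟩)
  exact hle hg

theorem normalizer_V_le (hQS : Q ≤ S) (e : Q ≃* QuaternionGroup 2) :
    Subgroup.normalizer ((Q ⊔ D.gcent : Subgroup G) : Set G) ≤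
      Subgroup.normalizer (Q : Set G) ⊓ Subgroup.normalizer (D.gcent : Set G) := by
  obtain ⟨a, hi, hq, hQ⟩ := D.q8_in Q hQS e
  set V := Q ⊔ D.gcent
  have hVS : V ≤ S := sup_le hQS D.gcent_le
  have hcen : ∀ v ∈ V, Commute v D.gi → Commute v (D.gq a) → v ∈ D.gcent := fun v hv h1 h2 =>
    D.centralizer_q8 (hVS hv) h1 h2
  have hZ : ∀ n ∈ Subgroup.normalizer (V : Set G), ∀ c ∈ D.gcent, n * c * n⁻¹ ∈ D.gcent := by
    intro n hn c hc
    have hmem := (Subgroup.mem_normalizer_iff.1 hn c).1 (Subgroup.mem_sup_right hc)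
    have hall : ∀ v ∈ V, Commute (n * c * n⁻¹) v := by
      intro v hv
      have hv' : n⁻¹ * v * n ∈ V := (Subgroup.mem_normalizer_iff''.1 hn v).1 hv
      have := (D.gcent_commute hc (hVS hv')).map (MulAut.conj n).toMonoidHom
      simpa [mul_assoc] using this
    exact hcen _ hmem (hall _ (Subgroup.mem_sup_left hi)) (hall _ (Subgroup.mem_sup_left hq))
  have hQ' : ∀ n ∈ Subgroup.normalizer (V : Set G), ∀ q ∈ Q, n * q * n⁻¹ ∈ Q := by
    intro n hn
    have key : ∀ r ∈ Q, r * r = D.gw → n * r * n⁻¹ ∈ Q := by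
      intro r hr hrr
      obtain ⟨q', hq', c', hc', he⟩ :=
        D.mem_V Q hQS ((Subgroup.mem_normalizer_iff.1 hn r).1 (Subgroup.mem_sup_left hr))
      have hwn : n * D.gw * n⁻¹ = D.gw := by
        have h := hZ n hn D.gw (D.mem_gcent_iff.2 ⟨_, rfl⟩)
        obtain ⟨t, ht⟩ := D.mem_gcent_iff.1 h
        rcases D.base_involution_cases (D.gcent_le_base h)
            (by rw [orderOf_conj, D.orderOf_gw]) with h1 | h1 | h1
        · exact h1
        · rw [ht, ge, D.gu_eq_iff] at h1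
          have := dvd_sub h1.1 h1.2
          rw [show t - (D.h : ℤ) - (t - 0) = -(D.h : ℤ) by ring, dvd_neg] at this
          exact absurd this D.not_dvd_h
        · rw [ht, ge', D.gu_eq_iff] at h1
          have := dvd_sub h1.2 h1.1
          rw [show t - (D.h : ℤ) - (t - 0) = -(D.h : ℤ) by ring, dvd_neg] at this
          exact absurd this D.not_dvd_h
      have hsq : q' * q' * (c' * c') = D.gw := by
        calc q' * q' * (c' * c') = q' * c' * (q' * c') :=
              (D.gcent_commute hc' (hQS hq')).symm.mul_mul_mul_comm q' c'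
          _ = n * (r * r) * n⁻¹ := by rw [← he]; group
          _ = D.gw := by rw [hrr, hwn]
      rw [he]
      by_cases hq2 : q' * q' = 1
      · -- `q'` is central, so the image would be central in `V`
        exfalso
        have hcentral : ∀ v ∈ V, Commute (n * r * n⁻¹) v := by
          intro v hv
          rw [he]
          obtain ⟨q'', hq'', c'', hc'', rfl⟩ := D.mem_V Q hQS hv
          have h2 : Commute q' q'' :=
            congrArg Subtype.val ((q8_facts e).2.2.2.1 ⟨q', hq'⟩ (Subtype.ext hq2) ⟨q'', hq''⟩)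
          exact (h2.mul_right (D.gcent_commute hc'' (hQS hq')).symm).mul_left
            (D.gcent_commute hc' (hVS (mul_mem (Subgroup.mem_sup_left hq'')
              (Subgroup.mem_sup_right hc''))))
        -- hence `r` would be central in `V`
        have hr' : ∀ v ∈ V, Commute r v := by
          intro v hv
          have := (hcentral _ ((Subgroup.mem_normalizer_iff.1 hn v).1 hv)).map
            (MulAut.conj n⁻¹).toMonoidHom
          simpa [mul_assoc] using this
        have hrc := hcen r (Subgroup.mem_sup_left hr) (hr' _ (Subgroup.mem_sup_left hi))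
          (hr' _ (Subgroup.mem_sup_left hq))
        obtain ⟨t, rfl | rfl⟩ := hQ r hr
        · rcases Int.even_or_odd t with ⟨s, rfl⟩ | ⟨s, rfl⟩
          · rw [← two_mul, zpow_mul, zpow_two, D.gi_sq, ← (Commute.refl D.gw).mul_zpow,
              mul_self_of_orderOf_two D.orderOf_gw, one_zpow] at hrr
            exact D.gw_ne_one hrr.symm
          · have hgi : D.gi ∈ D.gcent := by
              rw [zpow_add_one, zpow_mul, zpow_two, D.gi_sq] at hrc
              exact (D.gcent.mul_mem_cancel_left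
                (D.gcent.zpow_mem (D.mem_gcent_iff.2 ⟨_, rfl⟩) s)).1 hrc
            obtain ⟨s', hs'⟩ := D.mem_gcent_iff.1 hgi
            refine D.not_dvd_two_k ?_
            obtain ⟨h1, h2⟩ := (D.gu_eq_iff _ _ _ _).1 hs'
            rw [show D.k - -D.k = (D.k - s') - (-D.k - s') by ring]
            exact dvd_sub h1 h2
        · exact D.guz_notMem _ _ ((D.gbase.mul_mem_cancel_left
            (D.gbase.zpow_mem (D.gu_mem_base _ _) t)).1 (D.gcent_le_base hrc))
      · -- `c' ^ 2 = 1`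
        have hq'w : q' * q' = D.gw := by
          have hwQ : D.gw ∈ Q := hrr ▸ mul_mem hr hr
          exact congrArg Subtype.val ((q8_facts e).2.1 ⟨q' * q', mul_mem hq' hq'⟩ ⟨D.gw, hwQ⟩
            (Subtype.ext (by
              have h := congrArg Subtype.val ((q8_facts e).2.2.1 ⟨q', hq'⟩)
              simp only [SubmonoidClass.coe_pow, OneMemClass.coe_one] at h
              show q' * q' * (q' * q') = 1
              rw [← h]; simp [pow_succ, mul_assoc]))
            (Subtype.ext (mul_self_of_orderOf_two D.orderOf_gw))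
            (fun h => hq2 (congrArg Subtype.val h)) (fun h => D.gw_ne_one (congrArg Subtype.val h)))
        rw [hq'w, mul_eq_left] at hsq
        refine mul_mem hq' ?_
        by_cases hc1 : c' = 1
        · rw [hc1]; exact one_mem _
        obtain ⟨t, rfl⟩ := D.mem_gcent_iff.1 hc'
        rcases D.base_involution_cases (D.gu_mem_base t t) (orderOf_two_of_mul_self hsq hc1)
          with h1 | h1 | h1
        · rw [h1]; exact hrr ▸ mul_mem hr hr
        · rw [ge, D.gu_eq_iff] at h1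
          have := dvd_sub h1.1 h1.2
          rw [show t - (D.h : ℤ) - (t - 0) = -(D.h : ℤ) by ring, dvd_neg] at this
          exact absurd this D.not_dvd_h
        · rw [ge', D.gu_eq_iff] at h1
          have := dvd_sub h1.2 h1.1
          rw [show t - (D.h : ℤ) - (t - 0) = -(D.h : ℤ) by ring, dvd_neg] at this
          exact absurd this D.not_dvd_h
    intro q hq'
    obtain ⟨t, rfl | rfl⟩ := hQ q hq'
    · rw [← conj_zpow]; exact Q.zpow_mem (key _ hi D.gi_sq) t
    · rw [show n * (D.gi ^ t * D.gq a) * n⁻¹ = n * D.gi ^ t * n⁻¹ * (n * D.gq a * n⁻¹) by group,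
        ← conj_zpow]
      exact mul_mem (Q.zpow_mem (key _ hi D.gi_sq) t) (key _ hq (D.gq_sq a))
  intro n hn
  have hn' : n⁻¹ ∈ Subgroup.normalizer (V : Set G) := inv_mem hn
  refine ⟨Subgroup.mem_normalizer_iff.2 fun q => ⟨hQ' n hn q, fun h => ?_⟩,
    Subgroup.mem_normalizer_iff.2 fun c => ⟨hZ n hn c, fun h => ?_⟩⟩
  · have := hQ' _ hn' _ h
    rwa [show n⁻¹ * (n * q * n⁻¹) * n⁻¹⁻¹ = q by group] at this
  · have := hZ _ hn' _ h
    rwa [show n⁻¹ * (n * c * n⁻¹) * n⁻¹⁻¹ = c by group] at this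

/-- The automiser of `V = Q * Z(S)`. -/
theorem V_automiser (hQS : Q ≤ S) (e : Q ≃* QuaternionGroup 2) :
    (((Q ⊔ D.gcent) ⊔ Subgroup.centralizer ((Q ⊔ D.gcent : Subgroup G) : Set G)).relIndex
        (Subgroup.normalizer ((Q ⊔ D.gcent : Subgroup G) : Set G)) = 2 ∨
      ((Q ⊔ D.gcent) ⊔ Subgroup.centralizer ((Q ⊔ D.gcent : Subgroup G) : Set G)).relIndex
        (Subgroup.normalizer ((Q ⊔ D.gcent : Subgroup G) : Set G)) = 6) ∧
    (((Q ⊔ D.gcent) ⊔ Subgroup.centralizer ((Q ⊔ D.gcent : Subgroup G) : Set G)).relIndex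
        (Subgroup.normalizer ((Q ⊔ D.gcent : Subgroup G) : Set G)) = 6 ↔ IsConj D.gi (D.gq 0)) ∧
    (((Q ⊔ D.gcent) ⊔ Subgroup.centralizer ((Q ⊔ D.gcent : Subgroup G) : Set G)).relIndex
        (Subgroup.normalizer ((Q ⊔ D.gcent : Subgroup G) : Set G)) = 6 →
      ∀ p ∈ Q, ∀ q ∈ Q, orderOf p = 4 → orderOf q = 4 → ∃ n : G,
        n ∈ Subgroup.normalizer (Q : Set G) ∧ (∀ c ∈ D.gcent, Commute n c) ∧
          (n ^ 2 * p * (n ^ 2)⁻¹ = q ∨ n ^ 2 * p * (n ^ 2)⁻¹ = q⁻¹)) := by
  haveI : Fact (Nat.Prime 2) := ⟨Nat.prime_two⟩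
  obtain ⟨a, ha, hq, hQ⟩ := D.q8_in Q hQS e
  have A := D.axes a
  set V := Q ⊔ D.gcent with hV
  set N := Subgroup.normalizer (V : Set G) with hN
  have hNQ := D.normalizer_V_le Q hQS e
  have hVS : V ≤ S := sup_le hQS D.gcent_le
  letI : MulAction N (Subgroup G) :=
    MulAction.compHom (Subgroup G) (MulAut.conj.comp N.subtype)
  have hact : ∀ (n : N) (q : G),
      n • Subgroup.zpowers q = Subgroup.zpowers ((n : G) * q * (n : G)⁻¹) :=
    fun n q => conj_smul_zpowers (n : G) q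
  have hpm : ∀ (n : N) (q : G), orderOf q = 4 → (n • Subgroup.zpowers q = Subgroup.zpowers q ↔
      ((n : G) * q * (n : G)⁻¹ = q ∨ (n : G) * q * (n : G)⁻¹ = q⁻¹)) := by
    intro n q hq4
    rw [hact]
    constructor
    · intro h
      exact mem_zpowers_of_orderOf_four hq4 (by rw [orderOf_conj, hq4])
        (h ▸ Subgroup.mem_zpowers _)
    · rintro (h | h)
      · rw [h]
      · rw [h, Subgroup.zpowers_inv]
  have hinv : ∀ n : N, ∀ p, (p = Subgroup.zpowers D.gi ∨ p = Subgroup.zpowers (D.gq a) ∨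
      p = Subgroup.zpowers (D.gi * D.gq a)) → (n • p = Subgroup.zpowers D.gi ∨
        n • p = Subgroup.zpowers (D.gq a) ∨ n • p = Subgroup.zpowers (D.gi * D.gq a)) := by
    intro n p hp
    obtain ⟨q, hqQ, hq4, rfl⟩ : ∃ q ∈ Q, orderOf q = 4 ∧ p = Subgroup.zpowers q := by
      rcases hp with rfl | rfl | rfl
      · exact ⟨_, ha, A.orda, rfl⟩
      · exact ⟨_, hq, A.ordb, rfl⟩
      · exact ⟨_, mul_mem ha hq, A.ordab, rfl⟩
    rw [hact]
    exact A.axis_cases hQ ((Subgroup.mem_normalizer_iff.1 (hNQ n.2).1 q).1 hqQ)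
      (by rw [orderOf_conj, hq4])
  have hK : ∀ n : N, n ∈ (V ⊔ Subgroup.centralizer (V : Set G)).subgroupOf N ↔
      n • Subgroup.zpowers D.gi = Subgroup.zpowers D.gi ∧
      n • Subgroup.zpowers (D.gq a) = Subgroup.zpowers (D.gq a) ∧
      n • Subgroup.zpowers (D.gi * D.gq a) = Subgroup.zpowers (D.gi * D.gq a) := by
    intro n
    rw [Subgroup.mem_subgroupOf]
    constructor
    · intro hn
      -- each element of `V` or `C(V)` fixes the three axes
      have hfix : ∀ q : G, orderOf q = 4 → q ∈ Q →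
          (∀ r ∈ Q, r * q * r⁻¹ = q ∨ r * q * r⁻¹ = q⁻¹) →
            (n : G) * q * (n : G)⁻¹ = q ∨ (n : G) * q * (n : G)⁻¹ = q⁻¹ := by
        intro q hq4 hqQ hr
        let W : Subgroup G :=
          { carrier := {g | g * q * g⁻¹ = q ∨ g * q * g⁻¹ = q⁻¹}
            one_mem' := Or.inl (by group)
            mul_mem' := by
              intro g g' hg hg'
              show g * g' * q * (g * g')⁻¹ = q ∨ g * g' * q * (g * g')⁻¹ = q⁻¹
              rw [show g * g' * q * (g * g')⁻¹ = g * (g' * q * g'⁻¹) * g⁻¹ by group]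
              rcases hg' with h | h <;> rw [h]
              · exact hg
              · rw [← conj_inv]
                rcases hg with h' | h' <;> rw [h']
                · exact Or.inr rfl
                · exact Or.inl (inv_inv q)
            inv_mem' := by
              intro g hg
              show g⁻¹ * q * g⁻¹⁻¹ = q ∨ g⁻¹ * q * g⁻¹⁻¹ = q⁻¹
              rw [inv_inv]
              rcases hg with h | h
              · left; conv_lhs => rw [← h]
                group
              · exact Or.inr (inverts_symm h) }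
        have hle : V ⊔ Subgroup.centralizer (V : Set G) ≤ W := by
          refine sup_le (fun v hv => ?_) (fun v hv => Or.inl ?_)
          · obtain ⟨r, hrQ, c, hc, rfl⟩ := D.mem_V Q hQS hv
            exact W.mul_mem (hr r hrQ) (Or.inl (by
              rw [(D.gcent_commute hc (hQS hqQ)).eq, mul_inv_cancel_right]))
          · rw [← Subgroup.mem_centralizer_iff.1 hv q (Subgroup.mem_sup_left hqQ),
              mul_inv_cancel_right]
        exact hle hn
      have hQrel : ∀ q : G, (D.gi * q * D.gi⁻¹ = q ∨ D.gi * q * D.gi⁻¹ = q⁻¹) →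
          (D.gq a * q * (D.gq a)⁻¹ = q ∨ D.gq a * q * (D.gq a)⁻¹ = q⁻¹) →
            ∀ r ∈ Q, r * q * r⁻¹ = q ∨ r * q * r⁻¹ = q⁻¹ := by
        intro q h1 h2 r hr
        have hpow : ∀ t : ℤ, D.gi ^ t * q * (D.gi ^ t)⁻¹ = q ∨
            D.gi ^ t * q * (D.gi ^ t)⁻¹ = q⁻¹ := by
          intro t
          induction t using Int.induction_on with
          | zero => left; group
          | succ i ih =>
            rw [zpow_add_one, show D.gi ^ (i : ℤ) * D.gi * q * (D.gi ^ (i : ℤ) * D.gi)⁻¹ =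
              D.gi ^ (i : ℤ) * (D.gi * q * D.gi⁻¹) * (D.gi ^ (i : ℤ))⁻¹ by group]
            rcases h1 with h | h <;> rw [h]
            · exact ih
            · rw [← conj_inv]
              rcases ih with h' | h' <;> rw [h']
              · exact Or.inr rfl
              · exact Or.inl (inv_inv q)
          | pred i ih =>
            rw [zpow_sub_one, show D.gi ^ (-(i : ℤ)) * D.gi⁻¹ * q *
              (D.gi ^ (-(i : ℤ)) * D.gi⁻¹)⁻¹ =
              D.gi ^ (-(i : ℤ)) * (D.gi⁻¹ * q * D.gi) * (D.gi ^ (-(i : ℤ)))⁻¹ by group]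
            rcases h1 with h | h
            · have h' : D.gi⁻¹ * q * D.gi = q := by
                calc D.gi⁻¹ * q * D.gi = D.gi⁻¹ * (D.gi * q * D.gi⁻¹) * D.gi := by rw [h]
                  _ = q := by group
              rw [h']; exact ih
            · rw [inverts_symm h, ← conj_inv]
              rcases ih with h' | h' <;> rw [h']
              · exact Or.inr rfl
              · exact Or.inl (inv_inv q)
        obtain ⟨t, rfl | rfl⟩ := hQ r hr
        · exact hpow t
        · rw [show D.gi ^ t * D.gq a * q * (D.gi ^ t * D.gq a)⁻¹ =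
            D.gi ^ t * (D.gq a * q * (D.gq a)⁻¹) * (D.gi ^ t)⁻¹ by group]
          rcases h2 with h | h <;> rw [h]
          · exact hpow t
          · rw [← conj_inv]
            rcases hpow t with h' | h' <;> rw [h']
            · exact Or.inr rfl
            · exact Or.inl (inv_inv q)
      refine ⟨(hpm n _ A.orda).2 (hfix _ A.orda ha (hQrel _ (Or.inl (by group)) (Or.inr A.rel))),
        (hpm n _ A.ordb).2 (hfix _ A.ordb hq (hQrel _ (Or.inr A.ab_conj) (Or.inl (by group)))),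
        (hpm n _ A.ordab).2 (hfix _ A.ordab (mul_mem ha hq) (hQrel _ (Or.inr ?_) (Or.inr ?_)))⟩
      · calc D.gi * (D.gi * D.gq a) * D.gi⁻¹ = D.gi * (D.gi * D.gq a * D.gi⁻¹) := by group
          _ = D.gi * (D.gq a)⁻¹ := by rw [A.ab_conj]
          _ = (D.gi * D.gq a)⁻¹ := by
            have h1 : D.gi * D.gq a = D.gq a * D.gi⁻¹ := by
              have h3 : D.gi = (D.gq a * D.gi * (D.gq a)⁻¹)⁻¹ := by rw [A.rel, inv_inv]
              calc D.gi * D.gq a = (D.gq a * D.gi * (D.gq a)⁻¹)⁻¹ * D.gq a := by rw [← h3]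
                _ = _ := by group
            rw [h1, mul_inv_rev, inv_inv]
      · rw [show D.gq a * (D.gi * D.gq a) * (D.gq a)⁻¹ = D.gq a * D.gi by group, mul_inv_rev]
        have h2 : (D.gq a)⁻¹ = D.gq a * D.gw := by
          apply inv_eq_of_mul_eq_one_right
          rw [← mul_assoc, D.gq_sq, mul_self_of_orderOf_two D.orderOf_gw]
        rw [h2, mul_assoc, ← D.gi_sq, mul_inv_cancel_right]
    · rintro ⟨h1, h2, -⟩
      obtain ⟨q, hqQ, hqc⟩ := A.mem_sup_centralizer ha hq hQ ((hpm n _ A.orda).1 h1)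
        ((hpm n _ A.ordb).1 h2)
      have hqV : q ∈ V := Subgroup.mem_sup_left hqQ
      have hqn : q * (n : G) ∈ N := mul_mem (Subgroup.le_normalizer hqV) n.2
      have hcV : q * (n : G) ∈ Subgroup.centralizer (V : Set G) := by
        intro v hv
        obtain ⟨r, hr, c, hc, rfl⟩ := D.mem_V Q hQS hv
        exact ((show Commute r (q * (n : G)) from hqc r hr).mul_left
          (D.centralizes_center Q hQS e (hNQ hqn).1 (hNQ hqn).2 hc).symm).eq
      have := Subgroup.mul_mem_sup (inv_mem hqV) hcV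
      rwa [inv_mul_cancel_left] at this
  have hnormS : ∀ (R : Subgroup G), R ≤ S → (R ≃* QuaternionGroup 2) →
      D.gu D.k 0 ∈ Subgroup.normalizer ((R ⊔ D.gcent : Subgroup G) : Set G) := by
    intro R hRS eR
    obtain ⟨b, hiR, hqR, hR⟩ := D.q8_in R hRS eR
    have hc : ∀ v ∈ R, D.gu D.k 0 * v * (D.gu D.k 0)⁻¹ ∈ R := by
      intro v hv
      obtain ⟨t, rfl | rfl⟩ := hR v hv
      · rw [← conj_zpow, D.swap_gi]; exact R.zpow_mem hiR t
      · rw [show D.gu D.k 0 * (D.gi ^ t * D.gq b) * (D.gu D.k 0)⁻¹ =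
          D.gu D.k 0 * D.gi ^ t * (D.gu D.k 0)⁻¹ *
            (D.gu D.k 0 * D.gq b * (D.gu D.k 0)⁻¹) by group, ← conj_zpow, D.swap_gi, D.swap_gq]
        exact R.mul_mem (R.zpow_mem hiR t) (R.mul_mem hiR hqR)
    refine conj_mem_sup ?_ ?_
    · have heq : R.map (MulAut.conj (D.gu D.k 0)).toMonoidHom = R :=
        Subgroup.eq_of_le_of_card_ge (by rintro _ ⟨r, hr, rfl⟩; exact hc r hr)
          (le_of_eq (Nat.card_congr (Subgroup.equivMapOfInjective R _
            (MulAut.conj (D.gu D.k 0)).injective).toEquiv))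
      refine Subgroup.mem_normalizer_iff.2 fun r => ⟨hc r, fun h => ?_⟩
      rw [← heq] at h
      obtain ⟨r', hr', e'⟩ := h
      exact (mul_left_cancel (mul_right_cancel (e' : D.gu D.k 0 * r' * (D.gu D.k 0)⁻¹ =
        D.gu D.k 0 * r * (D.gu D.k 0)⁻¹))) ▸ hr'
    · exact Subgroup.mem_normalizer_iff.2 fun v => ⟨fun hv => by
          rw [← (D.gcent_commute hv (D.gu_mem _ _)).eq, mul_inv_cancel_right]; exact hv,
        fun hv => by
          have h := (D.gcent_commute hv (D.gu_mem D.k 0)).eq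
          have e1 : v = D.gu D.k 0 * v * (D.gu D.k 0)⁻¹ := by
            calc v = (D.gu D.k 0)⁻¹ * (D.gu D.k 0 * v * (D.gu D.k 0)⁻¹ * D.gu D.k 0) := by group
              _ = _ := by rw [h]; group
          rw [e1]; exact hv⟩
  obtain ⟨hcases, hiff, hsq⟩ := three_point_action (N := N) (Subgroup.zpowers D.gi)
    (Subgroup.zpowers (D.gq a)) (Subgroup.zpowers (D.gi * D.gq a)) A.distinct.1 A.distinct.2.1
    A.distinct.2.2 hinv _ hK ⟨D.gu D.k 0, hnormS Q hQS e⟩
    (by rw [hact]; simp only [D.swap_gi]) (by rw [hact, D.swap_gq])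
  refine ⟨hcases, ?_, fun h6 p hp q' hq' hp4 hq4 => ?_⟩
  · rw [Subgroup.relIndex, hiff]
    constructor
    · rintro ⟨n, hn⟩
      have hmem : (n : G) * D.gi * (n : G)⁻¹ ∈ Q :=
        (Subgroup.mem_normalizer_iff.1 (hNQ n.2).1 _).1 ha
      have h4 : orderOf ((n : G) * D.gi * (n : G)⁻¹) = 4 := by rw [orderOf_conj, A.orda]
      have hc : IsConj D.gi ((n : G) * D.gi * (n : G)⁻¹) := isConj_iff.2 ⟨n, rfl⟩
      have hax := A.axis_cases hQ hmem h4
      rw [hact] at hn
      have key : ∀ r, orderOf r = 4 →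
          Subgroup.zpowers ((n : G) * D.gi * (n : G)⁻¹) = Subgroup.zpowers r →
            IsConj D.gi r := by
        intro r hr hz
        rcases mem_zpowers_of_orderOf_four hr h4 (hz ▸ Subgroup.mem_zpowers _) with h | h
        · exact h ▸ hc
        · have h' := (D.isConj_gi_inv).trans (isConj_iff.2 ⟨n, by
            rw [← conj_inv, h, inv_inv]⟩ : IsConj D.gi⁻¹ r)
          exact h'
      rcases hax with h | h | h
      · exact absurd h hn
      · exact (key _ A.ordb h).trans (D.isConj_gq a 0)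
      · have h2 := key _ A.ordab h
        rw [D.gi_mul_gq] at h2
        exact h2.trans (D.isConj_gq _ 0)
    · intro hconj
      obtain ⟨g, hg⟩ := isConj_iff.1 ((D.isConj_gq a 0).trans hconj.symm)
      have hnz : ∀ x : G, (x * D.gi * x⁻¹ = D.gi ∨ x * D.gi * x⁻¹ = D.gi⁻¹) →
          x ∈ Subgroup.normalizer ((Subgroup.zpowers D.gi : Subgroup G) : Set G) := by
        intro x hx
        refine Subgroup.mem_normalizer_iff.2 fun v => ⟨?_, ?_⟩
        · intro hv
          obtain ⟨t, rfl⟩ := Subgroup.mem_zpowers_iff.1 hv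
          rw [← conj_zpow]
          rcases hx with h | h <;> rw [h]
          · exact hv
          · rw [inv_zpow]; exact inv_mem hv
        · intro hv
          obtain ⟨t, ht⟩ := Subgroup.mem_zpowers_iff.1 hv
          have e1 : v = x⁻¹ * D.gi ^ t * x := by rw [ht]; group
          rcases hx with h | h
          · refine Subgroup.mem_zpowers_iff.2 ⟨t, ?_⟩
            rw [e1]; conv_rhs => rw [← h, conj_zpow]
            group
          · refine Subgroup.mem_zpowers_iff.2 ⟨-t, ?_⟩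
            rw [e1, zpow_neg, ← inv_zpow]; conv_lhs => rw [← inverts_symm h]
            rw [show x⁻¹ * D.gi * x = x⁻¹ * D.gi * x⁻¹⁻¹ by group, conj_zpow]
            group
      have hSA : (S : Subgroup G) ≤
          Subgroup.normalizer ((Subgroup.zpowers D.gi : Subgroup G) : Set G) := fun x hx => by
        refine hnz x ?_
        obtain ⟨c, d, rfl | rfl⟩ := D.repr_G hx
        · left; rw [gi, (D.gu_comm _ _ _ _).eq, mul_inv_cancel_right]
        · right; rw [gi, D.guz_conj_gu, D.gu_inv, neg_neg]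
      have hVA : V.map (MulAut.conj g).toMonoidHom ≤
          Subgroup.normalizer ((Subgroup.zpowers D.gi : Subgroup G) : Set G) := by
        rintro _ ⟨v, hv, rfl⟩
        refine hnz _ ?_
        have hvK : (⟨v, Subgroup.le_normalizer hv⟩ : N) ∈
            (V ⊔ Subgroup.centralizer (V : Set G)).subgroupOf N := Subgroup.mem_sup_left hv
        have h2 := (hpm _ _ A.ordb).1 ((hK _).1 hvK).2.1
        rw [← hg]
        show g * v * g⁻¹ * (g * D.gq a * g⁻¹) * (g * v * g⁻¹)⁻¹ = g * D.gq a * g⁻¹ ∨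
          g * v * g⁻¹ * (g * D.gq a * g⁻¹) * (g * v * g⁻¹)⁻¹ = (g * D.gq a * g⁻¹)⁻¹
        rw [show g * v * g⁻¹ * (g * D.gq a * g⁻¹) * (g * v * g⁻¹)⁻¹ =
          g * (v * D.gq a * v⁻¹) * g⁻¹ by group]
        rcases h2 with h | h <;> simp only at h <;> rw [h]
        · exact Or.inl rfl
        · exact Or.inr conj_inv.symm
      obtain ⟨c, hc, hcS⟩ := exists_conj_le_sylow S _ hSA ((S.2.to_le hVS).map _) hVA
      set h := c * g with hh
      have hhV : ∀ v ∈ V, h * v * h⁻¹ ∈ S := by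
        intro v hv
        rw [hh, show c * g * v * (c * g)⁻¹ = c * (g * v * g⁻¹) * c⁻¹ by group]
        exact hcS _ ⟨v, hv, rfl⟩
      have hhq : Subgroup.zpowers (h * D.gq a * h⁻¹) = Subgroup.zpowers D.gi := by
        rw [hh, show c * g * D.gq a * (c * g)⁻¹ = c * (g * D.gq a * g⁻¹) * c⁻¹ by group, hg]
        rcases mem_zpowers_of_orderOf_four A.orda (by rw [orderOf_conj, A.orda])
            ((Subgroup.mem_normalizer_iff.1 hc _).1 (Subgroup.mem_zpowers D.gi)) with h1 | h1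
        · rw [h1]
        · rw [h1, Subgroup.zpowers_inv]
      set Q' := Q.map (MulAut.conj h).toMonoidHom
      have hQ'S : Q' ≤ S := by
        rintro _ ⟨v, hv, rfl⟩; exact hhV v (Subgroup.mem_sup_left hv)
      have eQ : Q' ≃* QuaternionGroup 2 :=
        (Subgroup.equivMapOfInjective Q _ (MulAut.conj h).injective).symm.trans e
      obtain ⟨b, hiQ', hqQ', hQ'⟩ := D.q8_in Q' hQ'S eQ
      have hZ' : D.gcent.map (MulAut.conj h).toMonoidHom = D.gcent := by
        refine Subgroup.eq_of_le_of_card_ge ?_ (le_of_eq (Nat.card_congr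
          (Subgroup.equivMapOfInjective D.gcent _ (MulAut.conj h).injective).toEquiv))
        rintro _ ⟨z, hz, rfl⟩
        have hcQ : ∀ v ∈ Q', Commute (h * z * h⁻¹) v := by
          rintro _ ⟨v, hv, rfl⟩
          exact (D.gcent_commute hz (hQS hv)).map (MulAut.conj h).toMonoidHom
        exact D.centralizer_q8 (hhV z (Subgroup.mem_sup_right hz)) (hcQ _ hiQ') (hcQ _ hqQ')
      have hV' : V.map (MulAut.conj h).toMonoidHom = Q' ⊔ D.gcent := by
        rw [hV, Subgroup.map_sup, hZ']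
      have hs := hnormS Q' hQ'S eQ
      have hnN : h⁻¹ * D.gu D.k 0 * h ∈ N := by
        refine Subgroup.mem_normalizer_iff.2 fun v => ?_
        have key : ∀ v, h * v * h⁻¹ ∈ Q' ⊔ D.gcent ↔ v ∈ V := fun v => by
          rw [← hV']
          exact ⟨fun ⟨v', hv', e'⟩ =>
            (mul_left_cancel (mul_right_cancel (e' : h * v' * h⁻¹ = h * v * h⁻¹))) ▸ hv',
            fun hv => ⟨v, hv, rfl⟩⟩
        rw [← key, ← key (h⁻¹ * D.gu D.k 0 * h * v * (h⁻¹ * D.gu D.k 0 * h)⁻¹),
          show h * (h⁻¹ * D.gu D.k 0 * h * v * (h⁻¹ * D.gu D.k 0 * h)⁻¹) * h⁻¹ =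
            D.gu D.k 0 * (h * v * h⁻¹) * (D.gu D.k 0)⁻¹ by group]
        exact Subgroup.mem_normalizer_iff.1 hs _
      refine ⟨⟨_, hnN⟩, fun hfix => ?_⟩
      -- the transposition of the axes of `Q'` fixes only `gi`
      have hv : h * D.gi * h⁻¹ ∈ Q' := ⟨D.gi, ha, rfl⟩
      have hv4 : orderOf (h * D.gi * h⁻¹) = 4 := by rw [orderOf_conj, A.orda]
      have hvfix : Subgroup.zpowers (D.gu D.k 0 * (h * D.gi * h⁻¹) * (D.gu D.k 0)⁻¹) =
          Subgroup.zpowers (h * D.gi * h⁻¹) := by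
        have h1 := congrArg (fun K : Subgroup G => MulAut.conj h • K) hfix
        simp only [hact, conj_smul_zpowers] at h1
        rw [← h1]
        congr 1
        group
      have hvne : Subgroup.zpowers (h * D.gi * h⁻¹) ≠ Subgroup.zpowers D.gi := by
        rw [← hhq, ← conj_smul_zpowers, ← conj_smul_zpowers]
        exact fun e' => A.distinct.1 (smul_left_cancel _ e')
      have B := D.axes b
      rcases B.axis_cases hQ' hv hv4 with h1 | h1 | h1
      · exact hvne h1
      · rw [← conj_smul_zpowers, h1, conj_smul_zpowers, D.swap_gq] at hvfix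
        exact B.distinct.2.2 hvfix.symm
      · rw [← conj_smul_zpowers, h1, conj_smul_zpowers, show D.gu D.k 0 * (D.gi * D.gq b) *
          (D.gu D.k 0)⁻¹ = (D.gu D.k 0 * D.gi * (D.gu D.k 0)⁻¹) *
            (D.gu D.k 0 * D.gq b * (D.gu D.k 0)⁻¹) by group, D.swap_gi, D.swap_gq, D.gi_mul_gq,
          D.gi_mul_gq] at hvfix
        have h5 := (D.axes (b + D.k)).distinct.2.2
        rw [D.gi_mul_gq] at h5
        exact h5 hvfix.symm
  · obtain ⟨n, hn⟩ := hsq h6 _ _ (A.axis_cases hQ hp hp4) (A.axis_cases hQ hq' hq4)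
    refine ⟨n, (hNQ n.2).1, fun z hz => ?_, ?_⟩
    · exact D.centralizes_center Q hQS e (hNQ n.2).1 (hNQ n.2).2 hz
    · rw [hact] at hn
      exact mem_zpowers_of_orderOf_four hq4 (by rw [orderOf_conj, hp4])
        (hn ▸ Subgroup.mem_zpowers _)

end WrData

end Cfsg.Agent.Invol
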