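import Cfsg.Agent.Lib.Invol.Wreathed

/-!
# Subgroups of wreathed 2-groups
-/

namespace Cfsg.Agent.Invol

variable {S : Type*} [Group S]

namespace WrData

variable (D : WrData S)

/-- The four-group of involutions of the base. -/
def four0 : Subgroup S where
  carrier := {g | ∃ a b : ℤ, (D.h : ℤ) ∣ a ∧ (D.h : ℤ) ∣ b ∧ g = D.u a b}
  one_mem' := ⟨0, 0, dvd_zero _, dvd_zero _, D.u_zero.symm⟩
  mul_mem' := by
    rintro _ _ ⟨a, b, ha, hb, rfl⟩ ⟨c, d, hc, hd, rfl⟩
    exact ⟨_, _, dvd_add ha hc, dvd_add hb hd, D.u_mul a b c d⟩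
  inv_mem' := by
    rintro _ ⟨a, b, ha, hb, rfl⟩
    exact ⟨_, _, ha.neg_right, hb.neg_right, D.u_inv a b⟩

include D in
theorem n_eq {n : ℕ} (hn : Nat.card S = 2 ^ (2 * n + 1)) : n = D.n := by
  have h := D.card_eq
  have h2 := D.two_le
  rw [hn, D.h_eq, show (8 : ℕ) = 2 ^ 3 by norm_num, ← pow_add, ← pow_add] at h
  have := Nat.pow_right_injective (le_refl 2) h
  omega

theorem two_h : 2 * D.h = 2 ^ D.n := by
  have h2 := D.two_le
  rw [D.h_eq, ← pow_succ', show D.n - 1 + 1 = D.n by omega]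

theorem four0_normal : D.four0.Normal := by
  refine ⟨?_⟩
  rintro _ ⟨a, b, ha, hb, rfl⟩ g
  obtain ⟨c, d, rfl | rfl⟩ := D.repr_cases g
  · rw [D.u_inv, D.u_mul, D.u_mul]
    exact ⟨_, _, by convert ha using 1; ring, by convert hb using 1; ring, rfl⟩
  · rw [D.uz_conj_u]; exact ⟨_, _, hb, ha, rfl⟩

theorem isKleinFour_four0 : IsKleinFour D.four0 := by
  haveI := D.finite
  have hh := D.h_pos
  have hsq : ∀ g : D.four0, g * g = 1 := by
    rintro ⟨_, a, b, ha, hb, rfl⟩
    exact Subtype.ext ((D.sq_u_eq_one_iff a b).2 ⟨ha, hb⟩)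
  have hcard : Nat.card D.four0 = 4 := by
    have hset : (D.four0 : Set S) =
        {D.u 0 0, D.u D.h 0, D.u 0 D.h, D.u D.h D.h} := by
      ext g
      constructor
      · rintro ⟨a, b, ha, hb, rfl⟩
        rcases D.h_cases ha with h1 | h1 <;> rcases D.h_cases hb with h2 | h2
        · exact Or.inl ((D.u_eq_iff _ _ _ _).2 ⟨by simpa using h1, by simpa using h2⟩)
        · exact Or.inr (Or.inr (Or.inl ((D.u_eq_iff _ _ _ _).2 ⟨by simpa using h1, h2⟩)))
        · exact Or.inr (Or.inl ((D.u_eq_iff _ _ _ _).2 ⟨h1, by simpa using h2⟩))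
        · exact Or.inr (Or.inr (Or.inr ((D.u_eq_iff _ _ _ _).2 ⟨h1, h2⟩)))
      · rintro (rfl | rfl | rfl | h)
        · exact ⟨_, _, dvd_zero _, dvd_zero _, rfl⟩
        · exact ⟨_, _, dvd_rfl, dvd_zero _, rfl⟩
        · exact ⟨_, _, dvd_zero _, dvd_rfl, rfl⟩
        · exact ⟨_, _, dvd_rfl, dvd_rfl, Set.mem_singleton_iff.1 h⟩
    rw [← SetLike.coe_sort_coe, Nat.card_coe_set_eq, hset]
    have hn : ¬ 2 * (D.h : ℤ) ∣ (D.h : ℤ) := fun h => by
      have := Int.le_of_dvd hh h; omega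
    rw [Set.ncard_eq_succ (Set.toFinite _)]
    refine ⟨D.u 0 0, {D.u D.h 0, D.u 0 D.h, D.u D.h D.h}, ?_, rfl, ?_⟩
    · simp [D.u_eq_iff, hn]
    · rw [Set.ncard_eq_three]
      refine ⟨_, _, _, ?_, ?_, ?_, rfl⟩ <;> rw [Ne, D.u_eq_iff] <;> simp [hn]
  refine ⟨hcard, ?_⟩
  haveI : Fintype D.four0 := Fintype.ofFinite _
  refine Nat.dvd_antisymm (Monoid.exponent_dvd_of_forall_pow_eq_one fun g => by rw [sq]; exact hsq g) ?_
  haveI : Nontrivial D.four0 := by
    rw [← Finite.one_lt_card_iff_nontrivial, hcard]; norm_num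
  obtain ⟨g, hg⟩ := exists_ne (1 : D.four0)
  exact orderOf_two_of_mul_self (hsq g) hg ▸ Monoid.order_dvd_exponent g

/-- A four-group other than `four0` consists of the `1, c, t, t c` with `c = u h h`, `t` outside
the base. -/
theorem four_mem_iff (T : Subgroup S) [hT : IsKleinFour T] (hne : T ≠ D.four0) :
    ∃ a : ℤ, ∀ g : S, g ∈ T ↔ g = 1 ∨ g = D.u D.h D.h ∨ g = D.u a (-a) * D.z ∨
      g = D.u D.h D.h * (D.u a (-a) * D.z) := by
  classical
  haveI := D.finite
  have hsq : ∀ g ∈ T, g * g = 1 := fun g hg =>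
    congrArg Subtype.val (IsKleinFour.mul_self (⟨g, hg⟩ : T))
  have hcomm : ∀ g ∈ T, ∀ k ∈ T, g * k = k * g := fun g hg k hk =>
    congrArg Subtype.val (mul_comm_of_exponent_two IsKleinFour.exponent_two (⟨g, hg⟩ : T) ⟨k, hk⟩)
  have hout : ∃ a b : ℤ, D.u a b * D.z ∈ T := by
    by_contra hno
    push_neg at hno
    haveI := D.isKleinFour_four0
    refine hne (Subgroup.eq_of_le_of_card_ge (fun g hg => ?_) ?_)
    · obtain ⟨a, b, rfl | rfl⟩ := D.repr_cases g
      · obtain ⟨ha, hb⟩ := (D.sq_u_eq_one_iff a b).1 (hsq _ hg)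
        exact ⟨a, b, ha, hb, rfl⟩
      · exact absurd hg (hno a b)
    · rw [IsKleinFour.card_four, IsKleinFour.card_four]
  obtain ⟨a, b, hab⟩ := hout
  have he : D.u a b * D.z = D.u a (-a) * D.z := by
    rw [D.uz_eq_iff]
    have := (D.sq_uz_eq_one_iff a b).1 (hsq _ hab)
    exact ⟨by simp, by rwa [show b - -a = a + b by ring]⟩
  rw [he] at hab
  refine ⟨a, ?_⟩
  let W : Set S := {1, D.u D.h D.h, D.u a (-a) * D.z, D.u D.h D.h * (D.u a (-a) * D.z)}
  have hU : ∀ c d : ℤ, D.u c d ∈ T → D.u c d = 1 ∨ D.u c d = D.u D.h D.h := by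
    intro c d hcd
    obtain ⟨hc, hd⟩ := (D.sq_u_eq_one_iff c d).1 (hsq _ hcd)
    have h2 := (D.commute_u_uz_iff c d a (-a)).1 (hcomm _ hcd _ hab)
    rcases D.h_cases hc with h1 | h1
    · left
      rw [D.u_eq_one_iff]
      refine ⟨h1, ?_⟩
      have := dvd_sub h1 h2
      rwa [show c - (c - d) = d by ring] at this
    · right
      rw [D.u_eq_iff]
      refine ⟨h1, ?_⟩
      have := dvd_sub h1 h2
      rwa [show c - (D.h : ℤ) - (c - d) = d - D.h by ring] at this
  have hsub : (T : Set S) ⊆ W := by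
    intro g hg
    obtain ⟨c, d, rfl | rfl⟩ := D.repr_cases g
    · rcases hU c d hg with h | h <;> simp [W, h]
    · have h' := mul_mem hg (inv_mem hab)
      rw [D.uz_inv, D.uz_mul_uz] at h'
      have e : D.u c d * D.z = D.u (c + -a) (d + - -a) * (D.u a (-a) * D.z) := by
        rw [D.u_mul_uz]; ring_nf
      rcases hU _ _ h' with h | h <;> rw [e, h] <;> simp [W]
  have hle : W.ncard ≤ (T : Set S).ncard := by
    rw [← Nat.card_coe_set_eq (T : Set S)]
    refine le_trans ?_ (le_of_eq (IsKleinFour.card_four (G := T)).symm)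
    refine (Set.ncard_insert_le _ _).trans (Nat.add_le_add_right ?_ 1)
    refine (Set.ncard_insert_le _ _).trans (Nat.add_le_add_right ?_ 1)
    refine (Set.ncard_insert_le _ _).trans (Nat.add_le_add_right ?_ 1)
    rw [Set.ncard_singleton]
  intro g
  rw [← SetLike.mem_coe, Set.eq_of_subset_of_ncard_le hsub hle (Set.toFinite _)]
  rfl

/-- An abelian subgroup not in the base has order at most `4 h`. -/
theorem card_le_of_not_le {U : Subgroup S} (hU : IsMulCommutative U) (hle : ¬ U ≤ D.base) :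
    Nat.card U ≤ 4 * D.h := by
  haveI := D.finite
  obtain ⟨g, hg, hgb⟩ := SetLike.not_le_iff_exists.1 hle
  obtain ⟨a, b, rfl | rfl⟩ := D.repr_cases g
  · exact absurd (D.u_mem_base a b) hgb
  have hW : (D.base.subgroupOf U).map U.subtype ≤ Subgroup.center S := by
    rintro _ ⟨v, hv, rfl⟩
    obtain ⟨c, d, hcd⟩ := Subgroup.mem_subgroupOf.1 hv
    rw [Subgroup.coe_subtype, hcd]
    have hc : Commute (D.u c d) (D.u a b * D.z) := by
      rw [← hcd]; exact congrArg Subtype.val (hU.is_comm.comm v ⟨_, hg⟩)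
    rw [D.commute_u_uz_iff] at hc
    exact Subgroup.mem_center_iff.2 fun k => (D.diag_central hc k).symm.eq
  have h1 := Subgroup.card_le_of_le hW
  rw [D.card_center, Subgroup.card_map_of_injective U.subtype_injective] at h1
  have h2 := (D.base.subgroupOf U).card_mul_index
  have h3 : (D.base.subgroupOf U).index ∣ 2 := by
    rw [← D.base_index]
    haveI : D.base.Normal := Subgroup.normal_of_index_eq_two D.base_index
    exact Subgroup.relIndex_dvd_index_of_normal _ _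
  have h4 := Nat.le_of_dvd (by norm_num) h3
  rw [← h2]
  calc _ ≤ 2 * D.h * 2 := Nat.mul_le_mul h1 h4
    _ = 4 * D.h := by ring

end WrData

end Cfsg.Agent.Invol
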