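import Cfsg.Agent.Lib.Invol.Dihedral
import Cfsg.Agent.Lib.Invol.Quaternion
import Cfsg.Prelude.Def_CaseTheorems

/-!
# Wreathed 2-groups: coordinates

Order `8 h ^ 2` with `h = 2 ^ (n - 1)`: generated by commuting `x, y` of order `2 h` and an
involution `z` interchanging them. `u a b = x ^ a * y ^ b`.
-/

namespace Cfsg.Agent.Invol

/-- The defining data of a wreathed group. -/
structure WrData (S : Type*) [Group S] where
  n : ℕ
  h : ℕ
  x : S
  y : S
  z : S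
  two_le : 2 ≤ n
  h_eq : h = 2 ^ (n - 1)
  card_eq : Nat.card S = 8 * (h * h)
  ordx : orderOf x = 2 * h
  comm : x * y = y * x
  disj : Subgroup.zpowers x ⊓ Subgroup.zpowers y = ⊥
  ordz : orderOf z = 2
  conjz : z * x * z⁻¹ = y

variable {S : Type*} [Group S]

theorem wr_exists (h : IsWreathed S) : Nonempty (WrData S) := by
  obtain ⟨n, hn, hc, x, y, z, hx, hxy, hd, hz, hzx⟩ := h
  obtain ⟨r, rfl⟩ := Nat.exists_eq_add_of_le hn
  refine ⟨⟨2 + r, 2 ^ (2 + r - 1), x, y, z, hn, rfl, ?_, ?_, hxy, hd, hz, hzx⟩⟩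
  · rw [hc, show 2 + r - 1 = r + 1 by omega, show 2 * (2 + r) + 1 = (r + 1) + (r + 1) + 3 by omega,
      pow_add, pow_add]
    ring
  · rw [hx, show 2 + r - 1 = r + 1 by omega, show 2 + r = (r + 1) + 1 by omega, pow_succ]
    ring

namespace WrData

variable (D : WrData S)

theorem h_pos : 0 < (D.h : ℤ) := by rw [D.h_eq]; positivity

theorem h_even : 2 ∣ (D.h : ℤ) := by
  have h := D.two_le
  rw [D.h_eq, show D.n - 1 = (D.n - 2) + 1 by omega, pow_succ]
  push_cast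
  exact ⟨2 ^ (D.n - 2), by ring⟩

theorem z_inv : D.z⁻¹ = D.z := inv_of_orderOf_two D.ordz

theorem z_sq : D.z * D.z = 1 := mul_self_of_orderOf_two D.ordz

theorem conjz' : D.z * D.y * D.z⁻¹ = D.x := by
  rw [← D.conjz, D.z_inv]
  calc D.z * (D.z * D.x * D.z) * D.z = (D.z * D.z) * D.x * (D.z * D.z) := by group
    _ = D.x := by rw [D.z_sq, one_mul, mul_one]

theorem ordy : orderOf D.y = 2 * D.h := by
  rw [← D.conjz, orderOf_conj, D.ordx]

theorem commute_pow (a b : ℤ) : Commute (D.x ^ a) (D.y ^ b) :=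
  (show Commute D.x D.y from D.comm).zpow_zpow a b

/-- The general element of the abelian maximal subgroup. -/
def u (a b : ℤ) : S := D.x ^ a * D.y ^ b

theorem u_mul (a b c d : ℤ) : D.u a b * D.u c d = D.u (a + c) (b + d) := by
  simp only [u, zpow_add]
  calc D.x ^ a * D.y ^ b * (D.x ^ c * D.y ^ d) = D.x ^ a * (D.y ^ b * D.x ^ c) * D.y ^ d := by group
    _ = D.x ^ a * (D.x ^ c * D.y ^ b) * D.y ^ d := by rw [(D.commute_pow c b).eq]
    _ = _ := by group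

theorem u_zero : D.u 0 0 = 1 := by simp [u]

theorem u_inv (a b : ℤ) : (D.u a b)⁻¹ = D.u (-a) (-b) :=
  inv_eq_of_mul_eq_one_right (by rw [D.u_mul, add_neg_cancel, add_neg_cancel, D.u_zero])

theorem u_zpow (a b k : ℤ) : (D.u a b) ^ k = D.u (a * k) (b * k) := by
  rw [u, (D.commute_pow a b).mul_zpow, ← zpow_mul, ← zpow_mul]; rfl

theorem z_mul_u (a b : ℤ) : D.z * D.u a b = D.u b a * D.z := by
  rw [← mul_inv_eq_iff_eq_mul, u, u]
  calc D.z * (D.x ^ a * D.y ^ b) * D.z⁻¹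
      = (D.z * D.x ^ a * D.z⁻¹) * (D.z * D.y ^ b * D.z⁻¹) := by group
    _ = D.y ^ a * D.x ^ b := by rw [← conj_zpow, ← conj_zpow, D.conjz, D.conjz']
    _ = D.x ^ b * D.y ^ a := (D.commute_pow b a).eq.symm

theorem u_eq_one_iff (a b : ℤ) :
    D.u a b = 1 ↔ 2 * (D.h : ℤ) ∣ a ∧ 2 * (D.h : ℤ) ∣ b := by
  have e1 : ∀ k : ℤ, D.x ^ k = 1 ↔ 2 * (D.h : ℤ) ∣ k := fun k => by
    rw [← orderOf_dvd_iff_zpow_eq_one, D.ordx]; push_cast; rfl
  have e2 : ∀ k : ℤ, D.y ^ k = 1 ↔ 2 * (D.h : ℤ) ∣ k := fun k => by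
    rw [← orderOf_dvd_iff_zpow_eq_one, D.ordy]; push_cast; rfl
  constructor
  · intro h
    have hm : D.x ^ a ∈ Subgroup.zpowers D.x ⊓ Subgroup.zpowers D.y :=
      ⟨Subgroup.zpow_mem _ (Subgroup.mem_zpowers _) a,
        Subgroup.mem_zpowers_iff.2 ⟨-b, by rw [zpow_neg]; exact (eq_inv_of_mul_eq_one_left h).symm⟩⟩
    rw [D.disj, Subgroup.mem_bot] at hm
    rw [u, hm, one_mul] at h
    exact ⟨(e1 a).1 hm, (e2 b).1 h⟩
  · rintro ⟨ha, hb⟩
    rw [u, (e1 a).2 ha, (e2 b).2 hb, one_mul]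

theorem u_eq_iff (a b c d : ℤ) :
    D.u a b = D.u c d ↔ 2 * (D.h : ℤ) ∣ a - c ∧ 2 * (D.h : ℤ) ∣ b - d := by
  rw [← D.u_eq_one_iff, ← mul_inv_eq_one, D.u_inv, D.u_mul, ← sub_eq_add_neg, ← sub_eq_add_neg]

/-- The abelian maximal subgroup. -/
def base : Subgroup S where
  carrier := {g | ∃ a b : ℤ, g = D.u a b}
  one_mem' := ⟨0, 0, D.u_zero.symm⟩
  mul_mem' := by rintro _ _ ⟨a, b, rfl⟩ ⟨c, d, rfl⟩; exact ⟨_, _, D.u_mul a b c d⟩
  inv_mem' := by rintro _ ⟨a, b, rfl⟩; exact ⟨_, _, D.u_inv a b⟩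

theorem u_mem_base (a b : ℤ) : D.u a b ∈ D.base := ⟨a, b, rfl⟩

theorem z_notMem_base : D.z ∉ D.base := by
  rintro ⟨a, b, hab⟩
  have h1 : D.z * D.u 1 0 = D.u 0 1 * D.z := D.z_mul_u 1 0
  rw [hab, D.u_mul, D.u_mul, D.u_eq_iff] at h1
  have := Int.le_of_dvd one_pos (show 2 * (D.h : ℤ) ∣ 1 by
    have := h1.1; rwa [show a + 1 - (0 + a) = 1 by ring] at this)
  have := D.h_pos
  omega

include D in
theorem finite : Finite S := Nat.finite_of_card_ne_zero (by
  rw [D.card_eq]; have := D.h_pos; have : 0 < D.h := by omega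
  positivity)

/-- The coordinate bijection of the base. -/
theorem bijective_coords :
    Function.Bijective fun v : ZMod (2 * D.h) × ZMod (2 * D.h) =>
      (⟨D.u (v.1.cast : ℤ) (v.2.cast : ℤ), D.u_mem_base _ _⟩ : D.base) := by
  constructor
  · rintro ⟨a, b⟩ ⟨c, d⟩ h
    obtain ⟨h1, h2⟩ := (D.u_eq_iff _ _ _ _).1 (congrArg Subtype.val h)
    have e : ∀ p q : ZMod (2 * D.h), 2 * (D.h : ℤ) ∣ (p.cast : ℤ) - q.cast → p = q := by
      intro p q h
      have h' : ((q.cast : ℤ) : ZMod (2 * D.h)) = ((p.cast : ℤ) : ZMod (2 * D.h)) :=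
        (ZMod.intCast_eq_intCast_iff_dvd_sub _ _ _).2 (by push_cast; exact h)
      simpa using h'.symm
    exact Prod.ext (e _ _ h1) (e _ _ h2)
  · rintro ⟨_, a, b, rfl⟩
    refine ⟨((a : ZMod (2 * D.h)), (b : ZMod (2 * D.h))), Subtype.ext ((D.u_eq_iff _ _ _ _).2 ?_)⟩
    have e : ∀ k : ℤ, 2 * (D.h : ℤ) ∣ ((k : ZMod (2 * D.h)).cast : ℤ) - k := by
      intro k
      have := (ZMod.intCast_eq_intCast_iff_dvd_sub k ((k : ZMod (2 * D.h)).cast : ℤ) (2 * D.h)).1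
        (by simp)
      push_cast at this
      exact this
    exact ⟨e a, e b⟩

theorem card_base : Nat.card D.base = 4 * (D.h * D.h) := by
  rw [← Nat.card_eq_of_bijective _ D.bijective_coords, Nat.card_prod, Nat.card_zmod]; ring

theorem nonempty_base_equiv :
    Nonempty (D.base ≃* Multiplicative (ZMod (2 * D.h) × ZMod (2 * D.h))) := by
  let f : Multiplicative (ZMod (2 * D.h) × ZMod (2 * D.h)) →* D.base :=
    MonoidHom.mk' (fun v => ⟨D.u ((Multiplicative.toAdd v).1.cast : ℤ)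
      ((Multiplicative.toAdd v).2.cast : ℤ), D.u_mem_base _ _⟩) (fun v w => Subtype.ext (by
      show D.u _ _ = D.u _ _ * D.u _ _
      rw [D.u_mul, D.u_eq_iff]
      have e : ∀ p q : ZMod (2 * D.h),
          2 * (D.h : ℤ) ∣ ((p + q).cast : ℤ) - ((p.cast : ℤ) + q.cast) := by
        intro p q
        have := (ZMod.intCast_eq_intCast_iff_dvd_sub ((p.cast : ℤ) + q.cast) ((p + q).cast : ℤ)
          (2 * D.h)).1 (by simp)
        push_cast at this
        exact this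
      exact ⟨e _ _, e _ _⟩))
  have hf : Function.Bijective f := D.bijective_coords.comp Multiplicative.toAdd.bijective
  exact ⟨(MulEquiv.ofBijective f hf).symm⟩

theorem base_index : D.base.index = 2 := by
  have h := D.base.card_mul_index
  rw [D.card_base, D.card_eq] at h
  have := D.h_pos
  refine Nat.eq_of_mul_eq_mul_left (show 0 < 4 * (D.h * D.h) from ?_) (h.trans (by ring))
  have : 0 < D.h := by omega
  positivity

theorem repr_cases (g : S) : ∃ a b : ℤ, g = D.u a b ∨ g = D.u a b * D.z := by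
  by_cases hg : g ∈ D.base
  · obtain ⟨a, b, rfl⟩ := hg
    exact ⟨a, b, Or.inl rfl⟩
  · have : g * D.z⁻¹ ∈ D.base := by
      rw [Subgroup.mul_mem_iff_of_index_two D.base_index, inv_mem_iff]
      simp [hg, D.z_notMem_base]
    obtain ⟨a, b, hab⟩ := this
    exact ⟨a, b, Or.inr (by rw [← hab, inv_mul_cancel_right])⟩

theorem notMem_base (a b : ℤ) : D.u a b * D.z ∉ D.base := fun h =>
  D.z_notMem_base (by simpa using mul_mem (inv_mem (D.u_mem_base a b)) h)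

theorem u_ne_uz (a b c d : ℤ) : D.u a b ≠ D.u c d * D.z := fun h =>
  D.notMem_base c d (h ▸ D.u_mem_base a b)

theorem uz_eq_iff (a b c d : ℤ) :
    D.u a b * D.z = D.u c d * D.z ↔ 2 * (D.h : ℤ) ∣ a - c ∧ 2 * (D.h : ℤ) ∣ b - d := by
  rw [mul_left_inj, D.u_eq_iff]

theorem u_mul_uz (a b c d : ℤ) : D.u a b * (D.u c d * D.z) = D.u (a + c) (b + d) * D.z := by
  rw [← mul_assoc, D.u_mul]

theorem uz_mul_u (a b c d : ℤ) : (D.u a b * D.z) * D.u c d = D.u (a + d) (b + c) * D.z := by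
  rw [mul_assoc, D.z_mul_u, ← mul_assoc, D.u_mul]

theorem uz_mul_uz (a b c d : ℤ) :
    (D.u a b * D.z) * (D.u c d * D.z) = D.u (a + d) (b + c) := by
  rw [← mul_assoc, D.uz_mul_u, mul_assoc, D.z_sq, mul_one]

theorem uz_inv (a b : ℤ) : (D.u a b * D.z)⁻¹ = D.u (-b) (-a) * D.z :=
  inv_eq_of_mul_eq_one_right (by rw [D.uz_mul_uz, add_neg_cancel, add_neg_cancel, D.u_zero])

theorem uz_conj_u (a b c d : ℤ) :
    (D.u a b * D.z) * D.u c d * (D.u a b * D.z)⁻¹ = D.u d c := by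
  rw [mul_inv_eq_iff_eq_mul, D.uz_mul_u, D.u_mul_uz, add_comm a d, add_comm b c]

theorem u_conj_uz (a b c d : ℤ) :
    D.u a b * (D.u c d * D.z) * (D.u a b)⁻¹ = D.u (c + a - b) (d + b - a) * D.z := by
  rw [mul_inv_eq_iff_eq_mul, D.u_mul_uz, D.uz_mul_u]
  ring_nf

theorem commute_u_uz_iff (a b c d : ℤ) :
    Commute (D.u a b) (D.u c d * D.z) ↔ 2 * (D.h : ℤ) ∣ a - b := by
  rw [commute_iff_eq, D.u_mul_uz, D.uz_mul_u, D.uz_eq_iff]
  constructor
  · rintro ⟨h, -⟩; convert h using 1; ring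
  · intro h
    refine ⟨by convert h using 1; ring, ?_⟩
    rw [← dvd_neg] at h
    rwa [show b + d - (d + a) = -(a - b) by ring]

theorem diag_central {a b : ℤ} (hab : 2 * (D.h : ℤ) ∣ a - b) (g : S) : Commute (D.u a b) g := by
  obtain ⟨c, d, rfl | rfl⟩ := D.repr_cases g
  · rw [commute_iff_eq, D.u_mul, D.u_mul, add_comm a c, add_comm b d]
  · exact (D.commute_u_uz_iff a b c d).2 hab

theorem mem_center_iff {g : S} :
    g ∈ Subgroup.center S ↔ ∃ c : ℤ, g = D.u c c := by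
  rw [Subgroup.mem_center_iff]
  constructor
  · intro hg
    obtain ⟨a, b, rfl | rfl⟩ := D.repr_cases g
    · have h := (D.commute_u_uz_iff a b 0 0).1 (hg _).symm
      exact ⟨b, (D.u_eq_iff _ _ _ _).2 ⟨h, by simp⟩⟩
    · exfalso
      have h := (D.commute_u_uz_iff 1 0 a b).1 (hg _)
      have := Int.le_of_dvd one_pos (by simpa using h)
      have := D.h_pos
      omega
  · rintro ⟨c, rfl⟩ g
    exact (D.diag_central (by simp) g).symm.eq

theorem sq_u (a b : ℤ) : D.u a b * D.u a b = D.u (2 * a) (2 * b) := by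
  rw [D.u_mul, two_mul, two_mul]

theorem sq_uz (a b : ℤ) : (D.u a b * D.z) * (D.u a b * D.z) = D.u (a + b) (a + b) := by
  rw [D.uz_mul_uz, add_comm b a]

theorem sq_u_eq_one_iff (a b : ℤ) :
    D.u a b * D.u a b = 1 ↔ (D.h : ℤ) ∣ a ∧ (D.h : ℤ) ∣ b := by
  rw [D.sq_u, D.u_eq_one_iff, Int.mul_dvd_mul_iff_left (by norm_num),
    Int.mul_dvd_mul_iff_left (by norm_num)]

theorem sq_uz_eq_one_iff (a b : ℤ) :
    (D.u a b * D.z) * (D.u a b * D.z) = 1 ↔ 2 * (D.h : ℤ) ∣ a + b := by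
  rw [D.sq_uz, D.u_eq_one_iff, and_self]

/-- Reduction of a multiple of `h` modulo `2 h`. -/
theorem h_cases {a : ℤ} (ha : (D.h : ℤ) ∣ a) :
    2 * (D.h : ℤ) ∣ a ∨ 2 * (D.h : ℤ) ∣ a - D.h := by
  obtain ⟨c, rfl⟩ := ha
  rcases Int.even_or_odd c with ⟨e, rfl⟩ | ⟨e, rfl⟩
  · exact Or.inl ⟨e, by ring⟩
  · exact Or.inr ⟨e, by ring⟩

theorem orderOf_center_gen : orderOf (D.u 1 1) = 2 * D.h := by
  apply Nat.dvd_antisymm
  · rw [orderOf_dvd_iff_pow_eq_one, ← zpow_natCast, D.u_zpow, D.u_eq_one_iff]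
    push_cast; simp
  · have h := pow_orderOf_eq_one (D.u 1 1)
    rw [← zpow_natCast, D.u_zpow, D.u_eq_one_iff, one_mul] at h
    exact_mod_cast h.1

theorem orderOf_anti_gen : orderOf (D.u 1 (-1)) = 2 * D.h := by
  apply Nat.dvd_antisymm
  · rw [orderOf_dvd_iff_pow_eq_one, ← zpow_natCast, D.u_zpow, D.u_eq_one_iff]
    push_cast; simp
  · have h := pow_orderOf_eq_one (D.u 1 (-1))
    rw [← zpow_natCast, D.u_zpow, D.u_eq_one_iff, one_mul] at h
    exact_mod_cast h.1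

theorem center_eq : Subgroup.center S = Subgroup.zpowers (D.u 1 1) := by
  ext g
  rw [D.mem_center_iff, Subgroup.mem_zpowers_iff]
  simp only [D.u_zpow, one_mul, eq_comm]

include D in
theorem card_center : Nat.card (Subgroup.center S) = 2 * D.h := by
  rw [D.center_eq, Nat.card_zpowers, D.orderOf_center_gen]

theorem mem_commutator_iff {g : S} : g ∈ commutator S ↔ ∃ c : ℤ, g = D.u c (-c) := by
  constructor
  · intro hg
    suffices hle : commutator S ≤ Subgroup.zpowers (D.u 1 (-1)) by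
      obtain ⟨k, hk⟩ := Subgroup.mem_zpowers_iff.1 (hle hg)
      exact ⟨k, by rw [← hk, D.u_zpow, one_mul, neg_one_mul]⟩
    rw [commutator_def, Subgroup.commutator_le]
    intro p _ q _
    rw [commutatorElement_def, Subgroup.mem_zpowers_iff]
    obtain ⟨a, b, rfl | rfl⟩ := D.repr_cases p <;> obtain ⟨c, d, rfl | rfl⟩ := D.repr_cases q
    · exact ⟨0, by rw [zpow_zero, D.u_inv, D.u_inv, D.u_mul, D.u_mul, D.u_mul, eq_comm,
        D.u_eq_one_iff]; ring_nf; simp⟩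
    · exact ⟨a - b, by
        rw [D.u_conj_uz, D.uz_inv, D.uz_mul_uz, D.u_zpow, D.u_eq_iff]; ring_nf; simp⟩
    · exact ⟨d - c, by
        rw [D.uz_conj_u, D.u_inv, D.u_mul, D.u_zpow, D.u_eq_iff]; ring_nf; simp⟩
    · exact ⟨a + d - b - c, by
        rw [D.uz_mul_uz, D.uz_inv, D.uz_inv, D.u_mul_uz, D.uz_mul_uz, D.u_zpow, D.u_eq_iff]
        ring_nf; simp⟩
  · rintro ⟨c, rfl⟩
    have h := Subgroup.commutator_mem_commutator (H₁ := (⊤ : Subgroup S)) (H₂ := ⊤)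
      (Subgroup.mem_top (D.u c 0)) (Subgroup.mem_top D.z)
    rw [← commutator_def, commutatorElement_def, D.u_inv, mul_assoc (D.u c 0) D.z, D.z_mul_u,
      ← mul_assoc, mul_inv_cancel_right, D.u_mul] at h
    simpa using h

end WrData

end Cfsg.Agent.Invol
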