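import Cfsg.Agent.Lib.Invol.ZStarCons
import Cfsg.Agent.Lib.LocalEvenB.Basic

/-!
# Sylow subgroups invariant under an isolated involution
-/

set_option linter.unusedSectionVars false
set_option linter.style.haveILetI false

namespace Cfsg.Agent.Invol

open Cfsg
open scoped Pointwise

universe u

variable {G : Type u} [Group G] [Finite G]

/-- An involution central modulo a normal subgroup of odd order normalises a Sylow subgroup. -/
theorem exists_sylow_invariant {p : ℕ} [Fact p.Prime] {z : G} (hz : z * z = 1) (M : Subgroup G)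
    [M.Normal] (hM : Odd (Nat.card M)) (hc : ∀ g : G, z * g * z⁻¹ * g⁻¹ ∈ M) :
    ∃ P : Sylow p G, z ∈ Subgroup.normalizer ((P : Subgroup G) : Set G) := by
  classical
  obtain ⟨P₀⟩ : Nonempty (Sylow p G) := inferInstance
  let X : Subgroup G := M ⊔ (P₀ : Subgroup G)
  have hzP : ((z • P₀ : Sylow p G) : Subgroup G) ≤ X := by
    intro x hx
    rw [Sylow.coe_subgroup_smul] at hx
    obtain ⟨y, hy, rfl⟩ := hx
    show z * y * z⁻¹ ∈ X
    have e : z * y * z⁻¹ = (z * y * z⁻¹ * y⁻¹) * y := by group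
    rw [e]
    exact Subgroup.mul_mem_sup (hc y) hy
  -- `z` maps the orbit of `P₀` under `M` to itself
  have hbase : ∃ m : M, (m : G) • P₀ = z • P₀ := by
    obtain ⟨x, hx⟩ := MulAction.exists_smul_eq X (P₀.subtype (le_sup_right : (P₀ : Subgroup G) ≤ X))
      ((z • P₀).subtype hzP)
    rw [Sylow.smul_subtype] at hx
    have hx' := Sylow.subtype_injective hx
    obtain ⟨m, hm, q, hq, hmq⟩ := Subgroup.mem_sup_of_normal_left.1 x.2
    refine ⟨⟨m, hm⟩, ?_⟩
    rw [← hx']
    show m • P₀ = (x : G) • P₀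
    rw [← hmq, mul_smul]
    congr 1
    exact (Sylow.smul_eq_iff_mem_normalizer.2 (Subgroup.le_normalizer hq)).symm
  have hmaps : ∀ S ∈ MulAction.orbit M P₀, z • S ∈ MulAction.orbit M P₀ := by
    rintro S ⟨m, rfl⟩
    obtain ⟨m₀, hm₀⟩ := hbase
    refine ⟨⟨z * m * z⁻¹, Subgroup.Normal.conj_mem inferInstance _ m.2 z⟩ * m₀, ?_⟩
    show (z * (m : G) * z⁻¹ * (m₀ : G)) • P₀ = z • (m : G) • P₀
    rw [mul_smul, hm₀, ← mul_smul, ← mul_smul]
    group
  let f : MulAction.orbit M P₀ → MulAction.orbit M P₀ := fun S => ⟨z • S.1, hmaps _ S.2⟩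
  have hff : Function.Involutive f := fun S => Subtype.ext (by
    show z • z • S.1 = S.1
    rw [← mul_smul, hz, one_smul])
  haveI := Fintype.ofFinite (MulAction.orbit M P₀)
  have hodd : ¬ 2 ∣ Fintype.card (MulAction.orbit M P₀) := by
    intro h2
    apply Nat.not_even_iff_odd.2 hM
    rw [even_iff_two_dvd]
    refine h2.trans ?_
    rw [← Nat.card_eq_fintype_card]
    exact Dvd.intro _ ((Nat.card_prod _ _).symm.trans
      (Nat.card_congr (MulAction.orbitProdStabilizerEquivGroup M P₀)))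
  haveI : Fact (Nat.Prime 2) := ⟨Nat.prime_two⟩
  obtain ⟨S, hS⟩ := Equiv.Perm.exists_fixed_point_of_prime (p := 2) (n := 1) hodd
    (σ := hff.toPerm f) (by
      refine Equiv.ext fun S => ?_
      simp only [pow_one, sq, Equiv.Perm.mul_apply, Equiv.Perm.one_apply, Function.Involutive.coe_toPerm]
      exact hff S)
  exact ⟨S.1, Sylow.smul_eq_iff_mem_normalizer.1 (congrArg Subtype.val hS)⟩

/-- A maximal `z`-invariant `p`-subgroup is a Sylow subgroup, `z` an isolated involution. -/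
theorem maximal_invariant_is_sylow (hZ : ZStarHyp.{u}) {z : G} (hz : IsIsolatedInvolution z) {p : ℕ}
    [Fact p.Prime] (Q : Subgroup G) (hQ : IsPGroup p Q)
    (hzQ : z ∈ Subgroup.normalizer (Q : Set G))
    (hmax : ∀ R : Subgroup G, IsPGroup p R → z ∈ Subgroup.normalizer (R : Set G) → Q ≤ R → R = Q) :
    ∃ P : Sylow p G, (P : Subgroup G) = Q := by
  have hz2 := isolated_mul_self hz
  by_cases hp : p = 2
  · subst hp
    have hzp : IsPGroup 2 (Subgroup.zpowers z) :=
      IsPGroup.of_card (n := 1) (by rw [Nat.card_zpowers, hz.1, pow_one])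
    have h2 : IsPGroup 2 ↥(Q ⊔ Subgroup.zpowers z) := by
      rw [sup_comm]
      exact hzp.to_sup_of_normal_right' hQ (Subgroup.zpowers_le.2 hzQ)
    obtain ⟨P, hP⟩ := h2.exists_le_sylow
    exact ⟨P, hmax P P.2
      (Subgroup.le_normalizer (hP (Subgroup.mem_sup_right (Subgroup.mem_zpowers z))))
      (le_sup_left.trans hP)⟩
  set H := Subgroup.normalizer (Q : Set G) with hH
  let M : Subgroup H := (oddCore G).subgroupOf H
  have hMn : M.Normal := (inferInstance : (oddCore G).Normal).subgroupOf H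
  have hModd : Odd (Nat.card M) := by
    have h1 : Nat.card M ∣ Nat.card (oddCore G) := by
      exact Subgroup.card_comap_dvd_of_injective _ _ H.subtype_injective
    exact odd_card_oddCore.of_dvd_nat h1
  obtain ⟨S, hS⟩ := exists_sylow_invariant (p := p) (G := H) (z := ⟨z, hzQ⟩) (Subtype.ext hz2) M
    hModd (fun g => hZ G z hz g)
  -- the normal subgroup `Q` of `H` lies in `S`
  haveI : (Q.subgroupOf H).Normal := Subgroup.normal_in_normalizer
  have hQS : Q.subgroupOf H ≤ (S : Subgroup H) := by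
    have h1 : IsPGroup p (Q.subgroupOf H) :=
      hQ.of_equiv (Subgroup.subgroupOfEquivOfLe Subgroup.le_normalizer).symm
    obtain ⟨T, hT⟩ := h1.exists_le_sylow
    obtain ⟨g, hg⟩ := MulAction.exists_smul_eq H T S
    intro x hx
    rw [← hg, Sylow.coe_subgroup_smul, Subgroup.mem_pointwise_smul_iff_inv_smul_mem]
    refine hT ?_
    show (MulAut.conj g)⁻¹ • x ∈ Q.subgroupOf H
    rw [← map_inv, MulAut.smul_def, MulAut.conj_apply]
    exact Subgroup.Normal.conj_mem inferInstance x hx g⁻¹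
  have hQle : Q ≤ (S : Subgroup H).map H.subtype := fun x hx =>
    ⟨⟨x, Subgroup.le_normalizer hx⟩, hQS hx, rfl⟩
  have hSQ : (S : Subgroup H).map H.subtype = Q := by
    refine hmax _ (S.2.map _) ?_ hQle
    refine LocalEvenB.mem_normalizer_of_conj_mem fun x hx => ?_
    obtain ⟨y, hy, rfl⟩ := hx
    exact ⟨_, (Subgroup.mem_normalizer_iff.1 hS y).1 hy, rfl⟩
  obtain ⟨P, hP⟩ := hQ.exists_le_sylow
  refine ⟨P, LocalEvenB.eq_of_inf_normalizer_le P.2 hP ?_⟩
  -- `Q` is a Sylow subgroup of its normalizer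
  intro x hx
  have hR : IsPGroup p (((P : Subgroup G) ⊓ H).subgroupOf H) :=
    (P.2.to_le inf_le_left).of_equiv (Subgroup.subgroupOfEquivOfLe inf_le_right).symm
  have hle : (S : Subgroup H) ≤ ((P : Subgroup G) ⊓ H).subgroupOf H := by
    intro y hy
    refine ⟨hP ?_, y.2⟩
    rw [← hSQ]
    exact ⟨y, hy, rfl⟩
  have heq := S.3 hR hle
  rw [← hSQ]
  exact ⟨⟨x, hx.2⟩, heq ▸ hx, rfl⟩

end Cfsg.Agent.Invol
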